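/-
Groups with elementary abelian Sylow 2-subgroups of order at most 8: shared definitions.
-/
import Cfsg.Agent.P5.Defs
import Cfsg.Agent.L.BSW1

set_option autoImplicit false

namespace Cfsg.Agent.P7

open Subgroup Cfsg Cfsg.Agent Cfsg.Agent.FT

universe u

/-- The Sylow 2-subgroups are elementary abelian of order at most 8. -/
structure E8 (G : Type u) [Group G] : Prop where
  sq : ∀ x : G, x ^ 4 = 1 → x * x = 1
  lt : ¬ 16 ∣ Nat.card G

variable {G : Type u} [Group G]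

/-- `L ≅ PSL₂(q)` with `q ≡ ±3 (mod 8)`, `q ≥ 5`. -/
structure IsL2 (L : Subgroup G) (q : ℕ) : Prop where
  iso : ∃ (F : Type) (_ : Field F) (_ : Fintype F), Fintype.card F = q ∧
    Nonempty (L ≃* Matrix.ProjectiveSpecialLinearGroup (Fin 2) F)
  mod : q % 8 = 3 ∨ q % 8 = 5
  five : 5 ≤ q

/-- One class of involutions, `C(t) = ⟨t⟩ × L.Φ` with `Φ` acting faithfully on `L ≅ PSL₂(q)`. -/
structure JRF (t : G) (L : Subgroup G) (q : ℕ) : Prop where
  e8 : E8 G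
  inv : orderOf t = 2
  conj : ∀ a : G, orderOf a = 2 → IsConj t a
  l2 : IsL2 L q
  normal : L ⊲ 𝐂[t]
  cent : 𝐂[t] ⊓ 𝐂(L) = zpowers t

/-- Janko-Ree type: `C(t) = ⟨t⟩ × L`. -/
structure JR (t : G) (L : Subgroup G) (q : ℕ) : Prop extends JRF t L q where
  exact : 𝐂[t] = zpowers t ⊔ L

/-- Ree type: the Sylow 3-subgroup `U` is TI, `G` is 2-transitive on its `q³ + 1` conjugates. -/
structure Ree (t : G) (L U : Subgroup G) (q : ℕ) : Prop extends JR t L q where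
  pow : ∃ n, q = 3 ^ n
  big : 27 ≤ q
  card : Nat.card G = q ^ 3 * (q ^ 3 + 1) * (q - 1)
  cardU : 𝐨(U) = q ^ 3
  cardB : 𝐨(𝐍(U)) = q ^ 3 * (q - 1)
  tB : t ∈ 𝐍(U)
  ti : ∀ u ∈ U, u ≠ 1 → 𝐂[u] ≤ 𝐍(U)

/-- The simple groups with elementary abelian Sylow 2-subgroups of order at most 8. -/
def Known3 (G : Type u) [Group G] : Prop :=
  (∃ q, IsL2 (⊤ : Subgroup G) q) ∨ (L.EAC G ∧ Nat.card G = 504) ∨
    (∃ (t : G) (L : Subgroup G), JR t L 5 ∧ Nat.card G = 175560) ∨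
    ∃ (t : G) (L U : Subgroup G) (q : ℕ), Ree t L U q

/-- The classification holds below order `n`. -/
def Ind3 (n : ℕ) : Prop :=
  ∀ (K : Type u) [Group K] [Finite K], Nat.card K < n → IsSimpleGroup K → ¬ IsMulCommutative K →
    E8 K → Known3 K

end Cfsg.Agent.P7
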