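/-
The interface for `L ≅ PSL₂(q)`, `q ≡ ±3 (mod 8)`, and its odd extensions by field automorphisms.
-/
import Cfsg.Agent.P7.Defs
import Cfsg.Agent.P5.Loc

set_option autoImplicit false

namespace Cfsg.Agent.P7

open Subgroup Cfsg Cfsg.Agent Cfsg.Agent.FT
open Cfsg.Agent.H2 (pPrimeCoreOf)
open Cfsg.Agent.P5 (V4 Tri)

universe u

variable {G : Type u} [Group G]

/-- `L ⊲ M`, `C_M(L) = ⟨t⟩` with `t² = 1` (`t = 1` is allowed) and `|M : L⟨t⟩|` odd. -/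
structure LM (M L : Subgroup G) (t : G) (q : ℕ) : Prop where
  l2 : IsL2 L q
  normal : L ⊲ M
  tt : t * t = 1
  cent : M ⊓ 𝐂(L) = zpowers t
  odd : Odd ((L ⊔ zpowers t).relIndex M)

/-- The four-group generated by `s`, `s0`. -/
abbrev V2 (s s0 : G) : Subgroup G := closure ({s, s0} : Set G)

/-- `R0(s) = O(C_L(s))`. -/
def R0 (L : Subgroup G) (s : G) : Subgroup G := pPrimeCoreOf 2 (L ⊓ 𝐂[s])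

/-- `Φ = O(C_M(V))`. -/
def Phi (M : Subgroup G) (s s0 : G) : Subgroup G := pPrimeCoreOf 2 (M ⊓ (𝐂[s] ⊓ 𝐂[s0]))

/-- A frame in `L ≅ PSL₂(q)` adapted to the four-group `⟨s, s0⟩`. -/
structure L2F (L : Subgroup G) (q : ℕ) (s s0 : G) where
  p : ℕ
  n : ℕ
  k : ℕ
  l : ℕ
  x : G
  T : Subgroup G
  P : Subgroup G
  H : Subgroup G
  hp : p.Prime
  p2 : p ≠ 2
  hq : q = p ^ n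
  oddn : Odd n
  five : 5 ≤ q
  eps : (q = 4 * k + 1 ∧ q + 1 = 2 * l ∧ H = R0 L s ⊔ zpowers s) ∨
    (q + 1 = 4 * k ∧ q = 2 * l + 1 ∧ H = T)
  oddk : Odd k
  lt : P5.LT L (R0 L s) s s0
  cardR : 𝐨(R0 L s) = k
  cardL : 𝐨(L) = 4 * k * l * q
  xL : x ∈ L
  tri : Tri x s s0
  x3 : x ^ 3 = 1
  normV : L ⊓ 𝐍(V2 s s0) = V2 s s0 ⊔ zpowers x
  TL : T ≤ L
  cycT : IsCyclic T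
  cardT : 𝐨(T) = l
  invT : ∀ w ∈ T, s0 * w * s0⁻¹ = w⁻¹
  centT : ∀ w ∈ T, w ≠ 1 → L ⊓ 𝐂[w] = T
  normT : ∀ w ∈ T, w ≠ 1 → ∀ g ∈ L, g * w * g⁻¹ ∈ T → g ∈ T ∨ s0 * g ∈ T
  tori : ∀ h ∈ L, (∀ w ∈ T ^ᵍ h, s0 * w * s0⁻¹ = w⁻¹) → ∃ c ∈ L ⊓ 𝐂[s0], T ^ᵍ h = T ^ᵍ c
  PL : P ≤ L
  eaP : IsElementaryAbelian p P
  cardP : 𝐨(P) = q
  centP : ∀ u ∈ P, u ≠ 1 → L ⊓ 𝐂[u] = P
  normP : L ⊓ 𝐍(P) = P ⊔ H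
  tiP : ∀ u ∈ P, u ≠ 1 → ∀ g ∈ L, g * u * g⁻¹ ∈ 𝐍(P) → g ∈ 𝐍(P)
  opp : L ⊓ 𝐍(P) ⊓ 𝐍(P ^ᵍ s0) = H
  bruhat : ∀ g ∈ L, g ∉ 𝐍(P) → ∃ u ∈ P, ∃ h ∈ H, ∃ v ∈ P, g = u * h * s0 * v
  part : ∀ g ∈ L, ∃ h ∈ L, h * g * h⁻¹ ∈ R0 L s ⊔ zpowers s ∨ h * g * h⁻¹ ∈ T ∨ h * g * h⁻¹ ∈ P
  oddsub : ∀ K ≤ L, Odd 𝐨(K) → ∃ h ∈ L, K ^ᵍ h ≤ R0 L s ∨ K ^ᵍ h ≤ T ∨ K ^ᵍ h ≤ 𝐍(P)

/-- A frame in `M = ⟨t⟩ × L.Φ`: the group `Φ = Phi M s s0` consists of field automorphisms. -/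
structure Fr (M L : Subgroup G) (t : G) (q : ℕ) (s s0 : G) extends L2F L q s s0 where
  lm : LM M L t q
  cycF : IsCyclic (Phi M s s0)
  dec : ∀ g ∈ M, ∃ a ∈ L, ∃ φ ∈ Phi M s s0, g = a * φ ∨ g = t * a * φ
  disj : ∀ φ ∈ Phi M s s0, φ ∈ L ⊔ zpowers t → φ = 1
  centV : M ⊓ (𝐂[s] ⊓ 𝐂[s0]) = V2 s s0 ⊔ zpowers t ⊔ Phi M s s0
  Fx : Phi M s s0 ≤ 𝐂[x]
  FT : Phi M s s0 ≤ 𝐍(T)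
  FP : Phi M s s0 ≤ 𝐍(P)
  dvd : 𝐨(Phi M s s0) ∣ n
  fix : ∀ φ ∈ Phi M s s0, ∃ q0 k0 l0 : ℕ, q0 ^ orderOf φ = q ∧
    ((q = 4 * k + 1 ∧ q0 = 4 * k0 + 1 ∧ q0 + 1 = 2 * l0) ∨
      (q + 1 = 4 * k ∧ q0 + 1 = 4 * k0 ∧ q0 = 2 * l0 + 1)) ∧
    𝐨((P ⊓ 𝐂[φ] : Subgroup G)) = q0 ∧ 𝐨((R0 L s ⊓ 𝐂[φ] : Subgroup G)) = k0 ∧
    𝐨((T ⊓ 𝐂[φ] : Subgroup G)) = l0 ∧
    ((q0 = 3 ∧ L ⊓ 𝐂[φ] = V2 s s0 ⊔ zpowers x) ∨ IsL2 (L ⊓ 𝐂[φ]) q0)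
  vinv : ∀ K ≤ M, Odd 𝐨(K) → s ∈ 𝐍(K) → s0 ∈ 𝐍(K) → K ≤ R0 L s ⊔ Phi M s s0 ∨
    K ≤ R0 L s0 ⊔ Phi M s s0 ∨ K ≤ R0 L (s * s0) ⊔ Phi M s s0
  lang : ∀ φ ∈ Phi M s s0, ∀ u ∈ P, (u * φ) ^ orderOf φ = 1 → ∃ v ∈ P, v * φ * v⁻¹ = u * φ

/-- The statement proved in `P7/L2Main` (take it as a hypothesis until it lands). -/
def L2Api : Prop := ∀ (G : Type u) [Group G] [Finite G] (M L : Subgroup G) (t : G) (q : ℕ)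
  (s s0 : G), LM M L t q → V4 s s0 → s ∈ L → s0 ∈ L → Nonempty (Fr M L t q s s0)

/-- Existence of a four-group in `L` (proved in `P7/L2Main`). -/
def L2Four : Prop := ∀ (G : Type u) [Group G] [Finite G] (L : Subgroup G) (q : ℕ),
  IsL2 L q → ∃ s ∈ L, ∃ s0 ∈ L, V4 s s0

end Cfsg.Agent.P7
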