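/-
Simple groups with elementary abelian Sylow 2-subgroups of order at most 8: assembling the parts.
-/
import Cfsg.Agent.P7.L2Defs
import Cfsg.Agent.P5.Final
import Cfsg.Agent.P6.End5
import Cfsg.Agent.P6.Sol
import Cfsg.Agent.P6.Struct
import Cfsg.Agent.Cj.TI

set_option autoImplicit false
set_option linter.style.haveILetI false

namespace Cfsg.Agent.P7

open Subgroup Cfsg Cfsg.Agent Cfsg.Agent.FT Cfsg.Agent.P6

universe u

/-- Parts K and O. -/
def JrfHyp : Prop := ∀ (G : Type u) [Group G] [Finite G] [IsSimpleGroup G], E8 G →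
  Ind3.{u} (Nat.card G) → 8 ∣ Nat.card G → ∀ t : G, orderOf t = 2 → ¬ Group.IsSolvable 𝐂[t] →
    ∃ L q, JRF t L q

/-- Part (J) of P8. -/
def JankoHyp : Prop := ∀ (G : Type u) [Group G] [Finite G] [IsSimpleGroup G] (t : G)
  (L : Subgroup G), JR t L 5 → Nat.card G = 175560

/-- Part J. -/
def ReeHyp : Prop := ∀ (G : Type u) [Group G] [Finite G] [IsSimpleGroup G],
  Ind3.{u} (Nat.card G) → ∀ (t : G) (L : Subgroup G) (q : ℕ), JRF t L q → 5 < q →
    ∃ U, Ree t L U q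

/-- The classification for all orders. -/
def K3 : Prop := ∀ n, Ind3.{u} n

variable {G : Type u} [Group G] [Finite G]

omit [Finite G] in
theorem sq_of_four (h : ∀ x : G, x ^ 4 = 1 → x * x = 1) (x : G) (k : ℕ) (hx : x ^ 2 ^ k = 1) :
    x * x = 1 := by
  induction k generalizing x with
  | zero => rw [pow_zero, pow_one] at hx; rw [hx, one_mul]
  | succ k ih =>
    exact h x (by
      rw [show 4 = 2 + 2 from rfl, pow_add]
      exact ih (x ^ 2) (by rw [← pow_mul, ← pow_succ', hx]))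

omit [Finite G] in
theorem elem_of_four (h : ∀ x : G, x ^ 4 = 1 → x * x = 1) {P : Subgroup G} (hP : IsPGroup 2 P) :
    IsElementaryAbelian 2 P :=
  have h1 : ∀ x ∈ P, x * x = 1 := fun x hx => (hP ⟨x, hx⟩).elim fun k hk =>
    sq_of_four h x k (congrArg Subtype.val hk)
  ⟨⟨⟨fun a b => Subtype.ext (L.commute_of_sq_eq_one h1 a.2 b.2)⟩⟩,
    fun x hx => by rw [pow_two, h1 x hx]⟩

theorem le_pRank_of_four (h : ∀ x : G, x ^ 4 = 1 → x * x = 1) {n : ℕ} (hn : 2 ^ n ∣ Nat.card G) :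
    n ≤ pRank 2 (⊤ : Subgroup G) := by
  obtain ⟨A, hA⟩ := Sylow.exists_subgroup_card_pow_prime 2 hn
  exact le_pRank Nat.prime_two le_top ⟨elem_of_four h (IsPGroup.of_card hA), hA⟩

omit [Finite G] in
theorem IsL2.simple' {L : Subgroup G} {q : ℕ} (h : IsL2 L q) : IsSimpleGroup L := by
  obtain ⟨F, _, _, hF, ⟨e⟩⟩ := h.iso
  haveI := Matrix.ProjectiveSpecialLinearGroup.rank_two_simple (F := F)
    (by have := h.five; rw [Nat.card_eq_fintype_card]; omega)
  exact e.isSimpleGroup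

theorem JRF.lm' (h4 : L2Four.{u}) {t : G} {L : Subgroup G} {q : ℕ} (h : JRF t L q) :
    LM 𝐂[t] L t q := by
  have ht := inv_of_orderOf h.inv
  obtain ⟨s, hs, s0, hs0, hV⟩ := h4 G L q h.l2
  have hle : L ≤ 𝐂(zpowers t) := fun x hx y hy => by
    rcases (Cj.mem_zp ht).1 hy with rfl | rfl
    exacts [by simp, h.normal.1 hx _ rfl]
  have hn := H1.le_normalizer_of_le_centralizer hle
  have hi : L ⊓ zpowers t = ⊥ := by
    haveI := H1.normal_subgroupOf_of_le hn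
    rcases h.l2.simple'.eq_bot_or_eq_top_of_normal ((zpowers t).subgroupOf L) inferInstance
      with e | e
    · rwa [subgroupOf_eq_bot, disjoint_iff, inf_comm] at e
    · rw [subgroupOf_eq_top] at e
      exact absurd ((((Cj.mem_zp ht).1 (e hs)).resolve_left hV.t1).trans
        (((Cj.mem_zp ht).1 (e hs0)).resolve_left hV.s1).symm) hV.ts
  refine ⟨h.l2, h.normal, ht.sq, h.cent, Nat.not_even_iff_odd.1 fun he => h.e8.lt ?_⟩
  have h1 := H1.card_mul_relIndex (sup_le h.normal.1 (zpowers_le.2 (self_mem_cent1 t)))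
  rw [H1.card_sup_of_inf_eq_bot hn hi, ht.card_zpowers] at h1
  have h2 := Subgroup.card_dvd_of_le (Cj.kl_le hs hs0)
  rw [Cj.card_kl ⟨hV.t1, hV.tt⟩ ⟨hV.s1, hV.ss⟩ hV.comm hV.ts] at h2
  exact (h1 ▸ mul_dvd_mul (mul_dvd_mul_right h2 2) he.two_dvd).trans (card_subgroup_dvd_card _)

theorem JRF.jr_five (hA : L2Api.{u}) (h4 : L2Four.{u}) {t : G} {L : Subgroup G} (h : JRF t L 5) :
    JR t L 5 := by
  obtain ⟨s, hs, s0, hs0, hV⟩ := h4 G L 5 h.l2
  obtain ⟨F⟩ := hA G _ L t 5 s s0 (h.lm' h4) hV hs hs0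
  have h1 : F.n = 1 := ((Nat.Prime.pow_eq_iff Nat.prime_five).1 F.hq.symm).2
  have h2 := F.dvd
  rw [h1, Nat.dvd_one, card_eq_one] at h2
  refine ⟨h, le_antisymm (fun g hg => ?_) (sup_le (zpowers_le.2 (self_mem_cent1 t)) h.normal.1)⟩
  obtain ⟨a, ha, φ, hφ, e⟩ := F.dec g hg
  rw [h2, mem_bot] at hφ
  rw [hφ, mul_one, mul_one] at e
  rcases e with rfl | rfl
  · exact mem_sup_right ha
  · exact mul_mem (mem_sup_left (mem_zpowers _)) (mem_sup_right ha)

theorem k3_of (hA : L2Api.{u}) (h4 : L2Four.{u}) (hJ : JrfHyp.{u}) (hK : JankoHyp.{u})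
    (hR : ReeHyp.{u}) : K3.{u} := fun n => by
  induction n using Nat.strong_induction_on with
  | _ n ih =>
  intro K _ _ hn hs hna e
  by_cases h8 : 8 ∣ Nat.card K
  swap
  · obtain ⟨F, _, _, h1, h2, ⟨f⟩⟩ := P5.isL2_of_simple hna h8
    exact Or.inl ⟨_, ⟨F, _, _, rfl, ⟨topEquiv.trans f⟩⟩, h2, by omega⟩
  have h3 := le_pRank_of_four e.sq (n := 3) h8
  by_cases hC : ∀ t : K, Inv t → Group.IsSolvable 𝐂[t]
  · have he := eacHyp.sol hs (fun P hP => (elem_of_four e.sq hP).1) h3 hC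
    obtain ⟨m, -, h5, h6, -⟩ := exists_SL2_of_eac he hs (rk2_of_two_le_pRank (by omega))
    obtain rfl : m = 3 := le_antisymm (Nat.le_of_lt_succ (not_le.1 fun h => e.lt
      ((pow_dvd_pow 2 h).trans (h6 ▸ (dvd_mul_right _ _).mul_right _)))) (h5 ▸ h3)
    exact Or.inr (Or.inl ⟨he, h6⟩)
  push Not at hC
  obtain ⟨t, ht, hC⟩ := hC
  obtain ⟨L, q, h⟩ := hJ K e (ih _ hn) h8 t ht.orderOf_eq hC
  rcases h.l2.five.eq_or_lt with rfl | hq
  · exact Or.inr (Or.inr (Or.inl ⟨t, L, h.jr_five hA h4, hK K t L (h.jr_five hA h4)⟩))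
  · obtain ⟨U, hU⟩ := hR K (ih _ hn) t L q h hq
    exact Or.inr (Or.inr (Or.inr ⟨t, L, U, q, hU⟩))

theorem K3.known (h : K3.{u}) (hs : IsSimpleGroup G) (hna : ¬ IsMulCommutative G) (e : E8 G) :
    Known3 G := h _ G (Nat.lt_succ_self _) hs hna e

end Cfsg.Agent.P7
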