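/-
Images of `SL₂(F)` with kernel the centre: tori, unipotent and Borel subgroups.
-/
import Cfsg.Agent.P7.L2Defs
import Cfsg.Agent.P4.PSL2

set_option autoImplicit false
set_option linter.unusedSectionVars false

namespace Cfsg.Agent.P7

open Matrix Subgroup Cfsg Cfsg.Agent Cfsg.Agent.FT Cfsg.Agent.H4.SL2 Cfsg.Agent.P4
open Cfsg.Agent.L (mkSL2 sl2Perm)

universe u

variable {G : Type u} [Group G] {F : Type*} [Field F]

/-- `L` is the image of `SL₂(F)`, with kernel the centre, `|F|` odd. -/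
structure Cov (π : SL F →* G) (L : Subgroup G) : Prop where
  range : π.range = L
  ker : π.ker = center (SL F)
  odd : Odd (Nat.card F)

/-- The image of the centralizer of `x`. -/
def Ab (π : SL F →* G) (x : SL F) : Subgroup G := (𝐂[x]).map π

theorem conj_eq_or_inv {x y : SL F} (hx : x ∉ center (SL F)) (ht : tr x ^ 2 ≠ 4) (h2 : (2 : F) ≠ 0)
    (h : y * x * y⁻¹ ∈ 𝐂[x]) : y * x * y⁻¹ = x ∨ y * x * y⁻¹ = x⁻¹ := by
  obtain ⟨z, hz⟩ := exists_psi hx (Y := (y * x * y⁻¹).1) (by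
    have := val_congr (mem_cent1.1 h)
    rw [Matrix.SpecialLinearGroup.coe_mul, Matrix.SpecialLinearGroup.coe_mul _ x] at this
    exact this.symm)
  have h1 := tr_conj y x
  have h3 := (y * x * y⁻¹).det_coe
  generalize y * x * y⁻¹ = w at *
  rw [← hz, det_psi, QuadraticAlgebra.norm_def] at h3
  have h4 : tr w = 2 * z.re + z.im * tr x := by
    change w.1 0 0 + w.1 1 1 = _
    rw [← hz, psi_apply]
    simp [tr]; ring
  rw [h4] at h1
  have h5 : (1 - z.im) * (1 + z.im) * (tr x ^ 2 - 4) = 0 := by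
    linear_combination 4 * h3 - (2 * z.re + tr x + z.im * tr x) * h1
  rcases mul_eq_zero.1 ((mul_eq_zero.1 h5).resolve_right (sub_ne_zero.2 ht)) with h6 | h6
  · left
    have h7 : z.im = 1 := by linear_combination -h6
    have h8 : z.re = 0 := mul_left_cancel₀ h2 (by rw [h7] at h1; linear_combination h1)
    apply Subtype.ext
    rw [← hz, psi_apply, h7, h8]; simp
  · right
    have h7 : z.im = -1 := by linear_combination h6
    have h8 : z.re = tr x := mul_left_cancel₀ h2 (by rw [h7] at h1; linear_combination h1)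
    apply Subtype.ext
    rw [← hz, psi_apply, h7, h8]
    rw [coe_inv_eq]; simp [sub_eq_add_neg]

theorem mem_center_of_sq {x : SL F} (h2 : (2 : F) ≠ 0) (h : x * x = 1) : x ∈ center (SL F) := by
  by_contra hx
  have h0 := tr_of_sq_mem_center hx (h ▸ one_mem _)
  have h1 := cayley x
  rw [h0, zero_smul, add_zero, ← Matrix.SpecialLinearGroup.coe_mul, h] at h1
  have h3 := congrFun (congrFun h1 0) 0
  simp at h3
  exact h2 (by linear_combination h3)

theorem sq_mem_center_of_inverts {x w : SL F} (h2 : (2 : F) ≠ 0) (hx : x ∉ center (SL F))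
    (hw : w * x * w⁻¹ = x⁻¹) : w ∉ 𝐂[x] ∧ w * w ∈ center (SL F) := by
  have h1 : w ∉ 𝐂[x] := fun h => hx (mem_center_of_sq h2 (by
    rw [mem_cent1_iff_conj.1 h] at hw
    exact mul_eq_one_iff_eq_inv.2 hw))
  refine ⟨h1, ?_⟩
  by_contra h3
  have h4 : Commute x (w * w) := mem_cent1.1 (mem_cent1_iff_conj.2 (by
    calc w * w * x * (w * w)⁻¹ = w * (w * x * w⁻¹) * w⁻¹ := by group
      _ = w * x⁻¹ * w⁻¹ := by rw [hw]
      _ = (w * x * w⁻¹)⁻¹ := by group
      _ = x := by rw [hw, inv_inv]))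
  apply h1
  rw [centralizer_eq_of_commute hx h3 h4]
  exact mem_cent1.2 (mul_assoc _ _ _)

theorem mul_e (x y : SL F) (i j : Fin 2) : (x * y) i j = x i 0 * y 0 j + x i 1 * y 1 j := by
  rw [Matrix.SpecialLinearGroup.coe_mul, mul_apply, Fin.sum_univ_two]

theorem inv_00 (x : SL F) : x⁻¹ 0 0 = x 1 1 := by
  simp [Matrix.SpecialLinearGroup.coe_inv, adjugate_fin_two]
theorem inv_01 (x : SL F) : x⁻¹ 0 1 = -x 0 1 := by
  simp [Matrix.SpecialLinearGroup.coe_inv, adjugate_fin_two]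
theorem inv_10 (x : SL F) : x⁻¹ 1 0 = -x 1 0 := by
  simp [Matrix.SpecialLinearGroup.coe_inv, adjugate_fin_two]
theorem inv_11 (x : SL F) : x⁻¹ 1 1 = x 0 0 := by
  simp [Matrix.SpecialLinearGroup.coe_inv, adjugate_fin_two]

theorem mk_00 (a b c d : F) (h) : mkSL2 a b c d h 0 0 = a := rfl
theorem mk_01 (a b c d : F) (h) : mkSL2 a b c d h 0 1 = b := rfl
theorem mk_10 (a b c d : F) (h) : mkSL2 a b c d h 1 0 = c := rfl
theorem mk_11 (a b c d : F) (h) : mkSL2 a b c d h 1 1 = d := rfl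
theorem one_00 : (1 : SL F) 0 0 = 1 := rfl
theorem one_01 : (1 : SL F) 0 1 = 0 := rfl
theorem one_10 : (1 : SL F) 1 0 = 0 := rfl
theorem one_11 : (1 : SL F) 1 1 = 1 := rfl

theorem sl_ext {x y : SL F} (h1 : x 0 0 = y 0 0) (h2 : x 0 1 = y 0 1) (h3 : x 1 0 = y 1 0)
    (h4 : x 1 1 = y 1 1) : x = y := by
  ext i j
  fin_cases i <;> fin_cases j <;> assumption

/-- Upper unitriangular matrices. -/
def uni (b : F) : SL F := mkSL2 1 b 0 1 (by ring)

/-- Diagonal matrices. -/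
def dia (a : Fˣ) : SL F := mkSL2 a 0 0 (a : F)⁻¹ (by simp)

/-- Entries of products in `SL₂` (use as `simp only [sle]`). -/
theorem sle : (∀ (x y : SL F) (i j : Fin 2), (x * y) i j = x i 0 * y 0 j + x i 1 * y 1 j) ∧
    (∀ x : SL F, x⁻¹ 0 0 = x 1 1) ∧ (∀ x : SL F, x⁻¹ 0 1 = -x 0 1) ∧
    (∀ x : SL F, x⁻¹ 1 0 = -x 1 0) ∧ (∀ x : SL F, x⁻¹ 1 1 = x 0 0) ∧
    (∀ (a b c d : F) h, mkSL2 a b c d h 0 0 = a) ∧ (∀ (a b c d : F) h, mkSL2 a b c d h 0 1 = b) ∧
    (∀ (a b c d : F) h, mkSL2 a b c d h 1 0 = c) ∧ (∀ (a b c d : F) h, mkSL2 a b c d h 1 1 = d) ∧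
    (1 : SL F) 0 0 = 1 ∧ (1 : SL F) 0 1 = 0 ∧ (1 : SL F) 1 0 = 0 ∧ (1 : SL F) 1 1 = 1 ∧
    (∀ b : F, uni b 0 0 = 1) ∧ (∀ b : F, uni b 0 1 = b) ∧ (∀ b : F, uni b 1 0 = 0) ∧
    (∀ b : F, uni b 1 1 = 1) ∧ (∀ a : Fˣ, dia a 0 0 = a) ∧ (∀ a : Fˣ, dia a 0 1 = 0) ∧
    (∀ a : Fˣ, dia a 1 0 = 0) ∧ ∀ a : Fˣ, dia a 1 1 = (a : F)⁻¹ :=
  ⟨mul_e, inv_00, inv_01, inv_10, inv_11, mk_00, mk_01, mk_10, mk_11, one_00, one_01, one_10, one_11,
    fun _ => rfl, fun _ => rfl, fun _ => rfl, fun _ => rfl, fun _ => rfl, fun _ => rfl,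
    fun _ => rfl, fun _ => rfl⟩

theorem uni_add (a b : F) : uni (a + b) = uni a * uni b := by
  apply sl_ext <;> simp only [sle] <;> ring

theorem uni_zero : uni (0 : F) = 1 := by
  apply sl_ext <;> simp only [sle]

theorem dia_mul (a b : Fˣ) : dia (a * b) = dia a * dia b := by
  apply sl_ext <;> simp only [sle] <;> simp [mul_comm]

theorem dia_one : dia (1 : Fˣ) = 1 := by
  apply sl_ext <;> simp only [sle] <;> simp

/-- `uni` as a homomorphism. -/
def uniHom (F : Type*) [Field F] : Multiplicative F →* SL F where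
  toFun b := uni b.toAdd
  map_one' := uni_zero
  map_mul' _ _ := uni_add _ _

/-- `dia` as a homomorphism. -/
def diaHom (F : Type*) [Field F] : Fˣ →* SL F where
  toFun := dia
  map_one' := dia_one
  map_mul' := dia_mul

theorem uni_mem_center {b : F} : uni b ∈ center (SL F) ↔ b = 0 := by
  rw [mem_center_iff']; simp only [sle]; simp

theorem dia_mem_center {a : Fˣ} : dia a ∈ center (SL F) ↔ a * a = 1 := by
  rw [mem_center_iff', mul_eq_one_iff_eq_inv, Units.ext_iff]; simp only [sle]; simp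

theorem conj_uni_10 (y : SL F) (b : F) : (y * uni b * y⁻¹) 1 0 = -(y 1 0 ^ 2 * b) := by
  simp only [sle]; ring

theorem conj_uni {y : SL F} (h : y 1 0 = 0) (b : F) : y * uni b * y⁻¹ = uni (y 0 0 ^ 2 * b) := by
  have hd := det_eq y
  rw [h, mul_zero, sub_zero] at hd
  apply sl_ext <;> simp only [sle, h]
  · linear_combination hd
  · ring
  · ring
  · linear_combination hd

theorem eq_uni_mul_dia {y : SL F} (h : y 1 0 = 0) : ∃ b a, y = uni b * dia a := by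
  have hd := det_eq y
  rw [h, mul_zero, sub_zero] at hd
  have h0 : y 0 0 ≠ 0 := left_ne_zero_of_mul_eq_one hd
  refine ⟨y 0 1 * y 0 0, Units.mk0 _ h0, ?_⟩
  apply sl_ext <;> simp only [sle] <;> simp [h, h0]
  exact eq_inv_of_mul_eq_one_right hd

theorem eq_dia {y : SL F} (h : y 1 0 = 0) (h' : y 0 1 = 0) : ∃ a, y = dia a := by
  have hd := det_eq y
  rw [h, mul_zero, sub_zero] at hd
  have h0 : y 0 0 ≠ 0 := left_ne_zero_of_mul_eq_one hd
  refine ⟨Units.mk0 _ h0, ?_⟩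
  apply sl_ext <;> simp only [sle] <;> simp [h, h']
  exact eq_inv_of_mul_eq_one_right hd

theorem mem_cent_dia {a : Fˣ} (ha : a * a ≠ 1) {y : SL F} : y ∈ 𝐂[dia a] ↔ ∃ b, y = dia b := by
  constructor
  · intro h
    have h1 := mem_cent1.1 h
    have h2 : (a : F) ≠ (a : F)⁻¹ := fun e => ha (Units.ext (by
      rw [Units.val_mul]; nth_rewrite 2 [e]; simp))
    have e01 := congrArg (fun z : SL F => z 0 1) h1
    have e10 := congrArg (fun z : SL F => z 1 0) h1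
    revert e01 e10
    simp only [sle]
    intro e01 e10
    refine eq_dia ?_ ?_
    · by_contra h0
      exact h2 (mul_left_cancel₀ h0 (by linear_combination -e10))
    · by_contra h0
      exact h2 (mul_left_cancel₀ h0 (by linear_combination e01))
  · rintro ⟨b, rfl⟩
    exact mem_cent1.2 (by rw [← dia_mul, ← dia_mul, mul_comm])

theorem anti_conj_dia {w : SL F} (h0 : w 0 0 = 0) (h1 : w 1 1 = 0) (a : Fˣ) :
    w * dia a * w⁻¹ = (dia a)⁻¹ := by
  have hd := det_eq w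
  rw [h0, zero_mul, zero_sub] at hd
  apply sl_ext <;> simp only [sle] <;> simp only [h0, h1]
  · linear_combination (a : F)⁻¹ * hd
  · ring
  · ring
  · linear_combination (a : F) * hd

theorem bruhat_SL {w y : SL F} (h0 : w 0 0 = 0) (h1 : w 1 1 = 0) (hy : y 1 0 ≠ 0) :
    ∃ b a c, y = uni b * dia a * w * uni c := by
  have hd := det_eq w
  have hd' := det_eq y
  rw [h0, zero_mul, zero_sub] at hd
  have h2 : w 1 0 ≠ 0 := fun e => by simp [e] at hd
  refine ⟨y 0 0 / y 1 0, Units.mk0 (w 1 0 / y 1 0) (div_ne_zero h2 hy), y 1 1 / y 1 0, ?_⟩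
  apply sl_ext <;> simp only [sle] <;> simp only [h0, h1, Units.val_mk0] <;> field_simp
  · ring
  · linear_combination w 1 0 * y 1 0 * (hd - hd')
  · ring
  · ring

namespace Cov

variable {π : SL F →* G} {L : Subgroup G} (h : Cov π L)
include h

theorem eq_one_iff {x : SL F} : π x = 1 ↔ x ∈ center (SL F) := by rw [← h.ker]; rfl

theorem mem (x : SL F) : π x ∈ L := h.range ▸ ⟨x, rfl⟩

theorem exists_eq {a : G} (ha : a ∈ L) : ∃ x, π x = a := by rwa [← h.range] at ha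

theorem finite : Finite F := Nat.finite_of_card_ne_zero fun e => by simpa [e] using h.odd

theorem two_ne : (2 : F) ≠ 0 := by
  classical
  haveI := h.finite
  exact P3.two_ne_zero_of_odd h.odd

theorem eq_iff {x y : SL F} : π x = π y ↔ x⁻¹ * y ∈ center (SL F) := by
  rw [← h.eq_one_iff, map_mul, map_inv, inv_mul_eq_one]

theorem commute_cases {x g : SL F} (hc : Commute (π x) (π g)) :
    g ∈ 𝐂[x] ∨ ∃ z ∈ center (SL F), z ≠ 1 ∧ g * x * g⁻¹ = z * x := by
  apply commute_mk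
  have h1 : π (x * g) = π (g * x) := by rw [map_mul, map_mul, hc.eq]
  exact QuotientGroup.eq.2 (h.eq_iff.1 h1)

theorem mem_Ab {x y : SL F} : π y ∈ Ab π x ↔ y ∈ 𝐂[x] := by
  refine ⟨?_, fun hy => ⟨y, hy, rfl⟩⟩
  rintro ⟨z, hz, e⟩
  have h1 : z⁻¹ * y ∈ 𝐂[x] := mem_cent1.2 (mem_center_iff.1 (h.eq_iff.1 e) x)
  simpa using mul_mem hz h1

theorem self_mem (x : SL F) : π x ∈ Ab π x := h.mem_Ab.2 (self_mem_cent1 x)

theorem Ab_le_L (x : SL F) : Ab π x ≤ L := by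
  rintro _ ⟨y, -, rfl⟩; exact h.mem y

theorem Ab_le_cent (x : SL F) : Ab π x ≤ 𝐂[π x] := by
  rintro _ ⟨y, hy, rfl⟩; exact mem_cent1_iff_commute.2 ((mem_cent1_iff_commute.1 hy).map π)

theorem Ab_comm {x : SL F} (hx : π x ≠ 1) {a b : G} (ha : a ∈ Ab π x) (hb : b ∈ Ab π x) :
    Commute a b := by
  obtain ⟨y, hy, rfl⟩ := ha
  obtain ⟨z, hz, rfl⟩ := hb
  haveI := isMulCommutative_centralizer (mt h.eq_one_iff.2 hx)
  exact Commute.map (mem_centralizer_iff.1 (le_centralizer _ hz) y hy) π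

theorem Ab_eq {x y : SL F} (hx : π x ≠ 1) (hy : π y ≠ 1) (hxy : π y ∈ Ab π x) :
    Ab π y = Ab π x := by
  rw [Ab, Ab, centralizer_eq_of_commute (mt h.eq_one_iff.2 hx) (mt h.eq_one_iff.2 hy)
    (mem_cent1.1 (h.mem_Ab.1 hxy))]

theorem Ab_congr {x y : SL F} (hx : π x ≠ 1) (e : π x = π y) : Ab π y = Ab π x :=
  h.Ab_eq hx (e ▸ hx) (e ▸ h.self_mem x)

theorem cent_eq {x : SL F} (hx : π x * π x ≠ 1) : L ⊓ 𝐂[π x] = Ab π x := by
  refine le_antisymm (fun a ha => ?_) (le_inf (h.Ab_le_L x) (h.Ab_le_cent x))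
  obtain ⟨g, rfl⟩ := h.exists_eq ha.1
  rcases h.commute_cases (mem_cent1.1 ha.2) with h1 | ⟨z, hz, z1, e⟩
  · exact h.mem_Ab.2 h1
  · exact absurd (by rw [← map_mul, h.eq_one_iff]; exact sq_mem_center (tr_eq_zero hz z1 e)) hx

theorem card_map {K : Subgroup (SL F)} (hK : center (SL F) ≤ K) : 2 * 𝐨(K.map π) = 𝐨(K) := by
  classical
  have h1 := (center (SL F)).subgroupOf K |>.card_mul_index
  rw [Nat.card_congr (subgroupOfEquivOfLe hK).toEquiv, P3.card_center_SL2 h.two_ne] at h1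
  rw [← relIndex_ker, h.ker]
  exact h1

theorem card_Ab (x : SL F) : 2 * 𝐨(Ab π x) = 𝐨(𝐂[x]) :=
  h.card_map fun z hz => mem_cent1.2 (mem_center_iff.1 hz x)

theorem card_L : 2 * 𝐨(L) = Nat.card F * (Nat.card F - 1) * (Nat.card F + 1) := by
  haveI := h.finite
  rw [← h.range, MonoidHom.range_eq_map, h.card_map le_top, card_top, Agent.L.card_SL2]

theorem finite_L : Finite L := by
  haveI := h.finite
  rw [← h.range]
  exact Finite.of_surjective _ π.rangeRestrict_surjective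

theorem Ab_conj (g x : SL F) : Ab π (g * x * g⁻¹) = Ab π x ^ᵍ π g := by
  ext a
  rw [mem_conj]
  constructor
  · rintro ⟨y, hy, rfl⟩
    refine ⟨g⁻¹ * y * g, mem_cent1.2 ?_, by simp⟩
    simpa [mul_assoc] using ((mem_cent1_iff_commute.1 hy).conj g⁻¹).eq
  · rintro ⟨y, hy, e⟩
    refine ⟨g * y * g⁻¹, mem_cent1_iff_commute.2 ((mem_cent1_iff_commute.1 hy).conj g), ?_⟩
    rw [map_mul, map_mul, e, map_inv]; group

theorem cases {x : SL F} (hx : π x ≠ 1) :
    (tr x ^ 2 ≠ 4 ∧ IsCyclic (Ab π x) ∧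
      (2 * 𝐨(Ab π x) + 1 = Nat.card F ∨ 2 * 𝐨(Ab π x) = Nat.card F + 1)) ∨
    (tr x ^ 2 = 4 ∧ 𝐨(Ab π x) = Nat.card F) := by
  classical
  haveI := h.finite
  have hx' := mt h.eq_one_iff.2 hx
  by_cases ht : tr x ^ 2 = 4
  · have h1 := h.card_Ab x
    rw [card_cent_unip hx' ht, P3.card_center_SL2 h.two_ne] at h1
    exact Or.inr ⟨ht, by omega⟩
  · obtain ⟨h1, h2⟩ := cent_semisimple hx' ht
    refine Or.inl ⟨ht, isCyclic_of_surjective _ (π.subgroupMap_surjective _), ?_⟩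
    rwa [h.card_Ab]

theorem tr_ne_of_invol {x : SL F} (hx : π x ≠ 1) (hxx : π x * π x = 1) : tr x ^ 2 ≠ 4 := by
  rw [tr_of_sq_mem_center (mt h.eq_one_iff.2 hx) (by rwa [← h.eq_one_iff, map_mul])]
  intro e
  exact mul_ne_zero h.two_ne h.two_ne (by linear_combination -e)

/-- The normalizer of a torus is dihedral. -/
theorem exists_inv {x : SL F} (hx : π x ≠ 1) (ht : tr x ^ 2 ≠ 4) :
    ∃ j ∈ L, j * j = 1 ∧ j ∉ Ab π x ∧ (∀ a ∈ Ab π x, j * a * j⁻¹ = a⁻¹) ∧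
      ∀ a ∈ Ab π x, a ≠ 1 → ∀ g ∈ L, g * a * g⁻¹ ∈ Ab π x → g ∈ Ab π x ∨ j * g ∈ Ab π x := by
  haveI := h.finite
  have hx' := mt h.eq_one_iff.2 hx
  obtain ⟨w, hw⟩ := exists_inverting (Nat.odd_iff.1 h.odd) ht
  obtain ⟨h1, h2⟩ := sq_mem_center_of_inverts h.two_ne hx' hw
  refine ⟨π w, h.mem w, by rwa [← map_mul, h.eq_one_iff], mt h.mem_Ab.1 h1, ?_, ?_⟩
  · rintro _ ⟨c, hc, rfl⟩
    rw [← map_inv, ← map_mul, ← map_mul, conj_eq_inv hx' hw hc, map_inv]
  · rintro _ ⟨c, hc, rfl⟩ hc1 g hg hgc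
    obtain ⟨g, rfl⟩ := h.exists_eq hg
    have hc' := mt h.eq_one_iff.2 hc1
    have e := centralizer_eq_of_commute hx' hc' (mem_cent1.1 hc)
    have ht' : tr c ^ 2 ≠ 4 := fun e' => by
      classical
      have h3 := card_cent_unip hc' e'
      rw [← e, P3.card_center_SL2 h.two_ne] at h3
      have h4 : 1 < Nat.card F := Finite.one_lt_card
      rcases (cent_semisimple hx' ht).2 with h5 | h5 <;> omega
    rw [← map_inv, ← map_mul, ← map_mul, h.mem_Ab, e] at hgc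
    rw [← map_mul, h.mem_Ab, h.mem_Ab, e]
    refine (conj_eq_or_inv hc' ht' h.two_ne hgc).imp mem_cent1_iff_conj.2 fun h3 =>
      mem_cent1_iff_conj.2 ?_
    calc w * g * c * (w * g)⁻¹ = w * (g * c * g⁻¹) * w⁻¹ := by group
      _ = (w * c * w⁻¹)⁻¹ := by rw [h3]; group
      _ = c := by rw [conj_eq_inv hx' hw hc, inv_inv]

theorem equiv : Nonempty (L ≃* PSL F) :=
  ⟨(MulEquiv.subgroupCongr h.range.symm).trans ((QuotientGroup.quotientKerEquivRange π).symm.trans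
    (QuotientGroup.quotientMulEquivOfEq h.ker))⟩

end Cov

theorem exists_cov {L : Subgroup G} (e : L ≃* PSL F) (ho : Odd (Nat.card F)) :
    ∃ π : SL F →* G, Cov π L := by
  refine ⟨L.subtype.comp (e.symm.toMonoidHom.comp (QuotientGroup.mk' _)), ?_, ?_, ho⟩
  · ext a
    constructor
    · rintro ⟨x, rfl⟩; exact SetLike.coe_mem _
    · intro ha
      obtain ⟨x, hx⟩ := QuotientGroup.mk_surjective (e ⟨a, ha⟩)
      exact ⟨x, by simp [hx]⟩
  · ext x
    simp [MonoidHom.mem_ker]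

end Cfsg.Agent.P7
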