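/-
The frame `L2F` for an image of `SL₂(F)`.
-/
import Cfsg.Agent.P7.L2A
import Cfsg.Agent.P5.K1
import Cfsg.Agent.FT.Final

set_option autoImplicit false
set_option linter.unusedSectionVars false

namespace Cfsg.Agent.P7

open Matrix Subgroup Cfsg Cfsg.Agent Cfsg.Agent.FT Cfsg.Agent.H4.SL2 Cfsg.Agent.P4
open Cfsg.Agent.L (mkSL2 sl2Perm)
open Cfsg.Agent.H2 (pPrimeCoreOf)
open Cfsg.Agent.P5 (V4 Tri Hyp)
open scoped commutatorElement

universe u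

/-- The numerical parameters `k = (q - ε)/4` and `l = (q + ε)/2`. -/
structure Ep (q k l : ℕ) : Prop where
  oddk : Odd k
  eps : (q = 4 * k + 1 ∧ q + 1 = 2 * l) ∨ (q + 1 = 4 * k ∧ q = 2 * l + 1)

theorem exists_ep {q : ℕ} (h : q % 8 = 3 ∨ q % 8 = 5) : ∃ k l, Ep q k l := by
  rcases h with h | h
  · exact ⟨2 * (q / 8) + 1, 4 * (q / 8) + 1, ⟨_, rfl⟩, Or.inr (by omega)⟩
  · exact ⟨2 * (q / 8) + 1, 4 * (q / 8) + 3, ⟨_, rfl⟩, Or.inl (by omega)⟩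

namespace Ep

variable {q k l : ℕ} (e : Ep q k l)
include e

theorem mod : q % 8 = 3 ∨ q % 8 = 5 := by
  obtain ⟨m, hm⟩ := e.oddk
  rcases e.eps with h | h <;> omega

theorem oddl : Odd l := by
  obtain ⟨m, hm⟩ := e.oddk
  rw [Nat.odd_iff]
  rcases e.eps with h | h <;> omega

theorem oddq : Odd q := by
  rw [Nat.odd_iff]
  rcases e.eps with h | h <;> omega

theorem cop_kl : (4 * k).Coprime l := by
  refine Nat.Coprime.mul_left (Nat.Coprime.pow_left 2 (Nat.coprime_two_left.2 e.oddl)) ?_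
  rcases e.eps with h | h
  · rw [show l = 1 + k * 2 by omega]; simp
  · have : 2 * k = 1 + l * 1 := by omega
    exact Nat.Coprime.coprime_mul_left (k := 2) (by rw [this]; simp)

theorem cop_qk : q.Coprime (4 * k) := by
  rcases e.eps with h | h
  · rw [h.1]; simp
  · rw [← h.1]; simp

theorem cop_ql : q.Coprime l := by
  refine Nat.Coprime.coprime_mul_left_right (k := 2) ?_
  rcases e.eps with h | h
  · rw [← h.2]; simp
  · rw [h.2]; simp

theorem card {c : ℕ} (h : 2 * c = q * (q - 1) * (q + 1)) : c = 4 * k * l * q := by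
  refine Nat.eq_of_mul_eq_mul_left two_pos (h.trans ?_)
  rcases e.eps with h | h
  · rw [h.2, show q - 1 = 4 * k by omega]; ring
  · rw [h.1, show q - 1 = 2 * l by omega]; ring

theorem not_eight : ¬ 8 ∣ 4 * k * l * q := fun h => by
  have h1 : 4 * 2 ∣ 4 * (k * l * q) := by rwa [← mul_assoc, ← mul_assoc]
  exact ((e.oddk.mul e.oddl).mul e.oddq).not_two_dvd_nat (Nat.dvd_of_mul_dvd_mul_left four_pos h1)

theorem cases {c : ℕ} (h : 2 * c + 1 = q ∨ 2 * c = q + 1) : c = 2 * k ∨ c = l := by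
  rcases e.eps with h | h <;> omega

theorem three_le (h : 5 ≤ q) : 3 ≤ l := by
  have := e.mod
  rcases e.eps with h | h <;> omega

end Ep

variable {G : Type u} [Group G] {F : Type*} [Field F]

theorem tri_of_eq {x a b s s0 : G} (hx : Tri x a b) (hab : V4 a b) (hV : V4 s s0)
    (hs : s ∈ V2 a b) (hs0 : s0 ∈ V2 a b) : ∃ y ∈ zpowers x, Tri y s s0 := by
  have h1 := hx.rot hab
  have h2 := h1.rot hab.rot
  have e : b * (a * b) = a := by rw [hab.comm.eq, ← mul_assoc, hab.ss, one_mul]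
  have inv : ∀ {c d : G}, Tri x c d → V4 c d → Tri x⁻¹ d c := fun {c d} h hv =>
    ⟨by rw [← h.1]; group, by
      have := h.third hv
      rw [← hv.comm.eq]; nth_rewrite 1 [← this]; group⟩
  rw [e] at h2
  rcases hab.mem_iff.1 hs with rfl | rfl | rfl | rfl
  · exact absurd rfl hV.t1
  all_goals rcases hab.mem_iff.1 hs0 with rfl | rfl | rfl | rfl
  all_goals first | exact absurd rfl hV.s1 | exact absurd rfl hV.ts | skip
  · exact ⟨x, mem_zpowers x, hx⟩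
  · exact ⟨x⁻¹, inv_mem (mem_zpowers x), inv h2 hV.swap⟩
  · exact ⟨x⁻¹, inv_mem (mem_zpowers x), inv hx hab⟩
  · exact ⟨x, mem_zpowers x, h1⟩
  · exact ⟨x, mem_zpowers x, h2⟩
  · exact ⟨x⁻¹, inv_mem (mem_zpowers x), inv h1 hab.rot⟩

theorem eq_of_invol_cyclic [Finite G] {A : Subgroup G} (hA : IsCyclic A) {s a : G} (hs : s ∈ A)
    (s1 : s ≠ 1) (ss : s * s = 1) (ha : a ∈ A) (aa : a * a = 1) : a = 1 ∨ a = s := by
  classical
  by_contra! hn
  let _ := Fintype.ofFinite A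
  have h1 := IsCyclic.card_pow_eq_one_le (α := A) (n := 2) two_pos
  have h2 : ({1, ⟨s, hs⟩, ⟨a, ha⟩} : Finset A) ⊆ Finset.univ.filter fun a : A => a ^ 2 = 1 := by
    intro b hb
    simp only [Finset.mem_insert, Finset.mem_singleton] at hb
    rcases hb with rfl | rfl | rfl <;> simp [sq, Subtype.ext_iff, ss, aa]
  have h3 := Finset.card_le_card h2
  rw [Finset.card_eq_three.2 ⟨_, _, _, by simpa [Subtype.ext_iff] using s1.symm,
    by simpa [Subtype.ext_iff] using hn.1.symm, by simpa [Subtype.ext_iff] using hn.2.symm, rfl⟩] at h3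
  omega

theorem card_mul_relIndex' {H K : Subgroup G} (h : H ≤ K) : 𝐨(H) * H.relIndex K = 𝐨(K) := by
  rw [← (H.subgroupOf K).card_mul_index, Nat.card_congr (subgroupOfEquivOfLe h).toEquiv]
  rfl

/-- The image of the upper unitriangular group. -/
def PU (π : SL F →* G) : Subgroup G := (uniHom F).range.map π

/-- The image of the diagonal group. -/
def HD (π : SL F →* G) : Subgroup G := (diaHom F).range.map π

theorem mem_PU {π : SL F →* G} {a : G} : a ∈ PU π ↔ ∃ b, π (uni b) = a :=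
  ⟨fun ⟨_, ⟨b, rfl⟩, e⟩ => ⟨b.toAdd, e⟩, fun ⟨b, e⟩ => ⟨_, ⟨Multiplicative.ofAdd b, rfl⟩, e⟩⟩

theorem mem_HD {π : SL F →* G} {a : G} : a ∈ HD π ↔ ∃ b, π (dia b) = a :=
  ⟨fun ⟨_, ⟨b, rfl⟩, e⟩ => ⟨b, e⟩, fun ⟨b, e⟩ => ⟨_, ⟨b, rfl⟩, e⟩⟩

namespace Cov

variable [Finite G] {π : SL F →* G} {L : Subgroup G} (h : Cov π L)
include h

theorem ent {x y : SL F} (e : π x = π y) (i j : Fin 2) : x i j = 0 ↔ y i j = 0 := by
  have key : ∀ {x y : SL F}, π x = π y → x i j = 0 → y i j = 0 := fun {x y} e hx => by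
    have h1 := h.eq_iff.1 e
    obtain ⟨a, b, c⟩ := mem_center_iff'.1 h1
    rw [← mul_inv_cancel_left x y, mul_e]
    fin_cases j
    · simp only [Fin.zero_eta] at hx ⊢; rw [hx, b]; ring
    · simp only [Fin.mk_one] at hx ⊢; rw [hx, a]; ring
  exact ⟨key e, key e.symm⟩

theorem uni_eq_one {b : F} : π (uni b) = 1 ↔ b = 0 := h.eq_one_iff.trans uni_mem_center

theorem uni_inj : Function.Injective fun b : F => π (uni b) := fun a b e => by
  have h1 : π (uni (a - b)) = 1 := by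
    have h2 : π (uni (a - b)) * π (uni b) = π (uni b) := by
      rw [← map_mul, ← uni_add, sub_add_cancel]; exact e
    simpa using h2
  exact sub_eq_zero.1 (h.uni_eq_one.1 h1)

theorem card_PU : 𝐨(PU π) = Nat.card F :=
  (Nat.card_congr (Equiv.ofBijective (fun b : F => (⟨π (uni b), mem_PU.2 ⟨b, rfl⟩⟩ : PU π))
    ⟨fun _ _ e => h.uni_inj (congrArg Subtype.val e), fun a => by
      obtain ⟨b, e⟩ := mem_PU.1 a.2
      exact ⟨b, Subtype.ext e⟩⟩)).symm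

theorem PU_le : PU π ≤ L := fun a ha => by
  obtain ⟨b, rfl⟩ := mem_PU.1 ha; exact h.mem _

theorem HD_le : HD π ≤ L := fun a ha => by
  obtain ⟨b, rfl⟩ := mem_HD.1 ha; exact h.mem _

theorem Ab_uni {b : F} (hb : b ≠ 0) : Ab π (uni b) = PU π := by
  have h1 : PU π ≤ Ab π (uni b) := fun a ha => by
    obtain ⟨c, rfl⟩ := mem_PU.1 ha
    exact h.mem_Ab.2 (mem_cent1.2 (by rw [← uni_add, ← uni_add, add_comm]))
  refine (eq_of_le_of_card_ge h1 ?_).symm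
  rcases h.cases (mt h.uni_eq_one.1 hb) with h2 | h2
  · exact absurd (by simp only [tr, sle]; norm_num) h2.1
  · rw [h2.2, h.card_PU]

theorem Ab_dia {a : Fˣ} (ha : a * a ≠ 1) : Ab π (dia a) = HD π := by
  ext g
  constructor
  · rintro ⟨y, hy, rfl⟩
    obtain ⟨b, rfl⟩ := (mem_cent_dia ha).1 hy
    exact mem_HD.2 ⟨b, rfl⟩
  · intro hg
    obtain ⟨b, rfl⟩ := mem_HD.1 hg
    exact h.mem_Ab.2 ((mem_cent_dia ha).2 ⟨b, rfl⟩)

theorem card_HD : 2 * 𝐨(HD π) + 1 = Nat.card F := by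
  haveI := h.finite
  have h1 : Function.Injective (diaHom F) := fun a b e =>
    Units.ext (congrArg (fun y : SL F => y 0 0) e)
  rw [HD, h.card_map fun z hz => by
    obtain ⟨a, b, -⟩ := mem_center_iff'.1 hz
    obtain ⟨c, rfl⟩ := eq_dia b a
    exact ⟨c, rfl⟩, ← Nat.card_congr (MonoidHom.ofInjective h1).toEquiv, Nat.card_units]
  have : 1 < Nat.card F := Finite.one_lt_card
  omega

theorem mem_norm_PU {y : SL F} : π y ∈ 𝐍(PU π) ↔ y 1 0 = 0 := by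
  constructor
  · intro hy
    obtain ⟨b, hb⟩ := mem_PU.1 ((mem_normalizer_iff.1 hy _).1 (mem_PU.2 ⟨1, rfl⟩))
    rw [← map_inv, ← map_mul, ← map_mul] at hb
    have h1 := (h.ent hb 1 0).1 rfl
    rw [conj_uni_10] at h1
    simpa using h1
  · intro hy
    refine mem_norm_of_conj_le ?_
    rintro _ ⟨a, ha, rfl⟩
    obtain ⟨b, rfl⟩ := mem_PU.1 ha
    exact mem_PU.2 ⟨y 0 0 ^ 2 * b, by rw [← conj_uni hy]; simp⟩

theorem normP : L ⊓ 𝐍(PU π) = PU π ⊔ HD π := by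
  refine le_antisymm (fun g hg => ?_) (le_inf (sup_le h.PU_le h.HD_le) (sup_le le_normalizer ?_))
  · obtain ⟨y, rfl⟩ := h.exists_eq hg.1
    obtain ⟨b, a, rfl⟩ := eq_uni_mul_dia (h.mem_norm_PU.1 hg.2)
    rw [map_mul]
    exact mul_mem_sup (mem_PU.2 ⟨b, rfl⟩) (mem_HD.2 ⟨a, rfl⟩)
  · intro g hg
    obtain ⟨a, rfl⟩ := mem_HD.1 hg
    exact h.mem_norm_PU.2 rfl

theorem tiP {u g : G} (hu : u ∈ PU π) (u1 : u ≠ 1) (hg : g ∈ L) (hc : g * u * g⁻¹ ∈ 𝐍(PU π)) :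
    g ∈ 𝐍(PU π) := by
  obtain ⟨b, rfl⟩ := mem_PU.1 hu
  obtain ⟨y, rfl⟩ := h.exists_eq hg
  rw [← map_inv, ← map_mul, ← map_mul, h.mem_norm_PU, conj_uni_10] at hc
  have hb := mt h.uni_eq_one.2 u1
  rw [h.mem_norm_PU]
  simpa [hb] using hc

theorem centP {u : G} (hu : u ∈ PU π) (u1 : u ≠ 1) : L ⊓ 𝐂[u] = PU π := by
  obtain ⟨b, rfl⟩ := mem_PU.1 hu
  have hb := mt h.uni_eq_one.2 u1
  rw [h.cent_eq, h.Ab_uni hb]
  rw [← map_mul, ← uni_add, Ne, h.uni_eq_one, ← two_mul]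
  exact mul_ne_zero h.two_ne hb

theorem eaP {p : ℕ} [CharP F p] : IsElementaryAbelian p (PU π) := by
  refine ⟨isMulComm_iff_le_cent.2 fun a ha => mem_cent.2 fun b hb => ?_, fun a ha => ?_⟩
  · obtain ⟨c, rfl⟩ := mem_PU.1 ha
    obtain ⟨d, rfl⟩ := mem_PU.1 hb
    rw [← map_mul, ← map_mul, ← uni_add, ← uni_add, add_comm]
  · obtain ⟨c, rfl⟩ := mem_PU.1 ha
    have h1 : uni c ^ p = 1 := by
      rw [show uni c = uniHom F (Multiplicative.ofAdd c) from rfl, ← map_pow, ← ofAdd_nsmul,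
        nsmul_eq_mul, CharP.cast_eq_zero, zero_mul, ofAdd_zero, map_one]
    rw [← map_pow, h1, map_one]

theorem opp {w : SL F} (h0 : w 0 0 = 0) (h1 : w 1 1 = 0) :
    L ⊓ 𝐍(PU π) ⊓ 𝐍(PU π ^ᵍ π w) = HD π := by
  have hd := det_eq w
  rw [h0, zero_mul, zero_sub] at hd
  have h2 : w 1 0 ≠ 0 := fun e => by simp [e] at hd
  have key : ∀ y : SL F, π y ∈ 𝐍(PU π ^ᵍ π w) ↔ y 0 1 = 0 := fun y => by
    rw [norm_conj, mem_conj, ← map_inv, ← map_mul, ← map_mul, h.mem_norm_PU]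
    simp [sle, h0, h1, h2]
  ext g
  constructor
  · intro hg
    obtain ⟨y, rfl⟩ := h.exists_eq hg.1.1
    obtain ⟨a, rfl⟩ := eq_dia (h.mem_norm_PU.1 hg.1.2) ((key y).1 hg.2)
    exact mem_HD.2 ⟨a, rfl⟩
  · intro hg
    obtain ⟨a, rfl⟩ := mem_HD.1 hg
    exact ⟨⟨h.mem _, h.mem_norm_PU.2 rfl⟩, (key _).2 rfl⟩

theorem bruhat {w : SL F} (h0 : w 0 0 = 0) (h1 : w 1 1 = 0) {g : G} (hg : g ∈ L)
    (hn : g ∉ 𝐍(PU π)) : ∃ u ∈ PU π, ∃ a ∈ HD π, ∃ v ∈ PU π, g = u * a * π w * v := by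
  obtain ⟨y, rfl⟩ := h.exists_eq hg
  obtain ⟨b, a, c, rfl⟩ := bruhat_SL h0 h1 (mt h.mem_norm_PU.2 hn)
  exact ⟨_, mem_PU.2 ⟨b, rfl⟩, _, mem_HD.2 ⟨a, rfl⟩, _, mem_PU.2 ⟨c, rfl⟩, by simp⟩

/-- Any element outside a torus that normalizes it is an inverting involution. -/
theorem dih {x : SL F} (hx : π x ≠ 1) (ht : tr x ^ 2 ≠ 4) {j a0 : G} (hj : j ∈ L)
    (hjA : j ∉ Ab π x) (ha0 : a0 ∈ Ab π x) (a01 : a0 ≠ 1) (hja : j * a0 * j⁻¹ ∈ Ab π x) :
    j * j = 1 ∧ (∀ a ∈ Ab π x, j * a * j⁻¹ = a⁻¹) ∧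
      ∀ a ∈ Ab π x, a ≠ 1 → ∀ g ∈ L, g * a * g⁻¹ ∈ Ab π x → g ∈ Ab π x ∨ j * g ∈ Ab π x := by
  obtain ⟨i, hi, ii, -, hinv, hn⟩ := h.exists_inv hx ht
  have h1 := (hn a0 ha0 a01 j hj hja).resolve_left hjA
  obtain ⟨c, hc, rfl⟩ : ∃ c ∈ Ab π x, j = i * c :=
    ⟨_, h1, by rw [← mul_assoc, ii, one_mul]⟩
  have i' : i⁻¹ = i := P5.inv_eq_of_sq ii
  refine ⟨?_, fun a ha => ?_, fun a ha a1 g hg hga => (hn a ha a1 g hg hga).imp_right fun h2 => ?_⟩
  · calc i * c * (i * c) = i * c * i⁻¹ * c := by rw [i']; group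
      _ = 1 := by rw [hinv c hc, inv_mul_cancel]
  · calc i * c * a * (i * c)⁻¹ = i * (c * a * c⁻¹) * i⁻¹ := by group
      _ = _ := by rw [(h.Ab_comm hx hc ha).eq, mul_inv_cancel_right, hinv a ha]
  · rw [show i * c * g = i * c * i⁻¹ * (i * g) by group, hinv c hc]
    exact mul_mem (inv_mem hc) h2

theorem conj_of_coprime {x y : SL F} (hx : π x ≠ 1) (hy : π y ≠ 1) {m m' : ℕ}
    (e1 : 𝐨(Ab π x) = m) (e2 : 𝐨(Ab π y) = m) (hL : 𝐨(L) = m * m') (hc : m.Coprime m') :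
    ∃ c ∈ L, Ab π x ^ᵍ c = Ab π y := by
  have hm : m ≠ 1 := fun e => hx (by
    have := h.self_mem x
    rwa [card_eq_one.1 (e1.trans e)] at this)
  obtain ⟨r, hr, hrm⟩ := Nat.exists_prime_and_dvd hm
  have key : ∀ z, 𝐨(Ab π z) = m → ∃ Q, Q ≤ Ab π z ∧ Q ≠ ⊥ ∧ IsSyl r Q L := fun z e => by
    obtain ⟨Q, hQ⟩ := exists_isSyl hr (Ab π z)
    refine ⟨Q, hQ.le, hQ.ne_bot hr (e ▸ hrm), hQ.trans hr (h.Ab_le_L z) fun hd => ?_⟩
    have h1 := card_mul_relIndex' (h.Ab_le_L z)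
    rw [e, hL] at h1
    rw [Nat.eq_of_mul_eq_mul_left (e ▸ Nat.card_pos) h1] at hd
    exact hr.ne_one (Nat.eq_one_of_dvd_coprimes hc hrm hd)
  obtain ⟨Q, a1, a2, a3⟩ := key x e1
  obtain ⟨R, b1, -, b3⟩ := key y e2
  obtain ⟨c, hc, e⟩ := b3.exists_conj_le hr a3.pgrp a3.le
  obtain ⟨a, ha, ha1⟩ := (Q.bot_or_exists_ne_one).resolve_left a2
  obtain ⟨z, rfl⟩ := h.exists_eq (a3.le ha)
  obtain ⟨γ, rfl⟩ := h.exists_eq hc
  refine ⟨_, hc, ?_⟩
  have h2 : π (γ * z * γ⁻¹) ∈ Ab π y := by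
    rw [map_mul, map_mul, map_inv]; exact b1 (e (conj_mem_conj ha _))
  rw [← h.Ab_eq hx ha1 (a1 ha), ← h.Ab_conj, h.Ab_eq hy _ h2]
  rw [map_mul, map_mul, map_inv]
  simpa using ha1

variable {q k l : ℕ}

theorem cardL (hq : Nat.card F = q) (e : Ep q k l) : 𝐨(L) = 4 * k * l * q :=
  e.card (hq ▸ h.card_L)

theorem cases' (hq : Nat.card F = q) (e : Ep q k l) {x : SL F} (hx : π x ≠ 1) :
    (tr x ^ 2 ≠ 4 ∧ IsCyclic (Ab π x) ∧ (𝐨(Ab π x) = 2 * k ∨ 𝐨(Ab π x) = l)) ∨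
    (tr x ^ 2 = 4 ∧ 𝐨(Ab π x) = q) :=
  (h.cases hx).imp (fun a => ⟨a.1, a.2.1, e.cases (hq ▸ a.2.2)⟩) fun a => ⟨a.1, hq ▸ a.2⟩

theorem invol (hq : Nat.card F = q) (e : Ep q k l) {x : SL F} (hx : π x ≠ 1)
    (hxx : π x * π x = 1) : IsCyclic (Ab π x) ∧ 𝐨(Ab π x) = 2 * k := by
  obtain ⟨-, h1, h2⟩ := (h.cases' hq e hx).resolve_right fun a => h.tr_ne_of_invol hx hxx a.1
  refine ⟨h1, h2.resolve_right fun h3 => hx (P5.eq_one_of_odd (h3 ▸ e.oddl) (h.self_mem x) hxx)⟩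

theorem hyp (hq : Nat.card F = q) (e : Ep q k l) {xs : SL F} {s0 x : G} (hV : V4 (π xs) s0)
    (hs0 : s0 ∈ L) (hx : x ∈ L) (tri : Tri x (π xs) s0) :
    Hyp L (R0 L (π xs)) (π xs) s0 ∧ R0 L (π xs) ⊔ zpowers (π xs) = Ab π xs ∧
      𝐨(R0 L (π xs)) = k ∧ (∀ a ∈ Ab π xs, s0 * a * s0⁻¹ = a⁻¹) ∧
      ∀ a ∈ Ab π xs, a ≠ 1 → ∀ g ∈ L, g * a * g⁻¹ ∈ Ab π xs → g ∈ Ab π xs ∨ s0 * g ∈ Ab π xs := by
  obtain ⟨hc, hk⟩ := h.invol hq e hV.t1 hV.tt
  have hsA := h.self_mem xs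
  have uniq := fun a ha => eq_of_invol_cyclic hc hsA hV.t1 hV.tt (a := a) ha
  have h0 : s0 ∉ Ab π xs := fun a => (uniq s0 a hV.ss).elim hV.s1 hV.ts.symm
  have hs : s0 * π xs * s0⁻¹ = π xs := by rw [← hV.comm.eq, mul_inv_cancel_right]
  obtain ⟨-, hinv, hn⟩ := h.dih hV.t1 (h.tr_ne_of_invol hV.t1 hV.tt) hs0 h0 hsA hV.t1
    (hs.symm ▸ hsA)
  haveI := isMulComm_of_isCyclic hc
  let R := Agent.L.powKerIn (Ab π xs) k
  have hR : ∀ a ∈ Ab π xs, a ∈ R ∨ a * π xs ∈ R := fun a ha => by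
    have h1 : a ^ k * a ^ k = 1 := by rw [← pow_add, ← two_mul, ← hk]; exact P5.pow_card_of_mem ha
    refine (uniq _ (pow_mem ha k) h1).imp (fun h2 => ⟨ha, h2⟩) fun h2 => ⟨mul_mem ha hsA, ?_⟩
    obtain ⟨m, hm⟩ := e.oddk
    rw [(h.Ab_comm hV.t1 ha hsA).mul_pow, h2, hm, pow_succ, pow_mul, sq, hV.tt, one_pow, one_mul,
      hV.tt]
  have hH : Hyp L R (π xs) s0 :=
    { tX := h.mem xs, sX := hs0, t1 := hV.t1, s1 := hV.s1, ts := hV.ts, tt := hV.tt, ss := hV.ss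
      comm := hV.comm
      UX := fun a ha => h.Ab_le_L xs ha.1
      Ut := fun a ha => h.Ab_le_cent xs ha.1
      odd := Agent.L.odd_card_of_forall_sq fun a ha aa => by
        obtain ⟨m, hm⟩ := e.oddk
        have h1 := ha.2
        rwa [hm, pow_succ, pow_mul, sq, aa, one_pow, one_mul] at h1
      sU := mem_norm_of_conj_le (by
        rintro _ ⟨a, ha, rfl⟩
        change s0 * a * s0⁻¹ ∈ R
        rw [hinv a ha.1]; exact inv_mem ha)
      cover := fun g hg => by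
        rcases hn _ hsA hV.t1 g hg.1 (by rw [mem_cent1_iff_conj.1 hg.2]; exact hsA) with h1 | h1
        · exact (hR g h1).imp_right Or.inl
        · exact Or.inr (Or.inr (hR _ h1))
      conj := fun j hj j1 jj => hV.conj_of_tri (h.cardL hq e ▸ e.not_eight) (h.mem xs) hs0 hx tri
        hj j1 jj }
  have hRe : R = R0 L (π xs) := hH.eq_core
  have hA : R ⊔ zpowers (π xs) = Ab π xs :=
    le_antisymm (sup_le (fun a ha => ha.1) (zpowers_le.2 hsA)) fun a ha => hH.mem_sup_iff.2 (hR a ha)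
  have h3 := hH.card_sup
  rw [hA, hk] at h3
  rw [← hRe]
  exact ⟨hH, hA, by omega, hinv, hn⟩

theorem isSimple (h4 : 4 ≤ Nat.card F) : IsSimpleGroup L := by
  obtain ⟨e⟩ := h.equiv
  haveI := Matrix.ProjectiveSpecialLinearGroup.rank_two_simple h4
  exact e.isSimpleGroup

theorem simple (h4 : 4 ≤ Nat.card F) (N : Subgroup G) (hN : N ⊲ L) : N = ⊥ ∨ N = L := by
  haveI := h.isSimple h4
  rcases (((normal_subgroupOf_iff_le_normalizer hN.1).2 hN.2).eq_bot_or_eq_top) with h1 | h1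
  · left
    rw [subgroupOf_eq_bot] at h1
    exact h1.eq_bot_of_le hN.1
  · exact Or.inr (le_antisymm hN.1 (subgroupOf_eq_top.1 h1))

theorem l2f (hq : Nat.card F = q) (e : Ep q k l) (h5 : 5 ≤ q) {p n : ℕ} (hp : p.Prime) [CharP F p]
    (hn : q = p ^ n) {xs w y : SL F} {x : G} (hV : V4 (π xs) (π w)) (w0 : w 0 0 = 0)
    (w1 : w 1 1 = 0) (hx : x ∈ L) (tri : Tri x (π xs) (π w)) (x3 : x ^ 3 = 1) (y1 : π y ≠ 1)
    (hy : 𝐨(Ab π y) = l) (wy : π w * π y * (π w)⁻¹ ∈ Ab π y)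
    (e1 : q = 4 * k + 1 → Ab π xs = HD π) (e2 : q + 1 = 4 * k → Ab π y = HD π) :
    ∃ f : L2F L q (π xs) (π w), f.p = p ∧ f.n = n ∧ f.k = k ∧ f.l = l ∧ f.x = x ∧ f.T = Ab π y ∧
      f.P = PU π := by
  obtain ⟨hH, hA, hk, hinv, hN⟩ := h.hyp hq e hV (h.mem w) hx tri
  have hL := h.cardL hq e
  have hl3 := e.three_le h5
  have oT : Odd 𝐨(Ab π y) := hy ▸ e.oddl
  obtain ⟨ht, hcy, -⟩ := (h.cases' hq e y1).resolve_right fun a => by
    have := e.eps; omega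
  obtain ⟨-, invT, normT⟩ := h.dih y1 ht (h.mem w) (fun a => hV.s1 (P5.eq_one_of_odd oT a hV.ss))
    (h.self_mem y) y1 wy
  have hRA : R0 L (π xs) ≤ Ab π xs := hA ▸ le_sup_left
  have p2 : p ≠ 2 := by
    rintro rfl
    have h1 := e.oddq
    rw [hn] at h1 h5
    rcases n with _ | n
    · omega
    · exact h1.not_two_dvd_nat (dvd_pow_self 2 n.succ_ne_zero)
  have part : ∀ z, π z ≠ 1 → ∃ c ∈ L, Ab π z ^ᵍ c = Ab π xs ∨ Ab π z ^ᵍ c = Ab π y ∨
      Ab π z ^ᵍ c = PU π := fun z hz => by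
    rcases h.cases' hq e hz with ⟨-, -, h1 | h1⟩ | ⟨-, h1⟩
    · obtain ⟨j, hj, hj2⟩ := exists_mem_orderOf_eq_prime Nat.prime_two (H := Ab π z)
        (h1 ▸ Dvd.intro _ rfl)
      have j1 : j ≠ 1 := fun a => by simp [a] at hj2
      obtain ⟨c, hc, e'⟩ := hH.conj j (h.Ab_le_L z hj) j1 (by rw [← sq, ← hj2, pow_orderOf_eq_one])
      obtain ⟨γ, rfl⟩ := h.exists_eq hc
      rw [← map_inv, ← map_mul, ← map_mul] at e'
      refine ⟨_, inv_mem hc, Or.inl ?_⟩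
      rw [← h.Ab_eq hz (e' ▸ j1) (e' ▸ hj), h.Ab_conj, conj_conj_inv]
    · obtain ⟨c, hc, e'⟩ := h.conj_of_coprime hz y1 h1 hy (m' := 4 * k * q) (by rw [hL]; ring)
        (e.cop_kl.symm.mul_right e.cop_ql.symm)
      exact ⟨c, hc, Or.inr (Or.inl e')⟩
    · have h2 := h.Ab_uni (one_ne_zero (α := F))
      obtain ⟨c, hc, e'⟩ := h.conj_of_coprime hz (mt h.uni_eq_one.1 one_ne_zero) h1
        (by rw [h2, h.card_PU, hq]) (m' := 4 * k * l) (by rw [hL]; ring)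
        (e.cop_qk.mul_right e.cop_ql)
      exact ⟨c, hc, Or.inr (Or.inr (h2 ▸ e'))⟩
  refine ⟨{ p := p, n := n, k := k, l := l, x := x, T := Ab π y, P := PU π, H := HD π
            hp := hp, p2 := p2, hq := hn, oddn := ?_, five := h5, eps := ?_, oddk := e.oddk
            lt := ?_, cardR := hk, cardL := hL, xL := hx, tri := tri, x3 := x3, normV := ?_
            TL := h.Ab_le_L y, cycT := hcy, cardT := hy, invT := invT, centT := ?_
            normT := normT, tori := ?_, PL := h.PU_le, eaP := h.eaP, cardP := hq ▸ h.card_PU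
            centP := fun u hu u1 => h.centP hu u1, normP := h.normP
            tiP := fun u hu u1 g hg => h.tiP hu u1 hg, opp := h.opp w0 w1
            bruhat := fun g hg => h.bruhat w0 w1 hg, part := ?_, oddsub := ?_ },
    rfl, rfl, rfl, rfl, rfl, rfl, rfl⟩
  · by_contra hne
    obtain ⟨m, rfl⟩ := Nat.not_odd_iff_even.1 hne
    obtain ⟨c, hc⟩ := (hp.odd_of_ne_two p2).pow (n := m)
    have h1 := e.mod
    rw [hn, pow_add, hc] at h1
    have h2 : (2 * c + 1) * (2 * c + 1) = 4 * (c * (c + 1)) + 1 := by ring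
    obtain ⟨d, hd⟩ := Nat.even_mul_succ_self c
    omega
  · rcases e.eps with a | a
    · exact Or.inl ⟨a.1, a.2, (hA.trans (e1 a.1)).symm⟩
    · exact Or.inr ⟨a.1, a.2, (e2 a.1).symm⟩
  · have cent : ∀ a ∈ R0 L (π xs), a ≠ 1 → ∀ g ∈ L, Commute a g →
        g ∈ R0 L (π xs) ∨ g * π xs ∈ R0 L (π xs) := fun a ha a1 g hg hc => by
      rw [← hH.mem_sup_iff, hA]
      obtain ⟨z, rfl⟩ := h.exists_eq (hH.UX ha)
      rw [← h.Ab_eq hV.t1 a1 (hRA ha), ← h.cent_eq fun a => a1 (P5.eq_one_of_odd hH.odd ha a)]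
      exact ⟨hg, mem_cent1.2 hc⟩
    have inv := fun a ha => hinv a (hRA ha)
    refine ⟨hH, inv, isCyclic_of_le hRA (h.invol hq e hV.t1 hV.tt).1, cent, ?_,
      h.simple (by omega), ⟨x, hx, tri⟩, hH.ord inv cent⟩
    refine (h.simple (by omega) _ (der_normal L)).resolve_left fun h1 => tri.not_commute hV ?_
    exact mem_cent.1 (comm_eq_bot_iff.1 h1 (h.mem xs)) x hx
  · refine le_antisymm (fun g hg => ?_) (le_inf (sup_le (V4.le_iff.2 ⟨h.mem _, h.mem _⟩)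
      (zpowers_le.2 hx)) (sup_le le_normalizer (zpowers_le.2 (tri.mem_norm hV))))
    obtain ⟨c, hc, e'⟩ := tri.exists_conj hV ((mem_normalizer_iff.1 hg.2 _).1 V4.t_mem)
      (by simpa using hV.t1)
    have hcN : c ∈ 𝐍(V2 (π xs) (π w)) := zpowers_le.2 (tri.mem_norm hV) hc
    have key : ∀ r ∈ R0 L (π xs), r ∈ 𝐍(V2 (π xs) (π w)) → r = 1 := fun r hr hrN => by
      have h1 : r * π w * r⁻¹ * π w ∈ V2 (π xs) (π w) :=
        mul_mem ((mem_normalizer_iff.1 hrN _).1 V4.s_mem) V4.s_mem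
      have h2 : r * π w * r⁻¹ * π w = r * r := by
        have := hinv r⁻¹ (inv_mem (hRA hr))
        rw [inv_inv, P5.inv_eq_of_sq hV.ss] at this
        rw [mul_assoc, mul_assoc, ← mul_assoc (π w), this]
      rw [h2] at h1
      exact P5.eq_one_of_odd hH.odd hr (P5.eq_one_of_odd hH.odd (mul_mem hr hr) (hV.sq h1))
    have h1 : c⁻¹ * g ∈ V2 (π xs) (π w) := by
      have hN' := mul_mem (inv_mem hcN) hg.2
      have hs : π xs ∈ 𝐍(V2 (π xs) (π w)) := le_normalizer V4.t_mem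
      have hw : π w ∈ 𝐍(V2 (π xs) (π w)) := le_normalizer V4.s_mem
      rcases hH.cover (c⁻¹ * g) ⟨L.mul_mem (L.inv_mem (zpowers_le.2 hx hc)) hg.1,
        mem_cent1_iff_conj.2 (by
          calc c⁻¹ * g * π xs * (c⁻¹ * g)⁻¹ = c⁻¹ * (g * π xs * g⁻¹) * c := by group
            _ = _ := by rw [← e']; group)⟩ with a | a | a | a
      · rw [key _ a hN']; exact one_mem _
      · rw [eq_inv_of_mul_eq_one_left (key _ a (mul_mem hN' hs))]; exact inv_mem V4.t_mem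
      · rw [eq_inv_of_mul_eq_one_right (key _ a (mul_mem hw hN'))]; exact inv_mem V4.s_mem
      · have h2 := key _ a (mul_mem (mul_mem hw hN') hs)
        rw [show c⁻¹ * g = (π w)⁻¹ * (π w * (c⁻¹ * g) * π xs) * (π xs)⁻¹ by group, h2, mul_one]
        exact mul_mem (inv_mem V4.s_mem) (inv_mem V4.t_mem)
    rw [← mul_inv_cancel_left c g]
    exact mul_mem (mem_sup_right hc) (mem_sup_left h1)
  · intro a ha a1
    obtain ⟨z, rfl⟩ := h.exists_eq (h.Ab_le_L y ha)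
    rw [h.cent_eq fun a => a1 (P5.eq_one_of_odd oT ha a), h.Ab_eq y1 a1 ha]
  · intro g hg hi
    have h1 := hi _ (conj_mem_conj (h.self_mem y) g)
    have h2 : g⁻¹ * π w * g * π y * (g⁻¹ * π w * g)⁻¹ = (π y)⁻¹ := by
      calc _ = g⁻¹ * (π w * (g * π y * g⁻¹) * (π w)⁻¹) * g := by group
        _ = _ := by rw [h1]; group
    have jj : g⁻¹ * π w * g * (g⁻¹ * π w * g) = 1 := by
      calc _ = g⁻¹ * (π w * π w) * g := by group
        _ = 1 := by rw [hV.ss]; group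
    rcases normT _ (h.self_mem y) y1 _ (mul_mem (mul_mem (inv_mem hg) (h.mem w)) hg)
      (h2 ▸ inv_mem (h.self_mem y)) with a | a
    · exact absurd (P5.eq_one_of_odd oT a jj) (by simpa [mul_eq_one_iff_eq_inv] using hV.s1)
    · obtain ⟨c, hc, e'⟩ := P5.exists_conj_of_odd oT hV.ss jj a
      refine ⟨g * c, ⟨mul_mem hg (h.Ab_le_L y hc), mem_cent1_iff_conj.2 ?_⟩, ?_⟩
      · calc g * c * π w * (g * c)⁻¹ = g * (c * π w * c⁻¹) * g⁻¹ := by group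
          _ = _ := by rw [e']; group
      · rw [← conj_conj, conj_eq_of_mem hc]
  · intro g hg
    by_cases g1 : g = 1
    · exact ⟨1, one_mem _, Or.inl (by simp [g1])⟩
    obtain ⟨z, rfl⟩ := h.exists_eq hg
    obtain ⟨c, hc, h1⟩ := part z g1
    have h2 := conj_mem_conj (h.self_mem z) c
    rw [hA]
    rcases h1 with h1 | h1 | h1 <;> rw [h1] at h2 <;> exact ⟨c, hc, by simp [h2]⟩
  · intro K hK ho
    by_cases K1 : K = ⊥
    · exact ⟨1, one_mem _, Or.inl (by simp [K1, conj_bot])⟩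
    haveI := (Subgroup.nontrivial_iff_ne_bot K).2 K1
    haveI := feit_thompson K ho
    obtain ⟨N, hN'⟩ := Agent.L.exists_isMinNormal (G := K)
    haveI := hN'.isMulCommutative_of_isSolvable
    obtain ⟨a, ha, a1⟩ := (N.bot_or_exists_ne_one).resolve_left hN'.2.1
    have a1' : (a : G) ≠ 1 := fun e => a1 (Subtype.ext e)
    obtain ⟨z, hz⟩ := h.exists_eq (hK a.2)
    obtain ⟨c, hc, h1⟩ := part z (hz ▸ a1')
    have h2 := conj_mem_conj (h.self_mem z) c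
    have h3 : c * π z * c⁻¹ ≠ 1 := by simpa [hz] using a1'
    have h4 : ∀ g ∈ K ^ᵍ c, g ∈ L ∧ (g * g = 1 → g = 1) ∧
        g * (c * π z * c⁻¹) * g⁻¹ ∈ Ab π z ^ᵍ c := by
      rintro _ ⟨g, hg, rfl⟩
      have hg' : c * g * c⁻¹ ∈ K ^ᵍ c := conj_mem_conj hg c
      refine ⟨conj_le_of_mem hK hc hg', P5.eq_one_of_odd (card_conj K c ▸ ho) hg', ?_⟩
      change c * g * c⁻¹ * _ * (c * g * c⁻¹)⁻¹ ∈ _
      rw [show c * g * c⁻¹ * (c * π z * c⁻¹) * (c * g * c⁻¹)⁻¹ = c * (g * π z * g⁻¹) * c⁻¹ by group,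
        conj_mem_conj_iff, ← h.cent_eq fun e => a1' (P5.eq_one_of_odd ho a.2 (hz ▸ e)), hz]
      refine ⟨hK (mul_mem (mul_mem hg a.2) (inv_mem hg)), mem_cent1.2 ?_⟩
      exact congrArg Subtype.val (mem_centralizer_iff.1 (N.le_centralizer
        (hN'.1.conj_mem a ha ⟨g, hg⟩)) a ha)
    have key : ∀ A : Subgroup G, (∀ a ∈ A, π w * a * (π w)⁻¹ = a⁻¹) → ∀ g, (g * g = 1 → g = 1) →
        g ∈ A ∨ π w * g ∈ A → g ∈ A := fun A hi g gg hg => by
      refine hg.elim id fun h5 => ?_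
      have h6 := hi _ h5
      rw [← mul_assoc, hV.ss, one_mul, _root_.mul_inv_rev, mul_left_inj] at h6
      rw [gg (mul_eq_one_iff_eq_inv.2 h6)]
      exact one_mem _
    refine ⟨c, hc, ?_⟩
    rcases h1 with h1 | h1 | h1 <;> rw [h1] at h2 h4
    · refine Or.inl (hH.le_of_odd (fun g hg => ?_) (card_conj K c ▸ ho))
      obtain ⟨b1, b2, b3⟩ := h4 g hg
      exact ⟨b1, h.Ab_le_cent xs (key _ hinv g b2 (hN _ h2 h3 g b1 b3))⟩
    · refine Or.inr (Or.inl fun g hg => ?_)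
      obtain ⟨b1, b2, b3⟩ := h4 g hg
      exact key _ invT g b2 (normT _ h2 h3 g b1 b3)
    · refine Or.inr (Or.inr fun g hg => ?_)
      obtain ⟨b1, -, b3⟩ := h4 g hg
      exact h.tiP h2 h3 b1 (le_normalizer b3)

end Cov

end Cfsg.Agent.P7
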