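/-
The action of `M` on the projective line; field automorphisms.
-/
import Cfsg.Agent.P7.L2B

set_option autoImplicit false
set_option linter.unusedSectionVars false

namespace Cfsg.Agent.P7

open Matrix Subgroup Cfsg Cfsg.Agent Cfsg.Agent.FT Cfsg.Agent.H4.SL2 Cfsg.Agent.P4 OnePoint
open Cfsg.Agent.L (mkSL2 sl2Perm sl2Perm_infty sl2Perm_some)
open Cfsg.Agent.P3 (gl2Perm gl2Perm_infty gl2Perm_some)

universe u

variable {G : Type u} [Group G] {F : Type*} [Field F]

theorem ringAut_cyclic [Finite F] {p n : ℕ} (hp : p.Prime) [CharP F p] (hn : Nat.card F = p ^ n) :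
    IsCyclic (RingAut F) ∧ Nat.card (RingAut F) = n := by
  haveI := Fact.mk hp
  letI : Algebra (ZMod p) F := ZMod.algebra _ _
  let e : RingAut F ≃* (F ≃ₐ[ZMod p] F) :=
    { toFun := fun σ => AlgEquiv.ofRingEquiv (f := σ) fun x =>
        DFunLike.congr_fun (Subsingleton.elim ((σ : F →+* F).comp (algebraMap _ _)) (algebraMap _ _)) x
      invFun := fun σ => σ.toRingEquiv
      left_inv := fun _ => rfl
      right_inv := fun _ => rfl
      map_mul' := fun _ _ => rfl }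
  refine ⟨isCyclic_of_surjective e.symm e.symm.surjective, ?_⟩
  rw [Nat.card_congr e.toEquiv, IsGalois.card_aut_eq_finrank]
  exact Nat.pow_right_injective hp.two_le ((FiniteField.pow_finrank_eq_natCard p F).trans hn)

/-- The fixed field of an automorphism. -/
abbrev fixF (σ : RingAut F) : Subfield F := FixedPoints.subfield (zpowers σ) F

theorem mem_fixF {σ : RingAut F} {x : F} : x ∈ fixF σ ↔ σ x = x :=
  ⟨fun h => h ⟨σ, mem_zpowers σ⟩, fun h g =>
    (zpowers_le (H := MulAction.stabilizer (RingAut F) x)).2 h (show (g : RingAut F) ∈ _ from g.2)⟩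

theorem card_fixF [Finite F] (σ : RingAut F) : Nat.card (fixF σ) ^ orderOf σ = Nat.card F := by
  haveI : Finite (RingAut F) := Finite.of_injective _ DFunLike.coe_injective
  let _ := Fintype.ofFinite (zpowers σ)
  rw [Module.natCard_eq_pow_finrank (K := fixF σ) (V := F), FixedPoints.finrank_eq_card,
    ← Nat.card_eq_fintype_card, Nat.card_zpowers]

variable [DecidableEq F]

theorem fix_infty {y : SL F} : sl2Perm F y ∞ = ∞ ↔ y 1 0 = 0 := by
  rw [sl2Perm_infty]; split_ifs with h <;> simp [h]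

theorem fix_zero {y : SL F} : sl2Perm F y (0 : F) = (0 : F) ↔ y 0 1 = 0 := by
  have hd := det_eq y
  rw [sl2Perm_some]
  split_ifs with h
  · simp only [mul_zero, zero_add] at h
    simp only [infty_ne_coe, false_iff]
    intro e; simp [h, e] at hd
  · simp only [mul_zero, zero_add] at h
    simp [h]

theorem uni_act (b x : F) : sl2Perm F (uni b) x = ((x + b : F) : OnePoint F) := by
  rw [sl2Perm_some]; simp [sle]

theorem dia_act (a : Fˣ) (x : F) : sl2Perm F (dia a) x = ((a * a * x : F) : OnePoint F) := by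
  rw [sl2Perm_some]; simp [sle]; ring

theorem exists_infty (a : OnePoint F) : ∃ y : SL F, sl2Perm F y ∞ = a := by
  induction a using OnePoint.rec with
  | infty => exact ⟨1, by simp⟩
  | coe c => exact ⟨mkSL2 c (-1) 1 0 (by ring), by rw [sl2Perm_infty]; simp [sle]⟩

theorem exists_two {a b : OnePoint F} (h : a ≠ b) :
    ∃ y : SL F, sl2Perm F y a = ∞ ∧ sl2Perm F y b = (0 : F) := by
  obtain ⟨y, rfl⟩ := exists_infty a
  obtain ⟨c, hc⟩ := ne_infty_iff_exists.1 (show sl2Perm F y⁻¹ b ≠ ∞ from fun e => h (by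
    rw [← e, map_inv]; simp))
  refine ⟨uni (-c) * y⁻¹, ?_, ?_⟩
  · rw [map_mul, map_inv, Equiv.Perm.mul_apply, Equiv.Perm.coe_inv, Equiv.symm_apply_apply,
      fix_infty]; rfl
  · rw [map_mul, Equiv.Perm.mul_apply, ← hc, uni_act, add_neg_cancel]

theorem exists_three {a b c : OnePoint F} (h : a ≠ b) (h1 : a ≠ c) (h2 : b ≠ c) :
    ∃ γ : GL (Fin 2) F, gl2Perm F γ a = ∞ ∧ gl2Perm F γ b = (0 : F) ∧ gl2Perm F γ c = (1 : F) := by
  obtain ⟨y, ha, hb⟩ := exists_two h
  obtain ⟨d, hd⟩ := ne_infty_iff_exists.1 (show sl2Perm F y c ≠ ∞ from fun e =>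
    h1 ((sl2Perm F y).injective (ha.trans e.symm)))
  have d0 : d ≠ 0 := fun e => h2 ((sl2Perm F y).injective (by rw [hb, ← hd, e]))
  obtain ⟨g, g1, g2⟩ := P3.exists_gl2_affine d⁻¹ 0 (inv_ne_zero d0)
  refine ⟨g * SpecialLinearGroup.toGL y, ?_, ?_, ?_⟩ <;>
    rw [map_mul, Equiv.Perm.mul_apply, ← P3.sl2Perm_eq]
  · rw [ha, g1]
  · rw [hb, g2]; simp
  · rw [← hd, g2]; simp [d0]

theorem eq_center_of_three {y : SL F} (h1 : sl2Perm F y ∞ = ∞) (h2 : sl2Perm F y (0 : F) = (0 : F))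
    (h3 : sl2Perm F y (1 : F) = (1 : F)) : y ∈ center (SL F) := by
  obtain ⟨a, rfl⟩ := eq_dia (fix_infty.1 h1) (fix_zero.1 h2)
  rw [dia_act, mul_one, coe_eq_coe] at h3
  exact dia_mem_center.2 (Units.ext h3)

/-- Conjugation of `SL₂` by an element of `GL₂`. -/
def conjSL (γ : GL (Fin 2) F) : SL F →* SL F where
  toFun y := ⟨(γ * SpecialLinearGroup.toGL y * γ⁻¹ : GL (Fin 2) F), by
    rw [Units.val_mul, Units.val_mul, det_mul_comm, ← mul_assoc, Units.inv_mul, one_mul]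
    exact y.det_coe⟩
  map_one' := Subtype.ext (by simp)
  map_mul' a b := Subtype.ext (congrArg Units.val (by rw [map_mul]; group :
    γ * SpecialLinearGroup.toGL (a * b) * γ⁻¹ =
      γ * SpecialLinearGroup.toGL a * γ⁻¹ * (γ * SpecialLinearGroup.toGL b * γ⁻¹)))

theorem toGL_conjSL (γ : GL (Fin 2) F) (y : SL F) :
    SpecialLinearGroup.toGL (conjSL γ y) = γ * SpecialLinearGroup.toGL y * γ⁻¹ := Units.ext rfl

theorem sl2Perm_conjSL (γ : GL (Fin 2) F) (y : SL F) :
    sl2Perm F (conjSL γ y) = gl2Perm F γ * sl2Perm F y * (gl2Perm F γ)⁻¹ := by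
  rw [P3.sl2Perm_eq, toGL_conjSL, map_mul, map_mul, map_inv, P3.sl2Perm_eq]

theorem conjSL_inv (γ : GL (Fin 2) F) (y : SL F) : conjSL γ⁻¹ (conjSL γ y) = y :=
  SpecialLinearGroup.toGL_injective (by rw [toGL_conjSL, toGL_conjSL]; group)

/-- A permutation normalizing `PSL₂(F)` and fixing `∞, 0, 1` is a field automorphism. -/
theorem exists_ringAut [Finite F] (ho : Odd (Nat.card F)) {τ : Equiv.Perm (OnePoint F)}
    (hτ : ∀ y, ∃ y', τ * sl2Perm F y * τ⁻¹ = sl2Perm F y') (h1 : τ ∞ = ∞)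
    (h2 : τ (0 : F) = (0 : F)) (h3 : τ (1 : F) = (1 : F)) :
    ∃ σ : RingAut F, ∀ x : F, τ x = (σ x : F) := by
  have hex : ∀ x : F, ∃ z : F, (z : OnePoint F) = τ x := fun x =>
    ne_infty_iff_exists.1 fun e => coe_ne_infty x (τ.injective (e.trans h1.symm))
  choose f hf using hex
  have f0 : f 0 = 0 := coe_eq_coe.1 ((hf 0).trans h2)
  have f1 : f 1 = 1 := coe_eq_coe.1 ((hf 1).trans h3)
  have finj : Function.Injective f := fun a b e =>
    coe_eq_coe.1 (τ.injective (by rw [← hf, ← hf, e]))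
  have key : ∀ y y', τ * sl2Perm F y * τ⁻¹ = sl2Perm F y' → ∀ a, τ (sl2Perm F y a) =
      sl2Perm F y' (τ a) := fun y y' e a => by rw [← e]; simp
  have add : ∀ x a, f (x + a) = f x + f a := by
    intro x a
    by_cases a0 : a = 0
    · simp [a0, f0]
    obtain ⟨y', e⟩ := hτ (uni a)
    have e1 := key _ _ e
    obtain ⟨b, c, rfl⟩ := eq_uni_mul_dia (y := y') (fix_infty.1 (by
      have := e1 ∞
      rwa [h1, fix_infty.2 rfl, h1, eq_comm] at this))
    have e2 : ∀ x, f (x + a) = c * c * f x + b := fun x => by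
      have := e1 x
      rwa [uni_act, ← hf, ← hf, map_mul, Equiv.Perm.mul_apply, dia_act, uni_act, coe_eq_coe] at this
    have e3 : (c : F) * c = 1 := by
      by_contra hc
      obtain ⟨z, hz⟩ := Finite.surjective_of_injective finj (b / (1 - c * c))
      have h4 : f (z + a) = f z := by
        have h5 := div_mul_cancel₀ b (sub_ne_zero.2 (Ne.symm hc))
        rw [e2, hz]
        linear_combination -h5
      exact a0 (by simpa using finj h4)
    have e4 := e2 0
    rw [zero_add, f0, mul_zero, zero_add] at e4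
    rw [e2, e3, one_mul, e4]
  have sqm : ∀ c x, f (c * c * x) = f (c * c) * f x := by
    intro c x
    by_cases c0 : c = 0
    · simp [c0, f0]
    obtain ⟨y', e⟩ := hτ (dia (Units.mk0 c c0))
    have e1 := key _ _ e
    obtain ⟨d, rfl⟩ := eq_dia (y := y') (fix_infty.1 (by
      have := e1 ∞
      rwa [h1, fix_infty.2 rfl, h1, eq_comm] at this)) (fix_zero.1 (by
      have := e1 (0 : F)
      rwa [h2, fix_zero.2 rfl, h2, eq_comm] at this))
    have e2 : ∀ x, f (c * c * x) = d * d * f x := fun x => by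
      have := e1 x
      rwa [dia_act, ← hf, ← hf, dia_act, coe_eq_coe] at this
    have e4 := e2 1
    rw [mul_one, f1, mul_one] at e4
    rw [e2, e4]
  let σ : F →+* F :=
    { toFun := f, map_one' := f1, map_zero' := f0, map_add' := add
      map_mul' := fun c x => by
        obtain ⟨a, b, rfl⟩ := P3.exists_sq_add_sq ho c
        rw [add_mul, add, add, sqm, sqm, add_mul] }
  exact ⟨RingEquiv.ofBijective σ (Finite.injective_iff_bijective.1 finj), fun x => (hf x).symm⟩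

/-- The entrywise action of a field automorphism. -/
abbrev mapSL (σ : RingAut F) : SL F →* SL F := SpecialLinearGroup.map (σ : F →+* F)

theorem mapSL_e (σ : RingAut F) (y : SL F) (i j : Fin 2) : mapSL σ y i j = σ (y i j) := rfl

theorem conj_ringAut {τ : Equiv.Perm (OnePoint F)} {σ : RingAut F} (h1 : τ ∞ = ∞)
    (h : ∀ x : F, τ x = (σ x : F)) (y : SL F) : τ * sl2Perm F y * τ⁻¹ = sl2Perm F (mapSL σ y) := by
  rw [mul_inv_eq_iff_eq_mul]
  ext a
  simp only [Equiv.Perm.mul_apply]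
  induction a using OnePoint.rec with
  | infty =>
    rw [h1, sl2Perm_infty, sl2Perm_infty]
    simp only [mapSL_e, map_eq_zero]
    split_ifs
    · exact h1
    · rw [h, map_div₀]
  | coe c =>
    rw [h, sl2Perm_some, sl2Perm_some]
    simp only [mapSL_e, ← map_mul, ← map_add, map_eq_zero]
    split_ifs
    · exact h1
    · rw [h, map_div₀]

theorem LM.tM {M L : Subgroup G} {t : G} {q : ℕ} (h : LM M L t q) : t ∈ M :=
  (h.cent.ge (mem_zpowers t)).1

theorem LM.tL {M L : Subgroup G} {t : G} {q : ℕ} (h : LM M L t q) : L ≤ 𝐂[t] :=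
  mem_cent_iff_cent1.1 (h.cent.ge (mem_zpowers t)).2

theorem mem_zpowers_invol {t a : G} (tt : t * t = 1) : a ∈ zpowers t ↔ a = 1 ∨ a = t := by
  constructor
  · intro h
    obtain ⟨n, rfl⟩ := mem_zpowers_iff.1 h
    obtain ⟨m, rfl | rfl⟩ := Int.even_or_odd' n
    · left; rw [_root_.zpow_mul, zpow_two, tt, _root_.one_zpow]
    · right; rw [_root_.zpow_add, _root_.zpow_mul, zpow_two, tt, _root_.one_zpow, zpow_one, one_mul]
  · rintro (rfl | rfl)
    exacts [one_mem _, mem_zpowers _]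

theorem LM.le_cent {M L : Subgroup G} {t : G} {q : ℕ} (h : LM M L t q) : M ≤ 𝐂[t] := fun m hm => by
  have h1 : m * t * m⁻¹ ∈ zpowers t := by
    rw [← h.cent]
    refine mem_inf.2 ⟨mul_mem (mul_mem hm h.tM) (inv_mem hm), ?_⟩
    rw [← conj_eq_of_mem_norm (h.normal.2 hm), cent_conj]
    exact conj_mem_conj (h.cent.ge (mem_zpowers t)).2 m
  rcases (mem_zpowers_invol h.tt).1 h1 with e | e
  · have : t = 1 := by simpa using e
    simp [this, cent1_one]
  · exact mem_cent1_iff_conj.2 e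

theorem LM.mem_sup {M L : Subgroup G} {t : G} {q : ℕ} (h : LM M L t q) {g : G} :
    g ∈ L ⊔ zpowers t ↔ g ∈ L ∨ t * g ∈ L := by
  rw [mem_sup_of_norm' (zpowers_le.2 (cent_le_norm L (mem_cent_iff_cent1.2 h.tL)))]
  constructor
  · rintro ⟨z, hz, a, ha, rfl⟩
    rcases (mem_zpowers_invol h.tt).1 hz with rfl | rfl
    · left; simpa using ha
    · right; rwa [← mul_assoc, h.tt, one_mul]
  · rintro (a | a)
    · exact ⟨1, one_mem _, g, a, one_mul g⟩
    · exact ⟨t, mem_zpowers t, _, a, by rw [← mul_assoc, h.tt, one_mul]⟩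

theorem LM.exists_pow {M L : Subgroup G} {t : G} {q : ℕ} (h : LM M L t q) {g : G} (hg : g ∈ M) :
    ∃ N, Odd N ∧ g ^ N ∈ L ⊔ zpowers t := by
  have h1 : M ≤ 𝐍((L ⊔ zpowers t : Subgroup G)) := fun m hm => by
    rw [← conj_eq_self_iff, conj_sup, conj_eq_of_mem_norm (h.normal.2 hm), ← zpowers_conj,
      mem_cent1_iff_conj.1 (h.le_cent hm)]
  haveI := (normal_subgroupOf_iff_le_normalizer (sup_le h.normal.1 (zpowers_le.2 h.tM))).2 h1
  exact ⟨_, h.odd, ((L ⊔ zpowers t).subgroupOf M).pow_index_mem ⟨g, hg⟩⟩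

/-- A model: `L` is covered by `SL₂(F)` and `M` acts compatibly on the projective line. -/
structure Mod (M L : Subgroup G) (t : G) (π : SL F →* G) (ψ : G → Equiv.Perm (OnePoint F)) :
    Prop where
  cov : Cov π L
  lm : LM M L t (Nat.card F)
  mul : ∀ a ∈ M, ∀ b ∈ M, ψ (a * b) = ψ a * ψ b
  psi : ∀ y, ψ (π y) = sl2Perm F y
  psit : ψ t = 1

theorem exists_mod [Finite G] {M L : Subgroup G} {t : G} {π : SL F →* G} (h : Cov π L)
    (lm : LM M L t (Nat.card F)) : ∃ ψ, Mod M L t π ψ := by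
  classical
  haveI := h.finite
  obtain ⟨p, hc⟩ := CharP.exists F
  have hp := CharP.char_is_prime F p
  obtain ⟨k, l, e⟩ := exists_ep lm.l2.mod
  have hP : IsSyl p (PU π) L := by
    refine ⟨h.PU_le, Agent.L.IsElementaryAbelian.isPGroup h.eaP, fun hd => ?_⟩
    have h1 := card_mul_relIndex' h.PU_le
    rw [h.card_PU, h.cardL rfl e, mul_comm (4 * k * l)] at h1
    rw [Nat.eq_of_mul_eq_mul_left Nat.card_pos h1] at hd
    let _ := Fintype.ofFinite F
    refine hp.ne_one (Nat.eq_one_of_dvd_coprimes (e.cop_qk.mul_right e.cop_ql) ?_ hd)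
    rw [Nat.card_eq_fintype_card, ← CharP.cast_eq_zero_iff F p]
    exact FiniteField.cast_card_eq_zero F
  choose y hy using exists_infty (F := F)
  let E : OnePoint F → Subgroup G := fun a => PU π ^ᵍ π (y a)
  have key : ∀ a b : SL F, PU π ^ᵍ π a = PU π ^ᵍ π b ↔ sl2Perm F a ∞ = sl2Perm F b ∞ := fun a b => by
    rw [eq_comm, conj_eq_iff, conj_conj, eq_comm, conj_eq_self_iff, ← map_inv, ← map_mul,
      h.mem_norm_PU, ← fix_infty, map_mul, map_inv, Equiv.Perm.mul_apply,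
      Equiv.Perm.inv_eq_iff_eq]
  have Einj : Function.Injective E := fun a b e => by rwa [key, hy, hy] at e
  have Econj : ∀ g a, E a ^ᵍ π g = E (sl2Perm F g a) := fun g a => by
    rw [conj_conj, ← map_mul, key, hy, map_mul, Equiv.Perm.mul_apply, hy]
  have Esurj : ∀ m ∈ M, ∀ a, ∃ b, E b = E a ^ᵍ m := fun m hm a => by
    obtain ⟨c, hc, e'⟩ := ((hP.conj_of_mem_norm
      (le_normalizer (h.mem (y a)))).conj_of_mem_norm (lm.normal.2 hm)).exists_conj_eq hp hP
    obtain ⟨γ, rfl⟩ := h.exists_eq hc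
    exact ⟨sl2Perm F γ ∞, ((key _ _).2 (hy _)).trans e'⟩
  choose f hf using Esurj
  have fmul : ∀ a ha b hb x, f (a * b) (mul_mem ha hb) x = f a ha (f b hb x) := fun a ha b hb x =>
    Einj (by rw [hf, hf, hf, conj_conj (E x)])
  have fone : ∀ m hm x, m ∈ 𝐂(L) → f m hm x = x := fun m hm x hc => Einj (by
    rw [hf, conj_eq_self_iff]
    exact cent_le_norm _ (cent_anti (conj_le_of_mem h.PU_le (h.mem _)) hc))
  let ψ0 : ∀ m ∈ M, Equiv.Perm (OnePoint F) := fun m hm =>
    { toFun := f m hm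
      invFun := f m⁻¹ (inv_mem hm)
      left_inv := fun x => by rw [← fmul]; exact fone _ _ _ (by simp)
      right_inv := fun x => by rw [← fmul]; exact fone _ _ _ (by simp) }
  refine ⟨fun m => if hm : m ∈ M then ψ0 m hm else 1, h, lm, fun a ha b hb => ?_, fun g => ?_, ?_⟩
  · simp only [dif_pos ha, dif_pos hb, dif_pos (mul_mem ha hb)]
    exact Equiv.ext (fmul a ha b hb)
  · simp only [dif_pos (lm.normal.1 (h.mem g))]
    exact Equiv.ext fun x => Einj ((hf _ _ _).trans (Econj g x))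
  · simp only [dif_pos lm.tM]
    exact Equiv.ext fun x => fone _ _ _ (mem_cent_iff_cent1.2 lm.tL)

namespace Mod

variable [Finite G] {M L : Subgroup G} {t : G} {π : SL F →* G} {ψ : G → Equiv.Perm (OnePoint F)}
  (h : Mod M L t π ψ)
include h

theorem piM (y : SL F) : π y ∈ M := h.lm.normal.1 (h.cov.mem y)

theorem one : ψ 1 = 1 := by rw [← map_one π, h.psi, map_one]

theorem inv {a : G} (ha : a ∈ M) : ψ a⁻¹ = (ψ a)⁻¹ :=
  eq_inv_of_mul_eq_one_left (by rw [← h.mul _ (inv_mem ha) _ ha, inv_mul_cancel, h.one])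

theorem pow {a : G} (ha : a ∈ M) (n : ℕ) : ψ (a ^ n) = ψ a ^ n := by
  induction n with
  | zero => simp [h.one]
  | succ n ih => rw [pow_succ, h.mul _ (pow_mem ha n) _ ha, ih, pow_succ]

theorem conj {a b : G} (ha : a ∈ M) (hb : b ∈ M) : ψ (a * b * a⁻¹) = ψ a * ψ b * (ψ a)⁻¹ := by
  rw [h.mul _ (mul_mem ha hb) _ (inv_mem ha), h.mul _ ha _ hb, h.inv ha]

theorem inj {x y : SL F} (e : sl2Perm F x = sl2Perm F y) : π x = π y := by
  rw [h.cov.eq_iff, ← P3.ker_sl2Perm, MonoidHom.mem_ker, map_mul, map_inv, e, inv_mul_cancel]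

theorem norm {m : G} (hm : m ∈ M) (y : SL F) :
    ∃ y', π y' = m * π y * m⁻¹ ∧ ψ m * sl2Perm F y * (ψ m)⁻¹ = sl2Perm F y' := by
  obtain ⟨y', e⟩ := h.cov.exists_eq ((mem_normalizer_iff.1 (h.lm.normal.2 hm) _).1 (h.cov.mem y))
  exact ⟨y', e, by rw [← h.psi, ← h.psi, e, h.conj hm (h.piM y)]⟩

theorem ker {m : G} (hm : m ∈ M) (e : ψ m = 1) : m ∈ zpowers t := by
  rw [← h.lm.cent]
  refine ⟨hm, mem_cent.2 fun a ha => ?_⟩
  obtain ⟨y, rfl⟩ := h.cov.exists_eq ha
  obtain ⟨y', e1, e2⟩ := h.norm hm y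
  rw [e, one_mul, inv_one, mul_one] at e2
  rw [← h.inj e2] at e1
  exact eq_mul_inv_iff_mul_eq.1 e1

theorem recoord (γ : GL (Fin 2) F) :
    Mod M L t (π.comp (conjSL γ⁻¹)) fun m => gl2Perm F γ * ψ m * (gl2Perm F γ)⁻¹ where
  cov :=
    { range := by
        rw [← h.cov.range]
        exact le_antisymm (by rintro _ ⟨y, rfl⟩; exact ⟨_, rfl⟩)
          (by rintro _ ⟨y, rfl⟩; exact ⟨conjSL γ y, congrArg π (conjSL_inv γ y)⟩)
      ker := by
        ext y
        rw [MonoidHom.mem_ker, MonoidHom.comp_apply, h.cov.eq_one_iff, ← P3.ker_sl2Perm,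
          MonoidHom.mem_ker, MonoidHom.mem_ker, sl2Perm_conjSL, conj_eq_one_iff]
      odd := h.cov.odd }
  lm := h.lm
  mul := fun a ha b hb => by rw [h.mul a ha b hb]; group
  psi := fun y => by rw [MonoidHom.comp_apply, h.psi, sl2Perm_conjSL, map_inv]; group
  psit := by simp [h.psit]

theorem exists_aut {m : G} (hm : m ∈ M) (h1 : ψ m ∞ = ∞) (h2 : ψ m (0 : F) = (0 : F))
    (h3 : ψ m (1 : F) = (1 : F)) : ∃ σ : RingAut F, ∀ x : F, ψ m x = (σ x : F) :=
  haveI := h.cov.finite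
  exists_ringAut h.cov.odd (fun y => (h.norm hm y).imp fun _ a => a.2) h1 h2 h3

theorem conj_aut {m : G} (hm : m ∈ M) (h1 : ψ m ∞ = ∞) {σ : RingAut F}
    (hσ : ∀ x : F, ψ m x = (σ x : F)) (y : SL F) : m * π y * m⁻¹ = π (mapSL σ y) := by
  obtain ⟨y', e1, e2⟩ := h.norm hm y
  rw [← e1]
  exact h.inj (e2.symm.trans (conj_ringAut h1 hσ y))

theorem exists_fix {m : G} (hm : m ∈ M) : ∃ y, ψ (π y * m) ∞ = ∞ ∧
    ψ (π y * m) (0 : F) = (0 : F) ∧ ψ (π y * m) (1 : F) = (1 : F) := by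
  haveI := h.cov.finite
  obtain ⟨y, h1, h2⟩ := exists_two ((ψ m).injective.ne (infty_ne_coe (0 : F)))
  have hm' := mul_mem (h.piM y) hm
  have e : ψ (π y * m) = sl2Perm F y * ψ m := by rw [h.mul _ (h.piM y) _ hm, h.psi]
  replace h1 : ψ (π y * m) ∞ = ∞ := by rw [e]; exact h1
  replace h2 : ψ (π y * m) (0 : F) = (0 : F) := by rw [e]; exact h2
  generalize hg : π y * m = g at hm' h1 h2
  obtain ⟨c, hc⟩ := ne_infty_iff_exists.1 (show ψ g (1 : F) ≠ ∞ from fun a =>
    coe_ne_infty _ ((ψ g).injective (a.trans h1.symm)))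
  have c0 : c ≠ 0 := fun a => one_ne_zero (coe_eq_coe.1 ((ψ g).injective (by rw [← hc, h2, a])))
  by_cases hs : IsSquare c
  · obtain ⟨d, rfl⟩ := hs
    have d0 : d ≠ 0 := left_ne_zero_of_mul c0
    refine ⟨dia (Units.mk0 d d0)⁻¹ * y, ?_⟩
    rw [map_mul, mul_assoc, hg, h.mul _ (h.piM _) _ hm', h.psi]
    simp only [Equiv.Perm.mul_apply, h1, h2, ← hc, dia_act]
    refine ⟨fix_infty.2 rfl, by simp, ?_⟩
    congr 1
    simp only [Units.val_inv_eq_inv_val, Units.val_mk0]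
    field_simp
  · exfalso
    obtain ⟨γ, g1, g2⟩ := P3.exists_gl2_affine c⁻¹ 0 (inv_ne_zero c0)
    obtain ⟨σ, hσ⟩ := exists_ringAut h.cov.odd (τ := gl2Perm F γ * ψ g) (fun z => by
      obtain ⟨z', -, e2⟩ := h.norm hm' z
      exact ⟨conjSL γ z', by rw [sl2Perm_conjSL, ← e2]; group⟩) (by simp [h1, g1])
      (by simp [h2, g2]) (by simp [← hc, g2, c0])
    have e2 : ∀ x : F, ψ g x = (c * σ x : F) := fun x => (gl2Perm F γ).injective (by
      rw [g2, ← Equiv.Perm.mul_apply, hσ]; simp [c0])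
    let _ := Fintype.ofFinite F
    have hσs : ∀ x, quadraticChar F (σ x) = quadraticChar F x := fun x => by
      have : IsSquare (σ x) ↔ IsSquare x :=
        ⟨fun a => by simpa using a.map σ.symm, fun a => a.map σ⟩
      simp only [quadraticChar_apply, quadraticCharFun, map_eq_zero, this]
    have e3 : ∀ i : ℕ, ∃ x : F, (ψ g ^ i) (1 : F) = x ∧ quadraticChar F x = (-1) ^ i := fun i => by
      induction i with
      | zero => exact ⟨1, rfl, by simp⟩
      | succ i ih =>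
        obtain ⟨x, hx, hx'⟩ := ih
        refine ⟨c * σ x, by rw [pow_succ', Equiv.Perm.mul_apply, hx, e2], ?_⟩
        rw [map_mul, hσs, hx', quadraticChar_neg_one_iff_not_isSquare.2 hs, pow_succ']
    obtain ⟨N, hN, hgN⟩ := h.lm.exists_pow hm'
    obtain ⟨z, hz⟩ : ∃ z, ψ g ^ N = sl2Perm F z := by
      rw [← h.pow hm']
      rcases h.lm.mem_sup.1 hgN with a | a <;> obtain ⟨z, hz⟩ := h.cov.exists_eq a <;>
        refine ⟨z, ?_⟩
      · rw [← hz, h.psi]
      · rw [← h.psi, hz, h.mul _ h.lm.tM _ (pow_mem hm' N), h.psit, one_mul]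
    obtain ⟨a, rfl⟩ := eq_dia (y := z)
      (fix_infty.1 (hz ▸ Equiv.Perm.pow_apply_eq_self_of_apply_eq_self h1 N))
      (fix_zero.1 (hz ▸ Equiv.Perm.pow_apply_eq_self_of_apply_eq_self h2 N))
    obtain ⟨x, hx, hx'⟩ := e3 N
    rw [hz, dia_act, mul_one, coe_eq_coe] at hx
    rw [hN.neg_one_pow, quadraticChar_neg_one_iff_not_isSquare] at hx'
    exact hx' ⟨a, hx.symm⟩

end Mod

end Cfsg.Agent.P7
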