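/-
Coordinates adapted to a four-group and its group of field automorphisms.
-/
import Cfsg.Agent.P7.L2C

set_option autoImplicit false
set_option linter.unusedSectionVars false

namespace Cfsg.Agent.P7

open Matrix Subgroup Cfsg Cfsg.Agent Cfsg.Agent.FT Cfsg.Agent.H4.SL2 Cfsg.Agent.P4 OnePoint
open Cfsg.Agent.L (mkSL2 sl2Perm sl2Perm_infty sl2Perm_some)
open Cfsg.Agent.P3 (gl2Perm gl2Perm_infty gl2Perm_some)
open Cfsg.Agent.P5 (V4 Tri Hyp)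

universe u

variable {G : Type u} [Group G] {F : Type*} [Field F]

theorem odd_exp {p n q : ℕ} (hn : q = p ^ n) (h : q % 8 = 3 ∨ q % 8 = 5) : Odd n := by
  by_contra hne
  obtain ⟨m, rfl⟩ := Nat.not_odd_iff_even.1 hne
  rw [hn, pow_add, Nat.mul_mod] at h
  have : p ^ m % 8 < 8 := Nat.mod_lt _ (by norm_num)
  generalize p ^ m % 8 = r at *
  interval_cases r <;> omega

/-- A quaternion group and an element of order three over the prime field. -/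
theorem Cov.exists_quat {π : SL F →* G} {L : Subgroup G} (h : Cov π L) :
    ∃ i j w : SL F, V4 (π i) (π j) ∧ Tri (π w) (π i) (π j) ∧ π w ^ 3 = 1 ∧
      ∀ σ : RingAut F, mapSL σ i = i ∧ mapSL σ j = j ∧ mapSL σ w = w := by
  haveI := h.finite
  obtain ⟨p, hc⟩ := CharP.exists F
  haveI : NeZero p := ⟨(CharP.char_is_prime F p).ne_zero⟩
  obtain ⟨a, b, hab⟩ := CharP.sq_add_sq F p (-1)
  push_cast at hab
  have h2 := h.two_ne
  obtain ⟨c, hc2⟩ : ∃ c : F, c * 2 = 1 := ⟨2⁻¹, inv_mul_cancel₀ h2⟩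
  let i : SL F := mkSL2 0 1 (-1) 0 (by ring)
  let j : SL F := mkSL2 a b b (-a) (by linear_combination -hab)
  let w : SL F := mkSL2 ((1 + a + b) * c) ((1 + b - a) * c) ((-1 + b - a) * c) ((1 - a - b) * c)
    (by linear_combination (-2 * c ^ 2) * hab + (c * 2 + 1) * hc2)
  have e1 : w * i = j * w := by
    apply sl_ext <;> simp only [i, j, w, sle]
    all_goals first | linear_combination (-c) * hab | linear_combination c * hab
  have e2 : w * j = i * j * w := by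
    apply sl_ext <;> simp only [i, j, w, sle]
    all_goals ring
  refine ⟨i, j, w, ⟨?_, ?_, ?_, ?_, ?_, ?_⟩, ⟨?_, ?_⟩, ?_, fun σ => ?_⟩
  · rw [Ne, h.eq_one_iff, mem_center_iff']; simp [i, sle]
  · rw [Ne, h.eq_one_iff, mem_center_iff']
    simp only [j, sle]
    rintro ⟨e3, -, e4⟩
    have e5 : (a : F) = 0 := mul_left_cancel₀ h2 (by linear_combination e4)
    simp [e3, e5] at hab
  · rw [Ne, h.eq_iff, mem_center_iff']
    simp only [i, j, sle]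
    rintro ⟨e3, -, e4⟩
    have e5 : (b : F) = 0 := mul_left_cancel₀ h2 (by linear_combination -e4)
    have e6 : (a : F) = 0 := by linear_combination e3
    simp [e5, e6] at hab
  · rw [← map_mul, h.eq_one_iff]; exact sq_mem_center (by simp [tr, i, sle])
  · rw [← map_mul, h.eq_one_iff]; exact sq_mem_center (by simp [tr, j, sle])
  · change π i * π j = π j * π i
    rw [← map_mul, ← map_mul, h.eq_iff, mem_center_iff']
    simp only [i, j, sle]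
    exact ⟨by ring, by ring, by ring⟩
  · rw [← map_mul, e1]; simp
  · rw [← map_mul, e2]; simp
  · rw [← map_pow, h.eq_one_iff, pow_three, mem_center_iff']
    simp only [w, sle]
    refine ⟨?_, ?_, ?_⟩
    · linear_combination (2 * c ^ 3 * (1 + b - a)) * hab
    · linear_combination (2 * c ^ 3 * (-1 + b - a)) * hab
    · linear_combination (4 * c ^ 3 * (a + b)) * hab
  · have hσ : σ c = c := mul_right_cancel₀ h2 (by
      rw [hc2, ← map_ofNat σ 2, ← map_mul, hc2, map_one])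
    refine ⟨?_, ?_, ?_⟩ <;> apply sl_ext <;> simp [mapSL_e, i, j, w, sle, hσ]

variable [DecidableEq F]

theorem center_of_three {y : SL F} {a b c : OnePoint F} (h : a ≠ b) (h1 : a ≠ c) (h2 : b ≠ c)
    (ha : sl2Perm F y a = a) (hb : sl2Perm F y b = b) (hc : sl2Perm F y c = c) :
    y ∈ center (SL F) := by
  obtain ⟨γ, g1, g2, g3⟩ := exists_three h h1 h2
  have h3 := eq_center_of_three (y := conjSL γ y) (by rw [sl2Perm_conjSL, ← g1]; simp [ha])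
    (by rw [sl2Perm_conjSL, ← g2]; simp [hb]) (by rw [sl2Perm_conjSL, ← g3]; simp [hc])
  rwa [← P3.ker_sl2Perm, MonoidHom.mem_ker, sl2Perm_conjSL, conj_eq_one_iff, ← MonoidHom.mem_ker,
    P3.ker_sl2Perm] at h3

theorem isSquare_of_fix {z : SL F} (hz : tr z = 0) {a : OnePoint F} (ha : sl2Perm F z a = a) :
    IsSquare (-1 : F) := by
  obtain ⟨y, rfl⟩ := exists_infty a
  have h1 : (y⁻¹ * z * y⁻¹⁻¹) 1 0 = 0 := fix_infty.1 (by simp [ha])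
  have h2 := tr_conj y⁻¹ z
  have hd := det_eq (y⁻¹ * z * y⁻¹⁻¹)
  rw [hz, tr] at h2
  generalize y⁻¹ * z * y⁻¹⁻¹ = w at *
  exact ⟨w 0 0, by rw [h1] at hd; linear_combination hd - w 0 0 * h2⟩

theorem exists_fix_of_isSquare {z : SL F} (hz : tr z = 0) (h : IsSquare (-1 : F)) :
    ∃ a, sl2Perm F z a = a := by
  by_cases hc : z 1 0 = 0
  · exact ⟨∞, fix_infty.2 hc⟩
  obtain ⟨i, hi⟩ := h
  have hd := det_eq z
  have h1 : z 1 1 = -z 0 0 := by rw [tr] at hz; linear_combination hz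
  have i0 : i ≠ 0 := fun e => by simp [e] at hi
  have h2 : z 1 0 * ((z 0 0 + i) / z 1 0) + z 1 1 = i := by rw [h1]; field_simp; ring
  refine ⟨((z 0 0 + i) / z 1 0 : F), ?_⟩
  rw [sl2Perm_some, h2, if_neg i0, coe_eq_coe]
  rw [h1] at hd
  field_simp
  linear_combination -hd + hi

theorem Cov.not_both_fix [Finite G] {π : SL F →* G} {L : Subgroup G} (h : Cov π L) {x y : SL F}
    (hV : V4 (π x) (π y)) {a : OnePoint F} (hx : sl2Perm F x a = a) (hy : sl2Perm F y a = a) :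
    False := by
  rcases h.commute_cases hV.comm with h1 | ⟨z, hz, z1, e⟩
  · obtain ⟨-, h2, -⟩ := (h.cases hV.t1).resolve_right fun a => h.tr_ne_of_invol hV.t1 hV.tt a.1
    exact (eq_of_invol_cyclic h2 (h.self_mem x) hV.t1 hV.tt (h.mem_Ab.2 h1) hV.ss).elim hV.s1
      hV.ts.symm
  · obtain ⟨c, rfl⟩ := exists_infty a
    have h1 : (c⁻¹ * x * c) 1 0 = 0 := fix_infty.1 (by simp [hx])
    have h2 : (c⁻¹ * y * c) 1 0 = 0 := fix_infty.1 (by simp [hy])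
    have h3 : (c⁻¹ * y * c) * (c⁻¹ * x * c) = z * (c⁻¹ * x * c) * (c⁻¹ * y * c) := by
      calc _ = c⁻¹ * (y * x * y⁻¹) * y * c := by group
        _ = c⁻¹ * z * x * y * c := by rw [e]; group
        _ = _ := by rw [mem_center_iff.1 hz c⁻¹]; group
    have d1 := det_eq (c⁻¹ * x * c)
    have d2 := det_eq (c⁻¹ * y * c)
    generalize c⁻¹ * x * c = x' at *
    generalize c⁻¹ * y * c = y' at *
    obtain ⟨z0, -, -⟩ := mem_center_iff'.1 hz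
    have h4 := congrArg (fun w : SL F => w 0 0) h3
    simp only [sle, h1, h2, z0, (center_entry hz z1).1] at h4
    rw [h1] at d1
    rw [h2] at d2
    exact h.two_ne (by linear_combination (x' 1 1 * y' 1 1) * h4 - 2 * (y' 0 0 * y' 1 1) * d1 - 2 * d2)

/-- The data of a complement `Φ` centralizing `⟨s, s0, x⟩`. -/
structure PhiD (M L : Subgroup G) (t : G) (Φ : Subgroup G) (n : ℕ) (s s0 x : G) : Prop where
  le : Φ ≤ M
  dec : ∀ g ∈ M, ∃ a ∈ L, ∃ φ ∈ Φ, g = a * φ ∨ g = t * a * φ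
  pow : ∀ φ ∈ Φ, φ ^ n = 1
  cs : Φ ≤ 𝐂[s]
  cs0 : Φ ≤ 𝐂[s0]
  cx : Φ ≤ 𝐂[x]
  xL : x ∈ L
  tri : Tri x s s0
  x3 : x ^ 3 = 1

namespace Mod

variable [Finite G] {M L : Subgroup G} {t : G} {π : SL F →* G} {ψ : G → Equiv.Perm (OnePoint F)}
  (h : Mod M L t π ψ)
include h

theorem exists_hom {Φ : Subgroup G} (hM : Φ ≤ M) (h1 : ∀ φ ∈ Φ, ψ φ ∞ = ∞)
    (h2 : ∀ φ ∈ Φ, ψ φ (0 : F) = (0 : F)) (h3 : ∀ φ ∈ Φ, ψ φ (1 : F) = (1 : F)) :
    ∃ ρ : Φ →* RingAut F, (∀ (φ : Φ) (x : F), ψ φ x = (ρ φ x : F)) ∧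
      ∀ φ, ρ φ = 1 → (φ : G) ∈ zpowers t := by
  choose σ hσ using fun φ : Φ => h.exists_aut (hM φ.2) (h1 φ φ.2) (h2 φ φ.2) (h3 φ φ.2)
  refine ⟨MonoidHom.mk' σ fun a b => RingEquiv.ext fun x => coe_eq_coe.1 ?_, hσ, fun φ e => ?_⟩
  · rw [← hσ, Subgroup.coe_mul, h.mul _ (hM a.2) _ (hM b.2), Equiv.Perm.mul_apply, hσ, hσ]
    rfl
  · refine h.ker (hM φ.2) (Equiv.ext fun a => ?_)
    induction a using OnePoint.rec with
    | infty => exact h1 φ φ.2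
    | coe c => rw [hσ, show σ φ = 1 from e]; rfl

theorem exists_phi {p n : ℕ} (hp : p.Prime) [CharP F p] (hn : Nat.card F = p ^ n) {s s0 : G}
    (hV : V4 s s0) (hs : s ∈ L) (hs0 : s0 ∈ L) : ∃ Φ x, PhiD M L t Φ n s s0 x ∧
      ∃ a b c, a ≠ b ∧ a ≠ c ∧ b ≠ c ∧ ∀ φ ∈ Φ, ψ φ a = a ∧ ψ φ b = b ∧ ψ φ c = c := by
  haveI := h.cov.finite
  let St : Subgroup G :=
    { carrier := {m | m ∈ M ∧ ψ m ∞ = ∞ ∧ ψ m (0 : F) = (0 : F) ∧ ψ m (1 : F) = (1 : F)}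
      one_mem' := ⟨one_mem _, by simp [h.one]⟩
      mul_mem' := fun {a b} ha hb => ⟨mul_mem ha.1 hb.1, by simp [h.mul a ha.1 b hb.1, ha.2, hb.2]⟩
      inv_mem' := fun {a} ha => ⟨inv_mem ha.1, by
        simp [h.inv ha.1, Equiv.symm_apply_eq, ha.2]⟩ }
  obtain ⟨ρ, hρ, hρ1⟩ := h.exists_hom (Φ := St) (fun _ a => a.1) (fun _ a => a.2.1)
    (fun _ a => a.2.2.1) fun _ a => a.2.2.2
  obtain ⟨hcyc, hcard⟩ := ringAut_cyclic hp hn
  haveI : IsMulCommutative St := ⟨⟨commutative_of_cyclic_center_quotient ρ fun a ha =>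
    mem_center_iff.2 fun b => Subtype.ext (mem_cent1.1 (cent1_le_cent1_of_mem_zpowers (hρ1 a ha)
      (h.lm.le_cent b.2.1))).symm⟩⟩
  let Φ := Agent.L.powKerIn St n
  have on := odd_exp hn h.lm.l2.mod
  have tS : t ∈ St := ⟨h.lm.tM, by simp [h.psit]⟩
  have hdec : ∀ g ∈ M, ∃ a ∈ L, ∃ φ ∈ Φ, g = a * φ ∨ g = t * a * φ := fun g hg => by
    obtain ⟨y, hy⟩ := h.exists_fix hg
    have h1 : π y * g ∈ St := ⟨mul_mem (h.piM y) hg, hy⟩
    have h2 := hρ1 (⟨_, h1⟩ ^ n) (by rw [map_pow, ← hcard, pow_card_eq_one'])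
    refine ⟨_, inv_mem (h.cov.mem y), ?_⟩
    rcases (mem_zpowers_invol h.lm.tt).1 h2 with e | e
    · exact ⟨_, ⟨h1, e⟩, Or.inl (by group)⟩
    · have hc : Commute t (π y * g) := mem_cent1.1 (h.lm.le_cent h1.1)
      refine ⟨t * (π y * g), ⟨mul_mem tS h1, ?_⟩, Or.inr ?_⟩
      · obtain ⟨m, hm⟩ := on
        rw [hc.mul_pow, show (π y * g) ^ n = t from e, hm, pow_succ, pow_mul, sq, h.lm.tt, one_pow,
          one_mul, h.lm.tt]
      · rw [mul_assoc, ← mul_assoc _ t, ← mem_cent1.1 (h.lm.tL (inv_mem (h.cov.mem y))),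
          mul_assoc, ← mul_assoc t t, h.lm.tt]
        group
  obtain ⟨i, j, w, hij, tri, w3, hfix⟩ := h.cov.exists_quat
  have hc : ∀ y, (∀ σ, mapSL σ y = y) → Φ ≤ 𝐂[π y] := fun y hy φ hφ =>
    mem_cent1_iff_conj.2 (by rw [h.conj_aut hφ.1.1 hφ.1.2.1 (hρ ⟨φ, hφ.1⟩), hy])
  obtain ⟨k, l, e⟩ := exists_ep h.lm.l2.mod
  have h8 : ¬ 8 ∣ 𝐨(L) := h.cov.cardL rfl e ▸ e.not_eight
  obtain ⟨g, hg, eg⟩ := IsSyl.exists_conj_eq Nat.prime_two
    ⟨V4.le_iff.2 ⟨hs, hs0⟩, hV.isPGroup, hV.not_dvd_relIndex h8 hs hs0⟩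
    ⟨V4.le_iff.2 ⟨h.cov.mem i, h.cov.mem j⟩, hij.isPGroup,
      hij.not_dvd_relIndex h8 (h.cov.mem i) (h.cov.mem j)⟩
  have gM := h.lm.normal.1 hg
  let f := (MulAut.conj g).toMonoidHom
  have finj : Function.Injective f := conj_injective g
  have eV : V2 (f (π i)) (f (π j)) = V2 s s0 := by
    refine Eq.trans ?_ eg
    rw [V2, ← Set.image_pair, ← MonoidHom.map_closure]
  obtain ⟨x, hx, trix⟩ := tri_of_eq (tri.map f) (hij.map f (by simpa [f] using hij.t1)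
    (by simpa [f] using hij.s1) (by rw [Ne, map_eq_one_iff f finj]; exact hij.ts1)) hV
    (eV ▸ V4.t_mem) (eV ▸ V4.s_mem)
  have hc' : ∀ y, (∀ σ, mapSL σ y = y) → Φ ^ᵍ g ≤ 𝐂[f (π y)] := fun y hy => by
    rw [show f (π y) = g * π y * g⁻¹ from rfl, cent1_conj]; exact conj_mono (hc y hy) g
  have hcV : Φ ^ᵍ g ≤ 𝐂(V2 s s0) := by
    rw [← eV, cent_comm, V4.le_iff]
    exact ⟨mem_cent_iff_cent1.2 (hc' i fun σ => (hfix σ).1),
      mem_cent_iff_cent1.2 (hc' j fun σ => (hfix σ).2.1)⟩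
  refine ⟨Φ ^ᵍ g, x, ⟨conj_le_of_mem (fun φ hφ => hφ.1.1) gM, fun m hm => ?_, ?_,
    hcV.trans (cent_le_cent1 V4.t_mem), hcV.trans (cent_le_cent1 V4.s_mem),
    (hc' w fun σ => (hfix σ).2.2).trans (cent1_le_cent1_of_mem_zpowers hx),
    zpowers_le.2 (mul_mem (mul_mem hg (h.cov.mem w)) (inv_mem hg)) hx, trix, ?_⟩,
    ψ g ∞, ψ g (0 : F), ψ g (1 : F), by simp, by simp, by simp, ?_⟩
  · obtain ⟨a, ha, φ, hφ, e'⟩ := hdec (g⁻¹ * m * g) (mul_mem (mul_mem (inv_mem gM) hm) gM)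
    refine ⟨g * a * g⁻¹, mul_mem (mul_mem hg ha) (inv_mem hg), _, conj_mem_conj hφ g,
      e'.imp (fun e' => ?_) fun e' => ?_⟩
    · calc m = g * (g⁻¹ * m * g) * g⁻¹ := by group
        _ = _ := by rw [e']; group
    · calc m = g * (g⁻¹ * m * g) * g⁻¹ := by group
        _ = g * t * a * φ * g⁻¹ := by rw [e']; group
        _ = _ := by rw [← mem_cent1.1 (h.lm.tL hg)]; group
  · rintro _ ⟨φ, hφ, rfl⟩
    rw [← map_pow, hφ.2, map_one]
  · obtain ⟨m, rfl⟩ := mem_zpowers_iff.1 hx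
    rw [← zpow_natCast, ← _root_.zpow_mul, mul_comm, _root_.zpow_mul, zpow_natCast, ← map_pow, w3,
      map_one, _root_.one_zpow]
  · rintro _ ⟨φ, hφ, rfl⟩
    change ψ (g * φ * g⁻¹) _ = _ ∧ ψ (g * φ * g⁻¹) _ = _ ∧ ψ (g * φ * g⁻¹) _ = _
    simp [h.conj gM hφ.1.1, hφ.1.2]

theorem comm_fix {a b : G} (ha : a ∈ M) (hb : b ∈ M) (hc : Commute a b) {x : OnePoint F}
    (hx : ψ a x = x) : ψ a (ψ b x) = ψ b x := by
  rw [← Equiv.Perm.mul_apply, ← h.mul _ ha _ hb, hc.eq, h.mul _ hb _ ha, Equiv.Perm.mul_apply, hx]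

theorem exists_good {p n : ℕ} (hp : p.Prime) [CharP F p] (hn : Nat.card F = p ^ n) {s s0 : G}
    (hV : V4 s s0) (hs : s ∈ L) (hs0 : s0 ∈ L) :
    ∃ (π' : SL F →* G) (ψ' : G → Equiv.Perm (OnePoint F)) (Φ : Subgroup G) (x : G) (xs w : SL F),
      Mod M L t π' ψ' ∧ PhiD M L t Φ n s s0 x ∧ π' xs = s ∧ π' w = s0 ∧ w 0 0 = 0 ∧ w 1 1 = 0 ∧
      (Nat.card F % 4 = 1 → Ab π' xs = HD π') ∧
      ∀ φ ∈ Φ, ψ' φ ∞ = ∞ ∧ ψ' φ (0 : F) = (0 : F) ∧ ψ' φ (1 : F) = (1 : F) := by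
  haveI := h.cov.finite
  obtain ⟨Φ, x, hΦ, a, b, c, ab, ac, bc, habc⟩ := h.exists_phi hp hn hV hs hs0
  have trz : ∀ {π' : SL F →* G}, Cov π' L → ∀ z, π' z ≠ 1 → π' z * π' z = 1 → tr z = 0 :=
    fun h' z z1 zz => tr_of_sq_mem_center (mt h'.eq_one_iff.2 z1) (by rwa [← h'.eq_one_iff, map_mul])
  obtain ⟨a0, ha1, ha2, ha3⟩ : ∃ a0, (∀ φ ∈ Φ, ψ φ a0 = a0) ∧ ψ s0 a0 ≠ a0 ∧
      (Nat.card F % 4 = 1 → ψ s a0 = a0) := by
    obtain ⟨xs, rfl⟩ := h.cov.exists_eq hs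
    obtain ⟨w, rfl⟩ := h.cov.exists_eq hs0
    let _ := Fintype.ofFinite F
    have hsq := FiniteField.isSquare_neg_one_iff (F := F)
    rw [← Nat.card_eq_fintype_card] at hsq
    by_cases h4 : Nat.card F % 4 = 3
    · refine ⟨a, fun φ hφ => (habc φ hφ).1, fun e => ?_, by omega⟩
      rw [h.psi] at e
      exact hsq.1 (isSquare_of_fix (trz h.cov w hV.s1 hV.ss) e) h4
    · obtain ⟨a0, h0⟩ := exists_fix_of_isSquare (trz h.cov xs hV.t1 hV.tt) (hsq.2 h4)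
      refine ⟨a0, fun φ hφ => ?_, fun e => h.cov.not_both_fix hV h0 (by rwa [h.psi] at e),
        fun _ => by rwa [h.psi]⟩
      have φM := hΦ.le hφ
      have hc : Commute (π xs) φ := mem_cent1.1 (hΦ.cs hφ)
      have h1 := h.comm_fix (h.piM xs) φM hc (x := a0) (by rwa [h.psi])
      have h2 := h.comm_fix (h.piM xs) φM hc h1
      rw [h.psi] at h1 h2
      by_contra hne
      have h3 : ψ φ (ψ φ a0) = a0 := by
        by_contra h3
        exact hV.t1 (h.cov.eq_one_iff.2 (center_of_three (Ne.symm hne) (Ne.symm h3)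
          ((ψ φ).injective.ne (Ne.symm hne)) h0 h1 h2))
      obtain ⟨m, hm⟩ := odd_exp hn h.lm.l2.mod
      have h5 : (ψ φ ^ n) a0 = a0 := by rw [← h.pow φM, hΦ.pow φ hφ, h.one]; rfl
      rw [hm, pow_succ', pow_mul, Equiv.Perm.mul_apply,
        Equiv.Perm.pow_apply_eq_self_of_apply_eq_self (by rw [sq]; exact h3)] at h5
      exact hne h5
  have s0M := h.lm.normal.1 hs0
  have hb1 : ∀ φ ∈ Φ, ψ φ (ψ s0 a0) = ψ s0 a0 := fun φ hφ =>
    h.comm_fix (hΦ.le hφ) s0M (mem_cent1.1 (hΦ.cs0 hφ)).symm (ha1 φ hφ)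
  obtain ⟨c0, hc1, hc2, hc3⟩ : ∃ c0, a0 ≠ c0 ∧ ψ s0 a0 ≠ c0 ∧ ∀ φ ∈ Φ, ψ φ c0 = c0 := by
    by_cases h1 : a0 ≠ a ∧ ψ s0 a0 ≠ a
    · exact ⟨a, h1.1, h1.2, fun φ hφ => (habc φ hφ).1⟩
    by_cases h2 : a0 ≠ b ∧ ψ s0 a0 ≠ b
    · exact ⟨b, h2.1, h2.2, fun φ hφ => (habc φ hφ).2.1⟩
    refine ⟨c, ?_, ?_, fun φ hφ => (habc φ hφ).2.2⟩ <;> grind
  obtain ⟨γ, g1, g2, g3⟩ := exists_three ha2.symm hc1 hc2
  have h' := h.recoord γ
  obtain ⟨xs, hxs⟩ := h'.cov.exists_eq hs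
  obtain ⟨w, hw⟩ := h'.cov.exists_eq hs0
  have hw1 : sl2Perm F w ∞ = (0 : F) := by rw [← h'.psi, hw, ← g1, ← g2]; simp
  have hw0 : w 0 0 = 0 := by
    rw [sl2Perm_infty] at hw1
    split_ifs at hw1 with e
    · simp at hw1
    · simpa [e] using hw1
  have hw2 := trz h'.cov w (hw ▸ hV.s1) (hw ▸ hV.ss)
  rw [tr, hw0, zero_add] at hw2
  refine ⟨_, _, Φ, x, xs, w, h', hΦ, hxs, hw, hw0, hw2, fun h4 => ?_, fun φ hφ => ?_⟩
  · have h1 := h.comm_fix (h.lm.normal.1 hs) s0M hV.comm (ha3 h4)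
    obtain ⟨d, rfl⟩ := eq_dia (y := xs) (fix_infty.1 (by rw [← h'.psi, hxs, ← g1]; simp [ha3 h4]))
      (fix_zero.1 (by rw [← h'.psi, hxs, ← g2]; simp [h1]))
    exact h'.cov.Ab_dia fun e => hV.t1 (hxs ▸ h'.cov.eq_one_iff.2 (dia_mem_center.2 e))
  · rw [← g1, ← g2, ← g3]
    simp [ha1 φ hφ, hb1 φ hφ, hc3 φ hφ]

end Mod

end Cfsg.Agent.P7
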