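/-
Existence of frames: `l2Api`, `l2Four`.
-/
import Cfsg.Agent.P7.L2D
import Cfsg.Agent.P5.Max0
import Cfsg.Agent.P5.K1

set_option autoImplicit false
set_option linter.unusedSectionVars false

namespace Cfsg.Agent.P7

open Matrix Subgroup Cfsg Cfsg.Agent Cfsg.Agent.FT Cfsg.Agent.H4.SL2 Cfsg.Agent.P4 OnePoint
open Cfsg.Agent.L (mkSL2 sl2Perm sl2Perm_infty sl2Perm_some)
open Cfsg.Agent.P5 (V4 Tri Hyp)
open Cfsg.Agent.H2 (pPrimeCoreOf)
open scoped commutatorElement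

universe u

variable {G : Type u} [Group G] {F : Type*} [Field F]

/-- Additive Hilbert 90. -/
theorem exists_sub_of_trace [Finite F] (σ : RingAut F) {b : F}
    (hb : ∑ i ∈ Finset.range (orderOf σ), (σ ^ i) b = 0) : ∃ c, c - σ c = b := by
  haveI : Finite (RingAut F) := Finite.of_injective _ DFunLike.coe_injective
  have hs : ∀ i x, (σ ^ (i + 1)) x = σ ((σ ^ i) x) := fun i x => by rw [pow_succ']; rfl
  have hr : ∀ x, (σ ^ orderOf σ) x = x := fun x => by rw [pow_orderOf_eq_one]; rfl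
  obtain ⟨θ, hθ⟩ : ∃ θ, ∑ i ∈ Finset.range (orderOf σ), (σ ^ i) θ ≠ 0 := by
    by_contra! hall
    have hli := (linearIndependent_monoidHom F F).comp
      (fun i : Fin (orderOf σ) => ((σ ^ (i : ℕ) : RingAut F) : F →* F)) fun i j e =>
        Fin.ext (pow_injOn_Iio_orderOf i.2 j.2 (RingEquiv.ext fun x => DFunLike.congr_fun e x))
    refine one_ne_zero (Fintype.linearIndependent_iff.1 hli (fun _ => 1) ?_ ⟨0, orderOf_pos σ⟩)
    funext x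
    simpa [Finset.sum_range] using hall x
  let B : ℕ → F := fun i => ∑ j ∈ Finset.range i, (σ ^ j) b
  have hB : ∀ i, σ (B i) = B (i + 1) - b := fun i => by
    simp only [B, Finset.sum_range_succ', map_sum, hs]
    simp
  have shift : ∀ f : ℕ → F, f (orderOf σ) = f 0 → ∑ i ∈ Finset.range (orderOf σ), f (i + 1) =
      ∑ i ∈ Finset.range (orderOf σ), f i := fun f h => by
    have h1 := Finset.sum_range_succ' f (orderOf σ)
    rw [Finset.sum_range_succ, h] at h1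
    exact (add_right_cancel h1).symm
  have h1 : σ (∑ i ∈ Finset.range (orderOf σ), (σ ^ i) θ) =
      ∑ i ∈ Finset.range (orderOf σ), (σ ^ i) θ := by
    rw [map_sum, ← shift (fun i => (σ ^ i) θ) (hr θ)]
    simp only [hs]
  have h2 : σ (∑ i ∈ Finset.range (orderOf σ), B i * (σ ^ i) θ) =
      ∑ i ∈ Finset.range (orderOf σ), B i * (σ ^ i) θ -
        b * ∑ i ∈ Finset.range (orderOf σ), (σ ^ i) θ := by
    rw [map_sum, ← shift (fun i => B i * (σ ^ i) θ) (by simp only [B, hb]; simp),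
      ← shift (fun i => (σ ^ i) θ) (hr θ), Finset.mul_sum, ← Finset.sum_sub_distrib]
    exact Finset.sum_congr rfl fun i _ => by rw [map_mul, hB, hs]; ring
  refine ⟨(∑ i ∈ Finset.range (orderOf σ), B i * (σ ^ i) θ) /
    ∑ i ∈ Finset.range (orderOf σ), (σ ^ i) θ, ?_⟩
  rw [map_div₀, h1, h2]
  field_simp
  ring

/-- The inclusion of `SL₂` over a subfield. -/
abbrev inc (K : Subfield F) : SL K →* SL F := SpecialLinearGroup.map K.subtype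

theorem inc_e (K : Subfield F) (y : SL K) (i j : Fin 2) : inc K y i j = y i j := rfl

theorem inc_inj (K : Subfield F) : Function.Injective (inc K) := fun a b e =>
  sl_ext (Subtype.ext (congrArg (fun y : SL F => y 0 0) e))
    (Subtype.ext (congrArg (fun y : SL F => y 0 1) e))
    (Subtype.ext (congrArg (fun y : SL F => y 1 0) e))
    (Subtype.ext (congrArg (fun y : SL F => y 1 1) e))

theorem pow_mod_eight {a r : ℕ} (ha : Odd a) (hr : Odd r) : a ^ r % 8 = a % 8 := by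
  obtain ⟨m, rfl⟩ := hr
  have h1 : a ^ 2 % 8 = 1 := by
    rw [Nat.pow_mod]
    have : a % 8 < 8 := Nat.mod_lt _ (by norm_num)
    have h2 : a % 8 % 2 = 1 := by rw [Nat.odd_iff] at ha; omega
    generalize a % 8 = c at *
    interval_cases c <;> omega
  rw [pow_succ, pow_mul, Nat.mul_mod, Nat.pow_mod, h1]
  simp

namespace Cov

variable [Finite G] {π : SL F →* G} {L : Subgroup G} (h : Cov π L)
include h

theorem sub {φ : G} {σ : RingAut F} (hσ : Odd (orderOf σ))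
    (hφ : ∀ y, φ * π y * φ⁻¹ = π (mapSL σ y)) : Cov (π.comp (inc (fixF σ))) (L ⊓ 𝐂[φ]) := by
  classical
  haveI := h.finite
  refine ⟨?_, ?_, ?_⟩
  · ext a
    constructor
    · rintro ⟨y, rfl⟩
      refine ⟨h.mem _, (mem_cent1_comm.trans mem_cent1_iff_conj).symm.1 ?_⟩
      rw [MonoidHom.comp_apply, hφ]
      congr 1
      apply sl_ext <;> exact mem_fixF.1 (SetLike.coe_mem _)
    · intro ha
      obtain ⟨y, rfl⟩ := h.exists_eq ha.1
      have h1 := (mem_cent1_comm.trans mem_cent1_iff_conj).1 ha.2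
      rw [hφ, eq_comm, h.eq_iff] at h1
      have h2 : mapSL σ y = y := by
        by_contra h2
        obtain ⟨z0, z1, z2⟩ := mem_center_iff'.1 h1
        have z3 := (center_entry h1 fun e => h2 (inv_mul_eq_one.1 e).symm).1
        have h3 : ∀ i j, σ (y i j) = -y i j := fun i j => by
          rw [← mapSL_e, ← mul_inv_cancel_left y (mapSL σ y), mul_e]
          fin_cases j
          · simp only [Fin.zero_eta]; rw [z1, z3]; ring
          · simp only [Fin.mk_one]; rw [z0, ← z2, z3]; ring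
        have h4 : ∀ i j m, (σ ^ m) (y i j) = (-1) ^ m * y i j := fun i j m => by
          induction m with
          | zero => simp
          | succ m ih =>
            rw [pow_succ', show (σ * σ ^ m) (y i j) = σ ((σ ^ m) (y i j)) from rfl, ih, map_mul, h3]
            simp [pow_succ]
        have h5 : ∀ i j, y i j = 0 := fun i j => by
          have := h4 i j (orderOf σ)
          rw [pow_orderOf_eq_one, hσ.neg_one_pow] at this
          exact mul_left_cancel₀ h.two_ne (by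
            change y i j = _ at this
            linear_combination this)
        have := det_eq y
        simp [h5] at this
      have h6 : ∀ i j, y i j ∈ fixF σ := fun i j => mem_fixF.2 (by rw [← mapSL_e, h2])
      exact ⟨mkSL2 ⟨_, h6 0 0⟩ ⟨_, h6 0 1⟩ ⟨_, h6 1 0⟩ ⟨_, h6 1 1⟩ (Subtype.ext (det_eq y)),
        congrArg π (sl_ext rfl rfl rfl rfl)⟩
  · ext y
    rw [MonoidHom.mem_ker, MonoidHom.comp_apply, h.eq_one_iff, mem_center_iff', mem_center_iff']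
    simp [inc_e]
  · have := h.odd
    rw [← card_fixF σ] at this
    exact (Nat.odd_pow_iff (Odd.pos hσ).ne').1 this

theorem Ab_sub {K : Subfield F} {C : Subgroup G} (h0 : Cov (π.comp (inc K)) (L ⊓ C)) (y : SL K) :
    Ab (π.comp (inc K)) y = Ab π (inc K y) ⊓ C := by
  ext a
  constructor
  · rintro ⟨z, hz, rfl⟩
    exact ⟨h.mem_Ab.2 (mem_cent1_iff_commute.2 ((mem_cent1_iff_commute.1 hz).map _)), (h0.mem z).2⟩
  · intro ha
    obtain ⟨z, rfl⟩ := h0.exists_eq ⟨h.Ab_le_L _ ha.1, ha.2⟩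
    refine h0.mem_Ab.2 (mem_cent1.2 (inc_inj K ?_))
    rw [map_mul, map_mul]
    exact mem_cent1.1 (h.mem_Ab.1 ha.1)

theorem PU_sub {K : Subfield F} {C : Subgroup G} (h0 : Cov (π.comp (inc K)) (L ⊓ C)) :
    PU (π.comp (inc K)) = PU π ⊓ C := by
  rw [← h0.Ab_uni one_ne_zero, h.Ab_sub h0, ← h.Ab_uni one_ne_zero]
  congr 2
  apply sl_ext <;> rfl

theorem HD_sub {K : Subfield F} {C : Subgroup G} (h0 : Cov (π.comp (inc K)) (L ⊓ C)) :
    HD (π.comp (inc K)) = HD π ⊓ C := by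
  ext a
  constructor
  · intro ha
    obtain ⟨d, rfl⟩ := mem_HD.1 ha
    obtain ⟨e, he⟩ := eq_dia (y := inc K (dia d)) rfl rfl
    exact ⟨mem_HD.2 ⟨e, congrArg π he.symm⟩, (h0.mem _).2⟩
  · intro ha
    obtain ⟨z, rfl⟩ := h0.exists_eq ⟨h.HD_le ha.1, ha.2⟩
    obtain ⟨d, e⟩ := mem_HD.1 ha.1
    obtain ⟨c, rfl⟩ := eq_dia (y := z) (Subtype.ext ((h.ent e 1 0).1 rfl))
      (Subtype.ext ((h.ent e 0 1).1 rfl))
    exact mem_HD.2 ⟨c, rfl⟩

variable {q k l : ℕ}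

/-- An element of prime order dividing `l` inverted by `s0`. -/
theorem exists_inverted (hq : Nat.card F = q) (e : Ep q k l) (h5 : 5 ≤ q) {s s0 x : G}
    (hV : V4 s s0) (hs : s ∈ L) (hs0 : s0 ∈ L) (hx : x ∈ L) (tri : Tri x s s0) :
    ∃ a ∈ L, (orderOf a).Prime ∧ orderOf a ∣ l ∧ s0 * a * s0⁻¹ = a⁻¹ := by
  obtain ⟨r, hr, hrl⟩ := Nat.exists_prime_and_dvd (n := l) (by have := e.three_le h5; omega)
  obtain ⟨a, ha, har⟩ := exists_mem_orderOf_eq_prime hr (H := L) (by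
    rw [h.cardL hq e]; exact (hrl.mul_left _).mul_right _)
  obtain ⟨z, rfl⟩ := h.exists_eq ha
  have z1 : π z ≠ 1 := fun e => hr.ne_one (by rw [← har, e, orderOf_one])
  obtain ⟨ht, -⟩ := (h.cases' hq e z1).resolve_right fun a => hr.ne_one
    (Nat.eq_one_of_dvd_coprimes e.cop_ql (a.2 ▸ har ▸ orderOf_dvd_card_of_mem (h.self_mem z)) hrl)
  obtain ⟨j, hj, jj, hjA, hinv, -⟩ := h.exists_inv z1 ht
  obtain ⟨xs, rfl⟩ := h.exists_eq hs
  have hH := (h.hyp hq e hV hs0 hx tri).1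
  obtain ⟨c, hc, e1⟩ := hH.conj j hj (fun e => hjA (e ▸ one_mem _)) jj
  obtain ⟨d, hd, e2⟩ := hH.conj s0 hs0 hV.s1 hV.ss
  have hg := mul_mem hd (inv_mem hc)
  have ho : orderOf (d * c⁻¹ * π z * (d * c⁻¹)⁻¹) = r := by
    rw [← har]; exact (MulAut.conj (d * c⁻¹)).orderOf_eq (π z)
  refine ⟨_, mul_mem (mul_mem hg ha) (inv_mem hg), ho ▸ hr, ho ▸ hrl, ?_⟩
  have e3 := hinv _ (h.self_mem z)
  rw [← e1] at e3
  calc _ = d * c⁻¹ * (c * π xs * c⁻¹ * π z * (c * π xs * c⁻¹)⁻¹) * (d * c⁻¹)⁻¹ := by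
        rw [← e2]; group
    _ = _ := by rw [e3]; group

theorem vinv [DecidableEq F] (hq : Nat.card F = q) (e : Ep q k l) {s s0 x : G}
    (hV : V4 s s0) (hs : s ∈ L) (hs0 : s0 ∈ L) (hx : x ∈ L) (tri : Tri x s s0) {K : Subgroup G}
    (hK : K ≤ L) (ho : Odd 𝐨(K)) (n1 : s ∈ 𝐍(K)) (n2 : s0 ∈ 𝐍(K)) :
    K ≤ R0 L s ∨ K ≤ R0 L s0 ∨ K ≤ R0 L (s * s0) := by
  by_cases K1 : K = ⊥
  · simp [K1]
  obtain ⟨N, hN, hmin⟩ := (wellFounded_lt (α := Subgroup G)).has_min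
    {N | N ≤ K ∧ N ≠ ⊥ ∧ 𝐍(K) ≤ 𝐍(N)} ⟨K, le_rfl, K1, le_rfl⟩
  have hNc : N ≤ 𝐂(N) := comm_eq_bot_iff.1 (by
    by_contra hn
    have h1 := H1.commutator_lt_of_isSolvable (H1.isSolvable_of_le hN.1 (feit_thompson K ho)) hN.2.1
    exact hmin _ ⟨h1.le.trans hN.1, hn, hN.2.2.trans (norm_le_norm_der N)⟩ h1)
  obtain ⟨a, ha, a1⟩ := (N.bot_or_exists_ne_one).resolve_left hN.2.1
  obtain ⟨z, rfl⟩ := h.exists_eq (hK (hN.1 ha))
  have hA : ∀ g ∈ 𝐍(K), g * π z * g⁻¹ ∈ Ab π z := fun g hg => by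
    have h1 := (mem_normalizer_iff.1 (hN.2.2 hg) _).1 ha
    rw [← h.cent_eq fun e => a1 (P5.eq_one_of_odd ho (hN.1 ha) e)]
    exact ⟨hK (hN.1 h1), mem_cent1.2 (mem_cent.1 (hNc h1) _ ha)⟩
  rcases h.cases' hq e a1 with ⟨ht, -, -⟩ | ⟨-, hc⟩
  · obtain ⟨j, -, jj, -, hinv, hn⟩ := h.exists_inv a1 ht
    have hKA : K ≤ Ab π z := fun g hg => by
      refine (hn _ (h.self_mem z) a1 g (hK hg) (hA g (le_normalizer hg))).elim id fun h5 => ?_
      have h6 := hinv _ h5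
      rw [← mul_assoc, jj, one_mul, _root_.mul_inv_rev, mul_left_inj] at h6
      rw [P5.eq_one_of_odd ho hg (mul_eq_one_iff_eq_inv.2 h6)]
      exact one_mem _
    have key : ∀ {v w : G}, V4 v w → v ∈ L → w ∈ L → Tri x v w → v ∈ Ab π z → K ≤ R0 L v :=
      fun {v w} hv vL wL tv vA => by
        obtain ⟨y, rfl⟩ := h.exists_eq vL
        exact (h.hyp hq e hv wL hx tv).1.le_of_odd
          (fun g hg => ⟨hK hg, mem_cent1.2 (h.Ab_comm a1 vA (hKA hg))⟩) ho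
    rcases hn _ (h.self_mem z) a1 s hs (hA s n1) with b1 | b1
    · exact Or.inl (key hV hs hs0 tri b1)
    rcases hn _ (h.self_mem z) a1 s0 hs0 (hA s0 n2) with b2 | b2
    · exact Or.inr (Or.inl (key hV.rot hs0 (mul_mem hs hs0) (tri.rot hV) b2))
    refine Or.inr (Or.inr (key hV.rot.rot (mul_mem hs hs0) (mul_mem hs0 (mul_mem hs hs0))
      ((tri.rot hV).rot hV.rot) ?_))
    have b3 := mul_mem (inv_mem b1) b2
    rwa [_root_.mul_inv_rev, mul_assoc, inv_mul_cancel_left, P5.inv_eq_of_sq hV.tt] at b3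
  · exfalso
    have h2 := h.Ab_uni (one_ne_zero (α := F))
    obtain ⟨c, hc', e'⟩ := h.conj_of_coprime a1 (mt h.uni_eq_one.1 one_ne_zero) hc
      (by rw [h2, h.card_PU, hq]) (m' := 4 * k * l) (by rw [h.cardL hq e]; ring)
      (e.cop_qk.mul_right e.cop_ql)
    rw [h2] at e'
    obtain ⟨γ, rfl⟩ := h.exists_eq hc'
    have key : ∀ y, π y ∈ 𝐍(K) → sl2Perm F y (sl2Perm F γ⁻¹ ∞) = sl2Perm F γ⁻¹ ∞ := fun y hy => by
      have h3 := h.tiP (u := π γ * π z * (π γ)⁻¹) (e' ▸ conj_mem_conj (h.self_mem z) _)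
        (by simpa using a1) (h.mem (γ * y * γ⁻¹)) (le_normalizer (by
          have := conj_mem_conj (hA _ hy) (π γ)
          rw [e'] at this
          convert this using 1
          simp only [map_mul, map_inv]; group))
      rw [h.mem_norm_PU, ← fix_infty, map_mul, map_mul, Equiv.Perm.mul_apply, Equiv.Perm.mul_apply,
        ← Equiv.Perm.eq_inv_iff_eq, ← map_inv] at h3
      exact h3
    obtain ⟨xs, rfl⟩ := h.exists_eq hs
    obtain ⟨w, rfl⟩ := h.exists_eq hs0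
    exact h.not_both_fix hV (key _ n1) (key _ n2)

end Cov

theorem Hyp.cent_le_V [Finite G] {L R : Subgroup G} {s s0 : G} (h : Hyp L R s s0)
    (inv : ∀ a ∈ R, s0 * a * s0⁻¹ = a⁻¹) : L ⊓ (𝐂[s] ⊓ 𝐂[s0]) ≤ V2 s s0 := fun g hg => by
  have hV := h.v4
  have key : ∀ r ∈ R, r ∈ 𝐂[s0] → r = 1 := fun r hr hc => P5.eq_one_of_odd h.odd hr (by
    have := inv r hr
    rw [mem_cent1.1 hc, mul_inv_cancel_right] at this
    exact mul_eq_one_iff_eq_inv.2 this)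
  have hs : s ∈ 𝐂[s0] := mem_cent1.2 hV.comm.symm
  have hw := self_mem_cent1 s0
  rcases h.cover g ⟨hg.1, hg.2.1⟩ with a | a | a | a
  · rw [key _ a hg.2.2]; exact one_mem _
  · rw [eq_inv_of_mul_eq_one_left (key _ a (mul_mem hg.2.2 hs))]; exact inv_mem V4.t_mem
  · rw [eq_inv_of_mul_eq_one_right (key _ a (mul_mem hw hg.2.2))]; exact inv_mem V4.s_mem
  · have h2 := key _ a (mul_mem (mul_mem hw hg.2.2) hs)
    rw [show g = s0⁻¹ * (s0 * g * s) * s⁻¹ by group, h2, mul_one]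
    exact mul_mem (inv_mem V4.s_mem) (inv_mem V4.t_mem)

theorem mem_norm_inf {A B : Subgroup G} {g : G} (ha : g ∈ 𝐍(A)) (hb : g ∈ 𝐍(B)) :
    g ∈ 𝐍((A ⊓ B : Subgroup G)) := by
  rw [← conj_eq_self_iff, conj_inf, conj_eq_of_mem_norm ha, conj_eq_of_mem_norm hb]

namespace PhiD

variable [Finite G] {M L Φ : Subgroup G} {t s s0 x : G} {q n : ℕ} (h : PhiD M L t Φ n s s0 x)
  (lm : LM M L t q) (hc : L ⊓ (𝐂[s] ⊓ 𝐂[s0]) ≤ V2 s s0) (hV : V4 s s0) (hs : s ∈ L) (hs0 : s0 ∈ L)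
  (on : Odd n)
include h lm hc

theorem cover {g : G} (hg : g ∈ M ⊓ (𝐂[s] ⊓ 𝐂[s0])) (hs : s ∈ L) (hs0 : s0 ∈ L) :
    ∃ a ∈ V2 s s0, ∃ φ ∈ Φ, g = a * φ ∨ g = t * a * φ := by
  obtain ⟨a, ha, φ, hφ, e⟩ := h.dec g hg.1
  have h1 : φ ∈ 𝐂[s] ⊓ 𝐂[s0] := ⟨h.cs hφ, h.cs0 hφ⟩
  have h2 : t ∈ 𝐂[s] ⊓ 𝐂[s0] := ⟨mem_cent1_comm.1 (lm.tL hs), mem_cent1_comm.1 (lm.tL hs0)⟩
  refine ⟨a, hc ⟨ha, ?_⟩, φ, hφ, e⟩
  rcases e with rfl | rfl
  · exact (mul_mem_cancel_right h1).1 hg.2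
  · exact (mul_mem_cancel_left h2).1 ((mul_mem_cancel_right h1).1 hg.2)

include hV hs hs0

theorem centV : M ⊓ (𝐂[s] ⊓ 𝐂[s0]) = V2 s s0 ⊔ zpowers t ⊔ Φ := by
  refine le_antisymm (fun g hg => ?_) (sup_le (sup_le (V4.le_iff.2 ⟨⟨lm.normal.1 hs,
    self_mem_cent1 s, mem_cent1.2 hV.comm.symm⟩, lm.normal.1 hs0, mem_cent1.2 hV.comm,
    self_mem_cent1 s0⟩) (zpowers_le.2 ⟨lm.tM, mem_cent1_comm.1 (lm.tL hs),
    mem_cent1_comm.1 (lm.tL hs0)⟩)) (le_inf h.le (le_inf h.cs h.cs0)))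
  obtain ⟨a, ha, φ, hφ, rfl | rfl⟩ := h.cover lm hc hg hs hs0
  · exact mul_mem (mem_sup_left (mem_sup_left ha)) (mem_sup_right hφ)
  · exact mul_mem (mem_sup_left (mul_mem (mem_sup_right (mem_zpowers t)) (mem_sup_left ha)))
      (mem_sup_right hφ)

include on

theorem mem_of_odd {g : G} (hg : g ∈ M ⊓ (𝐂[s] ⊓ 𝐂[s0])) {K : Subgroup G} (hK : Odd 𝐨(K))
    (gK : g ∈ K) : g ∈ Φ := by
  obtain ⟨a, ha, φ, hφ, e⟩ := h.cover lm hc hg hs hs0
  have h1 : Commute a φ := mem_cent1.1 (mem_cent1_comm.1 (V4.le_iff.2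
    ⟨mem_cent1_comm.1 (h.cs hφ), mem_cent1_comm.1 (h.cs0 hφ)⟩ ha))
  have key : ∀ w, w * w = 1 → Commute w φ → g = w * φ → g ∈ Φ := fun w ww hw e => by
    have h2 := P5.mul_pow_odd (on.mul hK) ww hw (by rw [pow_mul, h.pow φ hφ, one_pow])
    rw [← hw.eq, ← e, pow_mul',
      orderOf_dvd_iff_pow_eq_one.1 (orderOf_dvd_card_of_mem gK), one_pow] at h2
    rwa [e, ← h2, one_mul]
  rcases e with e | e
  · exact key a (hV.sq ha) h1 e
  · have h3 : Commute t a := mem_cent1.1 (lm.tL (V4.le_iff.2 ⟨hs, hs0⟩ ha))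
    refine key _ ?_ (Commute.mul_left (mem_cent1.1 (lm.le_cent (h.le hφ))) h1) e
    rw [h3.symm.mul_mul_mul_comm, lm.tt, hV.sq ha, one_mul]

theorem phi_eq (ho : Odd 𝐨(Φ)) : Phi M s s0 = Φ := by
  refine le_antisymm (fun g hg => h.mem_of_odd lm hc hV hs hs0 on (H2.pPrimeCoreOf_le _ _ hg)
    (Nat.coprime_two_right.1 (H2.coprime_card_pPrimeCoreOf _ _)) hg)
    (le_pPrimeCoreOf ⟨le_inf h.le (le_inf h.cs h.cs0), ?_⟩ (Nat.coprime_two_right.2 ho))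
  rw [h.centV lm hc hV hs hs0]
  exact sup_le ((sup_le (V4.le_iff.2 ⟨mem_cent_iff_cent1.2 h.cs, mem_cent_iff_cent1.2 h.cs0⟩)
    (zpowers_le.2 (mem_cent_iff_cent1.2 (h.le.trans lm.le_cent)))).trans (cent_le_norm _))
    le_normalizer

theorem le_sup {K : Subgroup G} (hK : K ≤ M) (ho : Odd 𝐨(K)) (n1 : s ∈ 𝐍(K)) (n2 : s0 ∈ 𝐍(K)) :
    K ≤ K ⊓ L ⊔ Φ := fun c hc' => by
  have key : ∀ v ∈ L, v * v = 1 → ∀ a ∈ K, v * a * v = a⁻¹ → a ∈ K ⊓ L := fun v hv vv a ha e => by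
    have h1 : a * v * a⁻¹ * v ∈ L :=
      mul_mem ((mem_normalizer_iff.1 (lm.normal.2 (hK ha)) _).1 hv) hv
    rw [← e, show a * v * (v * a * v) * v = a * (v * v) * a * (v * v) by group, vv, mul_one,
      mul_one, ← sq] at h1
    exact ⟨ha, zpowers_le.2 h1 (mem_zpowers_pow_iff.2 (Nat.coprime_two_left.2
      (ho.of_dvd_nat (orderOf_dvd_card_of_mem ha))))⟩
  obtain ⟨b, hb, a, ha, bs, sa, rfl⟩ := P5.Mx.exists_cent_mul_inv ho hV.tt n1 hc'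
  obtain ⟨b', hb', a', ha', bs', sa', rfl⟩ := P5.Mx.exists_cent_mul_inv
    (ho.of_dvd_nat (FT.card_dvd_of_le (inf_le_left : K ⊓ 𝐂[s] ≤ K))) hV.ss
    (mem_norm_inf n2 (le_normalizer (mem_cent1.2 hV.comm))) ⟨hb, mem_cent1.2 bs.symm⟩
  exact mul_mem (mul_mem (mem_sup_right (h.mem_of_odd lm hc hV hs hs0 on
    ⟨hK hb'.1, hb'.2, mem_cent1.2 bs'.symm⟩ ho hb'.1))
    (mem_sup_left (key s0 hs0 hV.ss a' ha'.1 sa'))) (mem_sup_left (key s hs hV.tt a ha sa))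

end PhiD

namespace Cov

variable [Finite G] {π : SL F →* G} {L : Subgroup G} (h : Cov π L) {Φ : Subgroup G}
  {ρ : Φ →* RingAut F} (hρ : ∀ (φ : Φ) y, φ * π y * (φ : G)⁻¹ = π (mapSL (ρ φ) y))
include h hρ

theorem lang (inj : Function.Injective ρ) {φ u : G} (hφ : φ ∈ Φ) (hu : u ∈ PU π)
    (e : (u * φ) ^ orderOf φ = 1) : ∃ v ∈ PU π, v * φ * v⁻¹ = u * φ := by
  classical
  haveI := h.finite
  obtain ⟨b, rfl⟩ := mem_PU.1 hu
  have hv : ∀ (a : Φ) c, a * π (uni c) = π (uni (ρ a c)) * a := fun a c => by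
    rw [← mul_inv_eq_iff_eq_mul, hρ]
    congr 1
    apply sl_ext <;> simp [mapSL_e, sle]
  have key : ∀ m, (π (uni b) * φ) ^ m =
      π (uni (∑ i ∈ Finset.range m, (ρ ⟨φ, hφ⟩ ^ i) b)) * φ ^ m := fun m => by
    induction m with
    | zero => simp [uni_zero]
    | succ m ih =>
      have := hv (⟨φ, hφ⟩ ^ m) b
      rw [Subgroup.coe_pow, map_pow] at this
      rw [pow_succ, ih, Finset.sum_range_succ, uni_add, map_mul, mul_assoc, ← mul_assoc (φ ^ m), this,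
        pow_succ]
      group
  rw [key, pow_orderOf_eq_one, mul_one, h.uni_eq_one, ← Subgroup.orderOf_mk φ hφ,
    ← orderOf_injective ρ inj] at e
  obtain ⟨c, rfl⟩ := exists_sub_of_trace _ e
  refine ⟨_, mem_PU.2 ⟨c, rfl⟩, ?_⟩
  rw [mul_inv_eq_iff_eq_mul, mul_assoc, hv ⟨φ, hφ⟩, ← mul_assoc, ← map_mul, ← uni_add,
    sub_add_cancel]

theorem le_norm_PU : Φ ≤ 𝐍(PU π) := fun φ hφ => mem_norm_of_conj_le (by
  classical
  rintro _ ⟨u, hu, rfl⟩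
  obtain ⟨b, rfl⟩ := mem_PU.1 hu
  refine mem_PU.2 ⟨ρ ⟨φ, hφ⟩ b, Eq.trans ?_ (hρ ⟨φ, hφ⟩ _).symm⟩
  congr 1
  apply sl_ext <;> simp [mapSL_e, sle])

theorem le_norm_HD : Φ ≤ 𝐍(HD π) := fun φ hφ => mem_norm_of_conj_le (by
  classical
  rintro _ ⟨u, hu, rfl⟩
  obtain ⟨b, rfl⟩ := mem_HD.1 hu
  obtain ⟨c, hc⟩ := eq_dia (y := mapSL (ρ ⟨φ, hφ⟩) (dia b)) (by simp [mapSL_e, sle])
    (by simp [mapSL_e, sle])
  exact mem_HD.2 ⟨c, hc ▸ (hρ ⟨φ, hφ⟩ _).symm⟩)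

variable {q k l : ℕ} {s s0 x : G}

theorem fix (inj : Function.Injective ρ) (ho : Odd 𝐨(Φ)) (hq : Nat.card F = q) (e : Ep q k l)
    {φ : G} (hφ : φ ∈ Φ) : ∃ (K : Subfield F) (k0 l0 : ℕ), Cov (π.comp (inc K)) (L ⊓ 𝐂[φ]) ∧
      Nat.card K ^ orderOf φ = q ∧ Ep (Nat.card K) k0 l0 ∧
      ((q = 4 * k + 1 ∧ Nat.card K = 4 * k0 + 1 ∧ Nat.card K + 1 = 2 * l0) ∨
      (q + 1 = 4 * k ∧ Nat.card K + 1 = 4 * k0 ∧ Nat.card K = 2 * l0 + 1)) := by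
  haveI := h.finite
  have h1 : orderOf (ρ ⟨φ, hφ⟩) = orderOf φ := by rw [orderOf_injective ρ inj, Subgroup.orderOf_mk]
  have h2 : Odd (orderOf φ) := ho.of_dvd_nat (orderOf_dvd_card_of_mem hφ)
  have h0 := h.sub (h1 ▸ h2) (hρ ⟨φ, hφ⟩)
  have h3 := card_fixF (ρ ⟨φ, hφ⟩)
  rw [h1, hq] at h3
  have h4 := pow_mod_eight h0.odd h2
  rw [h3] at h4
  obtain ⟨k0, l0, e0⟩ := exists_ep (h4 ▸ e.mod)
  refine ⟨_, k0, l0, h0, h3, e0, ?_⟩
  have := e.eps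
  have := e0.eps
  omega

end Cov

theorem eq_of_three [Finite G] {L : Subgroup G} {s s0 x : G} (hL : 𝐨(L) = 12) (hV : V4 s s0)
    (hs : s ∈ L) (hs0 : s0 ∈ L) (hx : x ∈ L) (tri : Tri x s s0) (x3 : x ^ 3 = 1) :
    L = V2 s s0 ⊔ zpowers x := by
  haveI := Fact.mk Nat.prime_three
  refine (H1.eq_of_le_of_card_le (sup_le (V4.le_iff.2 ⟨hs, hs0⟩) (zpowers_le.2 hx))
    (hL ▸ Nat.le_of_dvd Nat.card_pos (Nat.Coprime.mul_dvd_of_dvd_of_dvd (m := 4) (n := 3)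
      (by norm_num) (hV.card ▸ FT.card_dvd_of_le le_sup_left) ?_))).symm
  rw [← orderOf_eq_prime x3 fun e => tri.not_commute hV (e ▸ Commute.one_left s)]
  exact orderOf_dvd_card_of_mem (mem_sup_right (mem_zpowers x))

theorem IsL2.cov [Finite G] {L : Subgroup G} {q : ℕ} (h : IsL2 L q) :
    ∃ (F : Type) (_ : Field F) (π : SL F →* G), Cov π L ∧ Nat.card F = q := by
  obtain ⟨F, _, _, hF, ⟨e⟩⟩ := h.iso
  rw [← Nat.card_eq_fintype_card] at hF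
  obtain ⟨k, l, ep⟩ := exists_ep h.mod
  obtain ⟨π, hπ⟩ := exists_cov e (hF ▸ ep.oddq)
  exact ⟨F, _, π, hπ, hF⟩

theorem l2Four : L2Four.{u} := fun G _ _ L q h => by
  obtain ⟨F, _, π, hπ, -⟩ := h.cov
  obtain ⟨i, j, -, hV, -⟩ := hπ.exists_quat
  exact ⟨_, hπ.mem i, _, hπ.mem j, hV⟩

theorem l2Api : L2Api.{u} := fun G _ _ M L t q s s0 lm hV hs hs0 => by
  classical
  obtain ⟨F, _, π0, h0, rfl⟩ := lm.l2.cov
  haveI := h0.finite
  obtain ⟨ψ0, m0⟩ := exists_mod h0 lm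
  obtain ⟨p, hc⟩ := CharP.exists F
  obtain ⟨n, hp, hn⟩ : ∃ n, p.Prime ∧ Nat.card F = p ^ n := by
    let _ := Fintype.ofFinite F
    obtain ⟨n, hp, hn⟩ := FiniteField.card F p
    exact ⟨n, hp, by rw [Nat.card_eq_fintype_card, hn]⟩
  obtain ⟨π, ψ, Φ, x, xs, w, m, hΦ, rfl, rfl, w0, w1, e1, hfix⟩ := m0.exists_good hp hn hV hs hs0
  clear m0 h0 π0 ψ0
  have h := m.cov
  have on := odd_exp hn lm.l2.mod
  have h5 := lm.l2.five
  obtain ⟨k, l, e⟩ := exists_ep lm.l2.mod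
  obtain ⟨ρ, hρ, hρ1⟩ := m.exists_hom hΦ.le (fun φ a => (hfix φ a).1) (fun φ a => (hfix φ a).2.1)
    fun φ a => (hfix φ a).2.2
  have tri1 : ∀ φ ∈ Φ, φ ∈ zpowers t → φ = 1 := fun φ hφ a => by
    rcases (mem_zpowers_invol lm.tt).1 a with a | rfl
    · exact a
    · simpa [hΦ.pow φ hφ] using (P5.mul_pow_odd on lm.tt (Commute.one_right φ) (one_pow n)).symm
  have inj : Function.Injective ρ :=
    (injective_iff_map_eq_one ρ).2 fun φ a => Subtype.ext (tri1 φ φ.2 (hρ1 φ a))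
  have cj := fun φ : Φ => m.conj_aut (hΦ.le φ.2) (hfix φ φ.2).1 (hρ φ)
  obtain ⟨cycA, cardA⟩ := ringAut_cyclic hp hn
  haveI : Finite (RingAut F) := Finite.of_injective _ DFunLike.coe_injective
  have cyc : IsCyclic Φ := isCyclic_of_injective ρ inj
  have dvd : 𝐨(Φ) ∣ n := cardA ▸ card_dvd_of_injective ρ inj
  have ho : Odd 𝐨(Φ) := on.of_dvd_nat dvd
  obtain ⟨hH, hR, cR, hinv, -⟩ := h.hyp rfl e hV hs0 hΦ.xL hΦ.tri
  have hcV := Hyp.cent_le_V hH fun a ha => hinv a (hR ▸ mem_sup_left ha)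
  have eΦ := hΦ.phi_eq lm hcV hV hs hs0 on ho
  have sub : ∀ φ ∈ Φ, π xs ∈ L ⊓ 𝐂[φ] ∧ π w ∈ L ⊓ 𝐂[φ] ∧ x ∈ L ⊓ 𝐂[φ] := fun φ hφ =>
    ⟨⟨hs, mem_cent1_comm.1 (hΦ.cs hφ)⟩, ⟨hs0, mem_cent1_comm.1 (hΦ.cs0 hφ)⟩,
      hΦ.xL, mem_cent1_comm.1 (hΦ.cx hφ)⟩
  obtain ⟨y, y1, hy, wy, e2, yN, yfix⟩ : ∃ y, π y ≠ 1 ∧ 𝐨(Ab π y) = l ∧
      π w * π y * (π w)⁻¹ ∈ Ab π y ∧ (Nat.card F + 1 = 4 * k → Ab π y = HD π) ∧ Φ ≤ 𝐍(Ab π y) ∧
      (Nat.card F = 4 * k + 1 → Φ ≤ 𝐂[π y]) := by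
    rcases e.eps with ⟨a1, a2⟩ | ⟨a1, a2⟩
    · obtain ⟨φ, hφ⟩ := isCyclic_iff_zpowers.1 cyc
      have hφ' : φ ∈ Φ := hφ ▸ mem_zpowers φ
      obtain ⟨K, k0, l0, h0, b1, e0, b2⟩ := h.fix cj inj ho rfl e hφ'
      have b3 := e0.mod
      obtain ⟨a, ha, a3, a4, a5⟩ := h0.exists_inverted rfl e0 (by omega) hV (sub φ hφ').1
        (sub φ hφ').2.1 (sub φ hφ').2.2 hΦ.tri
      obtain ⟨y, rfl⟩ := h.exists_eq ha.1
      have b4 := (ho.of_dvd_nat (orderOf_dvd_card_of_mem hφ')).nat_add_dvd_pow_add_pow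
        (Nat.card K) 1
      rw [b1, one_pow, a2, show Nat.card K + 1 = 2 * l0 by omega] at b4
      replace a4 := a4.trans (Nat.dvd_of_mul_dvd_mul_left two_pos b4)
      have y1 : π y ≠ 1 := fun a => a3.ne_one (by rw [a, orderOf_one])
      have a6 := orderOf_dvd_card_of_mem (h.self_mem y)
      have hyc : Φ ≤ 𝐂[π y] := by rw [← hφ, zpowers_le]; exact mem_cent1_comm.1 ha.2
      refine ⟨y, y1, ?_, a5 ▸ inv_mem (h.self_mem y), by omega, fun g hg => ?_, fun _ => hyc⟩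
      · rcases h.cases' rfl e y1 with ⟨-, -, c | c⟩ | ⟨-, c⟩
        · exact absurd (Nat.eq_one_of_dvd_coprimes e.cop_kl ((c ▸ a6).trans ⟨2, by ring⟩) a4)
            a3.ne_one
        · exact c
        · exact absurd (Nat.eq_one_of_dvd_coprimes e.cop_ql (c ▸ a6) a4) a3.ne_one
      · rw [← h.cent_eq fun a => y1 (P5.eq_one_of_odd (U := zpowers (π y))
          (by rw [Nat.card_zpowers]; exact e.oddl.of_dvd_nat a4) (mem_zpowers _) a)]
        exact mem_norm_inf (lm.normal.2 (hΦ.le hg)) (le_normalizer (hyc hg))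
    · have b1 := h.card_HD
      obtain ⟨a, ha, a0⟩ := (HD π).bot_or_exists_ne_one.resolve_left fun a => by
        rw [a, card_bot] at b1; omega
      obtain ⟨d, rfl⟩ := mem_HD.1 ha
      have b2 := h.Ab_dia (a := d) fun a => a0 (h.eq_one_iff.2 (dia_mem_center.2 a))
      refine ⟨dia d, a0, by rw [b2]; omega, ?_, fun _ => b2, b2 ▸ h.le_norm_HD cj, by omega⟩
      rw [← map_inv, ← map_mul, ← map_mul, anti_conj_dia w0 w1, map_inv]
      exact inv_mem (h.self_mem _)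
  obtain ⟨f, f1, f2, f3, f4, f5, f6, f7⟩ := h.l2f rfl e h5 hp hn hV w0 w1 hΦ.xL hΦ.tri hΦ.x3 y1 hy wy
    (fun a => e1 (by omega)) e2
  refine ⟨{ f with
    lm := lm
    cycF := eΦ ▸ cyc
    dec := eΦ ▸ hΦ.dec
    disj := eΦ ▸ fun φ hφ a => tri1 φ hφ (m.ker (hΦ.le hφ) ?_)
    centV := eΦ ▸ hΦ.centV lm hcV hV hs hs0
    Fx := eΦ ▸ f5 ▸ hΦ.cx
    FT := eΦ ▸ f6 ▸ yN
    FP := eΦ ▸ f7 ▸ h.le_norm_PU cj
    dvd := eΦ ▸ f2 ▸ dvd
    fix := eΦ ▸ fun φ hφ => ?_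
    vinv := eΦ ▸ fun K hK oK n1 n2 => ?_
    lang := eΦ ▸ f7 ▸ fun φ hφ u hu => h.lang cj inj hφ hu }⟩
  · obtain ⟨z, hz⟩ : ∃ z, ψ φ = sl2Perm F z := by
      rcases lm.mem_sup.1 a with a | a <;> obtain ⟨z, hz⟩ := h.exists_eq a <;> refine ⟨z, ?_⟩
      · rw [← hz, m.psi]
      · rw [← m.psi, hz, m.mul _ lm.tM _ (hΦ.le hφ), m.psit, one_mul]
    have := hfix φ hφ
    rw [hz] at this ⊢
    rw [← MonoidHom.mem_ker, P3.ker_sl2Perm]
    exact eq_center_of_three this.1 this.2.1 this.2.2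
  · obtain ⟨K, k0, l0, h0, b1, e0, b2⟩ := h.fix cj inj ho rfl e hφ
    obtain ⟨c1, c2, c3⟩ := sub φ hφ
    rw [f3, f5, f6, f7]
    refine ⟨_, k0, l0, b1, b2, by rw [← h.PU_sub h0, h0.card_PU], ?_, ?_, ?_⟩
    · obtain ⟨z, hz⟩ := h0.exists_eq c1
      rw [(hH.inf_cent1 hΦ.xL hΦ.tri c1.2 c2.2 c3.2).eq_core, ← hz]
      exact (h0.hyp rfl e0 (hz ▸ hV) c2 c3 (hz ▸ hΦ.tri)).2.2.1
    · rcases b2 with ⟨a1, a2, a3⟩ | ⟨a1, a2, a3⟩
      · obtain ⟨z, hz⟩ := h0.exists_eq ⟨h.mem y, mem_cent1_comm.1 (yfix a1 hφ)⟩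
        have b3 : Ab π y ⊓ 𝐂[φ] = Ab (π.comp (inc K)) z := by
          rw [h.Ab_sub h0, h.Ab_congr y1 hz.symm]
        have b4 : 𝐨((Ab π y ⊓ 𝐂[φ] : Subgroup G)) ∣ l := hy ▸ FT.card_dvd_of_le inf_le_left
        rw [b3] at b4 ⊢
        rcases h0.cases' rfl e0 (hz ▸ y1) with ⟨-, -, c | c⟩ | ⟨-, c⟩
        · exact absurd ((dvd_mul_right 2 k0).trans (c ▸ b4)) e.oddl.not_two_dvd_nat
        · exact c
        · have b5 := Nat.eq_one_of_dvd_coprimes e.cop_ql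
            (b1 ▸ dvd_pow_self _ (orderOf_pos φ).ne') (c ▸ b4)
          have := e0.mod
          omega
      · have := h0.card_HD
        rw [e2 a1, ← h.HD_sub h0]
        omega
    · by_cases q3 : Nat.card K = 3
      · refine Or.inl ⟨q3, eq_of_three ?_ hV c1 c2 c3 hΦ.tri hΦ.x3⟩
        rw [h0.cardL rfl e0, q3, show k0 = 1 by omega, show l0 = 1 by omega]
      · have := e0.mod
        exact Or.inr ⟨⟨K, _, Fintype.ofFinite K, (@Nat.card_eq_fintype_card K (_)).symm, h0.equiv⟩, this,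
          by omega⟩
  · have a := hΦ.le_sup lm hcV hV hs hs0 on hK oK n1 n2
    exact (h.vinv rfl e hV hs hs0 hΦ.xL hΦ.tri inf_le_right
      (oK.of_dvd_nat (FT.card_dvd_of_le inf_le_left)) (mem_norm_inf n1 (le_normalizer hs))
      (mem_norm_inf n2 (le_normalizer hs0))).imp (fun b => a.trans (sup_le_sup_right b _))
      (Or.imp (fun b => a.trans (sup_le_sup_right b _)) fun b => a.trans (sup_le_sup_right b _))

theorem IsL2.simple [Finite G] {L : Subgroup G} {q : ℕ} (h : IsL2 L q) (N : Subgroup G)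
    (hN : N ⊲ L) : N = ⊥ ∨ N = L := by
  obtain ⟨F, _, π, hπ, rfl⟩ := h.cov
  exact hπ.simple (by have := h.five; omega) N hN

theorem IsL2.inf_cent [Finite G] {L : Subgroup G} {q : ℕ} (h : IsL2 L q) : L ⊓ 𝐂(L) = ⊥ := by
  refine (h.simple _ (center_normal L)).resolve_right fun e => ?_
  obtain ⟨F, _, π, hπ, rfl⟩ := h.cov
  obtain ⟨i, j, w, hV, tri, -⟩ := hπ.exists_quat
  exact tri.not_commute hV (mem_cent.1 (e.ge (hπ.mem i)).2 _ (hπ.mem w))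

theorem IsL2.lm [Finite G] {L : Subgroup G} {q : ℕ} (h : IsL2 L q) : LM L L 1 q :=
  ⟨h, ⟨le_rfl, le_normalizer⟩, mul_one 1, by rw [h.inf_cent, zpowers_one_eq_bot], by simp⟩

theorem JRF.tt {t : G} {L : Subgroup G} {q : ℕ} (h : JRF t L q) : t * t = 1 := by
  rw [← sq, ← h.inv, pow_orderOf_eq_one]

theorem JRF.t1 {t : G} {L : Subgroup G} {q : ℕ} (h : JRF t L q) : t ≠ 1 := fun e => by
  simpa [e] using h.inv

theorem JRF.not_mem [Finite G] {t : G} {L : Subgroup G} {q : ℕ} (h : JRF t L q) : t ∉ L :=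
  fun a => h.t1 (mem_bot.1 (h.l2.inf_cent ▸ mem_inf.2 ⟨a, mem_cent_iff_cent1.2 h.normal.1⟩))

theorem JRF.card_sup [Finite G] {t : G} {L : Subgroup G} {q : ℕ} (h : JRF t L q) :
    𝐨((L ⊔ zpowers t : Subgroup G)) = 𝐨(L) * 2 := by
  rw [H1.card_sup_of_inf_eq_bot (h.normal.1.trans ((cent_zpowers t).ge.trans (cent_le_norm _)))
    (eq_bot_iff.2 fun a ha => ((mem_zpowers_invol h.tt).1 ha.2).resolve_right
      fun e => h.not_mem (e ▸ ha.1)), Nat.card_zpowers, h.inv]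

theorem JRF.lm [Finite G] {t : G} {L : Subgroup G} {q : ℕ} (h : JRF t L q) : LM 𝐂[t] L t q := by
  obtain ⟨s, hs, s0, hs0, hV⟩ := l2Four G L q h.l2
  refine ⟨h.l2, h.normal, h.tt, h.cent, Nat.not_even_iff_odd.1 fun he => h.e8.lt ?_⟩
  have h1 := card_mul_relIndex' (sup_le h.normal.1 (zpowers_le.2 (self_mem_cent1 t)))
  have h2 := FT.card_dvd_of_le (V4.le_iff.2 ⟨hs, hs0⟩)
  rw [h.card_sup] at h1
  rw [hV.card] at h2
  exact (h1 ▸ mul_dvd_mul (mul_dvd_mul_right h2 2) he.two_dvd).trans (card_subgroup_dvd_card _)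

theorem JRF.exists_fr [Finite G] {t : G} {L : Subgroup G} {q : ℕ} (h : JRF t L q) :
    ∃ s s0, Nonempty (Fr 𝐂[t] L t q s s0) := by
  obtain ⟨s, hs, s0, hs0, hV⟩ := l2Four G L q h.l2
  exact ⟨s, s0, l2Api G _ L t q s s0 h.lm hV hs hs0⟩

theorem L2F.ep {L : Subgroup G} {q : ℕ} {s s0 : G} (f : L2F L q s s0) : Ep q f.k f.l :=
  ⟨f.oddk, f.eps.imp (fun a => ⟨a.1, a.2.1⟩) fun a => ⟨a.1, a.2.1⟩⟩

theorem L2F.v4 {L : Subgroup G} {q : ℕ} {s s0 : G} (f : L2F L q s s0) : V4 s s0 := f.lt.hyp.v4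

theorem Fr.odd_phi {M L : Subgroup G} {t : G} {q : ℕ} {s s0 : G} (f : Fr M L t q s s0) :
    Odd 𝐨(Phi M s s0) := f.oddn.of_dvd_nat f.dvd

theorem Fr.card [Finite G] {M L : Subgroup G} {t : G} {q : ℕ} {s s0 : G} (f : Fr M L t q s s0) :
    𝐨(M) = 𝐨((L ⊔ zpowers t : Subgroup G)) * 𝐨(Phi M s s0) := by
  have hΦ : Phi M s s0 ≤ M := (H2.pPrimeCoreOf_le _ _).trans inf_le_left
  have h1 : M ≤ 𝐍((L ⊔ zpowers t : Subgroup G)) := fun m hm => by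
    rw [← conj_eq_self_iff, conj_sup, conj_eq_of_mem_norm (f.lm.normal.2 hm), ← zpowers_conj,
      mem_cent1_iff_conj.1 (f.lm.le_cent hm)]
  have h2 : Phi M s s0 ⊔ (L ⊔ zpowers t) = M := by
    refine le_antisymm (sup_le hΦ (sup_le f.lm.normal.1 (zpowers_le.2 f.lm.tM))) fun g hg => ?_
    obtain ⟨a, ha, φ, hφ, rfl | rfl⟩ := f.dec g hg
    · exact mul_mem (mem_sup_right (mem_sup_left ha)) (mem_sup_left hφ)
    · exact mul_mem (mem_sup_right (mul_mem (mem_sup_right (mem_zpowers t)) (mem_sup_left ha)))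
        (mem_sup_left hφ)
  rw [mul_comm, ← H1.card_sup_of_inf_eq_bot (hΦ.trans h1)
    (eq_bot_iff.2 fun φ hφ => f.disj φ hφ.1 hφ.2), h2]

end Cfsg.Agent.P7
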