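/-
Elementary abelian Sylow 2-subgroups of order at most 8: fusion and elementary facts.
-/
import Cfsg.Agent.P7.L2Defs
import Cfsg.Agent.P5.Final
import Cfsg.Agent.P6.SE
import Cfsg.Agent.P1.ZStar
import Cfsg.Agent.H1.PExp

set_option autoImplicit false
set_option linter.unusedSectionVars false

namespace Cfsg.Agent.P7

open Subgroup Cfsg Cfsg.Agent Cfsg.Agent.FT
open Cfsg.Agent.H2 (pPrimeCoreOf layerOf)
open Cfsg.Agent.P5 (V4 Tri)
open Cfsg.Agent.P6 (Inv Od)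
open scoped commutatorElement

universe u

/-- The known simple groups with a Sylow 2-subgroup of order 8. -/
def Big3 (G : Type u) [Group G] : Prop :=
  (L.EAC G ∧ Nat.card G = 504) ∨
    (∃ (t : G) (L : Subgroup G), JR t L 5 ∧ Nat.card G = 175560) ∨
    ∃ (t : G) (L U : Subgroup G) (q : ℕ), Ree t L U q

theorem Ind3.mono {m n : ℕ} (h : Ind3.{u} n) (hm : m ≤ n) : Ind3.{u} m :=
  fun K _ _ hK => h K (hK.trans_le hm)

variable {G : Type u} [Group G]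

/-- `S` is an elementary abelian Sylow 2-subgroup of order 8. -/
structure S8 (S : Subgroup G) : Prop where
  card : 𝐨(S) = 8
  sq : ∀ s ∈ S, s * s = 1
  odd : ¬ 2 ∣ S.index

/-- `c` is central in `X` modulo the odd core. -/
def Zs (X : Subgroup G) (c : G) : Prop := ∀ g ∈ X, ⁅c, g⁆ ∈ Od X

theorem Tri.cj {x t s : G} (h : Tri x t s) (g : G) :
    Tri (g * x * g⁻¹) (g * t * g⁻¹) (g * s * g⁻¹) :=
  ⟨by rw [← h.1]; group, by rw [@conj_mul _ _ t, ← h.2]; group⟩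

theorem eq_mul_of_sq {u c y : G} (cc : c * c = 1) (e : u * c = y) : u = y * c := by
  rw [← e, mul_assoc, cc, mul_one]

theorem Tri.sq {x t s : G} (h : Tri x t s) (v : V4 t s) : Tri (x * x) t (t * s) := by
  refine ⟨?_, ?_⟩
  · rw [← h.2, ← h.1]; group
  · rw [← mul_assoc t, v.tt, one_mul, show x * x * (t * s) * (x * x)⁻¹ =
      x * (x * (t * s) * x⁻¹) * x⁻¹ by group, h.third v, h.1]

theorem V4.cj {t s : G} (v : V4 t s) (g : G) : V4 (g * t * g⁻¹) (g * s * g⁻¹) :=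
  ⟨by simpa using v.t1, by simpa using v.s1, by simpa using v.ts,
    by rw [conj_mul, v.tt]; simp, by rw [conj_mul, v.ss]; simp, P5.commute_cj g v.comm⟩

theorem V4.inv {t s v : G} (h : V4 t s) (hv : v ∈ V2 t s) (h1 : v ≠ 1) : Inv v := ⟨h1, h.sq hv⟩

theorem V4.not_isCyclic {t s : G} (h : V4 t s) : ¬ IsCyclic (V2 t s) := fun hc => by
  obtain ⟨g, hg⟩ := hc.exists_generator
  have h1 := orderOf_eq_card_of_forall_mem_zpowers hg
  rw [h.card] at h1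
  have h2 : orderOf g ∣ 2 := orderOf_dvd_of_pow_eq_one (Subtype.ext (by
    rw [sq]; exact h.sq g.2))
  rw [h1] at h2
  exact absurd h2 (by decide)

theorem V4.isMulComm {t s : G} (h : V4 t s) : IsMulCommutative (V2 t s) :=
  ⟨⟨fun a b => Subtype.ext (Cfsg.Agent.L.commute_of_sq_eq_one (fun _ hx => h.sq hx) a.2 b.2)⟩⟩

theorem V4.le_cent_iff {t s g : G} : g ∈ 𝐂(V2 t s) ↔ g ∈ 𝐂[t] ∧ g ∈ 𝐂[s] := by
  rw [H1.mem_centralizer_iff_le, P5.V4.le_iff, P5.Mx.mem_cent1, P5.Mx.mem_cent1, P5.Mx.mem_cent1,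
    P5.Mx.mem_cent1]
  exact ⟨fun h => ⟨h.1.symm, h.2.symm⟩, fun h => ⟨h.1.symm, h.2.symm⟩⟩

variable [Finite G]

/-- Generation by the centralizers of the involutions of a four-group. -/
theorem V4.le_of_cent {t s : G} (h : V4 t s) {U Y : Subgroup G} (ho : Odd 𝐨(U)) (ht : t ∈ 𝐍(U))
    (hs : s ∈ 𝐍(U)) (h1 : U ⊓ 𝐂[t] ≤ Y) (h2 : U ⊓ 𝐂[s] ≤ Y) (h3 : U ⊓ 𝐂[t * s] ≤ Y) : U ≤ Y := by
  refine H1.le_of_forall_centralizer_le (V4.isMulComm h) (V4.not_isCyclic h)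
    (P5.V4.le_iff.2 ⟨ht, hs⟩) ?_ fun a ha a1 => ?_
  · rw [h.card]
    exact (Nat.coprime_two_left.2 ho).pow_left 2
  · rcases h.mem_iff.1 ha with e | e | e | e
    · exact absurd e a1
    all_goals rwa [e]

namespace E8

variable (e : E8 G)
include e

theorem sq_of_pow {x : G} {k : ℕ} (h : x ^ 2 ^ k = 1) : x * x = 1 := by
  induction k generalizing x with
  | zero => simp [show x = 1 by simpa using h]
  | succ k ih =>
    refine e.sq x ?_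
    rw [show x ^ 4 = x ^ 2 * x ^ 2 by group]
    exact ih (by rw [← pow_mul, ← pow_succ', h])

theorem sq_of_mem {T : Subgroup G} (hT : IsPGroup 2 T) {x : G} (hx : x ∈ T) : x * x = 1 := by
  obtain ⟨k, hk⟩ := hT ⟨x, hx⟩
  exact e.sq_of_pow (congrArg Subtype.val hk)

theorem comm_two (T : Subgroup G) (hT : IsPGroup 2 T) : IsMulCommutative T :=
  ⟨⟨fun a b => Subtype.ext
    (Cfsg.Agent.L.commute_of_sq_eq_one (fun _ hx => e.sq_of_mem hT hx) a.2 b.2)⟩⟩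

theorem sub (X : Subgroup G) : E8 X :=
  ⟨fun x h => Subtype.ext (e.sq x (congrArg Subtype.val h)),
    fun h => e.lt (h.trans (card_subgroup_dvd_card X))⟩

theorem map {H : Type u} [Group H] {f : G →* H} (hf : Function.Surjective f) : E8 H := by
  refine ⟨fun y h => ?_, fun h => e.lt (h.trans (card_dvd_of_surjective f hf))⟩
  obtain ⟨x, rfl, l, hl⟩ := H1.exists_lift_pElement hf Nat.prime_two (k := 2) h
  rw [← map_mul, e.sq_of_pow hl, map_one]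

theorem not_dvd_relIndex {T : Subgroup G} (hT : IsPGroup 2 T) :
    ¬ 2 ∣ (𝐂(T) : Subgroup G).relIndex 𝐍(T) := by
  obtain ⟨P, hP, h⟩ := exists_isSyl_ge Nat.prime_two hT (le_normalizer (H := T))
  have h1 : P ≤ 𝐂(T) := fun x hx => mem_centralizer_iff.2 fun y hy =>
    Cfsg.Agent.L.commute_of_sq_eq_one (fun _ hz => e.sq_of_mem hP.pgrp hz) (h hy) hx
  exact fun hd => hP.ndvd (hd.trans (relIndex_dvd_of_le_left _ h1))

theorem mem_cent_of_sq {T : Subgroup G} (hT : IsPGroup 2 T) {g : G} (hg : g ∈ 𝐍(T))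
    (h : g * g ∈ 𝐂(T)) : g ∈ 𝐂(T) := by
  haveI := H1.normal_subgroupOf_of_le (H1.normalizer_le_normalizer_centralizer T)
  have h2 : g ^ (𝐂(T) : Subgroup G).relIndex 𝐍(T) ∈ 𝐂(T) := by
    have := pow_index_mem ((𝐂(T) : Subgroup G).subgroupOf 𝐍(T)) ⟨g, hg⟩
    rw [mem_subgroupOf, SubgroupClass.coe_pow] at this
    exact this
  obtain ⟨m, hm⟩ : Odd ((𝐂(T) : Subgroup G).relIndex 𝐍(T)) :=
    Nat.not_even_iff_odd.1 fun h => e.not_dvd_relIndex hT (even_iff_two_dvd.1 h)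
  rw [hm, pow_succ, pow_mul, pow_two] at h2
  exact (mul_mem_cancel_left (pow_mem h m)).1 h2

theorem exists_tri {t s x : G} (v : V4 t s) (hx : x ∈ 𝐍(V2 t s)) (hc : x ∉ 𝐂(V2 t s)) :
    ∃ g ∈ zpowers x, Tri g t s := by
  have key : x * x * t * (x * x)⁻¹ = t → x * x * s * (x * x)⁻¹ = s → False := fun a b =>
    hc (e.mem_cent_of_sq v.isPGroup hx (V4.le_cent_iff.2
      ⟨mem_cent1_iff_conj.2 a, mem_cent1_iff_conj.2 b⟩))
  have sq : ∀ y, x * x * y * (x * x)⁻¹ = x * (x * y * x⁻¹) * x⁻¹ := fun y => by group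
  have w := V4.cj v x
  have ts : t * (t * s) = s := by rw [← mul_assoc, v.tt, one_mul]
  have st : t * s * s = t := by rw [mul_assoc, v.ss, mul_one]
  have st' : t * s * t = s := by rw [v.comm.eq, mul_assoc, v.tt, mul_one]
  rcases v.mem_iff.1 ((mem_normalizer_iff.1 hx t).1 P5.V4.t_mem) with a | a | a | a
  · exact absurd a w.t1
  all_goals rcases v.mem_iff.1 ((mem_normalizer_iff.1 hx s).1 P5.V4.s_mem) with b | b | b | b
  · exact absurd b w.s1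
  · exact absurd (a.trans b.symm) w.ts
  · exact (key (by rw [sq, a, a]) (by rw [sq, b, b])).elim
  · exact (key (by rw [sq, a, a]) (by rw [sq, b, ← conj_mul, a, b, ts])).elim
  · exact absurd b w.s1
  · exact (key (by rw [sq, a, b]) (by rw [sq, b, a])).elim
  · exact absurd (a.trans b.symm) w.ts
  · exact ⟨x, mem_zpowers x, a, b⟩
  · exact absurd b w.s1
  · exact ⟨x * x, mul_mem (mem_zpowers x) (mem_zpowers x),
      by rw [sq, a, ← conj_mul, a, b, st'], by rw [sq, b, a]⟩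
  · exact (key (by rw [sq, a, ← conj_mul, a, b, st]) (by rw [sq, b, b])).elim
  · exact absurd (a.trans b.symm) w.ts

theorem exists_s8 (h8 : 8 ∣ Nat.card G) {T : Subgroup G} (hT : IsPGroup 2 T) :
    ∃ S : Subgroup G, S8 S ∧ T ≤ S := by
  obtain ⟨P, hP, h⟩ := exists_isSyl_ge Nat.prime_two hT (le_top (a := T))
  have hi : ¬ 2 ∣ P.index := by simpa using hP.ndvd
  refine ⟨P, ⟨?_, fun _ hx => e.sq_of_mem hP.pgrp hx, hi⟩, h⟩
  obtain ⟨k, hk⟩ := exists_card_eq_pow Nat.prime_two hP.pgrp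
  have h1 : 2 ^ 3 ∣ 2 ^ k := by
    rw [← P.card_mul_index, hk] at h8
    exact ((Nat.prime_two.coprime_iff_not_dvd.2 hi).pow_left 3).dvd_of_dvd_mul_right h8
  have h2 : ¬ 2 ^ 4 ∣ 2 ^ k := fun h => e.lt (h.trans (hk ▸ card_subgroup_dvd_card P))
  rw [Nat.pow_dvd_pow_iff_le_right one_lt_two] at h1 h2
  rw [hk, show k = 3 by omega]
  rfl

end E8

theorem Zs.le_sup {X : Subgroup G} {c : G} (h : Zs X c) (cc : c * c = 1) :
    X ≤ Od X ⊔ (X ⊓ 𝐂[c]) := by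
  intro g hg
  obtain ⟨w, hw, e⟩ := P5.exists_conj_of_odd (P6.odd_Od X) cc
    (j := g * c * g⁻¹) (by rw [conj_mul, cc]; simp) (by
      have := h g hg
      rwa [commutatorElement_def, P5.inv_eq_of_sq cc, mul_assoc, ← P5.inv_eq_of_sq cc,
        show c⁻¹ * g * (c⁻¹ * g⁻¹) = c⁻¹ * (g * c⁻¹ * g⁻¹) by group, P5.inv_eq_of_sq cc] at this)
  refine (mul_mem_cancel_left (mem_sup_left (inv_mem hw))).1 (mem_sup_right
    (mem_inf.2 ⟨mul_mem (inv_mem ((P6.Od_normal X).1 hw)) hg, mem_cent1_iff_conj.2 ?_⟩))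
  calc w⁻¹ * g * c * (w⁻¹ * g)⁻¹ = w⁻¹ * (g * c * g⁻¹) * w := by group
    _ = c := by rw [← e]; group

theorem Zs.comm_le {X U : Subgroup G} {c : G} (h : Zs X c) (hc : c ∈ X) (hU : U ≤ X) :
    ⁅U, zpowers c⁆ ≤ Od X :=
  H1.commutator_zpowers_le ((P6.Od_normal X).2 hc) fun g hg => by
    simpa using inv_mem (h g (hU hg))

/-- An odd order subgroup normal in the centralizer of an isolated involution lies in the odd
core. -/
theorem Zs.le_Od {X D : Subgroup G} {c : G} (h : Zs X c) (cc : c * c = 1) (hD : D ≤ X)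
    (ho : Odd 𝐨(D)) (hn : X ⊓ 𝐂[c] ≤ 𝐍(D)) : D ≤ Od X := by
  have n := P6.Od_normal X
  refine le_sup_left.trans (P6.le_Od (X := D ⊔ Od X) ⟨sup_le hD n.1, (h.le_sup cc).trans
    (sup_le (le_sup_right.trans le_normalizer) (H1.le_normalizer_sup hn
      (inf_le_left.trans n.2)))⟩ (P5.Mx.odd_sup (hD.trans n.2) ho (P6.odd_Od X)))

namespace S8

variable {S : Subgroup G} (h : S8 S)
include h

theorem isPGroup : IsPGroup 2 S := isPGroup_of_card_eq (n := 3) h.card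

theorem comm {a b : G} (ha : a ∈ S) (hb : b ∈ S) : Commute a b :=
  Cfsg.Agent.L.commute_of_sq_eq_one h.sq ha hb

theorem le_cent : S ≤ 𝐂(S) := fun _ ha => mem_centralizer_iff.2 fun _ hb => h.comm hb ha

theorem le_cent1 {a : G} (ha : a ∈ S) : S ≤ 𝐂[a] := fun _ hb => P5.Mx.mem_cent1.2 (h.comm hb ha)

theorem cent_le {a : G} (ha : a ∈ S) : 𝐂(S) ≤ 𝐂[a] := fun _ hg =>
  P5.Mx.mem_cent1.2 (mem_centralizer_iff.1 hg a ha).symm

theorem isMulComm : IsMulCommutative S := ⟨⟨fun a b => Subtype.ext (h.comm a.2 b.2)⟩⟩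

theorem solv : Group.IsSolvable S := H1.isSolvable_of_isMulCommutative h.isMulComm

theorem coprime {W : Subgroup G} (hW : Odd 𝐨(W)) : 𝐨(S).Coprime 𝐨(W) := by
  rw [h.card]
  exact (Nat.coprime_two_left.2 hW).pow_left 3

theorem isSyl {X : Subgroup G} (hX : S ≤ X) : IsSyl 2 S X :=
  ⟨hX, h.isPGroup, fun hd => h.odd (hd.trans (relIndex_dvd_index_of_le hX))⟩

theorem dvd {X : Subgroup G} (hX : S ≤ X) : 8 ∣ 𝐨(X) := h.card ▸ Subgroup.card_dvd_of_le hX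

theorem e8 : E8 G := by
  refine ⟨fun x hx => ?_, fun hd => h.odd ?_⟩
  · obtain ⟨g, -, hg⟩ := (h.isSyl le_top).exists_conj_le Nat.prime_two
      (H2.isPGroup_zpowers_of_pow_eq_one (k := 2) hx) le_top
    simpa [conj_mul] using h.sq _ (hg (conj_mem_conj (mem_zpowers x) g))
  · rw [← S.card_mul_index, h.card] at hd
    exact Nat.dvd_of_mul_dvd_mul_left (by norm_num : 0 < 8) hd

theorem le_of_two {T : Subgroup G} (hT : IsPGroup 2 T) (hn : S ≤ 𝐍(T)) : T ≤ S :=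
  (h.isSyl le_top).le_of_le_norm Nat.prime_two hT le_top hn

theorem cj (g : G) : S8 (S ^ᵍ g) :=
  ⟨(card_conj S g).trans h.card, fun s hs => by
    obtain ⟨y, hy, rfl⟩ := mem_conj'.1 hs
    rw [conj_mul, h.sq y hy]; simp, by rw [index_conj]; exact h.odd⟩

theorem v4 {a b : G} (ha : a ∈ S) (hb : b ∈ S) (a1 : a ≠ 1) (b1 : b ≠ 1) (ab : a ≠ b) : V4 a b :=
  ⟨a1, b1, ab, h.sq a ha, h.sq b hb, h.comm ha hb⟩

theorem eq_one {U : Subgroup G} (hU : Odd 𝐨(U)) {a : G} (ha : a ∈ S) (hu : a ∈ U) : a = 1 :=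
  P5.eq_one_of_odd hU hu (h.sq a ha)

theorem inf_eq_bot {U : Subgroup G} (hU : Odd 𝐨(U)) : S ⊓ U = ⊥ :=
  H1.inf_eq_bot_of_coprime' (h.coprime hU)

theorem conj_mem {g a : G} (hg : g ∈ 𝐍(S)) (ha : a ∈ S) : g * a * g⁻¹ ∈ S :=
  (mem_normalizer_iff.1 hg a).1 ha

theorem exists_not_mem {W : Subgroup G} (hW : 𝐨(W) < 8) : ∃ c ∈ S, c ∉ W :=
  SetLike.not_le_iff_exists.1 fun e => by
    have := card_le_of_le e
    rw [h.card] at this
    omega

theorem exists_not_mem_V2 {a b : G} (v : V4 a b) : ∃ c ∈ S, c ∉ V2 a b :=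
  h.exists_not_mem (by rw [v.card]; norm_num)

theorem exists_ne {a : G} (ha : a ∈ S) : ∃ b ∈ S, b ≠ 1 ∧ a ≠ b := by
  obtain ⟨b, hb, hn⟩ := h.exists_not_mem (W := zpowers a) ((Nat.le_of_dvd two_pos
    (P5.Mx.card_zpowers_dvd_two (h.sq a ha))).trans_lt (by norm_num))
  exact ⟨b, hb, fun e => hn (e ▸ one_mem _), fun e => hn (e ▸ mem_zpowers a)⟩

theorem mul_mem_of_not_mem {W : Subgroup G} (hW : W ≤ S) (h4 : 𝐨(W) = 4) {c v : G} (hc : c ∈ S)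
    (hv : v ∈ S) (c1 : c ∉ W) (v1 : v ∉ W) : v * c ∈ W := by
  have h2 : W.relIndex S = 2 := by
    have := H1.card_mul_relIndex hW
    rw [h4, h.card] at this
    omega
  exact (mul_mem_iff_of_index_two h2 (a := ⟨v, hv⟩) (b := ⟨c, hc⟩)).2 (iff_of_false v1 c1)

theorem le_of_mem {a b c : G} (v : V4 a b) (ha : a ∈ S) (hb : b ∈ S) (hc : c ∈ S)
    (c1 : c ∉ V2 a b) {X : Subgroup G} (h1 : a ∈ X) (h2 : b ∈ X) (h3 : c ∈ X) : S ≤ X := by
  intro y hy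
  have hX : V2 a b ≤ X := P5.V4.le_iff.2 ⟨h1, h2⟩
  by_cases e : y ∈ V2 a b
  · exact hX e
  · exact (mul_mem_cancel_right h3).1 (hX (h.mul_mem_of_not_mem (P5.V4.le_iff.2 ⟨ha, hb⟩) v.card
      hc hy c1 e))

theorem mem_cent {a b c g : G} (v : V4 a b) (ha : a ∈ S) (hb : b ∈ S) (hc : c ∈ S)
    (c1 : c ∉ V2 a b) (h1 : g ∈ 𝐂[a]) (h2 : g ∈ 𝐂[b]) (h3 : g ∈ 𝐂[c]) : g ∈ 𝐂(S) :=
  H1.mem_centralizer_iff_le.2 (h.le_of_mem v ha hb hc c1
    (P5.Mx.mem_cent1.2 (P5.Mx.mem_cent1.1 h1).symm) (P5.Mx.mem_cent1.2 (P5.Mx.mem_cent1.1 h2).symm)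
    (P5.Mx.mem_cent1.2 (P5.Mx.mem_cent1.1 h3).symm))

theorem mem_cent_of_sq {g : G} (hg : g ∈ 𝐍(S)) (h2 : g * g ∈ 𝐂(S)) : g ∈ 𝐂(S) :=
  h.e8.mem_cent_of_sq h.isPGroup hg h2

/-- An element of `N(S)` centralizing a line centralizes `S`. -/
theorem cent_of_line {a b g : G} (v : V4 a b) (ha : a ∈ S) (hb : b ∈ S) (hg : g ∈ 𝐍(S))
    (h1 : g ∈ 𝐂[a]) (h2 : g ∈ 𝐂[b]) : g ∈ 𝐂(S) := by
  obtain ⟨c, hc, c1⟩ := h.exists_not_mem_V2 v
  have hC := V4.le_cent_iff.2 ⟨h1, h2⟩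
  have c2 : g * c * g⁻¹ ∉ V2 a b := fun e => c1 (by
    have := mem_centralizer_iff.1 hC _ e
    rw [inv_mul_cancel_right, mul_assoc g c, mul_left_cancel_iff, ← mul_assoc] at this
    rwa [← this] at e)
  have c3 := h.mul_mem_of_not_mem (P5.V4.le_iff.2 ⟨ha, hb⟩) v.card hc (h.conj_mem hg hc) c1 c2
  refine h.mem_cent_of_sq hg (h.mem_cent v ha hb hc c1 (mul_mem h1 h1) (mul_mem h2 h2)
    (mem_cent1_iff_conj.2 ?_))
  obtain ⟨w, hw⟩ : ∃ w, w = g * c * g⁻¹ * c := ⟨_, rfl⟩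
  rw [← hw] at c3
  have e1 : g * c * g⁻¹ = w * c := eq_mul_of_sq (h.sq c hc) hw.symm
  have e2 : g * w * g⁻¹ = w := by rw [← mem_centralizer_iff.1 hC w c3, mul_inv_cancel_right]
  calc g * g * c * (g * g)⁻¹ = g * (g * c * g⁻¹) * g⁻¹ := by group
    _ = c := by rw [e1, ← conj_mul, e2, e1, ← mul_assoc, v.sq c3, one_mul]

/-- Burnside's fusion lemma. -/
theorem fusion {X : Subgroup G} (hX : S ≤ X) {a g : G} (ha : a ∈ S) (hg : g ∈ X)
    (hb : g * a * g⁻¹ ∈ S) : ∃ k ∈ X ⊓ 𝐍(S), k * a * k⁻¹ = g * a * g⁻¹ := by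
  have h1 := h.isSyl (le_inf hX (h.le_cent1 hb))
  have h2 := (h.cj g).isSyl (le_inf (conj_le_of_mem hX hg)
    ((h.cj g).le_cent1 (conj_mem_conj ha g)))
  obtain ⟨c, hc, e⟩ := h1.exists_conj_eq Nat.prime_two h2
  rw [conj_conj, conj_eq_self_iff] at e
  refine ⟨c * g, ⟨mul_mem hc.1 hg, e⟩, ?_⟩
  rw [← mem_cent1_iff_conj.1 hc.2]
  group

/-- Glauberman's `Z*`-theorem. -/
theorem zs {X : Subgroup G} (hX : S ≤ X) {c : G} (hc : c ∈ S) (hn : X ⊓ 𝐍(S) ≤ 𝐂[c]) :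
    Zs X c := by
  intro g hg
  rcases eq_or_ne c 1 with rfl | c1
  · simp
  obtain ⟨P, hP⟩ := (h.isSyl hX).exists_sylow Nat.prime_two
  refine ⟨_, P1.zstar_sylow P (t := ⟨c, hX hc⟩) ?_ (show _ ∈ (P : Subgroup X) from hP ▸ hc)
    (fun y hy => Subtype.ext ?_) ⟨g, hg⟩, rfl⟩
  · rw [← orderOf_coe]
    exact (⟨c1, h.sq c hc⟩ : Inv c).orderOf_eq
  · obtain ⟨k, hk, e⟩ := h.fusion hX hc y.2 (mem_subgroupOf.1 (hP.le hy))
    exact e.symm.trans (mem_cent1_iff_conj.1 (hn hk))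

theorem norm_le_of_zs {X : Subgroup G} {c : G} (hc : c ∈ S) (z : Zs X c) : X ⊓ 𝐍(S) ≤ 𝐂[c] :=
  fun g hg => P5.Mx.mem_cent1.2 (commutatorElement_eq_one_iff_commute.1 (h.eq_one (P6.odd_Od X)
    (by
      rw [commutatorElement_def, mul_assoc, mul_assoc, ← mul_assoc g]
      exact mul_mem hc (h.conj_mem hg.2 (inv_mem hc))) (z g hg.1))).symm

theorem le_sup {X : Subgroup G} (hX : S ≤ X) (hn : X ⊓ 𝐍(S) ≤ 𝐂(S)) : X ≤ Od X ⊔ S :=
  P5.Mx.le_sup_of_burnside hX h.isPGroup (h.isSyl hX).ndvd hn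

theorem solv_of_nc {X : Subgroup G} (hX : S ≤ X) (hn : X ⊓ 𝐍(S) ≤ 𝐂(S)) : Group.IsSolvable X :=
  P5.Mx.isSolvable_of_le_sup hX h.isPGroup (h.le_sup hX hn)

theorem le_Od {X W : Subgroup G} (hX : S ≤ X) (hn : X ⊓ 𝐍(S) ≤ 𝐂(S)) (hW : W ≤ X)
    (ho : Odd 𝐨(W)) : W ≤ Od X :=
  P5.Mx.le_O_of_le_sup hX h.isPGroup (h.le_sup hX hn) hW ho

/-- A subgroup of `N(S)` fixing no involution of `S` is transitive on them. -/
theorem trans {H : Subgroup G} (h1 : S ≤ H) (h2 : H ≤ 𝐍(S)) (hf : ∀ a ∈ S, a ≠ 1 → ¬ H ≤ 𝐂[a])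
    {a b : G} (ha : a ∈ S) (hb : b ∈ S) (a1 : a ≠ 1) (b1 : b ≠ 1) :
    ∃ g ∈ H, g * a * g⁻¹ = b := by
  by_contra hn
  let O : G → Set G := fun a => {c | ∃ y ∈ H, y * a * y⁻¹ = c}
  have sub : ∀ a ∈ S, a ≠ 1 → O a ⊆ (S : Set G) \ {1} := fun a ha a1 c ⟨y, hy, e⟩ =>
    e ▸ ⟨h.conj_mem (h2 hy) ha, by simpa using a1⟩
  have big : ∀ a ∈ S, a ≠ 1 → 3 ≤ (O a).ncard ∧ (O a).ncard % 2 = 1 := fun a ha a1 => by
    rw [P6.ncard_class]
    have i1 : ¬ 2 ∣ (𝐂[a] : Subgroup G).relIndex H := fun hd =>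
      (h.isSyl h1).ndvd (hd.trans (relIndex_dvd_of_le_left _ (h.le_cent1 ha)))
    have i2 : (𝐂[a] : Subgroup G).relIndex H ≠ 1 := fun e => hf a ha a1 (relIndex_eq_one.1 e)
    omega
  have dis : ∀ a b, b ∉ O a → Disjoint (O a) (O b) := fun a b hn =>
    Set.disjoint_left.2 fun c ⟨y, hy, e⟩ ⟨z, hz, f⟩ => hn ⟨z⁻¹ * y, mul_mem (inv_mem hz) hy, by
      rw [show z⁻¹ * y * a * (z⁻¹ * y)⁻¹ = z⁻¹ * (y * a * y⁻¹) * z by group, e, ← f]; group⟩
  have c7 : ((S : Set G) \ {1}).ncard = 7 := by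
    rw [Set.ncard_sdiff_singleton_of_mem (one_mem S), ← Nat.card_coe_set_eq]
    exact congrArg (· - 1) h.card
  have e1 := Set.ncard_union_eq (dis a b hn)
  have l1 := Set.ncard_le_ncard (Set.union_subset (sub a ha a1) (sub b hb b1))
  obtain ⟨c, hc, c2⟩ : ∃ c ∈ (S : Set G) \ {1}, c ∉ O a ∪ O b := by
    by_contra hc
    push Not at hc
    have := Set.ncard_le_ncard hc
    have := big a ha a1
    have := big b hb b1
    omega
  have e2 := Set.ncard_union_eq (Set.disjoint_union_left.2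
    ⟨dis a c fun e => c2 (Or.inl e), dis b c fun e => c2 (Or.inr e)⟩)
  have l2 := Set.ncard_le_ncard (Set.union_subset (Set.union_subset (sub a ha a1) (sub b hb b1))
    (sub c hc.1 hc.2))
  have := big a ha a1
  have := big b hb b1
  have := big c hc.1 hc.2
  omega

/-- The action of an element of `N(S)` fixing exactly one involution. -/
theorem orbit {a b x : G} (ha : a ∈ S) (hb : b ∈ S) (v : V4 a b) (hx : x ∈ 𝐍(S)) (xa : x ∈ 𝐂[a])
    (xc : x ∉ 𝐂(S)) : x * b * x⁻¹ ∉ V2 a b ∧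
      (Tri x b (x * b * x⁻¹) ∨ Tri x (a * b) (a * (x * b * x⁻¹))) := by
  have fa := mem_cent1_iff_conj.1 xa
  have key : ∀ y ∈ 𝐍(S), y ∈ 𝐂[a] → y ∉ 𝐂(S) → ∀ b ∈ S, V4 a b → y * b * y⁻¹ ∉ V2 a b := by
    intro y hy ya yc b hb v hm
    refine yc (h.mem_cent_of_sq hy (h.cent_of_line v ha hb (mul_mem hy hy) (mul_mem ya ya)
      (mem_cent1_iff_conj.2 ?_)))
    have w := V4.cj v y
    rw [mem_cent1_iff_conj.1 ya] at w
    rw [show y * y * b * (y * y)⁻¹ = y * (y * b * y⁻¹) * y⁻¹ by group]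
    rcases v.mem_iff.1 hm with e | e | e | e
    · exact absurd e w.s1
    · exact absurd e.symm w.ts
    · rw [e, e]
    · rw [e, ← conj_mul, e, mem_cent1_iff_conj.1 ya, ← mul_assoc, v.tt, one_mul]
  have w := V4.cj v x
  rw [fa] at w
  have k1 := key x hx xa xc b hb v
  have k2 := key (x * x) (mul_mem hx hx) (mul_mem xa xa) (fun e => xc (h.mem_cent_of_sq hx e))
    b hb v
  have hb' := h.conj_mem hx hb
  have k3 := key x hx xa xc _ hb' w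
  rw [show x * x * b * (x * x)⁻¹ = x * (x * b * x⁻¹) * x⁻¹ by group] at k2
  refine ⟨k1, ?_⟩
  have hb'' := h.conj_mem hx hb'
  have k4 := h.mul_mem_of_not_mem (P5.V4.le_iff.2 ⟨ha, hb⟩) v.card hb' hb'' k1 k2
  have tri : ∀ y, x * (x * b * x⁻¹) * x⁻¹ * (x * b * x⁻¹) = y →
      x * (x * b * x⁻¹) * x⁻¹ = y * (x * b * x⁻¹) := fun y e => eq_mul_of_sq w.ss e
  rcases v.mem_iff.1 k4 with e | e | e | e
  · exact absurd (by rw [tri _ e, one_mul]; exact P5.V4.s_mem) k3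
  · exact absurd (by rw [tri _ e]; exact mul_mem P5.V4.t_mem P5.V4.s_mem) k3
  · exact Or.inl ⟨rfl, tri _ e⟩
  · refine Or.inr ⟨by rw [← conj_mul, fa], ?_⟩
    rw [← conj_mul, fa, tri _ e, ← mul_assoc, ← mul_assoc a, v.tt, one_mul, v.comm.eq,
      mul_assoc b a, ← mul_assoc a a, v.tt, one_mul]

/-- Such an element permutes the three lines through the fixed involution transitively. -/
theorem exists_line {a b c x : G} (ha : a ∈ S) (hb : b ∈ S) (hc : c ∈ S) (v : V4 a b)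
    (v' : V4 a c) (hx : x ∈ 𝐍(S)) (xa : x ∈ 𝐂[a]) (xc : x ∉ 𝐂(S)) :
    ∃ y ∈ zpowers x, y * b * y⁻¹ = c ∨ y * b * y⁻¹ = a * c := by
  obtain ⟨k1, k2⟩ := h.orbit ha hb v hx xa xc
  have sw : ∀ z, c = a * z → z = a * c := fun z e => by rw [e, ← mul_assoc, v.tt, one_mul]
  by_cases hm : c ∈ V2 a b
  · refine ⟨1, one_mem _, ?_⟩
    rcases v.mem_iff.1 hm with e | e | e | e
    · exact absurd e v'.s1
    · exact absurd e.symm v'.ts
    · exact Or.inl (by simp [e])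
    · exact Or.inr (by simpa using sw _ e)
  have hb' := h.conj_mem hx hb
  have k4 := h.mul_mem_of_not_mem (P5.V4.le_iff.2 ⟨ha, hb⟩) v.card hb' hc k1 hm
  have tri : ∀ y, c * (x * b * x⁻¹) = y → c = y * (x * b * x⁻¹) := fun y e =>
    eq_mul_of_sq (h.sq _ hb') e
  have e2 : x * x * b * (x * x)⁻¹ = b * (x * b * x⁻¹) ∨
      x * x * b * (x * x)⁻¹ = a * (b * (x * b * x⁻¹)) := by
    rw [show x * x * b * (x * x)⁻¹ = x * (x * b * x⁻¹) * x⁻¹ by group]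
    refine k2.imp (fun e => e.2) fun e => ?_
    have := e.2
    rw [← conj_mul, mem_cent1_iff_conj.1 xa, mul_assoc a b, mul_left_cancel_iff] at this
    rw [this, ← mul_assoc, ← v.comm.eq, mul_assoc]
  have m2 := mul_mem (mem_zpowers x) (mem_zpowers x)
  rcases v.mem_iff.1 k4 with e | e | e | e
  · exact ⟨x, mem_zpowers x, Or.inl (by rw [tri _ e, one_mul])⟩
  · exact ⟨x, mem_zpowers x, Or.inr (sw _ (tri _ e))⟩
  · exact ⟨x * x, m2, by rw [tri _ e]; exact e2⟩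
  · refine ⟨x * x, m2, e2.symm.imp (fun f => ?_) fun f => ?_⟩
    · rw [f, tri _ e, mul_assoc a]
    · rw [f]; exact sw _ (by rw [tri _ e, mul_assoc a])

end S8

end Cfsg.Agent.P7
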