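/-
Section K: the structure of proper sections.
-/
import Cfsg.Agent.P7.K0
import Cfsg.Agent.P6.Str
import Cfsg.Agent.P6.Sol
import Cfsg.Agent.P5.Final

set_option autoImplicit false
set_option linter.unusedSectionVars false

namespace Cfsg.Agent.P7

open Subgroup Cfsg Cfsg.Agent Cfsg.Agent.FT
open Cfsg.Agent.H2 (pPrimeCoreOf layerOf)
open Cfsg.Agent.P5 (V4 Tri LT)
open Cfsg.Agent.P6 (Inv Od Qt pr)
open scoped commutatorElement

universe u

variable {G : Type u} [Group G]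

/-- An odd order subgroup normalized by `C(t)` is centralized by the involution `t`. -/
def K1T (G : Type u) [Group G] : Prop :=
  ∀ (t : G) (U : Subgroup G), t * t = 1 → Odd 𝐨(U) → 𝐂[t] ≤ 𝐍(U) → U ≤ 𝐂[t]

/-- An odd order subgroup normalized by `C(a)` is centralized by the involutions of `C(a)`. -/
def Bal (G : Type u) [Group G] : Prop :=
  ∀ (a t : G) (U : Subgroup G), Inv a → t * t = 1 → t ∈ 𝐂[a] → Odd 𝐨(U) → 𝐂[a] ≤ 𝐍(U) → U ≤ 𝐂[t]

namespace KO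

theorem cent1_one : 𝐂[(1 : G)] = ⊤ := eq_top_iff.2 fun g _ => P5.Mx.mem_cent1.2 (Commute.one_right g)

theorem hyp_map {H : Type u} [Group H] {f : H →* G} (hf : Function.Injective f)
    {X U : Subgroup H} {t s : H} (h : P5.Hyp X U t s) :
    P5.Hyp (X.map f) (U.map f) (f t) (f s) := by
  refine ⟨mem_map_of_mem f h.tX, mem_map_of_mem f h.sX, (map_ne_one_iff f hf).2 h.t1,
    (map_ne_one_iff f hf).2 h.s1, hf.ne h.ts, by rw [← map_mul, h.tt, map_one],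
    by rw [← map_mul, h.ss, map_one], h.comm.map f, map_mono h.UX, ?_,
    by rw [card_map_of_injective hf]; exact h.odd, le_normalizer_map f (mem_map_of_mem f h.sU),
    ?_, ?_⟩
  · rintro _ ⟨u, hu, rfl⟩
    exact P5.Mx.mem_cent1.2 ((h.cU hu).symm.map f)
  · rintro _ ⟨⟨g, hg, rfl⟩, hc⟩
    have := h.cover g ⟨hg, P5.Mx.mem_cent1.2 (hf (by
      simpa using (P5.Mx.mem_cent1.1 hc).eq))⟩
    simpa only [← map_mul, mem_map_iff_mem hf] using this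
  · rintro _ ⟨j, hj, rfl⟩ j1 jj
    obtain ⟨g, hg, e⟩ := h.conj j hj (fun e => j1 (by rw [e, map_one])) (hf (by simpa using jj))
    exact ⟨f g, mem_map_of_mem f hg, by rw [← e]; simp⟩

theorem lt_map {H : Type u} [Group H] {f : H →* G} (hf : Function.Injective f)
    {L A : Subgroup H} {t s : H} (h : LT L A t s) : LT (L.map f) (A.map f) (f t) (f s) := by
  refine ⟨hyp_map hf h.hyp, ?_, ?_, ?_, by rw [← Subgroup.map_commutator, h.perf], fun N hN => ?_,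
    ?_, ?_⟩
  · rintro _ ⟨a, ha, rfl⟩
    simpa using congrArg f (h.inv a ha)
  · haveI := h.cyc
    exact isCyclic_of_surjective (A.equivMapOfInjective f hf) (MulEquiv.surjective _)
  · rintro _ ⟨a, ha, rfl⟩ a1 _ ⟨g, hg, rfl⟩ hc
    have := h.cent a ha (fun e => a1 (by rw [e, map_one])) g hg (hf (by simpa using hc.eq))
    simpa only [← map_mul, mem_map_iff_mem hf] using this
  · have e : (N.comap f).map f = N := map_comap_eq_self (hN.1.trans (map_le_range f L))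
    refine (h.simple (N.comap f) ⟨?_, (map_le_iff_le_comap.1 hN.2).trans
      (le_normalizer_comap f)⟩).imp (fun k => by rw [← e, k, Subgroup.map_bot]) fun k => by rw [← e, k]
    exact fun y hy => (mem_map_iff_mem hf).1 (hN.1 hy)
  · obtain ⟨x, hx, tri⟩ := h.tri
    exact ⟨f x, mem_map_of_mem f hx, tri.map f⟩
  · simpa only [card_map_of_injective hf] using h.ord

theorem isL2_map {H : Type u} [Group H] {f : H →* G} (hf : Function.Injective f)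
    {L : Subgroup H} {q : ℕ} (h : IsL2 L q) : IsL2 (L.map f) q := by
  obtain ⟨F, _, _, h1, ⟨e⟩⟩ := h.iso
  exact ⟨⟨F, inferInstance, inferInstance, h1, ⟨(L.equivMapOfInjective f hf).symm.trans e⟩⟩,
    h.mod, h.five⟩

theorem isL2_of {L : Subgroup G} (h : P5.IsL2 L) : ∃ q, IsL2 L q := by
  obtain ⟨F, _, _, h1, h2, e⟩ := h
  exact ⟨_, ⟨F, inferInstance, inferInstance, rfl, e⟩, h2, by omega⟩

theorem isL2_simple {L : Subgroup G} {q : ℕ} (h : IsL2 L q) : IsSimpleGroup L := by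
  obtain ⟨F, _, _, h1, ⟨e⟩⟩ := h.iso
  haveI := Matrix.ProjectiveSpecialLinearGroup.rank_two_simple (F := F) (by
    rw [Nat.card_eq_fintype_card, h1]; exact (by norm_num : 4 ≤ 5).trans h.five)
  exact e.isSimpleGroup

theorem isL2_card {L : Subgroup G} {q : ℕ} (h : IsL2 L q) : 2 * 𝐨(L) = q * (q - 1) * (q + 1) := by
  obtain ⟨F, _, _, h1, ⟨e⟩⟩ := h.iso
  have := h.mod
  have hc := P3.two_mul_card_PSL2 (F := F) (by
    rw [Nat.card_eq_fintype_card, h1, Nat.odd_iff]; omega)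
  rwa [← Nat.card_congr e.toEquiv, Nat.card_eq_fintype_card (α := F), h1] at hc

theorem isL2_mod {L : Subgroup G} {q : ℕ} (h : IsL2 L q) : 𝐨(L) % 8 = 4 ∧ 4 < 𝐨(L) := by
  have h1 := isL2_card h
  have h2 := h.five
  obtain ⟨m, hm⟩ : ∃ m, q = 8 * m + 3 ∨ q = 8 * m + 5 := ⟨q / 8, by have := h.mod; omega⟩
  rcases hm with rfl | rfl
  · have : 𝐨(L) = 8 * (32 * m ^ 3 + 36 * m ^ 2 + 13 * m + 1) + 4 := by
      rw [show 8 * m + 3 - 1 = 8 * m + 2 by omega] at h1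
      nlinarith
    omega
  · have : 𝐨(L) = 8 * (32 * m ^ 3 + 60 * m ^ 2 + 37 * m + 7) + 4 := by
      rw [show 8 * m + 5 - 1 = 8 * m + 4 by omega] at h1
      nlinarith
    omega

theorem isL2_not_eight {L : Subgroup G} {q : ℕ} (h : IsL2 L q) : ¬ 8 ∣ 𝐨(L) := by
  have := (isL2_mod h).1
  omega

theorem isL2_not_comm {L : Subgroup G} {q : ℕ} (h : IsL2 L q) : ¬ IsMulCommutative L := by
  intro hc
  haveI := isL2_simple h
  letI : CommGroup L := { mul_comm := hc.1.1 }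
  have h1 := IsSimpleGroup.prime_card (α := L)
  have h2 := isL2_mod h
  have := h1.eq_one_or_self_of_dvd 2 (by omega)
  omega

theorem isL2_qs {L : Subgroup G} {q : ℕ} (h : IsL2 L q) : IsQuasisimple L :=
  haveI := isL2_simple h
  H2.isQuasisimple_of_isSimpleGroup (isL2_not_comm h)

theorem isL2_ns {L : Subgroup G} {q : ℕ} (h : IsL2 L q) : ¬ Group.IsSolvable L :=
  H2.QS.not_isSolvable (isL2_qs h)

theorem simple_of {L N : Subgroup G} (h : IsSimpleGroup L) (hN : N ⊲ L) : N = ⊥ ∨ N = L := by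
  haveI := H1.normal_subgroupOf_of_le hN.2
  refine (h.eq_bot_or_eq_top_of_normal (N.subgroupOf L) inferInstance).imp (fun e => ?_) fun e => ?_
  · rw [← inf_of_le_left hN.1, ← subgroupOf_map_subtype, e, Subgroup.map_bot]
  · exact le_antisymm hN.1 (subgroupOf_eq_top.1 e)

variable [Finite G]

theorem eq_bot_of_solv {L N : Subgroup G} (h : IsSimpleGroup L) (ns : ¬ Group.IsSolvable L)
    (hN : N ⊲ L) (hs : Group.IsSolvable N) : N = ⊥ :=
  (simple_of h hN).resolve_right fun e => ns (e ▸ hs)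

theorem four_dvd {X : Subgroup G} (h : ¬ Group.IsSolvable X) : 4 ∣ 𝐨(X) := by
  by_contra h4
  obtain ⟨V, hV⟩ := P5.exists_k4 h fun h8 => h4 ((by norm_num : 4 ∣ 8).trans h8)
  exact h4 (hV.card ▸ card_subgroup_dvd_card V)

theorem exists_v4_of_two (e : E8 G) {T : Subgroup G} (hT : IsPGroup 2 T) (h : 4 ∣ 𝐨(T)) :
    ∃ a ∈ T, ∃ b ∈ T, V4 a b := by
  have h4 := Nat.le_of_dvd Nat.card_pos h
  obtain ⟨a, ha, a1⟩ := (bot_or_exists_ne_one T).resolve_left fun k => by simp [k] at h4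
  obtain ⟨b, hb, hn⟩ := SetLike.not_le_iff_exists.1 fun k : T ≤ zpowers a => by
    have := (card_le_of_le k).trans (Nat.le_of_dvd two_pos
      (P5.Mx.card_zpowers_dvd_two (e.sq_of_mem hT ha)))
    omega
  exact ⟨a, ha, b, hb, a1, fun k => hn (k ▸ one_mem _), fun k => hn (k ▸ mem_zpowers a),
    e.sq_of_mem hT ha, e.sq_of_mem hT hb,
    Cfsg.Agent.L.commute_of_sq_eq_one (fun _ hx => e.sq_of_mem hT hx) ha hb⟩

theorem four_dvd_syl {T X : Subgroup G} (hT : IsSyl 2 T X) (h : 4 ∣ 𝐨(X)) : 4 ∣ 𝐨(T) := by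
  rw [← H1.card_mul_relIndex hT.le] at h
  exact ((Nat.prime_two.coprime_iff_not_dvd.2 hT.ndvd).pow_left 2).dvd_of_dvd_mul_right h

theorem exists_v4 (e : E8 G) {X : Subgroup G} (h : ¬ Group.IsSolvable X) :
    ∃ a ∈ X, ∃ b ∈ X, V4 a b := by
  obtain ⟨T, hT⟩ := exists_isSyl Nat.prime_two X
  obtain ⟨a, ha, b, hb, v⟩ := exists_v4_of_two e hT.pgrp (four_dvd_syl hT (four_dvd h))
  exact ⟨a, hT.le ha, b, hT.le hb, v⟩

theorem isSyl_inf {S K : Subgroup G} (h : S8 S) (hn : S ≤ 𝐍(K)) : IsSyl 2 (S ⊓ K) K :=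
  (h.isSyl hn).inf_normal Nat.prime_two ⟨le_normalizer, le_rfl⟩

theorem exists_v4_inf {S K : Subgroup G} (h : S8 S) (hn : S ≤ 𝐍(K)) (ns : ¬ Group.IsSolvable K) :
    ∃ a ∈ S ⊓ K, ∃ b ∈ S ⊓ K, V4 a b :=
  exists_v4_of_two h.e8 (isSyl_inf h hn).pgrp (four_dvd_syl (isSyl_inf h hn) (four_dvd ns))

theorem exists_hom (e : E8 G) {c : G} (hc : Inv c) (hz : c ∈ center G) :
    ∃ f : G →* ℤˣ, f c = -1 := by
  obtain ⟨P, hP, hcP⟩ := exists_isSyl_ge Nat.prime_two hc.isPGroup (le_top (a := zpowers c))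
  have cP := hcP (mem_zpowers c)
  have sq := fun x (hx : x ∈ P) => e.sq_of_mem hP.pgrp hx
  obtain ⟨M, ⟨h1, h2⟩, hm⟩ := Set.exists_max_image {M : Subgroup G | M ≤ P ∧ c ∉ M}
    (fun M => 𝐨(M)) (Set.toFinite _) ⟨⊥, bot_le, hc.ne⟩
  have hi : M.relIndex P = 2 := by
    refine index_eq_two_iff.2 ⟨⟨c, cP⟩, fun ⟨s, hs⟩ => ?_⟩
    simp only [mem_subgroupOf, MulMemClass.mk_mul_mk]
    by_cases hsM : s ∈ M
    · exact Or.inr ⟨hsM, fun k => h2 ((mul_mem_cancel_left hsM).1 k)⟩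
    refine Or.inl ⟨?_, hsM⟩
    have h3 : c ∈ zpowers s ⊔ M := by
      by_contra k
      exact hsM ((H1.eq_of_le_of_card_le le_sup_right
        (hm _ ⟨sup_le (zpowers_le.2 hs) h1, k⟩)).ge (mem_sup_left (mem_zpowers s)))
    obtain ⟨a, ha, m, hm, k⟩ := (H1.mem_sup_iff_of_le_normalizer (zpowers_le.2
      (centralizer_le_normalizer _ (mem_centralizer_iff.2 fun y hy =>
        Cfsg.Agent.L.commute_of_sq_eq_one sq (h1 hy) hs)))).1 h3
    rcases (P6.Inv.mem_zpowers_iff ⟨fun k : s = 1 => hsM (k ▸ one_mem M), sq s hs⟩).1 ha with rfl | rfl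
    · exact absurd (k ▸ by simpa using hm) h2
    · rwa [← k, ← mul_assoc, sq a hs, one_mul]
  obtain ⟨f, hf⟩ := H8.exists_hom_thompson_transfer M (k := P.index)
    (Nat.not_even_iff_odd.1 fun k => hP.ndvd (by simpa using even_iff_two_dvd.1 k))
    (by rw [← relIndex_mul_index h1, hi])
  exact ⟨f, hf c (by rw [pow_two, hc.sq]) fun g => by
    rwa [mem_center_iff.1 hz g, mul_inv_cancel_right]⟩

/-- A central involution splits off. -/
theorem split (e : E8 G) {X : Subgroup G} {c : G} (hc : Inv c) (cX : c ∈ X) (hz : X ≤ 𝐂[c]) :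
    ∃ Y : Subgroup G, Y ⊲ X ∧ c ∉ Y ∧ ⁅X, X⁆ ≤ Y ∧ ∀ g ∈ X, g ∈ Y ∨ g * c ∈ Y := by
  obtain ⟨f, hf⟩ := exists_hom (e.sub X) (c := ⟨c, cX⟩)
    ⟨fun k => hc.ne (congrArg Subtype.val k), Subtype.ext hc.sq⟩
    (mem_center_iff.2 fun g => Subtype.ext (P5.Mx.mem_cent1.1 (hz g.2)).eq)
  have mem : ∀ g : X, (g : G) ∈ f.ker.map X.subtype ↔ f g = 1 := fun g =>
    mem_map_iff_mem X.subtype_injective
  refine ⟨f.ker.map X.subtype, ⟨map_subtype_le _, H2.le_normalizer_map_subtype _⟩,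
    fun k => ?_, Subgroup.commutator_le.2 fun a ha b hb => ?_, fun g hg => ?_⟩
  · exact absurd (hf.symm.trans ((mem ⟨c, cX⟩).1 k)) (by decide)
  · refine (mem ⁅(⟨a, ha⟩ : X), ⟨b, hb⟩⁆).2 ?_
    rw [map_commutatorElement, commutatorElement_eq_one_iff_mul_comm, mul_comm]
  · refine (Int.units_eq_one_or (f ⟨g, hg⟩)).imp (mem ⟨g, hg⟩).2 fun k =>
      (mem (⟨g, hg⟩ * ⟨c, cX⟩)).2 ?_
    rw [map_mul, k, hf]
    decide

theorem not_mem_of_perfect (e : E8 G) {K : Subgroup G} {c : G} (hc : Inv c) (hK : ⁅K, K⁆ = K)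
    (hz : K ≤ 𝐂[c]) : c ∉ K := fun cK => by
  obtain ⟨Y, -, h1, h2, -⟩ := split e hc cK hz
  exact h1 (h2 (hK.ge cK))

theorem card_sup_zpowers {K : Subgroup G} {c : G} (hc : Inv c) (hz : K ≤ 𝐂[c]) (h : c ∉ K) :
    𝐨((K ⊔ zpowers c : Subgroup G)) = 𝐨(K) * 2 := by
  rw [H1.card_sup_of_inf_eq_bot (hz.trans (P5.Mx.cent1_le_norm_zpowers c)), hc.card_zpowers]
  exact eq_bot_iff.2 fun y hy => (hc.mem_zpowers_iff.1 hy.2).resolve_right fun k => h (k ▸ hy.1)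

theorem not_eight (e : E8 G) {K : Subgroup G} {c : G} (hc : Inv c) (hz : K ≤ 𝐂[c]) (h : c ∉ K) :
    ¬ 8 ∣ 𝐨(K) := fun h8 => e.lt (Dvd.dvd.trans (by
  rw [card_sup_zpowers hc hz h]; exact Nat.mul_dvd_mul_right h8 2)
  (card_subgroup_dvd_card (K ⊔ zpowers c)))

theorem odd_center (e : E8 G) {K : Subgroup G} (hK : ⁅K, K⁆ = K) : Odd 𝐨(𝐙(K)) :=
  P6.odd_of_no_inv fun a ha hi => not_mem_of_perfect e hi hK
    (fun g hg => P5.Mx.mem_cent1.2 (mem_centralizer_iff.1 ha.2 g hg)) ha.1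

theorem dvd_of_cent (e : E8 G) {A B : Subgroup G} (h : A ≤ 𝐂(B)) (ho : Odd 𝐨((A ⊓ B : Subgroup G))) :
    ¬ 16 ∣ 𝐨(A) * 𝐨(B) := fun hd => by
  rw [← H1.card_sup_mul_card_inf (h.trans (centralizer_le_normalizer _))] at hd
  exact e.lt ((((Nat.coprime_two_left.2 ho).pow_left 4).dvd_of_dvd_mul_right hd).trans
    (card_subgroup_dvd_card _))

theorem layerOf_eq (e : E8 G) {R K : Subgroup G} (hK : H2.CompIn R K) : layerOf R = K := by
  refine le_antisymm ?_ hK.le_layerOf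
  rw [H2.layerOf_eq_sSup]
  refine sSup_le fun K' hK' => le_of_eq ?_
  by_contra hne
  have h1 := H2.CompIn.le_centralizer_of_ne hK' hK hne
  exact dvd_of_cent e h1 (P6.odd_of_le (le_inf inf_le_right (inf_le_left.trans h1))
    (odd_center e (H2.QS.commutator_eq hK.2))) (Nat.mul_dvd_mul
      (four_dvd (H2.QS.not_isSolvable hK'.2)) (four_dvd (H2.QS.not_isSolvable hK.2)))

theorem qs_layer (e : E8 G) {R : Subgroup G} (h : layerOf R ≠ ⊥) : IsQuasisimple (layerOf R) := by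
  obtain ⟨K, hK⟩ := H2.exists_compIn_of_layerOf_ne_bot h
  exact layerOf_eq e hK ▸ hK.2

theorem exists_LT {K : Subgroup G} (qs : IsQuasisimple K) (h8 : ¬ 8 ∣ 𝐨(K)) {t s : G}
    (v : V4 t s) (ht : t ∈ K) (hs : s ∈ K) : ∃ A, LT K A t s := by
  have := lt_map K.subtype_injective (P5.exists_LT_of_quasisimple P5.commEq (P5.ind_all _) h8
    (v.subtype ht hs) (Nat.lt_succ_self _) (mem_top _) (mem_top _)
    (H2.isQuasisimple_of_mulEquiv topEquiv.symm qs))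
  rw [← MonoidHom.range_eq_map, range_subtype] at this
  exact ⟨_, this⟩

theorem normal_of_layer (e : E8 G) (hO : Od (⊤ : Subgroup G) = ⊥)
    (hE : layerOf (⊤ : Subgroup G) = ⊥) :
    ∃ S : Subgroup G, S.Normal ∧ IsPGroup 2 S ∧ ¬ 2 ∣ S.index := by
  have h1 := H2.fittingOf_le_sup Nat.prime_two (⊤ : Subgroup G)
  rw [show pPrimeCoreOf 2 (⊤ : Subgroup G) = ⊥ from hO, sup_bot_eq] at h1
  obtain ⟨P, hP, h2⟩ := exists_isSyl_ge Nat.prime_two (H2.isPGroup_pCoreOf 2 (⊤ : Subgroup G)) le_top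
  have h3 : P ≤ fittingOf (⊤ : Subgroup G) := (le_inf le_top fun x hx => mem_centralizer_iff.2
    fun y hy => Cfsg.Agent.L.commute_of_sq_eq_one (fun _ hz => e.sq_of_mem hP.pgrp hz)
      (h2 (h1 hy)) hx).trans (H2.inf_centralizer_fittingOf_le_of_layerOf_eq_bot hE)
  refine ⟨P, ?_, hP.pgrp, by simpa using hP.ndvd⟩
  rw [le_antisymm h3 (h1.trans h2)]
  exact H2.normal_of_top_le_normalizer (H2.le_normalizer_fittingOf ⊤)

theorem mem_of_odd_index {Y : Subgroup G} [Y.Normal] (h : ¬ 2 ∣ Y.index) {t : G} (tt : t * t = 1) :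
    t ∈ Y := by
  obtain ⟨m, hm⟩ := Nat.not_even_iff_odd.1 fun k => h (even_iff_two_dvd.1 k)
  have := Y.pow_index_mem t
  rwa [hm, pow_succ, pow_mul, pow_two, tt, one_pow, one_mul] at this

theorem le_cent1_of_normal {Y U : Subgroup G} [Y.Normal] {t : G} (ht : t ∈ Y) (hn : t ∈ 𝐍(U))
    (h : U ⊓ Y = ⊥) : U ≤ 𝐂[t] :=
  P5.Mx.comm_eq_bot_iff.1 (eq_bot_iff.2 (h ▸ le_inf
    (H1.commutator_le_of_le_normalizer (zpowers_le.2 hn))
    ((commutator_mono le_rfl (zpowers_le.2 ht)).trans (commutator_le_right U Y))))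

theorem bal_of_normal {S : Subgroup G} [S.Normal] (hS : IsPGroup 2 S) (hi : ¬ 2 ∣ S.index) :
    Bal G := fun _ _ _ _ tt ta ho hn =>
  le_cent1_of_normal (mem_of_odd_index hi tt) (hn ta) (H1.inf_eq_bot_of_coprime'
    (H1.coprime_card_of_isPGroup hS (Nat.coprime_two_right.2 ho)))

theorem Bal.k1T (h : Bal G) : K1T G := fun t U tt ho hn => by
  rcases eq_or_ne t 1 with rfl | t1
  · exact le_top.trans cent1_one.ge
  · exact h t t U ⟨t1, tt⟩ tt (self_mem_cent1 t) ho hn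

theorem k1T_four (e : E8 G) (h8 : ¬ 8 ∣ Nat.card G) (hO : Od (⊤ : Subgroup G) = ⊥) : K1T G := by
  by_cases hE : layerOf (⊤ : Subgroup G) = ⊥
  · obtain ⟨S, _, h1, h2⟩ := normal_of_layer e hO hE
    exact Bal.k1T (bal_of_normal h1 h2)
  intro t U tt ho hn
  rcases eq_or_ne t 1 with rfl | t1
  · exact le_top.trans cent1_one.ge
  obtain ⟨T, hT, h1⟩ := exists_isSyl_ge Nat.prime_two (⟨t1, tt⟩ : Inv t).isPGroup le_top
  have h4 := four_dvd_syl hT ((four_dvd (H2.QS.not_isSolvable (qs_layer e hE))).trans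
    (Subgroup.card_dvd_of_le le_top))
  obtain ⟨s, hs, hn'⟩ := SetLike.not_le_iff_exists.1 fun k : T ≤ zpowers t => by
    have := (Nat.le_of_dvd Nat.card_pos h4).trans ((card_le_of_le k).trans (Nat.le_of_dvd two_pos
      (P5.Mx.card_zpowers_dvd_two tt)))
    omega
  have v : V4 t s := ⟨t1, fun k => hn' (k ▸ one_mem _), fun k => hn' (k ▸ mem_zpowers t), tt,
    e.sq_of_mem hT.pgrp hs, Cfsg.Agent.L.commute_of_sq_eq_one
      (fun _ hx => e.sq_of_mem hT.pgrp hx) (h1 (mem_zpowers t)) hs⟩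
  have tU : zpowers t ≤ 𝐍(U) := zpowers_le.2 (hn (self_mem_cent1 t))
  refine P5.Mx.zpowers_le_cent_iff.1 (coprime_cent_fitting tU (P5.Mx.coprime_zpowers tt ho)
    (P5.Mx.isSolvable_of_odd ho) (P5.Mx.le_cent_fittingOf fun r hr => ?_))
  have hR := (H2.pCoreOf_le r U)
  have hn2 := hn.trans (H2.normalizer_le_normalizer_pCoreOf r U)
  have tR := tU.trans (H2.normalizer_le_normalizer_pCoreOf r U)
  rcases eq_or_ne r 2 with rfl | r2
  · exact zpowers_le.2 (mem_centralizer_iff.2 fun y hy => by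
      rw [P5.eq_one_of_odd ho (hR hy) (e.sq_of_mem (H2.isPGroup_pCoreOf 2 U) hy), one_mul, mul_one])
  exact H1.commutator_eq_bot_iff_le_centralizer'.1 ((v.k4 h8).d1_top (P5.ind_all _)
    (Nat.lt_succ_self _) hO P5.V4.t_mem t1 hr r2 ((H2.isPGroup_pCoreOf r U).to_le
      (H1.commutator_le_of_le_normalizer tR))
    (H1.commutator_commutator_eq tR (P5.Mx.coprime_zpowers tt (P6.odd_of_le hR ho)))
    (H1.le_normalizer_commutator hn2 (P5.Mx.cent1_le_norm_zpowers t)))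

theorem Od_bar (X : Subgroup G) : Od (⊤ : Subgroup (Qt X)) = ⊥ := by
  show pPrimeCoreOf 2 _ = ⊥
  rw [← H1.bar_top, FT.pPrimeCoreOf_bar Nat.prime_two (P6.Od_normal X).1 le_rfl
    (H2.coprime_card_pPrimeCoreOf 2 X), H1.bar_self]

theorem e8_bar (e : E8 G) (X : Subgroup G) : E8 (Qt X) := (e.sub X).map H1.qmk_surjective

theorem card_bar_dvd (X : Subgroup G) : Nat.card (Qt X) ∣ 𝐨(X) := card_quotient_dvd_card _

theorem pr_sq {X : Subgroup G} {t : G} (ht : t ∈ X) (tt : t * t = 1) :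
    pr X ⟨t, ht⟩ * pr X ⟨t, ht⟩ = 1 := by
  rw [← map_mul, show (⟨t, ht⟩ * ⟨t, ht⟩ : X) = 1 from Subtype.ext tt, map_one]

theorem bar_cent {X : Subgroup G} {t : G} (ht : t ∈ X) (tt : t * t = 1) :
    H1.bar X (Od X) (X ⊓ 𝐂[t]) = 𝐂[pr X ⟨t, ht⟩] :=
  P5.bar_cent1 (P6.Od_normal X).1 (P6.odd_Od X) ht tt

theorem comm_le_of_bar {X U : Subgroup G} {t : G} (ht : t ∈ X) (hU : U ≤ X)
    (h : H1.bar X (Od X) U ≤ 𝐂[pr X ⟨t, ht⟩]) : ⁅U, zpowers t⁆ ≤ Od X := by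
  rwa [← P5.Mx.cent_zpowers, ← H1.bar_zpowers,
    H1.bar_le_centralizer_iff hU (zpowers_le.2 ht)] at h

theorem odd_bar {X U : Subgroup G} (ho : Odd 𝐨(U)) : Odd 𝐨(H1.bar X (Od X) U) :=
  ho.of_dvd_nat (H1.card_bar_dvd U)

theorem k1_of_bar {X U : Subgroup G} (h : K1T (Qt X)) {t : G} (ht : t ∈ X) (tt : t * t = 1)
    (hU : U ≤ X) (ho : Odd 𝐨(U)) (hn : X ⊓ 𝐂[t] ≤ 𝐍(U)) : ⁅U, zpowers t⁆ ≤ Od X :=
  comm_le_of_bar ht hU (h _ _ (pr_sq ht tt) (odd_bar ho)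
    (bar_cent ht tt ▸ H1.bar_le_normalizer hn))

theorem k1_four (e : E8 G) {X U : Subgroup G} (h8 : ¬ 8 ∣ 𝐨(X)) {t : G} (ht : t ∈ X)
    (tt : t * t = 1) (hU : U ≤ X) (ho : Odd 𝐨(U)) (hn : X ⊓ 𝐂[t] ≤ 𝐍(U)) :
    ⁅U, zpowers t⁆ ≤ Od X :=
  k1_of_bar (k1T_four (e8_bar e X) (fun h => h8 (h.trans (card_bar_dvd X))) (Od_bar X))
    ht tt hU ho hn

theorem le_of_odd {X Y U : Subgroup G} {c : G} (cc : c * c = 1) (hz : X ≤ 𝐂[c])
    (h : ∀ g ∈ X, g ∈ Y ∨ g * c ∈ Y) (hU : U ≤ X) (ho : Odd 𝐨(U)) : U ≤ Y := fun g hg =>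
  (h g (hU hg)).elim id fun k => P5.mem_of_sq_mem ho hg (by
    have := mul_mem k k
    rwa [mul_assoc, ← mul_assoc c, ← (P5.Mx.mem_cent1.1 (hz (hU hg))).eq, mul_assoc g c, cc,
      mul_one] at this)

/-- `K1` inside `X = ⟨c⟩ × Y` with `O(Y) = 1`. -/
theorem k1_split (e : E8 G) {X Y U : Subgroup G} {c t : G} (hc : Inv c) (hz : X ≤ 𝐂[c])
    (hY : Y ≤ X) (cY : c ∉ Y) (h : ∀ g ∈ X, g ∈ Y ∨ g * c ∈ Y) (hO : Od Y = ⊥) (ht : t ∈ X)
    (tt : t * t = 1) (hU : U ≤ X) (ho : Odd 𝐨(U)) (hn : X ⊓ 𝐂[t] ≤ 𝐍(U)) : U ≤ 𝐂[t] := by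
  have h8 := not_eight e hc (hY.trans hz) cY
  have hUY := le_of_odd hc.sq hz h hU ho
  have sw : ∀ g ∈ X, g ∈ 𝐂[t * c] ↔ g ∈ 𝐂[t] := fun g hg => by
    rw [mem_cent1_iff_conj, mem_cent1_iff_conj, ← conj_mul, mem_cent1_iff_conj.1 (hz hg),
      mul_right_cancel_iff]
  rcases h t ht with k | k
  · exact P5.Mx.comm_eq_bot_iff.1 (eq_bot_iff.2 (hO ▸ k1_four e h8 k tt hUY ho
      ((inf_le_inf_right _ hY).trans hn)))
  · have := P5.Mx.comm_eq_bot_iff.1 (eq_bot_iff.2 (hO ▸ k1_four e h8 k (by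
      rw [mul_assoc, ← mul_assoc c, ← (P5.Mx.mem_cent1.1 (hz ht)).eq, mul_assoc t c, hc.sq, mul_one,
        tt]) hUY ho fun g hg => hn ⟨hY hg.1, (sw g (hY hg.1)).1 hg.2⟩))
    exact fun g hg => (sw g (hU hg)).1 (this hg)

theorem jrf_cj {t : G} {L : Subgroup G} {q : ℕ} (h : JRF t L q) (g : G) :
    JRF (g * t * g⁻¹) (L ^ᵍ g) q := by
  refine ⟨h.e8, ((P6.inv_of_orderOf h.inv).conj g).orderOf_eq,
    fun a ha => (isConj_iff.2 ⟨g, rfl⟩).symm.trans (h.conj a ha),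
    isL2_map (conj_injective g) h.l2, ?_, ?_⟩
  · rw [cent1_conj]
    exact ⟨conj_mono h.normal.1 g, conj_le_norm_iff.2 h.normal.2⟩
  · rw [cent1_conj, cent_conj, ← conj_inf, h.cent, zpowers_conj]

theorem jr_at {t a : G} {L : Subgroup G} {q : ℕ} (h : JR t L q) (ha : Inv a) :
    ∃ L', JR a L' q := by
  obtain ⟨g, rfl⟩ := isConj_iff.1 (h.conj a ha.orderOf_eq)
  exact ⟨_, jrf_cj h.toJRF g, by rw [cent1_conj, h.exact, conj_sup, zpowers_conj]⟩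

theorem jrf_not_mem {t : G} {L : Subgroup G} {q : ℕ} (h : JRF t L q) : t ∉ L :=
  not_mem_of_perfect h.e8 (P6.inv_of_orderOf h.inv) (H2.QS.commutator_eq (isL2_qs h.l2))
    h.normal.1

theorem jr_cover {t : G} {L : Subgroup G} {q : ℕ} (h : JR t L q) :
    ∀ g ∈ 𝐂[t], g ∈ L ∨ g * t ∈ L := fun g hg => by
  have ht := P6.inv_of_orderOf h.inv
  obtain ⟨a, ha, l, hl, rfl⟩ := (H1.mem_sup_iff_of_le_normalizer
    (zpowers_le.2 (h.normal.2 (self_mem_cent1 t)))).1 (h.exact ▸ hg)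
  rcases ht.mem_zpowers_iff.1 ha with rfl | rfl
  · exact Or.inl (by simpa using hl)
  · exact Or.inr (by
      rwa [mul_assoc, (P5.Mx.mem_cent1.1 (h.normal.1 hl)).eq, ← mul_assoc, ht.sq, one_mul])

theorem Od_eq_bot {L : Subgroup G} {q : ℕ} (h : IsL2 L q) : Od L = ⊥ :=
  eq_bot_of_solv (isL2_simple h) (isL2_ns h) (P6.Od_normal L)
    (P5.Mx.isSolvable_of_odd (P6.odd_Od L))

theorem jr_ns {t₀ : G} {L₀ : Subgroup G} {q : ℕ} (h₀ : JR t₀ L₀ q) {t : G} (ht : Inv t)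
    {U : Subgroup G} (ho : Odd 𝐨(U)) (hn : 𝐂[t] ≤ 𝐍(U)) : U = ⊥ := by
  obtain ⟨L, h⟩ := jr_at h₀ ht
  have o1 : ∀ W, Odd 𝐨((U ⊓ W : Subgroup G)) := fun W => P6.odd_of_le inf_le_left ho
  have h1 : U ⊓ 𝐂[t] = ⊥ := eq_bot_of_solv (isL2_simple h.l2) (isL2_ns h.l2)
    ⟨le_of_odd ht.sq le_rfl (jr_cover h) inf_le_right (o1 _), H1.le_normalizer_inf
      (h.normal.1.trans hn) (h.normal.1.trans le_normalizer)⟩ (P5.Mx.isSolvable_of_odd (o1 _))
  have key : ∀ w ∈ L, Inv w → U ⊓ 𝐂[w] ≤ ⊥ := fun w hw iw => by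
    obtain ⟨L', h'⟩ := jr_at h₀ iw
    exact h1 ▸ le_inf inf_le_left (k1_split h.e8 iw le_rfl h'.normal.1 (jrf_not_mem h'.toJRF)
      (jr_cover h') (Od_eq_bot h'.l2)
      (P5.Mx.mem_cent1.2 (P5.Mx.mem_cent1.1 (h.normal.1 hw)).symm) ht.sq inf_le_right (o1 _)
      (H1.le_normalizer_inf (inf_le_right.trans hn) (inf_le_left.trans le_normalizer)))
  obtain ⟨a, ha, b, hb, v⟩ := exists_v4 h.e8 (isL2_ns h.l2)
  exact eq_bot_iff.2 (V4.le_of_cent v ho (hn (h.normal.1 ha)) (hn (h.normal.1 hb))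
    (key a ha ⟨v.t1, v.tt⟩) (key b hb ⟨v.s1, v.ss⟩) (key _ (mul_mem ha hb) ⟨v.ts1, v.tsts⟩))

theorem big_ns (e : E8 G) (h8 : 8 ∣ Nat.card G) (h : Big3 G) {t : G} (ht : Inv t)
    {U : Subgroup G} (ho : Odd 𝐨(U)) (hn : 𝐂[t] ≤ 𝐍(U)) : U = ⊥ := by
  rcases h with ⟨h, -⟩ | ⟨_, _, h, -⟩ | ⟨_, _, _, _, h⟩
  · obtain ⟨S, hS, h1⟩ := e.exists_s8 h8 ht.isPGroup
    have tS := h1 (mem_zpowers t)
    obtain ⟨b, hb, b1, tb⟩ := hS.exists_ne tS
    have v := hS.v4 tS hb ht.ne b1 tb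
    have key : ∀ w : G, P6.Inv w → U ⊓ 𝐂[w] ≤ ⊥ := fun w iw y hy =>
      P5.eq_one_of_odd ho hy.1 (h w y iw.ne iw.sq (P5.Mx.mem_cent1.1 hy.2).symm)
    exact eq_bot_iff.2 (V4.le_of_cent v ho (hn (self_mem_cent1 t)) (hn (hS.le_cent1 tS hb))
      (key t ht) (key b ⟨v.s1, v.ss⟩) (key _ ⟨v.ts1, v.tsts⟩))
  · exact jr_ns h ht ho hn
  · exact jr_ns h.toJR ht ho hn

theorem odd_index (e : E8 G) {Y : Subgroup G} (h8 : 8 ∣ 𝐨(Y)) : ¬ 2 ∣ Y.index := fun h =>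
  e.lt (Y.card_mul_index ▸ Nat.mul_dvd_mul h8 h)

theorem bal_of_big (e : E8 G) {Y : Subgroup G} [Y.Normal] (h8 : 8 ∣ 𝐨(Y)) (h : Big3 Y) :
    Bal G := by
  intro a t U ha tt ta ho hn
  have aY := mem_of_odd_index (odd_index e h8) ha.sq
  have := big_ns (e.sub Y) h8 h (t := ⟨a, aY⟩) ⟨fun k => ha.ne (congrArg Subtype.val k),
    Subtype.ext ha.sq⟩ (U := U.subgroupOf Y) (ho.of_dvd_nat (card_comap_dvd_of_injective _ _
      Y.subtype_injective)) fun g hg => le_normalizer_comap Y.subtype (hn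
        (P5.Mx.mem_cent1.2 (congrArg Subtype.val (P5.Mx.mem_cent1.1 hg).eq)))
  exact le_cent1_of_normal (mem_of_odd_index (odd_index e h8) tt) (hn ta)
    (by rw [← subgroupOf_map_subtype, this, Subgroup.map_bot])

end KO

open KO

variable [Finite G]

/-- The structure of a proper section with trivial odd core. -/
theorem struct8 {n : ℕ} (hI : Ind3.{u} n) (hn : Nat.card G < n) (e : E8 G)
    (hO : pPrimeCoreOf 2 (⊤ : Subgroup G) = ⊥) :
    (∃ S : Subgroup G, S.Normal ∧ IsPGroup 2 S ∧ ¬ 2 ∣ S.index) ∨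
      (∃ (L : Subgroup G) (c : G) (q : ℕ), c ∈ center G ∧ LM ⊤ L c q) ∨
      ∃ Y : Subgroup G, Y.Normal ∧ IsSimpleGroup Y ∧ 8 ∣ 𝐨(Y) ∧ 𝐂(Y) = ⊥ ∧ Big3 Y := by
  by_cases hE : layerOf (⊤ : Subgroup G) = ⊥
  · exact Or.inl (normal_of_layer e hO hE)
  refine Or.inr ?_
  have qs := qs_layer e hE
  have hL := H2.le_normalizer_layerOf (⊤ : Subgroup G)
  generalize layerOf (⊤ : Subgroup G) = L at qs hL
  have hC := H1.le_normalizer_centralizer hL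
  have ob : ∀ N : Subgroup G, ⊤ ≤ 𝐍(N) → Odd 𝐨(N) → N = ⊥ := fun N h1 h2 =>
    eq_bot_iff.2 (hO ▸ P6.le_Od ⟨le_top, h1⟩ h2)
  have hZ : 𝐙(L) = ⊥ := ob _ (H1.le_normalizer_inf hL hC) (odd_center e (H2.QS.commutator_eq qs))
  have hs := H2.isSimpleGroup_of_isQuasisimple qs ((H2.center_eq_bot_iff_inf_centralizer L).2 hZ)
  have nc := H2.QS.not_isMulCommutative qs
  have h16 := dvd_of_cent e (le_refl 𝐂(L)) (by rw [inf_comm, hZ, card_bot]; exact odd_one)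
  have h4 := four_dvd (H2.QS.not_isSolvable qs)
  by_cases h8 : 8 ∣ 𝐨(L)
  · refine Or.inr ⟨L, H2.normal_of_top_le_normalizer hL, hs, h8, ob _ hC
      (Nat.not_even_iff_odd.1 fun k => h16 (Nat.mul_dvd_mul (even_iff_two_dvd.1 k) h8)), ?_⟩
    refine (hI L ((Nat.le_of_dvd Nat.card_pos (card_subgroup_dvd_card L)).trans_lt hn) hs nc
      (e.sub L)).resolve_left fun ⟨q, hq⟩ => isL2_not_eight hq (by rwa [card_top])
  refine Or.inl ?_
  obtain ⟨q, hq⟩ := isL2_of (P5.isL2_of_simple nc h8)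
  by_cases hG : 8 ∣ Nat.card G
  · obtain ⟨S, hS, -⟩ := e.exists_s8 hG IsPGroup.of_bot
    obtain ⟨c, hc, c1, hN⟩ : ∃ c ∈ S, c ≠ 1 ∧ 𝐍(S) ≤ 𝐂[c] := by
      by_contra hcon
      push Not at hcon
      obtain ⟨a, ha, b', -, v⟩ := exists_v4_inf hS (le_top.trans hL) (H2.QS.not_isSolvable qs)
      refine h8 (hS.dvd fun b hb => ?_)
      rcases eq_or_ne b 1 with rfl | b1
      · exact one_mem L
      obtain ⟨g, -, rfl⟩ := hS.trans le_normalizer le_rfl hcon ha.1 hb v.t1 b1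
      exact H1.conj_mem_of_le_normalizer hL (mem_top g) ha.2
    have ic : Inv c := ⟨c1, hS.sq c hc⟩
    have hz : ⊤ ≤ 𝐂[c] := fun g _ => P5.Mx.mem_cent1.2 (commutatorElement_eq_one_iff_commute.1
      (mem_bot.1 (hO ▸ hS.zs le_top hc (inf_le_right.trans hN) g (mem_top g)))).symm
    have cL := not_mem_of_perfect e ic (H2.QS.commutator_eq qs) (le_top.trans hz)
    have cC : zpowers c ≤ 𝐂(L) := P5.Mx.zpowers_le_cent_iff.2 (le_top.trans hz)
    refine ⟨L, c, q, mem_center_iff.2 fun g => (P5.Mx.mem_cent1.1 (hz (mem_top g))).eq, hq,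
      ⟨le_top, hL⟩, ic.sq, le_antisymm (inf_le_right.trans ?_) (le_inf le_top cC), ?_⟩
    · have := P5.Mx.le_sup_of_burnside cC ic.isPGroup (fun k => h16 (Nat.mul_dvd_mul (show 4 ∣ 𝐨(𝐂(L)) by
        rw [← H1.card_mul_relIndex cC, ic.card_zpowers]; exact Nat.mul_dvd_mul_left 2 k) h4))
        (le_top.trans (hz.trans (P5.Mx.cent_zpowers c).ge))
      rwa [show pPrimeCoreOf 2 𝐂(L) = ⊥ from ob _ (hC.trans (P6.norm_le_norm_Od _)) (P6.odd_Od _),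
        bot_sup_eq] at this
    · rw [relIndex_top_right]
      exact Nat.not_even_iff_odd.1 fun k => odd_index e (by
        rw [card_sup_zpowers ic (le_top.trans hz) cL]; exact Nat.mul_dvd_mul_right h4 2)
        (even_iff_two_dvd.1 k)
  · refine ⟨L, 1, q, one_mem _, hq, ⟨le_top, hL⟩, one_mul 1, ?_, ?_⟩
    · rw [zpowers_one_eq_bot, top_inf_eq]
      refine ob _ hC (Nat.not_even_iff_odd.1 fun k => hG (Dvd.dvd.trans ?_
        (card_subgroup_dvd_card (𝐂(L) ⊔ L))))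
      rw [H1.card_sup_of_inf_eq_bot (centralizer_le_normalizer _) (by rwa [inf_comm])]
      exact Nat.mul_dvd_mul (even_iff_two_dvd.1 k) h4
    · rw [zpowers_one_eq_bot, sup_bot_eq, relIndex_top_right]
      exact Nat.not_even_iff_odd.1 fun k => hG
        (L.card_mul_index ▸ Nat.mul_dvd_mul h4 (even_iff_two_dvd.1 k))

theorem KO.lm_one {L : Subgroup G} {q : ℕ} (h : LM ⊤ L (1 : G) q) : ¬ 8 ∣ Nat.card G := fun h8 => by
  have := h.odd
  rw [zpowers_one_eq_bot, sup_bot_eq, relIndex_top_right] at this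
  rw [← L.card_mul_index] at h8
  exact isL2_not_eight h.l2 (((Nat.coprime_two_left.2 this).pow_left 3).dvd_of_dvd_mul_right h8)

theorem KO.k1T {n : ℕ} (hI : Ind3.{u} n) (hn : Nat.card G < n) (e : E8 G)
    (hO : Od (⊤ : Subgroup G) = ⊥) : K1T G := by
  rcases struct8 hI hn e hO with ⟨S, _, h1, h2⟩ | ⟨L, c, q, hc, h⟩ | ⟨Y, _, -, h1, -, h2⟩
  · exact Bal.k1T (bal_of_normal h1 h2)
  · rcases eq_or_ne c 1 with rfl | c1
    · exact k1T_four e (lm_one h) hO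
    have hz : ⊤ ≤ 𝐂[c] := fun g _ => P5.Mx.mem_cent1.2 (mem_center_iff.1 hc g)
    obtain ⟨Y, h1, h2, -, h3⟩ := split e ⟨c1, h.tt⟩ (mem_top c) hz
    exact fun t U tt ho hn => k1_split e ⟨c1, h.tt⟩ hz le_top h2 h3 (eq_bot_iff.2 (hO ▸ P6.le_Od
      ⟨le_top, h1.2.trans (P6.norm_le_norm_Od Y)⟩ (P6.odd_Od Y))) (mem_top t) tt le_top ho
      (inf_le_right.trans hn)
  · exact Bal.k1T (bal_of_big e h1 h2)

theorem KO.card_bar_lt {X : Subgroup G} {n : ℕ} (hn : 𝐨(X) < n) : Nat.card (Qt X) < n :=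
  (Nat.le_of_dvd Nat.card_pos (card_bar_dvd X)).trans_lt hn

/-- The fact `K1`. -/
theorem k1 {n : ℕ} (hI : Ind3.{u} n) (e : E8 G) {X U : Subgroup G} (hn : 𝐨(X) < n) {t : G}
    (ht : t ∈ X) (tt : t * t = 1) (hU : U ≤ X) (ho : Odd 𝐨(U)) (hN : X ⊓ 𝐂[t] ≤ 𝐍(U)) :
    ⁅U, zpowers t⁆ ≤ pPrimeCoreOf 2 X :=
  k1_of_bar (k1T hI (card_bar_lt hn) (e8_bar e X) (Od_bar X)) ht tt hU ho hN

theorem k1p {n : ℕ} (hI : Ind3.{u} n) (e : E8 G) {X U : Subgroup G} (hn : 𝐨(X) < n) {t : G}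
    (ht : t ∈ X) (tt : t * t = 1) (hU : U ≤ X) {p : ℕ} (hp : p.Prime) (hp2 : p ≠ 2)
    (hP : IsPGroup p U) (hN : X ⊓ 𝐂[t] ≤ 𝐍(U)) : ⁅U, zpowers t⁆ ≤ pCoreOf p X := by
  have ho := P6.odd_of_isPGroup hp hp2 hP
  have tU : zpowers t ≤ 𝐍(U) := zpowers_le.2 (hN ⟨ht, self_mem_cent1 t⟩)
  have n := P6.Od_normal X
  refine (P5.le_pCoreOf_of_comm (P6.odd_Od X) tt (n.2 ht) (k1 hI e hn ht tt hU ho hN)
    (hP.to_le (H1.commutator_le_of_le_normalizer tU)) hp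
    (H1.commutator_commutator_eq tU (P5.Mx.coprime_zpowers tt ho)) (H1.le_normalizer_commutator
      ((inf_le_inf_right _ n.1).trans hN)
      (inf_le_right.trans (P5.Mx.cent1_le_norm_zpowers t)))).trans ?_
  exact le_pCoreOf ⟨(H2.pCoreOf_le p _).trans n.1,
    n.2.trans (H2.normalizer_le_normalizer_pCoreOf p _)⟩ (H2.isPGroup_pCoreOf p _)

theorem S8.bar {S X : Subgroup G} (h : S8 S) (hX : S ≤ X) : S8 (H1.bar X (Od X) S) where
  card := by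
    rw [H1.card_bar hX, ← inf_relIndex_right, inf_comm, h.inf_eq_bot (P6.odd_Od X),
      relIndex_bot_left, h.card]
  sq := by
    intro v hv
    obtain ⟨y, hy, rfl⟩ := H1.mem_bar.1 hv
    exact pr_sq y.2 (h.sq y hy)
  odd := fun hd => (h.isSyl hX).ndvd (hd.trans (index_map_dvd _ H1.qmk_surjective))

/-- Failure of balance forces an isolated involution. -/
theorem k3 {n : ℕ} (hI : Ind3.{u} n) {S X D : Subgroup G} (hS : S8 S) (hX : S ≤ X)
    (hn : 𝐨(X) < n) {a t : G} (ha : a ∈ S) (a1 : a ≠ 1) (ht : t ∈ S) (hD : D ≤ X)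
    (ho : Odd 𝐨(D)) (hN : X ⊓ 𝐂[a] ≤ 𝐍(D)) (h : ¬ ⁅D, zpowers t⁆ ≤ Od X) :
    ¬ Group.IsSolvable X ∧ ∃ c ∈ S, c ≠ 1 ∧ Zs X c := by
  have e := e8_bar hS.e8 X
  have nb : ¬ Bal (Qt X) := fun hb => h (comm_le_of_bar (hX ht) hD (hb _ _ _
    (P6.Inv.pr ⟨a1, hS.sq a ha⟩ (hX ha)) (pr_sq _ (hS.sq t ht))
    (P5.Mx.mem_cent1.2 (Commute.map (Subtype.ext (hS.comm ht ha).eq) (pr X))) (odd_bar ho)
    (bar_cent (hX ha) (hS.sq a ha) ▸ H1.bar_le_normalizer hN)))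
  rcases struct8 hI (card_bar_lt hn) e (Od_bar X) with ⟨T, _, h1, h2⟩ | ⟨L, c, q, hc, h1⟩ |
    ⟨Y, _, -, h1, -, h2⟩
  · exact absurd (bal_of_normal h1 h2) nb
  · refine ⟨fun hs => isL2_ns h1.l2 ?_, ?_⟩
    · haveI := Group.isSolvable_of_surjective (H1.qmk_surjective (Y := X) (N := Od X))
      infer_instance
    have b := hS.bar hX
    have c1 : c ≠ 1 := fun k => lm_one (k ▸ h1) (b.card ▸ card_subgroup_dvd_card _)
    obtain ⟨y, hy, rfl⟩ := H1.mem_bar.1 (b.le_of_two (⟨c1, h1.tt⟩ : Inv c).isPGroup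
      (fun g _ => P5.Mx.cent1_le_norm_zpowers c (P5.Mx.mem_cent1.2 (mem_center_iff.1 hc g)))
      (mem_zpowers c))
    exact ⟨y, hy, fun k => c1 (by rw [show y = 1 from Subtype.ext k, map_one]),
      fun g hg => (P6.pr_comm_iff y.2 hg).1 (mem_center_iff.1 hc _).symm⟩
  · exact absurd (bal_of_big e h1 h2) nb

/-- Either the Sylow 2-subgroup is normal modulo the core, or the solvable radical is 2-nilpotent. -/
theorem k4 {n : ℕ} (hI : Ind3.{u} n) {S X : Subgroup G} (hS : S8 S) (hX : S ≤ X)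
    (hn : 𝐨(X) < n) : (∀ U ≤ X, Odd 𝐨(U) → S ≤ 𝐍(U) → ⁅U, S⁆ ≤ Od X) ∨
      ∀ N : Subgroup G, N ⊲ X → Group.IsSolvable N → ∀ A ≤ N, Odd 𝐨(A) → A ≤ Od X := by
  have key : ∀ (L : Subgroup (Qt X)) (c : Qt X), L.Normal → IsSimpleGroup L →
      ¬ Group.IsSolvable L → c * c = 1 → 𝐂(L) ≤ zpowers c →
      ∀ N : Subgroup G, N ⊲ X → Group.IsSolvable N → ∀ A ≤ N, Odd 𝐨(A) → A ≤ Od X := by
    intro L c _ hs ns cc hc N hN sN A hA ho
    haveI := H1.bar_normal (Y := X) (N := Od X) hN.2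
    have h1 : H1.bar X (Od X) N ⊓ L = ⊥ := eq_bot_of_solv hs ns
      ⟨inf_le_right, (normalizer_eq_top _).ge.trans' le_top⟩
      (H1.isSolvable_of_le inf_le_left (H1.isSolvable_bar sN))
    have h2 : H1.bar X (Od X) A ≤ zpowers c := (H1.bar_mono hA).trans (le_trans
      (commutator_eq_bot_iff_le_centralizer.1 (eq_bot_iff.2 (h1 ▸ commutator_le_inf _ _))) hc)
    rw [← H1.bar_eq_bot_iff (hA.trans hN.1), ← inf_of_le_right h2]
    exact H1.inf_eq_bot_of_coprime' (P5.Mx.coprime_zpowers cc (odd_bar ho))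
  rcases struct8 hI (card_bar_lt hn) (e8_bar hS.e8 X) (Od_bar X) with ⟨T, _, h1, h2⟩ |
    ⟨L, c, q, hc, h1⟩ | ⟨Y, _, hs, h1, h2, -⟩
  · refine Or.inl fun U hU ho hN => ?_
    rw [← H1.bar_le_centralizer_iff hU hX]
    exact fun g hg => mem_centralizer_iff.2 fun t ht => (P5.Mx.mem_cent1.1 (le_cent1_of_normal
      (mem_of_odd_index h2 ((hS.bar hX).sq t ht)) (H1.bar_le_normalizer hN ht)
      (H1.inf_eq_bot_of_coprime' (H1.coprime_card_of_isPGroup h1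
        (Nat.coprime_two_right.2 (odd_bar ho)))) hg)).symm
  · exact Or.inr (key L c (H2.normal_of_top_le_normalizer h1.normal.2) (isL2_simple h1.l2)
      (isL2_ns h1.l2) h1.tt (by rw [← h1.cent, top_inf_eq]))
  · refine Or.inr (key Y 1 inferInstance hs (Cfsg.Agent.L.not_isSolvable_of_isSimpleGroup
      fun hc => ?_) (one_mul 1) (h2 ▸ bot_le))
    letI : CommGroup Y := { mul_comm := hc.1.1 }
    have h3 := IsSimpleGroup.prime_card (α := Y)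
    have := h3.eq_one_or_self_of_dvd 8 h1
    rw [← this.resolve_left (by decide)] at h3
    exact absurd h3 (by decide)

end Cfsg.Agent.P7
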