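/-
Abelian Sylow 2-subgroups: fusion, inner action on simple normal subgroups, components.
-/
import Cfsg.Agent.P7.K1
import Cfsg.Agent.P6.Str
import Cfsg.Agent.H4.Schur1

set_option autoImplicit false
set_option linter.unusedSectionVars false
set_option linter.style.haveILetI false

namespace Cfsg.Agent.P7

open Subgroup Cfsg Cfsg.Agent Cfsg.Agent.FT
open Cfsg.Agent.H2 (pPrimeCoreOf layerOf CompIn SnIn)
open Cfsg.Agent.P6 (Inv Od Qt pr)
open scoped commutatorElement Pointwise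

universe u

variable {G : Type u} [Group G]

/-- `S` is an abelian Sylow 2-subgroup of `X`. -/
structure AS (S X : Subgroup G) : Prop where
  syl : IsSyl 2 S X
  ab : S ≤ 𝐂(S)

/-- The subgroup generated by the involutions of `K`. -/
def Iv (K : Subgroup G) : Subgroup G := closure {x | x ∈ K ∧ x * x = 1}

theorem Iv_le_iff {K H : Subgroup G} : Iv K ≤ H ↔ ∀ x ∈ K, x * x = 1 → x ∈ H := by
  rw [Iv, closure_le]
  exact ⟨fun h x h1 h2 => h ⟨h1, h2⟩, fun h x hx => h x hx.1 hx.2⟩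

theorem mem_Iv {K : Subgroup G} {x : G} (hx : x ∈ K) (h : x * x = 1) : x ∈ Iv K :=
  Iv_le_iff.1 le_rfl x hx h

theorem Iv_le (K : Subgroup G) : Iv K ≤ K := Iv_le_iff.2 fun _ h _ => h

theorem Iv_mono {K L : Subgroup G} (h : K ≤ L) : Iv K ≤ Iv L :=
  Iv_le_iff.2 fun _ hx e => mem_Iv (h hx) e

theorem sq_cj {x : G} (h : x * x = 1) (g : G) : g * x * g⁻¹ * (g * x * g⁻¹) = 1 := by
  rw [conj_mul, h, mul_one, mul_inv_cancel]

theorem Iv_conj_le (K : Subgroup G) (g : G) : Iv (K ^ᵍ g) ≤ Iv K ^ᵍ g :=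
  Iv_le_iff.2 fun x hx e => mem_conj.2 (mem_Iv (mem_conj.1 hx) (by
    simpa using sq_cj e g⁻¹))

theorem Iv_conj (K : Subgroup G) (g : G) : Iv (K ^ᵍ g) = Iv K ^ᵍ g :=
  le_antisymm (Iv_conj_le K g) (conj_le_iff.2 (by
    have := Iv_conj_le (K ^ᵍ g) g⁻¹
    rwa [conj_conj_inv] at this))

theorem norm_le_norm_Iv (K : Subgroup G) : 𝐍(K) ≤ 𝐍(Iv K) := fun g hg =>
  conj_eq_self_iff.1 (by rw [← Iv_conj, conj_eq_of_mem_norm hg])

theorem comm_mem_right {K : Subgroup G} {x g : G} (hg : g ∈ 𝐍(K)) (hx : x ∈ K) : ⁅g, x⁆ ∈ K := by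
  rw [commutatorElement_def]
  exact mul_mem ((mem_normalizer_iff.1 hg x).1 hx) (inv_mem hx)

theorem comm_mem_left {K : Subgroup G} {x g : G} (hg : g ∈ 𝐍(K)) (hx : x ∈ K) : ⁅x, g⁆ ∈ K := by
  rw [← commutatorElement_inv]
  exact inv_mem (comm_mem_right hg hx)

theorem cjm {K : Subgroup G} {x g : G} (hg : g ∈ 𝐍(K)) (hx : x ∈ K) : g * x * g⁻¹ ∈ K :=
  (mem_normalizer_iff.1 hg x).1 hx

variable [Finite G]

theorem eq_one_of_two_odd {P U : Subgroup G} (hP : IsPGroup 2 P) (hU : Odd 𝐨(U)) {x : G}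
    (h1 : x ∈ P) (h2 : x ∈ U) : x = 1 :=
  P6.eq_one_of_odd_of_mem hP h1 (hU.of_dvd_nat (U.orderOf_dvd_natCard h2))

theorem cop_two_odd {P U : Subgroup G} (hP : IsPGroup 2 P) (hU : Odd 𝐨(U)) :
    𝐨(P).Coprime 𝐨(U) := by
  obtain ⟨n, hn⟩ := hP.exists_card_eq
  rw [hn]
  exact (Nat.coprime_two_left.2 hU).pow_left n

theorem exists_inv_of_two {P : Subgroup G} (hP : IsPGroup 2 P) (h : P ≠ ⊥) : ∃ t ∈ P, Inv t := by
  obtain ⟨x, hx⟩ := exists_prime_orderOf_dvd_card' 2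
    (prime_dvd_card_of_isPGroup Nat.prime_two hP h)
  exact ⟨x, x.2, P6.inv_of_orderOf (by rw [orderOf_coe, hx])⟩

theorem mem_of_odd_relIndex {N Y : Subgroup G} (hN : Y ≤ 𝐍(N)) (h : Odd (N.relIndex Y)) {t : G}
    (ht : t ∈ Y) (tt : t * t = 1) : t ∈ N := by
  haveI := H1.normal_subgroupOf_of_le hN
  exact KO.mem_of_odd_index (Y := N.subgroupOf Y) (t := ⟨t, ht⟩)
    (fun k => Nat.not_even_iff_odd.2 h (even_iff_two_dvd.2 k)) (Subtype.ext tt)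

theorem two_zpowers {x : G} (h : x * x = 1) : IsPGroup 2 (zpowers x) := by
  rcases eq_or_ne x 1 with rfl | h1
  · rw [zpowers_one_eq_bot]; exact IsPGroup.of_bot
  · exact (⟨h1, h⟩ : Inv x).isPGroup

theorem solv_of_bar {Y N K : Subgroup G} [(N.subgroupOf Y).Normal]
    (hK : K ≤ Y) (hN : Group.IsSolvable N) (h : Group.IsSolvable (H1.bar Y N K)) :
    Group.IsSolvable K := by
  have h1 : Group.IsSolvable (N.subgroupOf Y) := H1.isSolvable_subgroupOf hN Y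
  exact (H2.isSolvable_subgroupOf_iff hK).1 (L.isSolvable_of_map_mk' (N.subgroupOf Y) _ h)

theorem pow_mem_der {D P : Subgroup G} (hP : P ≤ D) {z : G} (hz : z ∈ ⁅D, D⁆) (hc : z ∈ 𝐂(D)) :
    z ^ P.relIndex D ∈ ⁅P, P⁆ := by
  rw [← map_subtype_der] at hz
  obtain ⟨y, hy, rfl⟩ := hz
  have := H4.pow_index_mem_commutator (P.subgroupOf D) (z := y)
    (mem_center_iff.2 fun g => Subtype.ext (hc g g.2)) hy
  rw [← H1.subgroupOf_commutator hP hP] at this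
  exact this

theorem odd_relIndex_of_le_sup {N O Y : Subgroup G} (hN : O ≤ 𝐍(N))
    (ho : Odd 𝐨(O)) (h : Y ≤ N ⊔ O) : Odd (N.relIndex Y) := by
  have h1 : N.relIndex Y ∣ N.relIndex (N ⊔ O) := by
    haveI := H1.normal_subgroupOf_of_le (sup_le le_normalizer hN)
    have := relIndex_dvd_index_of_normal (N.subgroupOf (N ⊔ O)) (Y.subgroupOf (N ⊔ O))
    rwa [relIndex_subgroupOf h] at this
  rw [relIndex_sup_of_norm hN] at h1
  exact ho.of_dvd_nat (h1.trans (relIndex_dvd_card N O))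

namespace AS

variable {S X : Subgroup G} (h : AS S X)
include h

theorem le : S ≤ X := h.syl.le

theorem two : IsPGroup 2 S := h.syl.pgrp

theorem comm {a b : G} (ha : a ∈ S) (hb : b ∈ S) : a * b = b * a := h.ab hb a ha

theorem isMulComm : IsMulCommutative S := isMulComm_iff_le_cent.2 h.ab

theorem solv : Group.IsSolvable S := H1.isSolvable_of_isMulCommutative h.isMulComm

theorem le_cent1 {a : G} (ha : a ∈ S) : S ≤ 𝐂[a] := h.ab.trans (cent_le_cent1 ha)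

theorem le_cent {T : Subgroup G} (hT : T ≤ S) : S ≤ 𝐂(T) := h.ab.trans (cent_anti hT)

theorem le_norm {T : Subgroup G} (hT : T ≤ S) : S ≤ 𝐍(T) := (h.le_cent hT).trans (cent_le_norm T)

theorem of_le {Y : Subgroup G} (h1 : S ≤ Y) (h2 : Y ≤ X) : AS S Y := ⟨h.syl.of_le h1 h2, h.ab⟩

theorem cj (g : G) : AS (S ^ᵍ g) (X ^ᵍ g) := ⟨h.syl.conj g, conj_le_cent_iff.2 h.ab⟩

theorem cop {U : Subgroup G} (hU : Odd 𝐨(U)) : 𝐨(S).Coprime 𝐨(U) := cop_two_odd h.two hU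

theorem eq_one {U : Subgroup G} (hU : Odd 𝐨(U)) {a : G} (ha : a ∈ S) (hu : a ∈ U) : a = 1 :=
  eq_one_of_two_odd h.two hU ha hu

theorem comm_two {T : Subgroup G} (hT : IsPGroup 2 T) (hX : T ≤ X) : T ≤ 𝐂(T) := by
  obtain ⟨g, -, hg⟩ := h.syl.exists_conj_le Nat.prime_two hT hX
  exact conj_le_cent_iff.1 (hg.trans (h.le_cent hg))

theorem le_of_two {T : Subgroup G} (hT : IsPGroup 2 T) (hX : T ≤ X) (hn : S ≤ 𝐍(T)) : T ≤ S :=
  h.syl.le_of_le_norm Nat.prime_two hT hX hn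

theorem exists_cj {x : G} (hx : x ∈ X) (xx : x * x = 1) : ∃ g ∈ X, g * x * g⁻¹ ∈ S := by
  obtain ⟨g, h1, hg⟩ := h.syl.exists_conj_le Nat.prime_two
    (two_zpowers xx) (zpowers_le.2 hx)
  exact ⟨g, h1, hg (conj_mem_conj (mem_zpowers x) g)⟩

theorem isSyl_inf {K : Subgroup G} (hK : K ≤ X) (hn : S ≤ 𝐍(K)) : IsSyl 2 (S ⊓ K) K :=
  (h.syl.of_le (le_inf h.le hn) inf_le_left).inf_normal Nat.prime_two
    ⟨le_inf hK le_normalizer, inf_le_right⟩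

theorem inf {K : Subgroup G} (hK : K ≤ X) (hn : S ≤ 𝐍(K)) : AS (S ⊓ K) K :=
  ⟨h.isSyl_inf hK hn, inf_le_left.trans (h.le_cent inf_le_left)⟩

theorem fusion {a g : G} (ha : a ∈ S) (hg : g ∈ X) (hb : g * a * g⁻¹ ∈ S) :
    ∃ k ∈ X ⊓ 𝐍(S), k * a * k⁻¹ = g * a * g⁻¹ := by
  have h1 := h.syl.of_le (le_inf h.le (h.le_cent1 hb)) inf_le_left
  have h0 : AS (S ^ᵍ g) X := by
    have := h.cj g
    rwa [conj_eq_of_mem hg] at this
  have h2 := h0.syl.of_le (le_inf h0.le (h0.le_cent1 (conj_mem_conj ha g))) inf_le_left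
  obtain ⟨c, hc, e⟩ := h1.exists_conj_eq Nat.prime_two h2
  rw [conj_conj, conj_eq_self_iff] at e
  refine ⟨c * g, ⟨mul_mem hc.1 hg, e⟩, ?_⟩
  rw [← mem_cent1_iff_conj.1 hc.2]
  group

theorem zs {c : G} (hc : c ∈ S) (cc : c * c = 1) (hn : X ⊓ 𝐍(S) ≤ 𝐂[c]) : Zs X c := by
  intro g hg
  rcases eq_or_ne c 1 with rfl | c1
  · simp
  obtain ⟨P, hP⟩ := h.syl.exists_sylow Nat.prime_two
  refine ⟨_, P1.zstar_sylow P (t := ⟨c, h.le hc⟩) ?_ (show _ ∈ (P : Subgroup X) from hP ▸ hc)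
    (fun y hy => Subtype.ext ?_) ⟨g, hg⟩, rfl⟩
  · rw [← orderOf_coe]
    exact (⟨c1, cc⟩ : Inv c).orderOf_eq
  · obtain ⟨k, hk, e⟩ := h.fusion hc y.2 (mem_subgroupOf.1 (hP.le hy))
    exact e.symm.trans (mem_cent1_iff_conj.1 (hn hk))

theorem exists_compl : ∃ R : Subgroup G, Odd 𝐨(R) ∧ R ≤ X ⊓ 𝐍(S) ∧
    ∀ g ∈ X ⊓ 𝐍(S), ∃ r ∈ R, ∃ s ∈ S, r * s = g := by
  have h1 := h.syl.of_le (le_inf h.le le_normalizer) (inf_le_left (b := 𝐍(S)))
  have ho : Odd (S.relIndex (X ⊓ 𝐍(S))) :=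
    Nat.not_even_iff_odd.1 fun k => h1.ndvd (even_iff_two_dvd.1 k)
  obtain ⟨R, hR⟩ := exists_sdProd_of_hall (K := S) (M := X ⊓ 𝐍(S)) ⟨h1.le, by
    obtain ⟨n, hn⟩ := h.two.exists_card_eq
    rw [hn]
    exact (Nat.coprime_two_left.2 ho).pow_left n⟩ inf_le_right
  exact ⟨R, hR.relIndex_left ▸ ho, hR.le_right, fun g hg => hR.mem_iff'.1 hg⟩

theorem le_comm (hf : ∀ c ∈ S, Inv c → ¬ X ⊓ 𝐍(S) ≤ 𝐂[c]) : S ≤ ⁅X, X⁆ := by
  obtain ⟨R, ho, hR, hd⟩ := h.exists_compl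
  have h1 := H1.commutator_sup_centralizer (hR.trans inf_le_right) (h.cop ho).symm
    (Or.inr h.solv)
  have h2 : S ⊓ 𝐂(R) = ⊥ := by
    by_contra hne
    obtain ⟨c, hc, ic⟩ := exists_inv_of_two (h.two.to_le inf_le_left) hne
    refine hf c hc.1 ic fun g hg => ?_
    obtain ⟨r, hr, s, hs, rfl⟩ := hd g hg
    exact mul_mem (mem_cent_iff_cent1.1 hc.2 hr) (h.le_cent1 hc.1 hs)
  rw [h2, sup_bot_eq] at h1
  exact h1.ge.trans (commutator_mono h.le (hR.trans inf_le_left))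

theorem bar {N : Subgroup G} [(N.subgroupOf X).Normal] :
    AS (H1.bar X N S) (⊤ : Subgroup (X ⧸ N.subgroupOf X)) :=
  ⟨H1.bar_top (Y := X) (N := N) ▸ h.syl.bar Nat.prime_two le_rfl,
    isMulComm_iff_le_cent.1 (H1.isMulCommutative_bar h.isMulComm)⟩

theorem solv_of_nc (hn : X ⊓ 𝐍(S) ≤ 𝐂(S)) : Group.IsSolvable X :=
  P5.Mx.isSolvable_of_le_sup h.le h.two (P5.Mx.le_sup_of_burnside h.le h.two h.syl.ndvd hn)

theorem Iv_le_of_normal {K N : Subgroup G} (hK : K ≤ X) (hn : S ≤ 𝐍(K)) (hN : K ≤ 𝐍(N))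
    (hV : ∀ v ∈ S ⊓ K, v * v = 1 → v ∈ N) : Iv K ≤ N :=
  Iv_le_iff.2 fun x hx xx => by
    obtain ⟨g, hg, e⟩ := (h.inf hK hn).exists_cj hx xx
    simpa [mul_assoc] using cjm (hN (inv_mem hg)) (hV _ e (sq_cj xx g))

/-- An abelian Sylow 2-subgroup induces inner automorphisms. -/
theorem inner {K : Subgroup G} (hK : K ≤ X) (hn : S ≤ 𝐍(K)) (hs : IsSimpleGroup K)
    (ns : ¬ Group.IsSolvable K) {s : G} (hS : s ∈ S) :
    ∃ v ∈ S ⊓ K, ∃ b ∈ S ⊓ 𝐂(K), v * b = s := by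
  have hY : K ⊔ S ≤ 𝐍(K) := sup_le le_normalizer hn
  have h0 := h.of_le le_sup_right (sup_le hK h.le)
  generalize hYe : K ⊔ S = Y at hY h0
  have hKY : K ≤ Y := hYe ▸ le_sup_left
  have hZn : Y ≤ 𝐍((Y ⊓ 𝐂(K) : Subgroup G)) :=
    H1.le_normalizer_inf le_normalizer (H1.le_normalizer_centralizer hY)
  have hd : ∀ N : Subgroup G, K ≤ 𝐍(N) → Group.IsSolvable N → K ⊓ N = ⊥ := fun N h1 h2 =>
    KO.eq_bot_of_solv hs ns ⟨inf_le_left, H1.le_normalizer_inf le_normalizer h1⟩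
      (H1.isSolvable_of_le inf_le_right h2)
  have hKC : K ⊓ 𝐂(K) = ⊥ := by
    have := hd 𝐙(K) (center_normal K).2 (H1.isSolvable_of_isMulCommutative (isMulComm_center K))
    rwa [← inf_assoc, inf_idem] at this
  have hZ2 : IsPGroup 2 (Y ⊓ 𝐂(K) : Subgroup G) := by
    have h1 : 𝐨((Y ⊓ 𝐂(K) : Subgroup G)) ∣ 𝐨(S) := by
      have e1 := H1.card_inf_mul_relIndex K (Y ⊓ 𝐂(K))
      rw [inf_left_comm, hKC, inf_bot_eq, card_bot, one_mul] at e1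
      haveI := H1.normal_subgroupOf_of_le hY
      have := relIndex_dvd_index_of_normal (K.subgroupOf Y) ((Y ⊓ 𝐂(K)).subgroupOf Y)
      rw [relIndex_subgroupOf inf_le_left, e1] at this
      refine this.trans ?_
      show K.relIndex Y ∣ _
      rw [← hYe, relIndex_sup_of_norm hn]
      exact relIndex_dvd_card K S
    obtain ⟨n, hn⟩ := h.two.exists_card_eq
    obtain ⟨m, -, hm⟩ := (Nat.dvd_prime_pow Nat.prime_two).1 (hn ▸ h1)
    exact IsPGroup.of_card hm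
  have hZS := h0.le_of_two hZ2 inf_le_left (h0.le.trans hZn)
  generalize hZe : Y ⊓ 𝐂(K) = Z at hZn hZ2 hZS
  have hZY : Z ≤ Y := hZe ▸ inf_le_left
  have hZC : Z ≤ 𝐂(K) := hZe ▸ inf_le_right
  haveI := H1.normal_subgroupOf_of_le hZn
  have h1 := (h0.bar (N := Z)).le_comm fun c hc ic hle => by
    obtain ⟨y, hy, rfl⟩ := H1.mem_bar.1 hc
    have z := (h0.bar (N := Z)).zs hc ic.sq hle
    have hN : Y ≤ 𝐍(H1.unbar Y Z (Od ⊤)) :=
      haveI := H2.normal_of_top_le_normalizer (P6.Od_normal (⊤ : Subgroup (Y ⧸ Z.subgroupOf Y))).2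
      H1.le_normalizer_unbar_of_normal _
    have hNs : Group.IsSolvable (H1.unbar Y Z (Od ⊤)) := by
      refine solv_of_bar (Y := Y) (N := Z) (H1.unbar_le _) ?_ ?_
      · exact H1.isSolvable_of_isPGroup hZ2
      · rw [H1.bar_unbar]; exact P5.Mx.isSolvable_of_odd (P6.odd_Od _)
    refine ic.ne (H1.qmk_eq_one_iff.2 (hZe ▸ ⟨y.2, fun k hk => ?_⟩))
    have : ⁅(y : G), k⁆ ∈ K ⊓ H1.unbar Y Z (Od ⊤) := ⟨comm_mem_right (hY y.2) hk,
      H1.coe_mem_unbar (y := ⁅y, ⟨k, hKY hk⟩⁆).2 (by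
        rw [map_commutatorElement]; exact z _ (mem_top _))⟩
    rw [hd _ (hKY.trans hN) hNs, mem_bot] at this
    exact (commutatorElement_eq_one_iff_mul_comm.1 this).symm
  rw [← H1.bar_top (Y := Y) (N := Z), ← H1.bar_commutator le_rfl le_rfl,
    H1.bar_le_bar_iff hZY h0.le (der_le Y)] at h1
  have h2 : ⁅Y, Y⁆ ≤ K := hYe ▸ der_sup_le le_normalizer hn (der_le K)
    (H1.commutator_le_of_le_normalizer hn) ((comm_eq_bot_iff.2 h.ab).le.trans bot_le)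
  obtain ⟨k, hk, z, hz, e⟩ := (mem_sup_of_norm (hZY.trans hY)).1 ((sup_le_sup_right h2 Z) (h1 hS))
  exact ⟨k, ⟨eq_mul_inv_of_mul_eq e ▸ S.mul_mem hS (S.inv_mem (hZS hz)), hk⟩, z,
    ⟨hZS hz, hZC hz⟩, e⟩

theorem inf_sn {K : Subgroup G} (hK : CompIn X K) : AS (S ⊓ K) K := by
  have h1 := (h.syl.inf_normal Nat.prime_two ⟨H2.layerOf_le X, H2.le_normalizer_layerOf X⟩).inf_normal
    Nat.prime_two ⟨hK.le_layerOf, hK.layerOf_le_normalizer⟩
  rw [inf_assoc, inf_eq_right.2 hK.le_layerOf] at h1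
  exact ⟨h1, inf_le_left.trans (h.le_cent inf_le_left)⟩

theorem le_norm_comp {K : Subgroup G} (hK : CompIn X K) : S ≤ 𝐍(K) := fun s hs => by
  by_contra hn
  have h1 := hK.le_centralizer_of_ne (hK.conj_of_mem_normalizer (le_normalizer (h.le hs)))
    fun e => hn (H2.mem_normalizer_iff_conj_smul.2 e.symm)
  refine H2.QS.not_isSolvable hK.2 ((h.inf_sn hK).solv_of_nc fun k hk v hv => ?_)
  have := H2.conj_mem_conj_smul (g := s) hv.2
  rw [h.comm hs hv.1, mul_inv_cancel_right] at this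
  exact h1 hk.1 v this

theorem odd_norm_comp {K D : Subgroup G} (hK : CompIn X K) (hD : D ≤ X) (ho : Odd 𝐨(D))
    (hn : S ≤ 𝐍(D)) : D ≤ 𝐍(K) := fun d hd => by
  by_contra hne
  have h1 := hK.le_centralizer_of_ne (hK.conj_of_mem_normalizer (le_normalizer (hD hd)))
    fun e => hne (H2.mem_normalizer_iff_conj_smul.2 e.symm)
  refine H2.QS.not_isSolvable hK.2 ((h.inf_sn hK).solv_of_nc fun k hk v hv => ?_)
  have h2 := H2.conj_mem_conj_smul (g := d) hv.2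
  have h3 : Commute (d * v * d⁻¹) v⁻¹ := h1 (inv_mem hv.2) _ h2
  obtain ⟨m, hm⟩ := h.two ⟨v, hv.1⟩
  have hm' : v ^ 2 ^ m = 1 := congrArg Subtype.val hm
  have h4 : ⁅d, v⁆ = 1 := eq_one_of_two_odd (P := zpowers ⁅d, v⁆) (IsPGroup.of_card (n := _)
    ((Nat.card_zpowers _).trans ((Nat.dvd_prime_pow Nat.prime_two).1 (orderOf_dvd_of_pow_eq_one (by
      rw [commutatorElement_def, h3.mul_pow, conj_pow, inv_pow, hm']; simp))).choose_spec.2)) ho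
    (mem_zpowers _) (comm_mem_left (hn hv.1) hd)
  rw [commutatorElement_def, mul_inv_eq_one] at h4
  exact h1 hk.1 v (h4 ▸ h2)

section Core

variable (hO : Od X = ⊥)
include hO

theorem fit_le : fittingOf X ≤ S := by
  rw [fittingOf_eq_pCoreOf Nat.prime_two hO]
  exact h.syl.pCoreOf_le Nat.prime_two

theorem comp_center {K : Subgroup G} (hK : CompIn X K) : K ⊓ 𝐂(K) = ⊥ :=
  eq_bot_iff.2 fun z hz => by
    have h1 := h.inf_sn hK
    have h2 := pow_mem_der h1.le ((H2.QS.commutator_eq hK.2).ge hz.1) hz.2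
    rw [comm_eq_bot_iff.2 h1.ab, mem_bot] at h2
    exact P6.eq_one_of_odd_of_mem h.two (h.fit_le hO (hK.inf_centralizer_le_fittingOf hz))
      ((Nat.not_even_iff_odd.1 fun k => h1.syl.ndvd (even_iff_two_dvd.1 k)).of_dvd_nat
        (orderOf_dvd_of_pow_eq_one h2))

theorem comp_simple {K : Subgroup G} (hK : CompIn X K) : IsSimpleGroup K :=
  H2.isSimpleGroup_of_isQuasisimple hK.2
    ((H2.center_eq_bot_iff_inf_centralizer K).2 (h.comp_center hO hK))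

theorem comp_dec {K : Subgroup G} (hK : CompIn X K) {s : G} (hs : s ∈ S) :
    ∃ v ∈ S ⊓ K, ∃ b ∈ S ⊓ 𝐂(K), v * b = s :=
  h.inner hK.le (h.le_norm_comp hK) (h.comp_simple hO hK) (H2.QS.not_isSolvable hK.2) hs

theorem mem_fit {x : G} (hx : x ∈ X) (h1 : x ∈ 𝐂(fittingOf X))
    (h2 : ∀ K, CompIn X K → x ∈ 𝐂(K)) : x ∈ fittingOf X := by
  refine H2.inf_centralizer_fstarOf_le_fittingOf X ⟨hx, ?_⟩
  rw [H2.fstarOf_eq, cent_sup, H2.layerOf_eq_sSup]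
  exact ⟨mem_cent_iff_cent1.2 (sSup_le fun K hK => mem_cent_iff_cent1.1 (h2 K hK)), h1⟩

theorem le_of_parts {H : Subgroup G} (h1 : fittingOf X ≤ H) (h2 : ∀ K, CompIn X K → S ⊓ K ≤ H) :
    S ≤ H := fun s hs => by
  obtain ⟨t, ⟨ht, hst⟩, hm⟩ := Set.exists_min_image {t | t ∈ S ∧ s * t⁻¹ ∈ H}
    (fun t => {K | CompIn X K ∧ t ∉ 𝐂(K)}.ncard) (Set.toFinite _) ⟨s, hs, by simp⟩
  suffices t ∈ H by simpa using mul_mem hst this
  refine h1 (h.mem_fit hO (h.le ht) (h.le_cent (h.fit_le hO) ht) fun K hK => ?_)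
  by_contra hn
  obtain ⟨v, hv, b, hb, rfl⟩ := h.comp_dec hO hK ht
  refine (hm b ⟨hb.1, ?_⟩).not_gt (Set.ncard_lt_ncard ⟨fun K' hK' => ⟨hK'.1, fun e => hK'.2 ?_⟩,
    fun k => (k ⟨hK, hn⟩).2 hb.2⟩ (Set.toFinite _))
  · have := mul_mem hst (h2 K hK hv)
    rwa [mul_inv_rev, ← mul_assoc, mul_assoc, inv_mul_cancel, mul_one] at this
  · rcases eq_or_ne K K' with rfl | hne
    · exact hb.2
    · simpa using mul_mem (inv_mem (hK.le_centralizer_of_ne hK'.1 hne hv.2)) e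

theorem le_of_gen {H : Subgroup G} (h1 : ∀ K, CompIn X K → K ≤ H) (h2 : X ⊓ 𝐍(S) ≤ H) :
    X ≤ H := by
  have h3 : S ≤ H2.fstarOf X := h.le_of_parts hO (H2.fittingOf_le_fstarOf X)
    fun K hK => inf_le_right.trans hK.le_fstarOf
  rw [← (h.syl.of_le h3 (H2.fstarOf_le X)).frattini Nat.prime_two
    ⟨H2.fstarOf_le X, H2.le_normalizer_fstarOf X⟩, H2.fstarOf_eq, H2.layerOf_eq_sSup]
  exact sup_le (sup_le (sSup_le h1) ((h.fit_le hO).trans ((le_inf h.le le_normalizer).trans h2))) h2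

theorem eq_one_of_cent {D : Subgroup G} (hD : D ≤ X) (ho : Odd 𝐨(D)) (hn : S ≤ 𝐍(D)) {x : G}
    (hx : x ∈ D) (hc : ∀ K, CompIn X K → x ∈ 𝐂(K)) : x = 1 :=
  h.eq_one ho (h.fit_le hO (h.mem_fit hO (hD hx) (P5.Mx.le_cent_of_coprime
    (hD.trans (fittingOf_normal X).2) ((h.fit_le hO).trans hn)
    (cop_two_odd (h.two.to_le (h.fit_le hO)) ho).symm hx) hc)) hx

end Core

end AS

end Cfsg.Agent.P7
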