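/-
General lemmas on four-groups acting on groups of odd order.
-/
import Cfsg.Agent.P7.L2B
import Cfsg.Agent.P5.Final
import Cfsg.Agent.P6.SE
import Cfsg.Agent.H5.OmegaCent

set_option autoImplicit false
set_option linter.unusedSectionVars false

namespace Cfsg.Agent.P7.Ax

open Subgroup Cfsg Cfsg.Agent Cfsg.Agent.FT
open Cfsg.Agent.P5 (V4 Tri LT K4)
open Cfsg.Agent.P6 (Inv Od Rk2 odd_Od Od_normal le_Od norm_le_norm_Od odd_of_le
  odd_orderOf_of_mem eq_one_of_eq_inv)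

universe u

variable {G : Type u} [Group G]

theorem sq_two_pow (e : E8 G) (n : ℕ) : ∀ x : G, x ^ 2 ^ n = 1 → x * x = 1 := by
  induction n with
  | zero => intro x h; rw [pow_zero, pow_one] at h; rw [h, one_mul]
  | succ n ih =>
    intro x h
    rw [pow_succ', pow_mul] at h
    exact e.sq x (by rw [← ih _ h, ← pow_add])

theorem sq_of_two (e : E8 G) {P : Subgroup G} (hP : IsPGroup 2 P) {x : G} (hx : x ∈ P) :
    x * x = 1 := by
  obtain ⟨n, hn⟩ := hP ⟨x, hx⟩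
  exact sq_two_pow e n x (congrArg Subtype.val hn)

theorem comm_two (e : E8 G) (P : Subgroup G) (hP : IsPGroup 2 P) : IsMulCommutative P :=
  isMulComm_iff_le_cent.2 fun x hx => mem_cent.2 fun y hy => by
    rw [← P5.inv_eq_of_sq (sq_of_two e hP (mul_mem hy hx)), mul_inv_rev,
      P5.inv_eq_of_sq (sq_of_two e hP hx), P5.inv_eq_of_sq (sq_of_two e hP hy)]

theorem inverts_pow_odd {g z : G} (h : g * z * g⁻¹ = z⁻¹) {m : ℕ} (hm : Odd m) :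
    g ^ m * z * (g ^ m)⁻¹ = z⁻¹ := by
  obtain ⟨j, rfl⟩ := hm
  have h1 : g ^ 2 ∈ 𝐂[z⁻¹] := by
    rw [cent1_inv, mem_cent1_iff_conj]
    calc g ^ 2 * z * (g ^ 2)⁻¹ = g * (g * z * g⁻¹) * g⁻¹ := by rw [pow_two]; group
      _ = (g * z * g⁻¹)⁻¹ := by rw [conj_inv, ← h]
      _ = z := by rw [h, inv_inv]
  calc _ = (g ^ 2) ^ j * (g * z * g⁻¹) * ((g ^ 2) ^ j)⁻¹ := by rw [pow_succ, pow_mul]; group
    _ = _ := by rw [h, mem_cent1_iff_conj.1 (pow_mem h1 j)]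

theorem orderOf_cj (g x : G) : orderOf (g * x * g⁻¹) = orderOf x :=
  (MulAut.conj g).orderOf_eq x

theorem inv_a {a b : G} (h : V4 a b) : Inv a := ⟨h.t1, h.tt⟩

theorem inv_b {a b : G} (h : V4 a b) : Inv b := ⟨h.s1, h.ss⟩

theorem inv_ab {a b : G} (h : V4 a b) : Inv (a * b) := ⟨h.ts1, h.tsts⟩

theorem v4_of {a b : G} (ha : Inv a) (hb : Inv b) (hne : a ≠ b) (hc : b ∈ 𝐂[a]) : V4 a b :=
  ⟨ha.ne, hb.ne, hne, ha.sq, hb.sq, mem_cent1.1 hc⟩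

theorem v4_conj {a b : G} (h : V4 a b) (g : G) : V4 (g * a * g⁻¹) (g * b * g⁻¹) :=
  h.map (MulAut.conj g).toMonoidHom ((inv_a h).conj g).ne ((inv_b h).conj g).ne
    ((inv_ab h).conj g).ne

theorem v4_mul {a b : G} (h : V4 a b) : V4 a (a * b) :=
  v4_of (inv_a h) (inv_ab h) h.ts_ne_t.symm (mul_mem (self_mem_cent1 a) (mem_cent1.2 h.comm))

theorem cent_V2 (a b : G) : 𝐂(V2 a b) = 𝐂[a] ⊓ 𝐂[b] :=
  le_antisymm (le_inf (cent_le_cent1 V4.t_mem) (cent_le_cent1 V4.s_mem)) fun _ hg =>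
    mem_cent_iff_cent1.2 (V4.le_iff.2 ⟨mem_cent1_comm.1 hg.1, mem_cent1_comm.1 hg.2⟩)

theorem V2_swap (a b : G) : V2 b a = V2 a b := by rw [V2, Set.pair_comm]

theorem V2_mul (a b : G) : V2 a (a * b) = V2 a b :=
  le_antisymm (V4.le_iff.2 ⟨V4.t_mem, mul_mem V4.t_mem V4.s_mem⟩)
    (V4.le_iff.2 ⟨V4.t_mem, (mul_mem_cancel_left V4.t_mem).1 V4.s_mem⟩)

theorem V2_le_cent {a b : G} (h : V4 a b) : V2 a b ≤ 𝐂(V2 a b) := by
  rw [cent_V2]
  exact V4.le_iff.2 ⟨⟨self_mem_cent1 a, mem_cent1.2 h.comm.symm⟩,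
    mem_cent1.2 h.comm, self_mem_cent1 b⟩

theorem V2_eq {a b c d : G} (h : V4 a b) (h' : V4 c d) (hc : c ∈ V2 a b) (hd : d ∈ V2 a b) :
    V2 c d = V2 a b :=
  have : Finite (V2 a b) := Nat.finite_of_card_ne_zero (by rw [h.card]; omega)
  eq_of_le_of_card_ge (V4.le_iff.2 ⟨hc, hd⟩) (by rw [h.card, h'.card])

theorem exists_v4 {a b c : G} (h : V4 a b) (hc : c ∈ V2 a b) (c1 : c ≠ 1) :
    ∃ d, V4 c d ∧ V2 c d = V2 a b := by
  rcases h.mem_iff.1 hc with rfl | rfl | rfl | rfl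
  · exact absurd rfl c1
  · exact ⟨b, h, rfl⟩
  · exact ⟨a, h.swap, V2_swap _ _⟩
  · exact ⟨a, (v4_mul h).swap, by rw [V2_swap, V2_mul]⟩

theorem inverts_mul {a b y : G} (ha : Inv a) (hy : y ∈ 𝐂[a]) (hc : b ∈ 𝐂[a])
    (h : b * y * b = y⁻¹) : a * b * y * (a * b) = y⁻¹ := by
  nth_rw 1 [mem_cent1.1 hc]
  rw [mul_assoc b, mem_cent1.1 hy, ← h]
  simp only [mul_assoc, ha.mul_cancel_left]

theorem norm_zp_of_inv {a y : G} (ha : Inv a) (h : a * y * a = y⁻¹) : a ∈ 𝐍(zpowers y) :=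
  conj_eq_self_iff.1 (by rw [← zpowers_conj, ha.inv_eq, h, zpowers_inv])

theorem norm_zp_of_cent {a y : G} (h : y ∈ 𝐂[a]) : a ∈ 𝐍(zpowers y) :=
  cent_le_norm _ (by rw [cent_zpowers]; exact mem_cent1_comm.1 h)

theorem norm_cent1 {y g : G} (h : g ∈ 𝐍(zpowers y)) : g ∈ 𝐍(𝐂[y]) := by
  rw [← cent_zpowers]; exact H1.normalizer_le_normalizer_centralizer _ h

/-- An element of odd order inverted by an element of a subgroup normalized by it lies there. -/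
theorem mem_of_inv {K : Subgroup G} {u y : G} (hu : u ∈ K) (hy : y ∈ 𝐍(K))
    (ho : Odd (orderOf y)) (h : u * y * u⁻¹ = y⁻¹) : y ∈ K := by
  refine P6.mem_of_sq_mem ho ?_
  have e : y * y = y * u * y⁻¹ * u⁻¹ := by
    calc y * y = y * (u * y * u⁻¹)⁻¹ := by rw [h, inv_inv]
      _ = _ := by group
  rw [e]
  exact mul_mem ((mem_normalizer_iff.1 hy u).1 hu) (inv_mem hu)

variable [Finite G]

theorem exists_odd_pow (e : E8 G) (g : G) : ∃ m, Odd m ∧ g ^ m * g ^ m = 1 := by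
  obtain ⟨k, m, hm, h⟩ := Nat.exists_eq_two_pow_mul_odd (orderOf_pos g).ne'
  exact ⟨m, hm, sq_two_pow e k _ (by rw [← pow_mul, mul_comm, ← h, pow_orderOf_eq_one])⟩

theorem exists_inv_of_real (e : E8 G) {g z : G} (hz : z ≠ z⁻¹) (h : g * z * g⁻¹ = z⁻¹) :
    ∃ u ∈ zpowers g, Inv u ∧ u * z * u = z⁻¹ := by
  obtain ⟨m, hm, h2⟩ := exists_odd_pow e g
  have h3 := inverts_pow_odd h hm
  refine ⟨g ^ m, npow_mem_zpowers g m, ⟨fun e1 => hz ?_, h2⟩, by rwa [P5.inv_eq_of_sq h2] at h3⟩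
  simpa [e1] using h3

theorem not_sq_inverts (e : E8 G) {g z : G} (hz : z ≠ z⁻¹) : g * g * z * (g * g)⁻¹ ≠ z⁻¹ :=
  fun h => by
  obtain ⟨m, hm, h2⟩ := exists_odd_pow e g
  have h3 := inverts_pow_odd h hm
  rw [(Commute.refl g).mul_pow, h2] at h3
  exact hz (by simpa using h3)

theorem cop4 {a b : G} (h : V4 a b) {X : Subgroup G} (hX : Odd 𝐨(X)) :
    𝐨(V2 a b).Coprime 𝐨(X) := by
  rw [h.card]
  exact (Nat.coprime_two_left.2 hX).pow_left 2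

theorem comm4 {a b : G} (h : V4 a b) : IsMulCommutative (V2 a b) :=
  isMulComm_iff_le_cent.2 (V2_le_cent h)

theorem gen4 {a b : G} (h : V4 a b) {X H : Subgroup G} (hX : Odd 𝐨(X)) (hn : V2 a b ≤ 𝐍(X))
    (hc : ∀ c d, V4 c d → V2 c d = V2 a b → X ⊓ 𝐂[c] ≤ H) : X ≤ H := by
  refine H1.le_of_forall_centralizer_le (comm4 h) (fun e => ?_) hn (cop4 h hX) fun c h1 h2 => ?_
  · obtain ⟨x, hx⟩ := isCyclic_iff_zpowers.1 e
    have h1 := orderOf_dvd_of_pow_eq_one (n := 2) (x := x)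
      (by rw [pow_two, h.sq (hx.le (mem_zpowers x))])
    rw [← Nat.card_zpowers, hx, h.card] at h1
    omega
  · obtain ⟨d, h3, h4⟩ := exists_v4 h h1 h2
    exact hc c d h3 h4

theorem exists_syl4 {a b : G} (h : V4 a b) {X Q : Subgroup G} (hX : Odd 𝐨(X))
    (hn : V2 a b ≤ 𝐍(X)) {p : ℕ} (hp : p.Prime) (hQ : IsPGroup p Q) (hQX : Q ≤ X)
    (hnQ : V2 a b ≤ 𝐍(Q)) : ∃ P, IsSyl p P X ∧ Q ≤ P ∧ V2 a b ≤ 𝐍(P) :=
  exists_invariant_isSyl hp hn (cop4 h hX) (Or.inl (H1.isSolvable_of_isMulCommutative (comm4 h)))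
    hQ hQX hnQ

theorem exists_conj4 {a b : G} (h : V4 a b) {X P Q : Subgroup G} (hX : Odd 𝐨(X))
    (hn : V2 a b ≤ 𝐍(X)) {p : ℕ} (hp : p.Prime) (hP : IsSyl p P X) (hnP : V2 a b ≤ 𝐍(P))
    (hQ : IsPGroup p Q) (hQX : Q ≤ X) (hnQ : V2 a b ≤ 𝐍(Q)) :
    ∃ c ∈ X ⊓ 𝐂(V2 a b), Q ^ᵍ c ≤ P :=
  have := Fact.mk hp
  H1.exists_centralizer_conj_le_sylow hn (cop4 h hX)
    (Or.inl (H1.isSolvable_of_isMulCommutative (comm4 h))) hP.le hP.pgrp hP.ndvd hnP hQX hQ hnQ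

/-- An involution that does not centralize `X` inverts an element of prime order. -/
theorem exists_inv_prime {a : G} (ha : Inv a) {X : Subgroup G} (hn : a ∈ 𝐍(X)) (hc : ¬ X ≤ 𝐂[a]) :
    ∃ x ∈ X, (orderOf x).Prime ∧ a * x * a = x⁻¹ := by
  obtain ⟨x, hx, x1, hi⟩ := P6.exists_inverted ha.sq hn fun e => hc (mem_cent_iff_cent1.1 e)
  obtain ⟨y, hy, hp⟩ := P6.exists_prime_pow_mem x1
  exact ⟨y, zpowers_le.2 hx hy, hp, P6.inverts_of_mem_zpowers ha.sq hi hy⟩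

theorem inverts_of_fpf {a : G} (ha : Inv a) {X : Subgroup G} (hX : Odd 𝐨(X)) (hn : a ∈ 𝐍(X))
    (hc : ∀ x ∈ X, x ∈ 𝐂[a] → x = 1) {x : G} (hx : x ∈ X) : a * x * a = x⁻¹ := by
  obtain ⟨b, hb, c, -, h1, h2, rfl⟩ := P5.Mx.exists_cent_mul_inv hX ha.sq hn hx
  rw [hc b hb (mem_cent1.2 h1.symm), one_mul, h2]

theorem comm_of_inverts {a : G} (ha : Inv a) {X : Subgroup G} (h : ∀ x ∈ X, a * x * a = x⁻¹) :
    IsMulCommutative X :=
  isMulComm_iff_le_cent.2 fun x hx => mem_cent.2 fun y hy => inv_injective (by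
    rw [← h _ (mul_mem hy hx), mul_inv_rev, ← h x hx, ← h y hy]
    simp only [mul_assoc, ha.mul_cancel_left])

/-- The elements inverted by `a` form a subgroup when `C(a)` is a Hall subgroup. -/
theorem exists_inv_subgroup {a : G} (ha : Inv a) {X : Subgroup G} (hX : Odd 𝐨(X))
    (hn : a ∈ 𝐍(X)) (hc : ∀ x ∈ X, (orderOf x).Prime → a * x * a = x⁻¹ →
      ¬ orderOf x ∣ 𝐨((X ⊓ 𝐂[a] : Subgroup G))) :
    ∃ K : Subgroup G, ∀ x, x ∈ K ↔ x ∈ X ∧ a * x * a = x⁻¹ := by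
  obtain ⟨H, hH, hn'⟩ := H1.exists_invariant_isPiHallOf (zpowers_le.2 hn) (ha.coprime hX)
    (P5.Mx.isSolvable_of_odd hX) (piOf (X ⊓ 𝐂[a]))ᶜ
  have h1 : ∀ x ∈ H, a * x * a = x⁻¹ := fun x hx =>
    inverts_of_fpf ha (odd_of_le (hall_le hH) hX) (hn' (mem_zpowers a)) (fun y hy hya =>
      mem_bot.1 (isPi_disjoint (isPi_piOf (X ⊓ 𝐂[a])) (hall_isPi hH) ▸
        ⟨⟨hall_le hH hy, hya⟩, hy⟩)) hx
  have h2 : IsPiHallOf (piOf (X ⊓ 𝐂[a])) (X ⊓ 𝐂[a]) X := by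
    refine (show IsHallIn (X ⊓ 𝐂[a]) X from ⟨inf_le_left, Nat.coprime_of_dvd fun p hp h3 h4 => ?_⟩).hall
    rw [inf_comm, inf_relIndex_right] at h4
    obtain ⟨x, hx, rfl, hi⟩ := P6.exists_inverted_of_dvd hp hX ha hn h4
    exact hc x hx hp hi h3
  have h3 := hall_relIndex_eq_card h2 hH
  rw [inf_comm, inf_relIndex_right, ← P6.ncard_class] at h3
  have h4 : (H : Set G) = {x | x ∈ X ∧ a * x * a = x⁻¹} := by
    refine Set.eq_of_subset_of_ncard_le (fun x hx => ⟨hall_le hH hx, h1 x hx⟩) ?_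
    rw [← Nat.card_coe_set_eq (H : Set G), SetLike.coe_sort_coe, ← h3]
    refine Set.ncard_le_ncard_of_injOn (fun x => x * a * x⁻¹) (fun x hx => ⟨x, hx.1, rfl⟩)
      fun x hx y hy e => ?_
    have e1 : ∀ x, a * x * a = x⁻¹ → x * a * x⁻¹ = x * x * a := fun x hx => by
      rw [← hx]; simp only [mul_assoc, ha.mul_cancel_left]
    have e2 : x * x = y * y := by simpa only [e1 x hx.2, e1 y hy.2, mul_left_inj] using e
    obtain ⟨m, hm⟩ := hX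
    have e3 : ∀ x ∈ X, x = (x * x) ^ (m + 1) := fun x hx => by
      rw [← pow_two, ← pow_mul, show 2 * (m + 1) = 𝐨(X) + 1 by omega, pow_succ,
        P5.pow_card_of_mem hx, one_mul]
    rw [e3 x hx.1, e2, ← e3 y hy.1]
  exact ⟨H, fun x => by rw [← SetLike.mem_coe, h4]; rfl⟩

theorem norm_inv_subgroup {a : G} {X K : Subgroup G} (hK : ∀ x, x ∈ K ↔ x ∈ X ∧ a * x * a = x⁻¹)
    {g : G} (hg : g ∈ 𝐍(X)) (hga : g ∈ 𝐂[a]) : g ∈ 𝐍(K) :=
  mem_norm_of_conj_le fun _ hy => by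
    obtain ⟨x, hx, rfl⟩ := mem_conj'.1 hy
    refine (hK _).2 ⟨(mem_normalizer_iff.1 hg x).1 ((hK x).1 hx).1, ?_⟩
    calc _ = (g * a * g⁻¹) * (g * x * g⁻¹) * (g * a * g⁻¹) := by rw [mem_cent1_iff_conj.1 hga]
      _ = g * (a * x * a) * g⁻¹ := by group
      _ = _ := by rw [((hK x).1 hx).2]; group

/-- The Frattini argument for the action on `A`. -/
theorem exists_norm_conj {p : ℕ} (hp : p.Prime) {Q A : Subgroup G} (hQ : IsSyl p Q 𝐂(A)) {g : G}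
    (hg : g ∈ 𝐍(A)) : ∃ m ∈ 𝐍(Q), ∀ a ∈ A, m * a * m⁻¹ = g * a * g⁻¹ := by
  obtain ⟨c, hc, e⟩ := hQ.exists_conj_eq hp
    (hQ.conj_of_mem_norm (H1.normalizer_le_normalizer_centralizer _ hg))
  rw [conj_conj] at e
  refine ⟨c * g, conj_eq_self_iff.1 e, fun a ha => ?_⟩
  rw [← mem_cent1_iff_conj.1 (cent_le_cent1 ((mem_normalizer_iff.1 hg a).1 ha) hc)]
  group

/-- If the fixed points of order `r` are central, so are all elements of order `r`. -/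
theorem omega_le {a b : G} (h : V4 a b) {r : ℕ} (hr : r.Prime) (r2 : r ≠ 2) {Q E : Subgroup G}
    (hQ : IsPGroup r Q) (hn : V2 a b ≤ 𝐍(Q)) (hE : E = omegaOne r 𝐙(Q))
    (hc : ∀ c d, V4 c d → V2 c d = V2 a b → ∀ x ∈ Q ⊓ 𝐂[c], x ^ r = 1 → x ∈ E) {x : G} (hx : x ∈ Q)
    (hr1 : x ^ r = 1) : x ∈ E := by
  have := Fact.mk hr
  have hZ : E ≤ 𝐙(Q) := hE ▸ omegaOne_le r _
  have nE : 𝐍(Q) ≤ 𝐍(E) := hE ▸ (norm_le_norm_center Q).trans (norm_le_norm_omegaOne _ r)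
  have h1 : omegaOne r (Q ⊓ centMod Q E) ≤ E := by
    refine gen4 h (P6.odd_of_isPGroup hr r2 (isPGroup_omegaOne (hQ.to_le inf_le_left)))
      ((H1.le_normalizer_inf hn (norm_le_norm_centMod hn (hn.trans nE))).trans
        (norm_le_norm_omegaOne _ r)) fun c d h1 h2 y hy => hc c d h1 h2 y
          ⟨(omegaOne_le r _ hy.1).1, hy.2⟩ (BG01.omegaOne_exp_of_class_two (hr.odd_of_ne_two r2) ?_ y hy.1)
    exact (commutator_mono inf_le_left inf_le_right).trans (((le_centMod_iff.1 le_rfl).2.trans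
      (hZ.trans inf_le_right)).trans (cent_anti inf_le_left))
  have := H1.normal_subgroupOf_of_le ((le_norm_self Q).trans nE)
  have h2 : IsElementaryAbelian r (E.subgroupOf Q) := by
    rw [← isElemAb_map_iff (Subgroup.subtype_injective Q), subgroupOf_map_subtype, hE]
    exact elemAb_of_le inf_le_left (elemAb_omegaOne (isMulComm_center Q))
  refine H5.mem_of_cent_max_normal_elemAb r2 hQ h2 (fun B hB h3 h4 => le_antisymm ?_ h4)
    (x := ⟨x, hx⟩) (mem_cent.2 fun y hy => Subtype.ext (mem_cent.1 (hZ hy).2 x hx).symm)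
    (Subtype.ext hr1)
  rw [← map_subtype_le_map_subtype, subgroupOf_map_subtype]
  refine le_inf ?_ (map_subtype_le B)
  by_contra h5
  obtain ⟨y, hy, h6, h7⟩ := BG01.exists_mem_centMod (isNilpotent_of_isPGroup hr hQ)
    ((le_norm_self Q).trans nE) ⟨map_subtype_le B, H2.le_normalizer_map_subtype B⟩ h5
  exact h6 (h1 (mem_omegaOne ⟨map_subtype_le B hy, h7⟩
    (((isElemAb_map_iff (Subgroup.subtype_injective Q)).2 h3).2 y hy)))

end Cfsg.Agent.P7.Ax
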