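/-
Subgroups with a Klein four Sylow 2-subgroup, and an elementary abelian group of order 9.
-/
import Cfsg.Agent.P7.A0

set_option autoImplicit false
set_option linter.unusedSectionVars false

namespace Cfsg.Agent.P7.Ax

open Subgroup Cfsg Cfsg.Agent Cfsg.Agent.FT
open Cfsg.Agent.P5 (V4 Tri LT K4)
open Cfsg.Agent.P6 (Inv Od Rk2 odd_Od Od_normal le_Od norm_le_norm_Od odd_of_le
  odd_orderOf_of_mem eq_one_of_eq_inv)

universe u

variable {G : Type u} [Group G] [Finite G]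

instance normal_Od (X : Subgroup G) : ((Od X).subgroupOf X).Normal :=
  H1.normal_subgroupOf_of_le (Od_normal X).2

/-- The map `X → X / O(X)`. -/
abbrev ob (X : Subgroup G) : X →* X ⧸ (Od X).subgroupOf X := H1.qmk X (Od X)

theorem ob_cent1 {X : Subgroup G} {a : G} (ha : a ∈ X) (h : Inv a) :
    H1.bar X (Od X) (X ⊓ 𝐂[a]) = 𝐂[ob X ⟨a, ha⟩] :=
  P5.bar_cent1 (Od_normal X).1 (odd_Od X) ha h.sq

theorem v4_ob {X : Subgroup G} {a b : G} (h : V4 a b) (ha : a ∈ X) (hb : b ∈ X) :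
    V4 (ob X ⟨a, ha⟩) (ob X ⟨b, hb⟩) :=
  (h.subtype ha hb).map _
    (fun e => (inv_a h).not_mem_of_odd (odd_Od X) (H1.qmk_eq_one_iff.1 e))
    (fun e => (inv_b h).not_mem_of_odd (odd_Od X) (H1.qmk_eq_one_iff.1 e))
    fun e => (inv_ab h).not_mem_of_odd (odd_Od X) (H1.qmk_eq_one_iff.1 e)

theorem npc_or_tri {X : Subgroup G} {a b : G} (h : V4 a b) (ha : a ∈ X) (hb : b ∈ X)
    (h8 : ¬ 8 ∣ 𝐨(X)) : X ≤ Od X ⊔ V2 a b ∨ ∃ x ∈ X, Tri x a b := by
  rcases P5.normal_compl_or_tri (X := ⊤) h8 (h.subtype ha hb) trivial trivial with h1 | ⟨x, -, h1⟩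
  · refine Or.inl fun g hg => ?_
    have h2 := mem_map_of_mem X.subtype (h1 ⟨g, hg⟩ trivial)
    rwa [Subgroup.map_sup, ← pPrimeCoreOf_map X.subtype_injective Nat.prime_two, ← MonoidHom.range_eq_map,
      range_subtype, MonoidHom.map_closure, Set.image_pair] at h2
  · exact Or.inr ⟨x, x.2, h1.map X.subtype⟩

theorem struct4 {X : Subgroup G} {a b : G} (h : V4 a b) (ha : a ∈ X) (hb : b ∈ X)
    (h8 : ¬ 8 ∣ 𝐨(X)) : (∀ u ∈ X, Inv u → ∃ o ∈ Od X, ∃ c ∈ V2 a b, o * c * o⁻¹ = u) ∨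
      ∃ L A, L.Normal ∧ LT L A (ob X ⟨a, ha⟩) (ob X ⟨b, hb⟩) := by
  have h1 := v4_ob h ha hb
  have k := h1.k4 fun e => h8 (e.trans (card_quotient_dvd_card _))
  have hO : H2.pPrimeCoreOf 2 (⊤ : Subgroup (X ⧸ (Od X).subgroupOf X)) = ⊥ := by
    rw [← H1.bar_top, FT.pPrimeCoreOf_bar Nat.prime_two (Od_normal X).1 le_rfl
      (H2.coprime_card_pPrimeCoreOf 2 X), H1.bar_self]
  rcases k.normal_or_LT (P5.ind_all _) (Nat.lt_succ_self _) hO with h2 | ⟨L, hL, h2⟩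
  · refine Or.inl fun u hu h3 => ?_
    have h4 := IsSyl.le_of_normal (M := ⊤) Nat.prime_two
      ⟨le_top, k.isPGroup, k.not_dvd_relIndex le_top⟩ (normal_iff_top_le.1 h2)
      (P5.isPGroup_zpowers_of_sq (j := ob X ⟨u, hu⟩)
        (by rw [← map_mul, show (⟨u, hu⟩ : X) * ⟨u, hu⟩ = 1 from Subtype.ext h3.sq, map_one]))
      le_top (mem_zpowers _)
    have key : ∀ c : X, (c : G) ∈ V2 a b → ob X ⟨u, hu⟩ = ob X c →
        ∃ o ∈ Od X, ∃ c ∈ V2 a b, o * c * o⁻¹ = u := fun c hc e => by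
      obtain ⟨w, hw, e1⟩ := P5.exists_conj_of_odd (odd_Od X) (h.sq hc) h3.sq
        ((H1.qmk_eq_one_iff (y := c * ⟨u, hu⟩)).1 (by
          rw [map_mul, e, ← map_mul, show c * c = 1 from Subtype.ext (h.sq hc), map_one]))
      exact ⟨w, hw, c, hc, e1⟩
    rcases h1.mem_iff.1 h4 with e | e | e | e
    · exact key 1 (one_mem _) (e.trans (map_one _).symm)
    · exact key _ V4.t_mem e
    · exact key _ V4.s_mem e
    · exact key (⟨a, ha⟩ * ⟨b, hb⟩) (mul_mem V4.t_mem V4.s_mem) (e.trans (map_mul _ _ _).symm)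
  · obtain ⟨A, hA⟩ := h2 _ V4.t_mem _ V4.s_mem h1.t1 h1.s1 h1.ts
    exact Or.inr ⟨L, A, hL, hA⟩

theorem lt_card {H : Type u} [Group H] [Finite H] {L : Subgroup H} {a b : H} (h : LT L ⊥ a b) :
    𝐨(L) = 60 := by
  obtain ⟨q, -, h1, h2⟩ := h.ord
  have := P5.card_ne_twelve h.not_isSolvable
  rw [card_bot] at h1
  obtain rfl | rfl : q = 5 ∨ q = 3 := by omega
  all_goals omega

theorem mem_norm_V2 {a b g : G} (h1 : g * a * g⁻¹ ∈ V2 a b) (h2 : g * b * g⁻¹ ∈ V2 a b) :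
    g ∈ 𝐍(V2 a b) :=
  mem_norm_of_conj_le (conj_le_iff.2 (V4.le_iff.2
    ⟨mem_conj.2 (by simpa using h1), mem_conj.2 (by simpa using h2)⟩))

/-- All centralizers of involutions of `V` in `X` centralize `V`. -/
theorem fifteen {X : Subgroup G} {a b : G} (h : V4 a b) (ha : a ∈ X) (hb : b ∈ X)
    (h8 : ¬ 8 ∣ 𝐨(X)) (hc : ∀ c d, V4 c d → V2 c d = V2 a b → X ⊓ 𝐂[c] ≤ 𝐂[d]) :
    X ≤ 𝐍(V2 a b) ∨ 𝐂[a].relIndex X = 15 := by
  have hO : Od X ≤ 𝐂(V2 a b) := gen4 h (odd_Od X) ((V4.le_iff.2 ⟨ha, hb⟩).trans (Od_normal X).2)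
    fun c d h1 h2 => by
      rw [← h2, cent_V2]
      exact le_inf inf_le_right ((inf_le_inf_right _ (Od_normal X).1).trans (hc c d h1 h2))
  rcases struct4 h ha hb h8 with h1 | ⟨L, A, hL, h1⟩
  · have key : ∀ u ∈ X, Inv u → u ∈ V2 a b := fun u hu h2 => by
      obtain ⟨o, ho, c, h3, rfl⟩ := h1 u hu h2
      rwa [mem_cent1_iff_conj.1 (cent_le_cent1 h3 (hO ho))]
    exact Or.inl fun g hg => mem_norm_V2 (key _ (P5.cj hg ha) ((inv_a h).conj g))
      (key _ (P5.cj hg hb) ((inv_b h).conj g))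
  obtain rfl : A = ⊥ := eq_bot_iff.2 fun x hx => by
    have h2 := h1.hyp.Ut hx
    rw [← ob_cent1 ha (inv_a h)] at h2
    have h3 := H1.bar_mono (le_inf inf_le_left (hc a b h rfl)) h2
    rw [ob_cent1 hb (inv_b h)] at h3
    exact eq_one_of_eq_inv (odd_orderOf_of_mem h1.hyp.odd hx)
      ((mem_cent1_iff_conj.1 (mem_cent1_comm.1 h3)).symm.trans (h1.inv x hx))
  have h2 := H1.card_inf_mul_relIndex 𝐂[ob X ⟨a, ha⟩] L
  rw [inf_comm, h1.hyp.card_H, lt_card h1, card_bot,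
    ← H2.relIndex_sup_left_of_le_normalizer (le_top.trans (normalizer_eq_top L).ge),
    h1.hyp.cent1_sup_eq_top, ← ob_cent1 ha (inv_a h), ← H1.bar_top,
    H1.relIndex_bar (Od_normal X).1 inf_le_left le_rfl, sup_of_le_left (Od_normal X).1,
    sup_of_le_left (le_inf (Od_normal X).1 (hO.trans (cent_le_cent1 V4.t_mem))), inf_comm,
    inf_relIndex_right] at h2
  omega

theorem relIndex_le_three {X : Subgroup G} {a b : G} (h : V4 a b) (hX : X ≤ 𝐍(V2 a b)) :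
    𝐂[a].relIndex X ≤ 3 := by
  rw [← P6.ncard_class]
  refine (Set.ncard_le_ncard (t := {a, b, a * b}) ?_).trans (Set.ncard_insert_le _ _ |>.trans
    (Nat.succ_le_succ (Set.ncard_insert_le _ _ |>.trans (by simp))))
  rintro _ ⟨g, hg, rfl⟩
  exact (h.mem_iff.1 ((mem_normalizer_iff.1 (hX hg) a).1 V4.t_mem)).resolve_left
    ((inv_a h).conj g).ne

theorem card_add_two_le {X D : Subgroup G} {a b x : G} (h : V4 a b) (ha : a ∈ X) (hb : b ∈ X)
    (h8 : ¬ 8 ∣ 𝐨(X)) (hx : x ∈ X) (tri : Tri x a b) (hD : D ≤ X) (ho : Odd 𝐨(D))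
    (hi : ∀ d ∈ D, a * d * a = d⁻¹) : 𝐨(D) + 2 ≤ 𝐂[a].relIndex X := by
  have h1 : ∀ c, Inv (a * c) → c ∉ (fun d => a * d) '' (D : Set G) := by
    rintro _ hc ⟨d, hd, rfl⟩
    rw [(inv_a h).mul_cancel_left] at hc
    exact hc.not_mem_of_odd ho hd
  have h2 : a * b ∉ insert b ((fun d => a * d) '' (D : Set G)) := by
    rintro (e | e)
    · exact h.ts_ne_s e
    · exact h1 _ (by rw [(inv_a h).mul_cancel_left]; exact inv_b h) e
  rw [← P6.ncard_class, ← SetLike.coe_sort_coe, Nat.card_coe_set_eq,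
    ← Set.ncard_image_of_injective _ (mul_right_injective a),
    show ∀ n : ℕ, n + 2 = n + 1 + 1 from fun _ => rfl,
    ← Set.ncard_insert_of_notMem (h1 b (inv_ab h)), ← Set.ncard_insert_of_notMem h2]
  refine Set.ncard_le_ncard ?_
  rintro _ (rfl | rfl | ⟨d, hd, rfl⟩)
  · exact h.conj_of_tri h8 ha hb hx tri (mul_mem ha hb) h.ts1 h.tsts
  · exact h.conj_of_tri h8 ha hb hx tri hb h.s1 h.ss
  · refine h.conj_of_tri h8 ha hb hx tri (mul_mem ha (hD hd)) (fun e => ?_) ?_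
    · exact (inv_a h).not_mem_of_odd ho (by
        rw [eq_inv_of_mul_eq_one_left e]; exact inv_mem hd)
    · rw [← mul_assoc, hi d hd, inv_mul_cancel]

/-- The action of a matrix on exponent vectors modulo 3. -/
def m3 (i j m : ℕ) (v : ℕ × ℕ) : ℕ × ℕ := ((i * v.1 + m * v.2) % 3, j * v.1 % 3)

theorem e9_aux (e : E8 G) {z d g : G} (z3 : z ^ 3 = 1) (d3 : d ^ 3 = 1) (z1 : z ≠ 1)
    (hc : Commute z d) {i j m : ℕ} (gz : g * z * g⁻¹ = z ^ i * d ^ j) (gd : g * d * g⁻¹ = z ^ m)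
    (h : (m3 i j m)^[2] (1, 0) = (2, 0) ∨ (m3 i j m)^[4] (1, 0) = (2, 0)) : False := by
  have md : ∀ {x : G}, x ^ 3 = 1 → ∀ n, x ^ (n % 3) = x ^ n := fun hx n => by
    conv_rhs => rw [← Nat.mod_add_div n 3, pow_add, pow_mul, hx, one_pow, mul_one]
  have key : ∀ n, g ^ n * z * (g ^ n)⁻¹ =
      z ^ ((m3 i j m)^[n] (1, 0)).1 * d ^ ((m3 i j m)^[n] (1, 0)).2 := fun n => by
    induction n with
    | zero => simp
    | succ n ih =>
      rw [Function.iterate_succ_apply', m3, md z3, md d3, pow_succ', mul_inv_rev,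
        show ∀ x : G, g * x * z * (x⁻¹ * g⁻¹) = g * (x * z * x⁻¹) * g⁻¹ from fun x => by group, ih,
        ← conj_mul, ← conj_pow, ← conj_pow, gz, gd, (hc.pow_pow _ _).mul_pow, ← pow_mul, ← pow_mul,
        ← pow_mul, pow_add, mul_assoc, mul_assoc, (hc.pow_pow _ _).eq]
  have e2 : z ^ 2 = z⁻¹ := eq_inv_of_mul_eq_one_left (by rw [← pow_succ, z3])
  have hz : z ≠ z⁻¹ := fun e1 => z1 (by
    rw [← z3, pow_succ', pow_two, mul_eq_one_iff_eq_inv.2 e1, mul_one])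
  rcases h with h | h
  · exact not_sq_inverts e (g := g) hz (by rw [← pow_two, key, h, e2]; simp)
  · exact not_sq_inverts e (g := g ^ 2) hz (by rw [← pow_add, key, h, e2]; simp)

theorem exists_pow_three {x y : G} (x3 : x ^ 3 = 1) (h : y ∈ zpowers x) : ∃ i < 3, y = x ^ i := by
  obtain ⟨n, rfl⟩ := (mem_powers_iff_mem_zpowers.2 h)
  exact ⟨n % 3, Nat.mod_lt _ (by omega), show x ^ n = _ by
    conv_lhs => rw [← Nat.mod_add_div n 3, pow_add, pow_mul, x3, one_pow, mul_one]⟩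

/-- In `⟨z, d⟩ ≅ 3²` the two eigenspaces of an involution are not fused. -/
theorem e9 (e : E8 G) {z d t g : G} (z3 : z ^ 3 = 1) (d3 : d ^ 3 = 1) (z1 : z ≠ 1)
    (hc : Commute z d) (nd : d ∉ zpowers z) (tz : t * z * t⁻¹ = z⁻¹) (td : t * d * t⁻¹ = d)
    (gd : g * d * g⁻¹ ∈ zpowers z) (gz : g * z * g⁻¹ ∈ zpowers z ⊔ zpowers d) : False := by
  obtain ⟨_, h1, _, h2, gz⟩ := (mem_sup_of_norm (zpowers_le.2 (norm_zp_of_cent
    (mem_cent1.2 hc.symm)))).1 gz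
  obtain ⟨i, hi, rfl⟩ := exists_pow_three z3 h1
  obtain ⟨j, hj, rfl⟩ := exists_pow_three d3 h2
  obtain ⟨m, hm, gd⟩ := exists_pow_three z3 gd
  have e2 : z⁻¹ = z ^ 2 := (eq_inv_of_mul_eq_one_left (by rw [← pow_succ, z3])).symm
  have m0 : m ≠ 0 := fun e1 => nd (by
    rw [e1, pow_zero, conj_eq_one_iff] at gd; exact gd ▸ one_mem _)
  have j0 : j ≠ 0 := fun e1 => nd (by
    have h3 : g ∈ 𝐍(zpowers z) := mem_norm_of_conj_le (by
      rw [← zpowers_conj, ← gz, e1, pow_zero, mul_one]; exact zpowers_le.2 h1)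
    exact (mem_normalizer_iff.1 h3 d).2 (gd ▸ npow_mem_zpowers z m))
  have h3 : ∀ x, t * g * x * (t * g)⁻¹ = t * (g * x * g⁻¹) * t⁻¹ := fun x => by group
  refine (?_ : _ ∨ _).elim (e9_aux e z3 d3 z1 hc gz.symm gd)
    (e9_aux e (g := t * g) z3 d3 z1 hc (i := 2 * i) (j := j) (m := 2 * m) ?_ ?_)
  · interval_cases i <;> interval_cases j <;> interval_cases m <;> first | omega | decide
  · rw [h3, ← gz, ← conj_mul, ← conj_pow, ← conj_pow, tz, td, e2, pow_mul]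
  · rw [h3, gd, ← conj_pow, tz, e2, pow_mul]

end Cfsg.Agent.P7.Ax
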