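/-
The three types of elements of odd order in `PSL₂(q)`.
-/
import Cfsg.Agent.P7.A1
import Cfsg.Agent.P7.L2Main
import Cfsg.Agent.P8.Inv

set_option autoImplicit false
set_option linter.unusedSectionVars false

namespace Cfsg.Agent.P7.Ax

open Subgroup Cfsg Cfsg.Agent Cfsg.Agent.FT
open Cfsg.Agent.P5 (V4 Tri LT K4)
open Cfsg.Agent.P6 (Inv Od Rk2 odd_Od Od_normal le_Od norm_le_norm_Od odd_of_le
  odd_orderOf_of_mem eq_one_of_eq_inv)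

universe u

variable {G : Type u} [Group G]

/-- `y` lies in a torus of order `2 k`. -/
def TK (L : Subgroup G) (k : ℕ) (y : G) : Prop :=
  𝐨((L ⊓ 𝐂[y] : Subgroup G)) = 2 * k ∧ (∃ b ∈ L, b * y * b⁻¹ = y⁻¹) ∧
    ∃ u ∈ L ⊓ 𝐂[y], Inv u ∧ ∀ v ∈ L ⊓ 𝐂[y], Inv v → v = u

/-- `y` lies in a torus of order `l`. -/
def TL (L : Subgroup G) (l : ℕ) (y : G) : Prop :=
  𝐨((L ⊓ 𝐂[y] : Subgroup G)) = l ∧ IsCyclic (L ⊓ 𝐂[y] : Subgroup G) ∧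
    ∃ b ∈ L, Inv b ∧ (∀ w ∈ L ⊓ 𝐂[y], b * w * b = w⁻¹) ∧
      ∀ g ∈ L, g * y * g⁻¹ ∈ 𝐂[y] → g ∈ 𝐂[y] ∨ b * g ∈ 𝐂[y]

/-- `y` is unipotent. -/
def TP (L : Subgroup G) (q p k : ℕ) (y : G) : Prop :=
  𝐨((L ⊓ 𝐂[y] : Subgroup G)) = q ∧ IsElementaryAbelian p (L ⊓ 𝐂[y] : Subgroup G) ∧
    ∀ b ∈ L, Inv b → b * y * b = y⁻¹ → q = 4 * k + 1 ∧ (∀ w ∈ L ⊓ 𝐂[y], b * w * b = w⁻¹) ∧
      ∃ R ≤ L ⊓ 𝐂[b], 𝐨(R) = k ∧ R ≤ 𝐍((L ⊓ 𝐂[y] : Subgroup G))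

theorem inf_cent_cj {L : Subgroup G} {g : G} (hg : g ∈ 𝐍(L)) (y : G) :
    L ⊓ 𝐂[g * y * g⁻¹] = (L ⊓ 𝐂[y]) ^ᵍ g := by
  rw [conj_inf, cent1_conj, conj_eq_of_mem_norm hg]

theorem inverts_cj {b w : G} (h : b * w * b = w⁻¹) (g : G) :
    g * b * g⁻¹ * (g * w * g⁻¹) * (g * b * g⁻¹) = (g * w * g⁻¹)⁻¹ := by
  rw [conj_mul, conj_mul, h, conj_inv]

theorem cent_cj {a y : G} (h : y ∈ 𝐂[a]) (g : G) : g * y * g⁻¹ ∈ 𝐂[g * a * g⁻¹] := by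
  rw [cent1_conj]; exact conj_mem_conj h g

theorem cj_cj (g y : G) : g * (g⁻¹ * y * g⁻¹⁻¹) * g⁻¹ = y := by group

theorem cj_cj' (g y : G) : g⁻¹ * (g * y * g⁻¹) * g⁻¹⁻¹ = y := by group

theorem TK.cj {L : Subgroup G} {k : ℕ} {y g : G} (h : TK L k y) (hg : g ∈ L) :
    TK L k (g * y * g⁻¹) := by
  obtain ⟨h1, ⟨b, hb, h2⟩, u, hu, h3, h4⟩ := h
  rw [TK, inf_cent_cj (le_norm_self L hg), card_conj]
  refine ⟨h1, ⟨_, P5.cj hg hb, by rw [conj_inv, conj_mul, conj_mul, h2, conj_inv]⟩, _,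
    conj_mem_conj hu g, h3.conj g, fun _ hv h5 => ?_⟩
  obtain ⟨v, h6, rfl⟩ := mem_conj'.1 hv
  rw [h4 v h6 (cj_cj' g v ▸ h5.conj g⁻¹)]

theorem TL.cj {L : Subgroup G} {l : ℕ} {y g : G} (h : TL L l y) (hg : g ∈ L) :
    TL L l (g * y * g⁻¹) := by
  obtain ⟨h1, h2, b, hb, h3, h4, h5⟩ := h
  rw [TL, inf_cent_cj (le_norm_self L hg), card_conj]
  refine ⟨h1, (isCyclic_map_iff (conj_injective g)).2 h2, _, P5.cj hg hb, h3.conj g,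
    fun _ hw => ?_, fun x hx h6 => ?_⟩
  · obtain ⟨w, h6, rfl⟩ := mem_conj'.1 hw
    exact inverts_cj (h4 w h6) g
  · rw [cent1_conj, mem_conj] at h6
    simp only [cent1_conj, mem_conj]
    have := h5 _ (P5.cj (inv_mem hg) hx) (by convert h6 using 1; group)
    refine this.imp (fun e => by simpa using e) fun e => by convert e using 1; group

theorem TP.cj {L : Subgroup G} {q p k : ℕ} {y g : G} (h : TP L q p k y) (hg : g ∈ L) :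
    TP L q p k (g * y * g⁻¹) := by
  obtain ⟨h1, h2, h3⟩ := h
  rw [TP, inf_cent_cj (le_norm_self L hg), card_conj]
  refine ⟨h1, (isElemAb_map_iff (conj_injective g)).2 h2, fun b hb h4 h5 => ?_⟩
  obtain ⟨h6, h7, R, h8, h9, h10⟩ := h3 _ (P5.cj (inv_mem hg) hb) (h4.conj _)
    (cj_cj' g y ▸ inverts_cj h5 g⁻¹)
  refine ⟨h6, fun _ hw => ?_, R ^ᵍ g, ?_, by rw [card_conj, h9], conj_le_norm_iff.2 h10⟩
  · obtain ⟨w, h11, rfl⟩ := mem_conj'.1 hw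
    exact cj_cj g b ▸ inverts_cj (h7 w h11) g
  · rw [← cj_cj g b, inf_cent_cj (le_norm_self L hg)]
    exact conj_mono h8 g

variable [Finite G] {L : Subgroup G} {q : ℕ} {s s0 : G} (f : L2F L q s s0)

include f in
theorem comm_R : IsMulCommutative (R0 L s) := isMulComm_of_isCyclic f.lt.cyc

theorem tk_of {y : G} (hy : y ∈ R0 L s) (y1 : y ≠ 1) : TK L f.k y := by
  have h := f.lt.hyp
  have e : L ⊓ 𝐂[y] = R0 L s ⊔ zpowers s := le_antisymm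
    (fun g hg => h.mem_sup_iff.2 (f.lt.cent y hy y1 g hg.1 (mem_cent1_iff_commute.1 hg.2)))
    (sup_le (le_inf h.UX ((isMulComm_iff_le_cent.1 (comm_R f)).trans (cent_le_cent1 hy)))
      (zpowers_le.2 ⟨h.tX, mem_cent1_comm.1 (h.Ut hy)⟩))
  rw [TK, e, h.card_sup, f.cardR]
  refine ⟨rfl, ⟨s0, h.sX, f.lt.inv y hy⟩, s, mem_sup_right (mem_zpowers s), inv_a f.v4,
    fun v hv h1 => by_contra fun h2 => ?_⟩
  rcases h.mem_sup_iff.1 hv with h3 | h3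
  · exact h1.not_mem_of_odd h.odd h3
  · exact (h1.mul (inv_a f.v4) h2 (mem_cent1.1 (sup_le h.Ut (zpowers_le.2 (self_mem_cent1 s))
      hv)).symm).not_mem_of_odd h.odd h3

theorem tl_of {y : G} (hy : y ∈ f.T) (y1 : y ≠ 1) : TL L f.l y := by
  have e := f.centT y hy y1
  have h1 : f.T ≤ 𝐂[y] := e ▸ inf_le_right
  rw [TL, e]
  refine ⟨f.cardT, f.cycT, s0, f.lt.hyp.sX, inv_b f.v4,
    fun w hw => by rw [← f.invT w hw, (inv_b f.v4).inv_eq], fun g hg h2 => ?_⟩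
  exact (f.normT y hy y1 g hg (e ▸ ⟨P5.cj hg (f.TL hy), h2⟩)).imp (@h1 _) (@h1 _)

theorem HL : f.H ≤ L ⊓ 𝐍(f.P) := f.normP ▸ le_sup_right

theorem card_B : 𝐨((L ⊓ 𝐍(f.P) : Subgroup G)) ∣ 𝐨(f.H) * q := by
  have := H1.card_sup_dvd ((HL f).trans inf_le_right)
  rwa [sup_comm, ← f.normP, f.cardP] at this

theorem card_H : (q = 4 * f.k + 1 ∧ f.H = R0 L s ⊔ zpowers s ∧ 𝐨(f.H) = 2 * f.k) ∨
    (q + 1 = 4 * f.k ∧ 𝐨(f.H) = f.l) :=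
  f.eps.imp (fun h => ⟨h.1, h.2.2, by rw [h.2.2, f.lt.hyp.card_sup, f.cardR]⟩)
    fun h => ⟨h.1, by rw [h.2.2, f.cardT]⟩

theorem odd_P : Odd 𝐨(f.P) := f.cardP.symm ▸ f.ep.oddq

theorem inv_P {b : G} (hb : b ∈ L) (h : Inv b) (hn : b ∈ 𝐍(f.P)) {w : G} (hw : w ∈ f.P) :
    b * w * b = w⁻¹ :=
  inverts_of_fpf h (odd_P f) hn (fun x hx h1 => by_contra fun x1 => h.not_mem_of_odd (odd_P f)
    (f.centP x hx x1 ▸ ⟨hb, mem_cent1_comm.1 h1⟩)) hw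

theorem tp_of {y : G} (hy : y ∈ f.P) (y1 : y ≠ 1) : TP L q f.p f.k y := by
  rw [TP, f.centP y hy y1]
  refine ⟨f.cardP, f.eaP, fun b hb h1 h2 => ?_⟩
  have h3 : b ∈ L ⊓ 𝐍(f.P) := ⟨hb, f.tiP y hy y1 b hb (by
    rw [h1.inv_eq, h2]; exact le_norm_self _ (inv_mem hy))⟩
  rcases card_H f with ⟨e1, e2, e3⟩ | ⟨-, e⟩
  · have h4 : ¬ 4 ∣ 𝐨((L ⊓ 𝐍(f.P) : Subgroup G)) := fun h => by
      have := h.trans (card_B f)
      rw [e3, mul_assoc] at this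
      have := Nat.odd_iff.1 (f.oddk.mul f.ep.oddq)
      omega
    have h5 : R0 L s ⊔ zpowers s ≤ L ⊓ 𝐍(f.P) := e2 ▸ HL f
    obtain ⟨g, hg, rfl⟩ := P8.exists_conj_of_not_four_dvd h4 (h5 (mem_sup_right (mem_zpowers s)))
      f.v4.tt f.v4.t1 h3 h1.sq h1.ne
    refine ⟨e1, fun w hw => inv_P f hb h1 h3.2 hw, R0 L s ^ᵍ g, ?_, by rw [card_conj, f.cardR],
      conj_le_of_mem (le_sup_left.trans (h5.trans inf_le_right)) hg.2⟩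
    rw [inf_cent_cj (le_norm_self L hg.1)]
    exact conj_mono f.lt.hyp.UH g
  · exact absurd h3 (h1.not_mem_of_odd (Odd.of_dvd_nat (e ▸ f.ep.oddl.mul f.ep.oddq) (card_B f)))

theorem typ {y : G} (hy : y ∈ L) (y1 : y ≠ 1) (ho : Odd (orderOf y)) :
    TK L f.k y ∨ TL L f.l y ∨ TP L q f.p f.k y := by
  obtain ⟨g, hg, h⟩ := f.part y hy
  have h1 : g * y * g⁻¹ ≠ 1 := fun e => y1 (conj_eq_one_iff.1 e)
  rw [← cj_cj' g y]
  refine h.imp (fun h => (tk_of f ?_ h1).cj (inv_mem hg)) fun h => h.imp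
    (fun h => (tl_of f h h1).cj (inv_mem hg)) fun h => (tp_of f h h1).cj (inv_mem hg)
  exact f.lt.hyp.mem_of_odd ⟨P5.cj hg hy, sup_le f.lt.hyp.Ut (zpowers_le.2 (self_mem_cent1 s)) h⟩
    ho (by rw [conj_pow, pow_orderOf_eq_one, mul_one, mul_inv_cancel])

theorem exists_T {y : G} (hy : y ∈ L) {r : ℕ} (hr : r.Prime) (rl : r ∣ f.l) (ry : r ∣ orderOf y) :
    ∃ g ∈ L, L ⊓ 𝐂[y] = f.T ^ᵍ g := by
  obtain ⟨g, hg, h⟩ := f.part y hy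
  rw [← orderOf_cj g] at ry
  have key : ∀ n, n.Coprime f.l → ¬ r ∣ n := fun n hn h =>
    hr.one_lt.ne' (Nat.eq_one_of_dvd_coprimes hn h rl)
  rcases h with h | h | h
  · refine absurd (ry.trans (orderOf_dvd_card_of_mem h)) (key _ ?_)
    rw [f.lt.hyp.card_sup, f.cardR]
    exact f.ep.cop_kl.coprime_dvd_left ⟨2, by ring⟩
  · refine ⟨g⁻¹, inv_mem hg, ?_⟩
    rw [← f.centT _ h (fun e => hr.not_dvd_one (by simpa [e] using ry)),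
      inf_cent_cj (le_norm_self L hg), conj_conj_inv]
  · exact absurd (ry.trans (orderOf_dvd_card_of_mem h)) (key _ (f.cardP.symm ▸ f.ep.cop_ql))

theorem TL.inverts {l : ℕ} {y b : G} (h : TL L l y) (hl : Odd l) (hb : b ∈ L) (h1 : Inv b)
    (h2 : b * y * b⁻¹ ∈ 𝐂[y]) {w : G} (hw : w ∈ L ⊓ 𝐂[y]) : b * w * b = w⁻¹ := by
  obtain ⟨e, h3, c, hc, h4, h5, h6⟩ := h
  rcases h6 b hb h2 with h7 | h7
  · exact absurd ⟨hb, h7⟩ (h1.not_mem_of_odd (X := L ⊓ 𝐂[y]) (e.symm ▸ hl))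
  · have h8 := mem_cent1_iff_conj.1 (cent_le_cent1 hw (isMulComm_iff_le_cent.1
      (isMulComm_of_isCyclic h3) ⟨mul_mem hc hb, h7⟩))
    rw [mul_inv_rev, h1.inv_eq, h4.inv_eq] at h8
    rw [← h5 w hw]
    nth_rw 2 [← h8]
    simp only [mul_assoc, h4.mul_cancel_left, h4.sq, mul_one]

theorem TL.sq_or {l : ℕ} {y g : G} (h : TL L l y) (hg : g ∈ L) (h2 : g * y * g⁻¹ ∈ 𝐂[y]) :
    g ∈ 𝐂[y] ∨ g * g = 1 := by
  obtain ⟨-, -, c, hc, h4, h5, h6⟩ := h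
  refine (h6 g hg h2).imp_right fun h7 => ?_
  have := h5 _ ⟨mul_mem hc hg, h7⟩
  rw [h4.mul_cancel_left, mul_inv_rev, h4.inv_eq, mul_left_inj] at this
  exact mul_eq_one_iff_eq_inv.2 this

theorem tl_of_dvd {y : G} (hy : y ∈ L) {r : ℕ} (hr : r.Prime) (rl : r ∣ f.l)
    (ry : r ∣ orderOf y) : TL L f.l y := by
  obtain ⟨g, hg, h⟩ := exists_T f hy hr rl ry
  obtain ⟨w, hw, rfl⟩ := mem_conj'.1 (h.le ⟨hy, self_mem_cent1 y⟩)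
  refine (tl_of f hw fun e => hr.not_dvd_one ?_).cj hg
  simpa [e] using ry

/-- Subgroups of prime order dividing `l` are conjugate. -/
theorem conj_l {y z : G} (hy : y ∈ L) (hz : z ∈ L) {r : ℕ} (hr : r.Prime) (rl : r ∣ f.l)
    (ry : orderOf y = r) (rz : orderOf z = r) {c : G} (e : (L ⊓ 𝐂[y]) ^ᵍ c = L ⊓ 𝐂[z]) :
    zpowers (c * y * c⁻¹) = zpowers z :=
  eq_of_card_prime_of_isCyclic hr (tl_of_dvd f hz hr rl rz.symm.dvd).2.1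
    (zpowers_le.2 (e.le (conj_mem_conj (mem_inf.2 ⟨hy, self_mem_cent1 y⟩) c))) (zpowers_le.2 ⟨hz, self_mem_cent1 z⟩)
    (by rw [Nat.card_zpowers, orderOf_cj, ry]) (by rw [Nat.card_zpowers, rz])

theorem exists_conj_l {y z : G} (hy : y ∈ L) (hz : z ∈ L) {r : ℕ} (hr : r.Prime) (rl : r ∣ f.l)
    (ry : orderOf y = r) (rz : orderOf z = r) : ∃ c ∈ L, zpowers (c * y * c⁻¹) = zpowers z := by
  obtain ⟨g, hg, e1⟩ := exists_T f hy hr rl ry.symm.dvd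
  obtain ⟨h, hh, e2⟩ := exists_T f hz hr rl rz.symm.dvd
  exact ⟨h * g⁻¹, mul_mem hh (inv_mem hg),
    conj_l f hy hz hr rl ry rz (by rw [e1, e2, conj_conj, inv_mul_cancel_right])⟩

theorem tori {y z : G} (hy : y ∈ L) (hz : z ∈ L) {r : ℕ} (hr : r.Prime) (rl : r ∣ f.l)
    (ry : orderOf y = r) (rz : orderOf z = r) (iy : s0 * y * s0 = y⁻¹) (iz : s0 * z * s0 = z⁻¹) :
    ∃ c ∈ L ⊓ 𝐂[s0], zpowers (c * y * c⁻¹) = zpowers z := by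
  have key : ∀ y ∈ L, orderOf y = r → s0 * y * s0 = y⁻¹ → ∃ c ∈ L ⊓ 𝐂[s0], L ⊓ 𝐂[y] = f.T ^ᵍ c :=
    fun y hy ry iy => by
    obtain ⟨g, hg, e⟩ := exists_T f hy hr rl ry.symm.dvd
    rw [e]
    refine f.tori g hg fun w hw => ?_
    rw [(inv_b f.v4).inv_eq]
    refine (tl_of_dvd f hy hr rl ry.symm.dvd).inverts f.ep.oddl f.lt.hyp.sX (inv_b f.v4) ?_ (e ▸ hw)
    rw [(inv_b f.v4).inv_eq, iy]
    exact inv_mem (self_mem_cent1 y)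
  obtain ⟨g, hg, e1⟩ := key y hy ry iy
  obtain ⟨h, hh, e2⟩ := key z hz rz iz
  exact ⟨h * g⁻¹, mul_mem hh (inv_mem hg),
    conj_l f hy hz hr rl ry rz (by rw [e1, e2, conj_conj, inv_mul_cancel_right])⟩

theorem oddsub (e : q = 4 * f.k + 1) {K : Subgroup G} (hK : K ≤ L) (ho : Odd 𝐨(K)) {r : ℕ}
    (hr : r.Prime) (rl : r ∣ f.l) (rK : r ∣ 𝐨(K)) : 𝐨(K) ∣ f.l := by
  obtain ⟨g, hg, h⟩ := f.oddsub K hK ho
  rw [← card_conj K g] at rK ⊢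
  have key : ∀ n, n.Coprime f.l → ¬ r ∣ n := fun n hn h =>
    hr.one_lt.ne' (Nat.eq_one_of_dvd_coprimes hn h rl)
  have h1 : (2 * f.k).Coprime f.l := f.ep.cop_kl.coprime_dvd_left ⟨2, by ring⟩
  rcases h with h | h | h
  · exact absurd (rK.trans (FT.card_dvd_of_le h)) (key _ (f.cardR.symm ▸ h1.coprime_mul_left))
  · exact f.cardT ▸ FT.card_dvd_of_le h
  · refine absurd (rK.trans ((FT.card_dvd_of_le (le_inf (conj_le_of_mem hK hg) h)).trans (card_B f)))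
      (key _ ?_)
    obtain ⟨-, -, e3⟩ | ⟨e3, -⟩ := card_H f
    · exact e3.symm ▸ h1.mul_left f.ep.cop_ql
    · omega

include f in
theorem inv_R {u : G} (hu : u ∈ L ⊓ 𝐂[s]) (h : Inv u) (us : u ≠ s) {y : G} (hy : y ∈ R0 L s) :
    u * y * u = y⁻¹ := by
  have key : ∀ u, s0 * u ∈ R0 L s → u * y * u⁻¹ = y⁻¹ := fun u h1 => by
    have h2 := mem_cent1_iff_conj.1 (cent_le_cent1 hy (isMulComm_iff_le_cent.1 (comm_R f) h1))
    calc _ = s0⁻¹ * (s0 * u * y * (s0 * u)⁻¹) * s0 := by group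
      _ = _ := by rw [h2, ← f.lt.inv y hy, (inv_b f.v4).inv_eq]
  rcases (f.lt.hyp.invol_cases hu h.ne h.sq).resolve_left us with h1 | h1
  · rw [← key u h1, h.inv_eq]
  · have := key (u * s) (mul_assoc s0 u s ▸ h1)
    rwa [mul_inv_rev, mul_assoc u, mem_cent1.1 (f.lt.hyp.Ut hy), mul_assoc, mul_assoc,
      mul_inv_cancel_left, ← mul_assoc, h.inv_eq] at this

end Cfsg.Agent.P7.Ax
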