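/-
Groups with one class of involutions and `C(t) = ⟨t⟩ × PSL₂(q).Φ`: the basic local facts.
-/
import Cfsg.Agent.P7.A2
import Cfsg.Agent.P7.K1

set_option autoImplicit false
set_option linter.unusedSectionVars false

namespace Cfsg.Agent.P7.Ax

open Subgroup Cfsg Cfsg.Agent Cfsg.Agent.FT
open Cfsg.Agent.P5 (V4 Tri LT K4)
open Cfsg.Agent.P6 (Inv Od Rk2 odd_Od Od_normal le_Od norm_le_norm_Od odd_of_le
  odd_orderOf_of_mem eq_one_of_eq_inv)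
open scoped commutatorElement

universe u

variable {G : Type u} [Group G] [Finite G]

theorem exists_cj_cent (e : E8 G) {X P : Subgroup G} (hP : IsPGroup 2 P) (hX : P ≤ X) {a : G}
    (ha : a ∈ X) (h : Inv a) : ∃ n ∈ X, P ^ᵍ n ≤ 𝐂[a] := by
  obtain ⟨S, hS, h1⟩ := exists_isSyl_ge Nat.prime_two h.isPGroup (zpowers_le.2 ha)
  obtain ⟨n, hn, h2⟩ := hS.exists_conj_le Nat.prime_two hP hX
  exact ⟨n, hn, h2.trans ((isMulComm_iff_le_cent.1 (comm_two e S hS.pgrp)).trans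
    (cent_le_cent1 (h1 (mem_zpowers a))))⟩

theorem exists_v4_of_rk2 (e : E8 G) {X : Subgroup G} {a : G} (ha : a ∈ X) (h : Inv a)
    (hX : Rk2 X) : ∃ b ∈ X, V4 a b := by
  obtain ⟨c, hc, d, hd, h1, h2, h3, h4⟩ := hX
  have v := v4_of h1 h2 h3 (mem_cent1.2 h4)
  obtain ⟨n, hn, h5⟩ := exists_cj_cent e v.isPGroup (V4.le_iff.2 ⟨hc, hd⟩) ha h
  by_cases e1 : a = n * c * n⁻¹
  · exact ⟨_, P5.cj hn hd, e1 ▸ v4_conj v n⟩
  · exact ⟨_, P5.cj hn hc, v4_of h (h1.conj n) e1 (h5 (conj_mem_conj V4.t_mem n))⟩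

theorem exists_third (e : E8 G) {X : Subgroup G} {a b : G} (v : V4 a b) (ha : a ∈ X) (hb : b ∈ X)
    (h8 : 8 ∣ 𝐨(X)) : ∃ u ∈ X, Inv u ∧ u ∉ V2 a b ∧ u ∈ 𝐂[a] ⊓ 𝐂[b] := by
  obtain ⟨S, hS, h1⟩ := exists_isSyl_ge Nat.prime_two v.isPGroup (V4.le_iff.2 ⟨ha, hb⟩)
  obtain ⟨u, hu, h2⟩ := SetLike.not_le_iff_exists.1 fun h : S ≤ V2 a b => hS.ndvd (by
    rw [← H1.card_mul_relIndex hS.le, le_antisymm h h1, v.card] at h8
    rw [le_antisymm h h1]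
    omega)
  refine ⟨u, hS.le hu, ⟨fun e1 => h2 (e1 ▸ one_mem _), sq_of_two e hS.pgrp hu⟩, h2, ?_⟩
  rw [← cent_V2]
  exact cent_anti h1 (isMulComm_iff_le_cent.1 (comm_two e S hS.pgrp) hu)

/-- A fixed point on an orbit of cosets. -/
theorem exists_conj_into {p : ℕ} (hp : p.Prime) {P C H : Subgroup G} (hP : IsPGroup p P)
    (h : ∀ x ∈ P, ∀ c ∈ C, ∃ d ∈ C, d⁻¹ * (x * c) ∈ H) (hi : ¬ p ∣ H.relIndex C) :
    ∃ c ∈ C, ∀ x ∈ P, c⁻¹ * x * c ∈ H := by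
  obtain ⟨_, ⟨c, hc, rfl⟩, h1⟩ := P6.exists_fixed_of_not_dvd hp hP
    (S := {c | ∃ y ∈ C, y • ((1 : G) : G ⧸ H) = c}) (Set.toFinite _) (by
      rintro x hx _ ⟨c, hc, rfl⟩
      obtain ⟨d, hd, h1⟩ := h x hx c hc
      exact ⟨d, hd, QuotientGroup.eq.2 (by simpa using h1)⟩)
    (by rwa [P6.ncard_orbit, MulAction.stabilizer_quotient])
  exact ⟨c, hc, fun x hx => by
    simpa [mul_assoc] using QuotientGroup.eq.1 (h1 x hx).symm⟩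

theorem exists_tri_mul (e : E8 G) {a b x g : G} (v : V4 a b) (hx : Tri x a b)
    (hg : g ∈ 𝐍(V2 a b)) : ∃ y ∈ zpowers x, y⁻¹ * g ∈ 𝐂(V2 a b) := by
  obtain ⟨y, hy, h1⟩ := hx.exists_conj v ((mem_normalizer_iff.1 hg a).1 V4.t_mem)
    ((inv_a v).conj g).ne
  have h2 : y⁻¹ * g ∈ 𝐍(V2 a b) := mul_mem (inv_mem (zpowers_le.2 (hx.mem_norm v) hy)) hg
  have h3 : y⁻¹ * g ∈ 𝐂[a] := mem_cent1_iff_conj.2 (by
    calc _ = y⁻¹ * (g * a * g⁻¹) * y := by group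
      _ = a := by rw [← h1]; group)
  refine ⟨y, hy, e.mem_cent_of_sq v.isPGroup h2 ?_⟩
  generalize y⁻¹ * g = z at h2 h3
  rw [cent_V2]
  refine ⟨mul_mem h3 h3, mem_cent1_iff_conj.2 ?_⟩
  have h4 : z * z * b * (z * z)⁻¹ = z * (z * b * z⁻¹) * z⁻¹ := by group
  have h5 := mem_cent1_iff_conj.1 h3
  rcases v.mem_iff.1 ((mem_normalizer_iff.1 h2 b).1 V4.s_mem) with h6 | h6 | h6 | h6
  · exact absurd h6 ((inv_b v).conj z).ne
  · exact absurd (by simpa using h5.trans h6.symm) v.ts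
  · rw [h4, h6, h6]
  · rw [h4, h6, ← conj_mul, h5, h6, (inv_a v).mul_cancel_left]

/-- Stability: a quadratically acting subgroup lies in the core. -/
theorem quad_le_Od (e : E8 G) {r : ℕ} (hr : r.Prime) (r2 : r ≠ 2) {Z M X : Subgroup G}
    (hZ : IsPGroup r Z) (hM : M ≤ 𝐍(Z)) (hX : X ≤ M) (hq : ⁅⁅Z, X⁆, X⁆ = ⊥) (ho : Odd 𝐨(𝐂(Z))) :
    X ≤ Od M := by
  have := Fact.mk hr
  have : ((𝐂(Z)).subgroupOf M).Normal :=
    H1.normal_subgroupOf_of_le (H1.le_normalizer_centralizer hM)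
  have h := H2.snIn_sup_centralizer_of_quadratic r2 hZ hM (fun T _ => comm_two e T) hX hq
    (H1.qmk M 𝐂(Z)) H1.qmk_surjective (fun m => H1.qmk_eq_one_iff)
  refine ((H1.bar_le_iff hX).1 h).trans (le_Od ⟨H1.unbar_le _, H1.le_normalizer_unbar_of_normal _⟩ ?_)
  rw [← H1.card_inf_mul_relIndex 𝐂(Z), relIndex_unbar]
  exact (odd_of_le inf_le_left ho).mul (P6.odd_of_isPGroup hr r2 (L.isPGroup_pCore r))

theorem mem_of_coprime {K X : Subgroup G} (h : K ⊲ X) {y : G} (hy : y ∈ X)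
    (hc : (orderOf y).Coprime (K.relIndex X)) : y ∈ K := by
  have := H1.normal_subgroupOf_of_le h.2
  have h1 : y ^ K.relIndex X ∈ K := pow_index_mem (H := K.subgroupOf X) ⟨y, hy⟩
  obtain ⟨m, hm⟩ := exists_pow_eq_self_of_coprime hc.symm
  exact hm ▸ pow_mem h1 m

/-- The simple factor of the centralizer of an involution. -/
def LL (a : G) : Subgroup G := ⁅𝐂[a], 𝐂[a]⁆

theorem LL_cj (a g : G) : LL (g * a * g⁻¹) = LL a ^ᵍ g := by rw [LL, LL, cent1_conj, conj_comm]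

theorem LL_normal (a : G) : LL a ⊲ 𝐂[a] := der_normal _

theorem LL_le (a : G) : LL a ≤ 𝐂[a] := der_le _

theorem mem_LL_cj {a y : G} (h : y ∈ LL a) (g : G) : g * y * g⁻¹ ∈ LL (g * a * g⁻¹) :=
  LL_cj a g ▸ conj_mem_conj h g

theorem mem_LL_of_inv {a u y : G} (hu : u ∈ 𝐂[a]) (hy : y ∈ 𝐂[a]) (ho : Odd (orderOf y))
    (h : u * y * u⁻¹ = y⁻¹) : y ∈ LL a := by
  refine P6.mem_of_sq_mem ho ?_
  have e : y * y = ⁅y, u⁆ := by
    calc y * y = y * (u * y * u⁻¹)⁻¹ := by rw [h, inv_inv]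
      _ = _ := by rw [commutatorElement_def]; group
  exact e ▸ commutator_mem_commutator hy hu

theorem eq_LL {t s s0 : G} {L : Subgroup G} {q : ℕ} (F : Fr 𝐂[t] L t q s s0) : L = LL t := by
  have hn := F.lm.normal
  have h1 : Phi 𝐂[t] s s0 ≤ 𝐂[t] := (H2.pPrimeCoreOf_le _ _).trans inf_le_left
  have h2 : zpowers t ⊔ Phi 𝐂[t] s s0 ≤ 𝐍(L) :=
    (sup_le (zpowers_le.2 (self_mem_cent1 t)) h1).trans hn.2
  refine le_antisymm (F.lt.perf.ge.trans (commutator_mono hn.1 hn.1)) ?_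
  have h3 : 𝐂[t] ≤ L ⊔ (zpowers t ⊔ Phi 𝐂[t] s s0) := fun g hg => by
    obtain ⟨a, ha, φ, hφ, rfl | rfl⟩ := F.dec g hg
    · exact mul_mem (mem_sup_left ha) (mem_sup_right (mem_sup_right hφ))
    · exact mul_mem (mul_mem (mem_sup_right (mem_sup_left (mem_zpowers t))) (mem_sup_left ha))
        (mem_sup_right (mem_sup_right hφ))
  refine (commutator_mono h3 h3).trans (der_sup_le (le_norm_self L) h2 (der_le L)
    (comm_le_left_iff.2 h2) ?_)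
  rw [isMulComm_iff_comm_eq_bot.1 (isMulComm_sup inferInstance (isMulComm_of_isCyclic F.cycF)
    (by rwa [cent_zpowers]))]
  exact bot_le

/-- The standing hypotheses. -/
structure JA (G : Type u) [Group G] (q p k l f : ℕ) : Prop where
  e8 : E8 G
  ep : Ep q k l
  q5 : 5 < q
  hp : p.Prime
  hq : ∃ n, Odd n ∧ q = p ^ n
  cop : ∀ r, r.Prime → r ∣ f → (r = 3 ∧ p = 3) ∨ ¬ r ∣ 4 * k * l * q
  jrf : ∀ a : G, Inv a → JRF a (LL a) q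
  card : ∀ a : G, Inv a → 𝐨(𝐂[a]) = 4 * k * l * q * (2 * f)

theorem ja_of {t s s0 : G} {L : Subgroup G} {q : ℕ} (h : JRF t L q) (F : Fr 𝐂[t] L t q s s0)
    (q5 : 5 < q) (h0 : ∀ r, r.Prime → r ∣ 𝐨(Phi 𝐂[t] s s0) → (r = 3 ∧ F.p = 3) ∨ ¬ r ∣ 𝐨(L)) :
    JA G q F.p F.k F.l 𝐨(Phi 𝐂[t] s s0) := by
  refine ⟨h.e8, F.ep, q5, F.hp, ⟨F.n, F.oddn, F.hq⟩, F.cardL ▸ h0, fun a ha => ?_, fun a ha => ?_⟩
  all_goals obtain ⟨g, rfl⟩ := isConj_iff.1 (h.conj a ha.orderOf_eq)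
  · rw [LL_cj, ← eq_LL F]
    exact KO.jrf_cj h g
  · rw [cent1_conj, card_conj, F.card, h.card_sup, F.cardL, mul_assoc]

namespace JA

variable {q p k l f : ℕ} (h : JA G q p k l f)
include h

theorem conj {a b : G} (ha : Inv a) (hb : Inv b) : ∃ g, g * a * g⁻¹ = b :=
  isConj_iff.1 ((h.jrf a ha).conj b hb.orderOf_eq)

theorem not_mem {a : G} (ha : Inv a) : a ∉ LL a := (h.jrf a ha).not_mem

theorem p_dvd : p ∣ q := by
  obtain ⟨n, hn, rfl⟩ := h.hq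
  exact dvd_pow_self p hn.pos.ne'

theorem eq_p {r : ℕ} (hr : r.Prime) (hq : r ∣ q) : r = p := by
  obtain ⟨n, hn, rfl⟩ := h.hq
  exact (Nat.prime_dvd_prime_iff_eq hr h.hp).1 (hr.dvd_of_dvd_pow hq)

theorem fr {a s b : G} (ha : Inv a) (v : V4 s b) (hs : s ∈ LL a) (hb : b ∈ LL a) :
    ∃ F : Fr 𝐂[a] (LL a) a q s b, F.p = p ∧ F.k = k ∧ F.l = l ∧ 𝐨(Phi 𝐂[a] s b) = f := by
  obtain ⟨F⟩ := l2Api G _ _ _ _ s b (h.jrf a ha).lm v hs hb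
  have e : F.k = k ∧ F.l = l := by
    have := F.ep.eps
    have := h.ep.eps
    omega
  refine ⟨F, h.eq_p F.hp (by have := dvd_pow_self F.p F.oddn.pos.ne'; rwa [← F.hq] at this), e.1,
    e.2, ?_⟩
  have h1 := F.card
  rw [(h.jrf a ha).card_sup, h.card a ha, F.cardL, e.1, e.2, ← mul_assoc] at h1
  refine (Nat.eq_of_mul_eq_mul_left ?_ h1).symm
  have := h.ep.oddk.pos
  have := h.ep.oddl.pos
  have := h.ep.oddq.pos
  positivity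

theorem exists_fr {a : G} (ha : Inv a) : ∃ s b, ∃ F : Fr 𝐂[a] (LL a) a q s b,
    F.p = p ∧ F.k = k ∧ F.l = l ∧ 𝐨(Phi 𝐂[a] s b) = f := by
  obtain ⟨s, hs, b, hb, v⟩ := l2Four G _ q (h.jrf a ha).l2
  exact ⟨s, b, h.fr ha v hs hb⟩

theorem exists_v4L {a s : G} (ha : Inv a) (hs : s ∈ LL a) (h1 : Inv s) : ∃ b ∈ LL a, V4 s b := by
  obtain ⟨c, b, F, -⟩ := h.exists_fr ha
  obtain ⟨g, hg, rfl⟩ := F.lt.hyp.conj s hs h1.ne h1.sq
  exact ⟨_, P5.cj hg F.lt.hyp.sX, v4_conj F.v4 g⟩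

theorem conjL {a s b : G} (ha : Inv a) (hs : s ∈ LL a) (h1 : Inv s) (hb : b ∈ LL a) (h2 : Inv b) :
    ∃ g ∈ LL a, g * s * g⁻¹ = b := by
  obtain ⟨c, hc, v⟩ := h.exists_v4L ha hs h1
  obtain ⟨F, -⟩ := h.fr ha v hs hc
  exact F.lt.hyp.conj b hb h2.ne h2.sq

theorem oddf {a : G} (ha : Inv a) : Odd f := by
  obtain ⟨s, b, F, -, -, -, rfl⟩ := h.exists_fr ha
  exact F.odd_phi

theorem cardL {a : G} (ha : Inv a) : 𝐨(LL a) = 4 * k * l * q := by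
  obtain ⟨s, b, F, -, rfl, rfl, -⟩ := h.exists_fr ha
  exact F.cardL

theorem idx {a : G} (ha : Inv a) : (LL a).relIndex 𝐂[a] = 2 * f := by
  have h1 := H1.card_mul_relIndex (LL_le a)
  rw [h.card a ha, ← h.cardL ha] at h1
  exact Nat.eq_of_mul_eq_mul_left Nat.card_pos h1

theorem mem_L {a y : G} (ha : Inv a) (hy : y ∈ 𝐂[a]) (hc : (orderOf y).Coprime (2 * f)) :
    y ∈ LL a :=
  mem_of_coprime (LL_normal a) hy (h.idx ha ▸ hc)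

theorem inv_cases {a b : G} (ha : Inv a) (hb : b ∈ 𝐂[a]) (bb : b * b = 1) :
    b ∈ LL a ∨ a * b ∈ LL a := by
  obtain ⟨N, ⟨m, rfl⟩, h1⟩ := (h.jrf a ha).lm.exists_pow hb
  rw [pow_succ, pow_mul, pow_two, bb, one_pow, one_mul] at h1
  exact (h.jrf a ha).lm.mem_sup.1 h1

/-- A four-group containing `a` is generated by `a` and an involution of `LL a`. -/
theorem exists_b {a b : G} (v : V4 a b) : ∃ c ∈ LL a, V4 a c ∧ V2 a c = V2 a b ∧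
    (c = b ∨ c = a * b) :=
  (h.inv_cases (inv_a v) (mem_cent1.2 v.comm) v.ss).elim (fun h1 => ⟨b, h1, v, rfl, Or.inl rfl⟩)
    fun h1 => ⟨_, h1, v4_mul v, V2_mul a b, Or.inr rfl⟩

theorem card_dvd {a : G} (ha : Inv a) (X : Subgroup G) :
    𝐨((X ⊓ 𝐂[a] : Subgroup G)) ∣ 𝐨((LL a ⊓ X : Subgroup G)) * (2 * f) := by
  rw [← H1.card_inf_mul_relIndex (LL a), ← inf_assoc, inf_of_le_left (inf_le_left.trans (LL_le a)),
    ← h.idx ha]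
  refine mul_dvd_mul_left _ ?_
  have := H1.normal_subgroupOf_of_le (LL_normal a).2
  rw [← relIndex_subgroupOf inf_le_right]
  exact relIndex_dvd_index_of_normal _ _

theorem typ {a y : G} (ha : Inv a) (hy : y ∈ LL a) (y1 : y ≠ 1) (ho : Odd (orderOf y)) :
    TK (LL a) k y ∨ TL (LL a) l y ∨ TP (LL a) q p k y := by
  obtain ⟨s, b, F, rfl, rfl, rfl, -⟩ := h.exists_fr ha
  exact Ax.typ F.toL2F hy y1 ho

theorem tl {a y : G} (ha : Inv a) (hy : y ∈ LL a) {r : ℕ} (hr : r.Prime) (rl : r ∣ l)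
    (ry : r ∣ orderOf y) : TL (LL a) l y := by
  obtain ⟨s, b, F, -, -, rfl, -⟩ := h.exists_fr ha
  exact tl_of_dvd F.toL2F hy hr rl ry

theorem card_LC {a b : G} (ha : Inv a) (hb : b ∈ LL a) (h1 : Inv b) :
    𝐨((LL a ⊓ 𝐂[b] : Subgroup G)) = 4 * k := by
  obtain ⟨c, hc, v⟩ := h.exists_v4L ha hb h1
  obtain ⟨F, -, rfl, -⟩ := h.fr ha v hb hc
  rw [F.lt.hyp.card_H, F.cardR]

theorem card_W {a b : G} (v : V4 a b) : 𝐨(𝐂(V2 a b)) ∣ 8 * k * f := by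
  obtain ⟨c, hc, v1, e, -⟩ := h.exists_b v
  have := h.card_dvd (inv_a v) 𝐂[c]
  rw [h.card_LC (inv_a v) hc (inv_b v1), inf_comm, ← cent_V2, e] at this
  exact this.trans (dvd_of_eq (by ring))

theorem ord_W {a b y : G} (v : V4 a b) (ha : y ∈ 𝐂[a]) (hb : y ∈ 𝐂[b]) : orderOf y ∣ 8 * k * f :=
  (orderOf_dvd_card_of_mem (cent_V2 a b ▸ mem_inf.2 ⟨ha, hb⟩)).trans (h.card_W v)

/-- The cyclic group of order `k` in the centralizer of a four-group. -/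
theorem exists_U {a b : G} (v : V4 a b) : ∃ U : Subgroup G, IsCyclic U ∧ 𝐨(U) = k ∧
    U ≤ 𝐂(V2 a b) ∧ (∀ y ∈ 𝐂(V2 a b), (orderOf y).Coprime (2 * f) → y ∈ U) ∧
    ∀ u ∈ 𝐂(V2 a b), Inv u → u ∉ V2 a b → ∀ y ∈ U, u * y * u = y⁻¹ := by
  obtain ⟨c, hc, v1, e, -⟩ := h.exists_b v
  rw [← e, cent_V2]
  have ha := inv_a v
  obtain ⟨d, hd, v2⟩ := h.exists_v4L ha hc (inv_b v1)
  obtain ⟨F, -, rfl, -⟩ := h.fr ha v2 hc hd
  have h1 : R0 (LL a) c ≤ 𝐂[a] := F.lt.hyp.UX.trans (LL_le a)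
  refine ⟨R0 (LL a) c, F.lt.cyc, F.cardR, le_inf h1 F.lt.hyp.Ut, fun y hy h2 =>
    F.lt.hyp.mem_of_odd ⟨h.mem_L ha hy.1 h2, hy.2⟩ (Nat.coprime_two_right.1 h2.coprime_mul_right_right)
      (pow_orderOf_eq_one y), fun u hu h2 h3 y hy => ?_⟩
  rcases h.inv_cases ha hu.1 h2.sq with h4 | h4
  · exact inv_R F.toL2F ⟨h4, hu.2⟩ h2 (fun e => h3 (e ▸ V4.s_mem)) hy
  · have h5 := ha.mul h2 (fun e => h3 (e ▸ V4.t_mem)) (mem_cent1.1 hu.1)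
    have := inverts_mul ha (h1 hy) (LL_le a h4) (inv_R F.toL2F
      ⟨h4, mul_mem (mem_cent1.2 v1.comm.symm) hu.2⟩ h5
      (fun e => h3 ((mul_mem_cancel_left V4.t_mem).1 (e ▸ V4.s_mem))) hy)
    rwa [ha.mul_cancel_left] at this

theorem conj4 {a b c d : G} (v : V4 a b) (v' : V4 c d) : ∃ g, g * a * g⁻¹ = c ∧
    V2 a b ^ᵍ g = V2 c d := by
  obtain ⟨g, rfl⟩ := h.conj (inv_a v) (inv_a v')
  obtain ⟨b1, h1, v1, e1, -⟩ := h.exists_b v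
  obtain ⟨d1, h2, v2, e2, -⟩ := h.exists_b v'
  obtain ⟨x, hx, e⟩ := h.conjL (inv_a v') (mem_LL_cj h1 g) ((inv_b v1).conj g) h2 (inv_b v2)
  have e3 : x * g * a * (x * g)⁻¹ = g * a * g⁻¹ := by
    rw [← mem_cent1_iff_conj.1 (LL_le _ hx)]; group
  refine ⟨x * g, e3, ?_⟩
  rw [← e1, ← e2, ← e, V2, MonoidHom.map_closure, Set.image_pair]
  congr 2
  simp [mul_assoc]

/-- Every four-group lies in some `LL t`. -/
theorem exists_t {a b : G} (v : V4 a b) : ∃ t, Inv t ∧ a ∈ LL t ∧ b ∈ LL t := by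
  obtain ⟨s, c, F, -⟩ := h.exists_fr (inv_a v)
  obtain ⟨g, -, e⟩ := h.conj4 F.v4 v
  have h1 : V2 a b ≤ LL (g * a * g⁻¹) := by
    rw [LL_cj, ← e]
    exact conj_mono (V4.le_iff.2 ⟨F.lt.hyp.tX, F.lt.hyp.sX⟩) g
  exact ⟨_, (inv_a v).conj g, h1 V4.t_mem, h1 V4.s_mem⟩

theorem not_mem_V {a b t : G} (ht : Inv t) (ha : a ∈ LL t) (hb : b ∈ LL t) : t ∉ V2 a b :=
  fun h1 => h.not_mem ht (V4.le_iff.2 ⟨ha, hb⟩ h1)

theorem mem_cent_V {a b t : G} (ha : a ∈ LL t) (hb : b ∈ LL t) : t ∈ 𝐂(V2 a b) :=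
  mem_cent_iff_cent1.2 ((V4.le_iff.2 ⟨ha, hb⟩).trans (LL_le t))

theorem exists_x {a b t : G} (v : V4 a b) (ht : Inv t) (ha : a ∈ LL t) (hb : b ∈ LL t) :
    ∃ x ∈ LL t, x ^ 3 = 1 ∧ Tri x a b := by
  obtain ⟨F, -⟩ := h.fr ht v ha hb
  exact ⟨F.x, F.xL, F.x3, F.tri⟩

/-- A 3-subgroup normalizing a four-group centralizes an involution. -/
theorem exists_cent_three (h3 : ¬ 3 ∣ k) {a b : G} (v : V4 a b) {D : Subgroup G}
    (hD : IsPGroup 3 D) (hn : D ≤ 𝐍(V2 a b)) : ∃ t, Inv t ∧ a ∈ LL t ∧ b ∈ LL t ∧ D ≤ 𝐂[t] := by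
  obtain ⟨t, ht, ha, hb⟩ := h.exists_t v
  obtain ⟨F, -, -, -, e⟩ := h.fr ht v ha hb
  obtain ⟨c, hc, h1⟩ := exists_conj_into Nat.prime_three hD (C := 𝐂(V2 a b)) (H := 𝐂[t])
    (fun x hx c hc => by
      obtain ⟨y, hy, h1⟩ := exists_tri_mul h.e8 v F.tri (mul_mem (hn hx) (cent_le_norm _ hc))
      have h2 := zpowers_le.2 (F.tri.mem_norm v) hy
      refine ⟨_, (mem_normalizer_iff.1 (H1.normalizer_le_normalizer_centralizer _ h2) _).1 h1, ?_⟩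
      simpa [mul_assoc] using zpowers_le.2 (LL_le t F.xL) hy)
    fun h1 => by
      have h2 : Phi 𝐂[t] a b ≤ 𝐂[t] ⊓ 𝐂(V2 a b) := cent_V2 a b ▸ H2.pPrimeCoreOf_le _ _
      have h4 := (mul_dvd_mul (FT.card_dvd_of_le h2) h1).trans
        ((H1.card_inf_mul_relIndex _ _).dvd.trans (h.card_W v))
      rw [e, mul_comm f, Nat.mul_dvd_mul_iff_right (h.oddf ht).pos] at h4
      omega
  have h2 := cent_V2 a b ▸ hc
  refine ⟨_, ht.conj c, ?_, ?_, fun x hx => ?_⟩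
  · exact mem_cent1_iff_conj.1 h2.1 ▸ mem_LL_cj ha c
  · exact mem_cent1_iff_conj.1 h2.2 ▸ mem_LL_cj hb c
  · rw [cent1_conj, mem_conj]
    exact h1 x hx

end JA

end Cfsg.Agent.P7.Ax
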