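/-
Centralizers of elements of odd order, and `3 ∤ k`.
-/
import Cfsg.Agent.P7.A3
import Cfsg.Agent.FT.P.BG04_1

set_option autoImplicit false
set_option linter.unusedSectionVars false

namespace Cfsg.Agent.P7.Ax

open Subgroup Cfsg Cfsg.Agent Cfsg.Agent.FT
open Cfsg.Agent.P5 (V4 Tri LT K4)
open Cfsg.Agent.P6 (Inv Od Rk2 odd_Od Od_normal le_Od norm_le_norm_Od odd_of_le
  odd_orderOf_of_mem eq_one_of_eq_inv)

universe u

variable {G : Type u} [Group G] [Finite G]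

theorem ord_pow {r : ℕ} (hr : r.Prime) {D : Subgroup G} (hD : IsPGroup r D) {y : G} (hy : y ∈ D) :
    ∃ n, orderOf y = r ^ n := by
  obtain ⟨n, hn⟩ := exists_card_eq_pow hr hD
  obtain ⟨m, -, h⟩ := (Nat.dvd_prime_pow hr).1 (hn ▸ orderOf_dvd_card_of_mem hy)
  exact ⟨m, h⟩

theorem cop_of_mem {r n : ℕ} (hr : r.Prime) (hn : ¬ r ∣ n) {D : Subgroup G} (hD : IsPGroup r D)
    {y : G} (hy : y ∈ D) : (orderOf y).Coprime n := by
  obtain ⟨m, e⟩ := ord_pow hr hD hy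
  exact e ▸ (hr.coprime_iff_not_dvd.2 hn).pow_left m

theorem pg_zp {r : ℕ} {y : G} (h : orderOf y = r) : IsPGroup r (zpowers y) :=
  isPGroup_of_card_prime (by rw [Nat.card_zpowers, h])

theorem ne_one_of_prime {y : G} (h : (orderOf y).Prime) : y ≠ 1 := fun e =>
  h.one_lt.ne' (orderOf_eq_one_iff.2 e)

theorem exists_weight {a b : G} (v : V4 a b) {D : Subgroup G} (ho : Odd 𝐨(D)) (hn : V2 a b ≤ 𝐍(D))
    (h1 : D ≠ ⊥) : ∃ c d, V4 c d ∧ V2 c d = V2 a b ∧ D ⊓ 𝐂[c] ≠ ⊥ := by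
  by_contra! h
  exact h1 (eq_bot_iff.2 (gen4 v ho hn fun c d h1 h2 => (h c d h1 h2).le))

theorem mem_V2 {a b c d : G} (e : V2 c d = V2 a b) : c ∈ V2 a b ∧ d ∈ V2 a b :=
  V4.le_iff.1 e.le

theorem V2_le_norm_zp {a b y : G} (v : V4 a b) (ha : y ∈ 𝐂[a]) (hb : b * y * b = y⁻¹) :
    V2 a b ≤ 𝐍(zpowers y) :=
  V4.le_iff.2 ⟨norm_zp_of_cent ha, norm_zp_of_inv (inv_b v) hb⟩

theorem norm_Od_cent {y : G} : 𝐍(zpowers y) ≤ 𝐍(Od 𝐂[y]) := fun _ hg =>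
  norm_le_norm_Od _ (norm_cent1 hg)

namespace JA

variable {q p k l f : ℕ} (h : JA G q p k l f)
include h

theorem p_k : ¬ p ∣ 4 * k := fun e =>
  h.hp.one_lt.ne' (Nat.eq_one_of_dvd_coprimes h.ep.cop_qk h.p_dvd e)

theorem p_l : ¬ p ∣ l := fun e =>
  h.hp.one_lt.ne' (Nat.eq_one_of_dvd_coprimes h.ep.cop_ql h.p_dvd e)

theorem k_l {r : ℕ} (hr : r.Prime) (rl : r ∣ l) : ¬ r ∣ 4 * k := fun e =>
  hr.one_lt.ne' (Nat.eq_one_of_dvd_coprimes h.ep.cop_kl e rl)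

theorem l_ne_two {r : ℕ} (rl : r ∣ l) : r ≠ 2 := fun e => h.ep.oddl.not_two_dvd_nat (e ▸ rl)

theorem k_ne_two {r : ℕ} (rk : r ∣ k) : r ≠ 2 := fun e => h.ep.oddk.not_two_dvd_nat (e ▸ rk)

theorem p_ne_two : p ≠ 2 := fun e => h.p_k (e ▸ ⟨2 * k, by ring⟩)

theorem eps_three (e : p = 3) : q + 1 = 4 * k := by
  obtain ⟨n, ⟨m, rfl⟩, hn⟩ := h.hq
  have : q % 4 = 3 := by rw [hn, e, pow_succ, pow_mul, Nat.mul_mod, Nat.pow_mod]; simp
  have := h.ep.eps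
  omega

theorem not_dvd_f {r : ℕ} (hr : r.Prime) (hd : r ∣ 4 * k * l * q) (h3 : r = p → p ≠ 3) :
    ¬ r ∣ f := fun e => (h.cop r hr e).elim (fun e => h3 (e.1.trans e.2.symm) e.2) fun e => e hd

theorem k_f {r : ℕ} (hr : r.Prime) (rk : r ∣ k) : ¬ r ∣ 2 * f := fun e =>
  (hr.dvd_mul.1 e).elim (fun e => h.k_ne_two rk ((Nat.prime_dvd_prime_iff_eq hr Nat.prime_two).1 e))
    (h.not_dvd_f hr (((rk.mul_left 4).mul_right l).mul_right q)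
      fun e => absurd (e ▸ rk.mul_left 4) h.p_k)

theorem good_of {r : ℕ} (hr : r.Prime) (h1 : ¬ r ∣ 4 * k) (h2 : ¬ r ∣ f) : ¬ r ∣ 8 * k * f :=
  fun e => (hr.dvd_mul.1 e).elim (fun e => h1 (by
    rw [show 8 * k = 2 * (4 * k) by ring] at e
    exact (hr.dvd_mul.1 e).elim (fun e => e.trans ⟨2 * k, by ring⟩) id)) h2

theorem good_l {r : ℕ} (hr : r.Prime) (rl : r ∣ l) : ¬ r ∣ 8 * k * f :=
  h.good_of hr (h.k_l hr rl) (h.not_dvd_f hr ((rl.mul_left _).mul_right q)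
    fun e => absurd (e ▸ rl) h.p_l)

theorem good_p (h3 : p ≠ 3) : ¬ p ∣ 8 * k * f :=
  h.good_of h.hp h.p_k (h.not_dvd_f h.hp (h.p_dvd.mul_left _) fun _ => h3)

theorem two_f {r : ℕ} (hr : ¬ r ∣ 8 * k * f) : ¬ r ∣ 2 * f := fun e =>
  hr (e.trans ⟨4 * k, by ring⟩)

section good

variable {r : ℕ} (hr : r.Prime) (gr : ¬ r ∣ 8 * k * f) {D : Subgroup G} (hD : IsPGroup r D)
include hr gr hD

theorem good_odd : Odd 𝐨(D) := P6.odd_of_isPGroup hr (fun e => gr (e ▸ ⟨4 * k * f, by ring⟩)) hD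

theorem good_mem {a y : G} (ha : Inv a) (hy : y ∈ D) (h1 : y ∈ 𝐂[a]) : y ∈ LL a :=
  h.mem_L ha h1 (cop_of_mem hr (h.two_f gr) hD hy)

theorem good_one {a b y : G} (v : V4 a b) (hy : y ∈ D) (h1 : y ∈ 𝐂[a]) (h2 : y ∈ 𝐂[b]) : y = 1 :=
  orderOf_eq_one_iff.1 (Nat.eq_one_of_dvd_coprimes (cop_of_mem hr gr hD hy) dvd_rfl (h.ord_W v h1 h2))

theorem good_inv {a b y : G} (v : V4 a b) (hn : V2 a b ≤ 𝐍(D)) (hy : y ∈ D ⊓ 𝐂[a]) :
    b * y * b = y⁻¹ :=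
  inverts_of_fpf (inv_b v) (odd_of_le inf_le_left (h.good_odd hr gr hD))
    (mem_norm_inf (hn V4.s_mem) (le_norm_self _ (mem_cent1.2 v.comm)))
    (fun _ hx h1 => h.good_one hr gr hD v hx.1 hx.2 h1) hy

theorem not_eight (h1 : D ≠ ⊥) {X : Subgroup G} (hX : X ≤ 𝐍(D)) {a b : G} (v : V4 a b)
    (ha : a ∈ X) (hb : b ∈ X) : ¬ 8 ∣ 𝐨(X) := fun h8 => by
  obtain ⟨u, hu, h2, h3, h4⟩ := exists_third h.e8 v ha hb h8
  have ho := h.good_odd hr gr hD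
  have h5 : V2 a b ≤ X := V4.le_iff.2 ⟨ha, hb⟩
  obtain ⟨c, d, v1, e, h6⟩ := exists_weight v ho (h5.trans hX) h1
  rw [← cent_V2, ← e, cent_V2] at h4
  rw [← e] at h3 h5
  have v2 := v4_of (inv_b v1) h2 (fun e => h3 (e ▸ V4.s_mem)) h4.2
  have h7 : V2 d u ≤ 𝐂[c] := V4.le_iff.2 ⟨mem_cent1.2 v1.comm, h4.1⟩
  obtain ⟨c', d', v3, e', h8⟩ := exists_weight v2 (odd_of_le inf_le_left ho) (H1.le_normalizer_inf
    ((V4.le_iff.2 ⟨h5 V4.s_mem, hu⟩).trans hX) (h7.trans (le_norm_self _))) h6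
  refine h8 (eq_bot_iff.2 fun y hy => h.good_one hr gr hD (v4_of (inv_a v1) (inv_a v3)
    (fun e1 => ?_) (h7 (mem_V2 e').1)) hy.1.1 hy.1.2 hy.2)
  rcases v2.mem_iff.1 (e1 ▸ (mem_V2 e').1) with e2 | e2 | e2 | e2
  · exact v1.t1 e2
  · exact v1.ts e2
  · exact h3 (e2 ▸ V4.t_mem)
  · exact h3 ((mul_mem_cancel_left V4.s_mem).1 (e2 ▸ V4.t_mem))

end good

section npc

variable {a y : G} (ha : Inv a) (hy : y ∈ LL a) (ho : Odd 𝐨((LL a ⊓ 𝐂[y] : Subgroup G)))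
include ha hy ho

theorem not_rk2 : ¬ Rk2 𝐂[y] := fun h1 => by
  have h2 := mem_cent1_comm.1 (LL_le a hy)
  obtain ⟨b, hb, v⟩ := exists_v4_of_rk2 h.e8 h2 ha h1
  obtain ⟨c, hc, v1, e, -⟩ := h.exists_b v
  exact (inv_b v1).not_mem_of_odd ho ⟨hc, V4.le_iff.2 ⟨h2, hb⟩ (mem_V2 e).2⟩

theorem mem_O {x : G} (hx : x ∈ 𝐂[y]) (h1 : Odd (orderOf x)) : x ∈ Od 𝐂[y] :=
  P6.mem_Od_of_npc (P6.hasNPC_of_not_rk2 (comm_two h.e8) (h.not_rk2 ha hy ho)) hx h1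

theorem le_O {X : Subgroup G} (hX : X ≤ 𝐂[y]) (h1 : Odd 𝐨(X)) : X ≤ Od 𝐂[y] := fun _ hx =>
  h.mem_O ha hy ho (hX hx) (odd_orderOf_of_mem h1 hx)

theorem le_of_O (h1 : Od 𝐂[y] ≤ 𝐂[a]) : 𝐂[y] ≤ 𝐂[a] := fun g hg => by
  have h2 := mem_cent1_comm.1 (LL_le a hy)
  have h3 := P6.odd_mul_of_not_rk2 (h.not_rk2 ha hy ho) h2 (P5.cj hg h2) ha (ha.conj g)
  have h4 := (mul_mem_cancel_left (self_mem_cent1 a)).1
    (h1 (h.mem_O ha hy ho (mul_mem h2 (P5.cj hg h2)) h3))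
  by_contra h5
  have v := v4_of ha (ha.conj g) (fun e => h5 (mem_cent1_iff_conj.2 e.symm)) h4
  rw [(inv_ab v).orderOf_eq] at h3
  exact absurd h3 (by decide)

end npc

theorem tk {a y : G} (ha : Inv a) (hy : y ∈ LL a) (hr : (orderOf y).Prime) (rk : orderOf y ∣ k) :
    TK (LL a) k y := by
  have h1 := orderOf_dvd_card_of_mem (mem_inf.2 ⟨hy, self_mem_cent1 y⟩)
  rcases h.typ ha hy (ne_one_of_prime hr) (h.ep.oddk.of_dvd_nat rk) with h2 | h2 | h2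
  · exact h2
  · exact absurd (rk.mul_left 4) (h.k_l hr (h2.1 ▸ h1))
  · exact absurd (h.eq_p hr (h2.1 ▸ h1) ▸ rk.mul_left 4) h.p_k

theorem tp {a y : G} (ha : Inv a) (hy : y ∈ LL a) (e : orderOf y = p) : TP (LL a) q p k y := by
  have h1 := e ▸ orderOf_dvd_card_of_mem (mem_inf.2 ⟨hy, self_mem_cent1 y⟩)
  rcases h.typ ha hy (ne_one_of_prime (e ▸ h.hp)) (e ▸ h.hp.odd_of_ne_two h.p_ne_two) with
    h2 | h2 | h2
  · exact absurd ((h2.1 ▸ h1).trans ⟨2, by ring⟩) h.p_k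
  · exact absurd (h2.1 ▸ h1) h.p_l
  · exact h2

theorem exists_v4_k {a y : G} (ha : Inv a) (hy : y ∈ LL a) (hr : (orderOf y).Prime)
    (rk : orderOf y ∣ k) : ∃ u, V4 a u ∧ y ∈ 𝐂[u] := by
  obtain ⟨-, -, u, hu, h1, -⟩ := h.tk ha hy hr rk
  exact ⟨u, v4_of ha h1 (fun e => h.not_mem ha (e ▸ hu.1)) (LL_le a hu.1), mem_cent1_comm.1 hu.2⟩

section kk

variable {a b y : G} (v : V4 a b) (hy : y ∈ 𝐂(V2 a b)) (hr : (orderOf y).Prime)
  (rk : orderOf y ∣ k)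
include v hy hr rk

theorem k_inv {u : G} (hu : u ∈ 𝐂(V2 a b)) (h1 : Inv u) (h2 : u ∉ V2 a b) : u ∉ 𝐂[y] := fun e => by
  obtain ⟨U, -, -, -, h3, h4⟩ := h.exists_U v
  have := h4 u hu h1 h2 y (h3 y hy (hr.coprime_iff_not_dvd.2 (h.k_f hr rk)))
  rw [← mem_cent1.1 e, h1.mul_cancel_right] at this
  exact ne_one_of_prime hr (eq_one_of_eq_inv (h.ep.oddk.of_dvd_nat rk) this)

theorem k_eight : ¬ 8 ∣ 𝐨(𝐂[y]) := fun h8 => by
  obtain ⟨u, hu, h1, h2, h3⟩ := exists_third h.e8 v (mem_cent_iff_cent1.1 hy V4.t_mem)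
    (mem_cent_iff_cent1.1 hy V4.s_mem) h8
  exact h.k_inv v hy hr rk (cent_V2 a b ▸ h3) h1 h2 hu

theorem k_cent : 𝐂[y] ⊓ 𝐂[a] ≤ 𝐂[b] := fun g hg => by
  obtain ⟨c, hc, v1, e, -⟩ := h.exists_b v
  obtain ⟨-, -, u, -, -, h1⟩ := h.tk (inv_a v) (h.mem_L (inv_a v) (cent_le_cent1 V4.t_mem hy)
    (hr.coprime_iff_not_dvd.2 (h.k_f hr rk))) hr rk
  have h2 : c ∈ LL a ⊓ 𝐂[y] := ⟨hc, mem_cent_iff_cent1.1 hy (mem_V2 e).2⟩
  have h3 : g ∈ 𝐂(V2 a c) := cent_V2 a c ▸ ⟨hg.2, mem_cent1_iff_conj.2 ((h1 _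
    ⟨(mem_normalizer_iff.1 ((LL_normal a).2 hg.2) c).1 hc, P5.cj hg.1 h2.2⟩
      ((inv_b v1).conj g)).trans (h1 c h2 (inv_b v1)).symm)⟩
  exact cent_le_cent1 V4.s_mem (e ▸ h3)

theorem k_fifteen : 𝐂[y] ≤ 𝐍(V2 a b) ∨ 𝐂[a].relIndex 𝐂[y] = 15 :=
  fifteen v (mem_cent_iff_cent1.1 hy V4.t_mem) (mem_cent_iff_cent1.1 hy V4.s_mem)
    (h.k_eight v hy hr rk) fun _ _ v1 e => h.k_cent v1 (e ▸ hy) hr rk

/-- The `r`-part of `|C(y)|`. -/
theorem k_card : ∃ i, (i ≤ 3 ∨ i = 15) ∧ 𝐨(𝐂[y]) = 𝐨((𝐂[y] ⊓ 𝐂(V2 a b) : Subgroup G)) * i := by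
  refine ⟨_, (h.k_fifteen v hy hr rk).imp_left (relIndex_le_three v), ?_⟩
  rw [← H1.card_inf_mul_relIndex 𝐂[a] 𝐂[y], inf_comm]
  congr 3
  rw [cent_V2]
  exact le_antisymm (le_inf inf_le_left (le_inf inf_le_right (h.k_cent v hy hr rk)))
    (inf_le_inf_left _ inf_le_left)

end kk

theorem nr0 (e : p = 3) {c d x : G} (v : V4 c d) (hx : orderOf x = 3) (h1 : x ∈ 𝐂[c])
    (h2 : d * x * d = x⁻¹) : False := by
  have h3 := mem_LL_of_inv (mem_cent1.2 v.comm) h1 (hx ▸ by decide) ((inv_b v).inv_eq.symm ▸ h2)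
  obtain ⟨b, hb, v1, -, e1⟩ := h.exists_b v
  have h4 := ((h.tp (inv_a v) h3 (hx.trans e.symm)).2.2 b hb (inv_b v1) (by
    rcases e1 with rfl | rfl
    exacts [h2, inverts_mul (inv_a v) h1 (mem_cent1.2 v.comm) h2])).1
  have := h.eps_three e
  omega

/-- For `p = 3` no real element of order 3 centralizes an involution. -/
theorem nr (e : p = 3) {c d x : G} (hc : Inv c) (hd : Inv d) (hx : orderOf x = 3) (h1 : x ∈ 𝐂[c])
    (h2 : d * x * d = x⁻¹) : False := by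
  obtain ⟨n, hn, h3⟩ := exists_cj_cent h.e8 hc.isPGroup (zpowers_le.2 (norm_zp_of_cent h1))
    (norm_zp_of_inv hd h2) hd
  have h4 : n * c * n⁻¹ ∈ 𝐂[x] := (mem_normalizer_iff.1 (norm_cent1 hn) c).1 (mem_cent1_comm.1 h1)
  refine h.nr0 e (v4_of (hc.conj n) hd (fun e1 => ?_)
    (mem_cent1_comm.1 (h3 (conj_mem_conj (mem_zpowers c) n)))) hx (mem_cent1_comm.1 h4) h2
  rw [e1] at h4
  rw [← mem_cent1.1 h4, hd.mul_cancel_right] at h2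
  exact ne_one_of_prime (hx ▸ Nat.prime_three) (eq_one_of_eq_inv (hx ▸ by decide) h2)

theorem three_cent (e : p = 3) {a b : G} (v : V4 a b) {D : Subgroup G} (hD : IsPGroup 3 D)
    (hn : V2 a b ≤ 𝐍(D)) : D ≤ 𝐂(V2 a b) :=
  gen4 v (P6.odd_of_isPGroup Nat.prime_three (by decide) hD) hn fun c d v1 e1 => by
    rw [← e1, cent_V2]
    refine le_inf inf_le_right (by_contra fun h1 => ?_)
    obtain ⟨x, hx, h2, h3⟩ := exists_inv_prime (inv_b v1) (mem_norm_inf (hn (mem_V2 e1).2)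
      (le_norm_self _ (mem_cent1.2 v1.comm))) h1
    exact h.nr0 e v1 (P6.orderOf_eq_of_prime_of_mem Nat.prime_three hD hx.1 h2) hx.2 h3

/-- The Sylow subgroups of `C(W)` for primes dividing `k`. -/
theorem exists_R {a b : G} (v : V4 a b) {r : ℕ} (hr : r.Prime) (rk : r ∣ k) :
    ∃ R, IsSyl r R 𝐂(V2 a b) ∧ IsCyclic R ∧ 𝐍(V2 a b) ≤ 𝐍(R) ∧ ∃ y ∈ R, orderOf y = r := by
  obtain ⟨U, h1, h2, h3, h4, -⟩ := h.exists_U v
  obtain ⟨R, hR⟩ := exists_isSyl hr 𝐂(V2 a b)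
  have key : ∀ S, IsSyl r S 𝐂(V2 a b) → S ≤ U := fun S hS y hy =>
    h4 y (hS.le hy) (cop_of_mem hr (h.k_f hr rk) hS.pgrp hy)
  refine ⟨R, hR, isCyclic_of_le (key R hR) h1, fun g hg => mem_norm_of_conj_le ?_,
    exists_mem_orderOf_eq_prime hr (prime_dvd_card_of_isPGroup hr hR.pgrp
      (hR.ne_bot hr ((h2 ▸ rk).trans (FT.card_dvd_of_le h3))))⟩
  have h5 := hR.conj_of_mem_norm (H1.normalizer_le_normalizer_centralizer _ hg)
  exact hR.le_of_norm hr h5.pgrp h5.le ((key _ h5).trans ((le_norm_self U).trans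
    (norm_le_norm_of_le_cyclic h1 (key R hR))))

theorem not_three_dvd_k {t : G} (ht : Inv t) : ¬ 3 ∣ k := fun h3 => by
  have p3 := Nat.prime_three
  obtain ⟨a, b, F, -⟩ := h.exists_fr ht
  have v := F.v4
  obtain ⟨d, dL, d3, tri⟩ := h.exists_x v ht F.lt.hyp.tX F.lt.hyp.sX
  obtain ⟨R, hR, cR, nR, z, hz, oz⟩ := h.exists_R v p3 h3
  have dW := tri.not_mem_cent v
  have od : orderOf d = 3 := orderOf_eq_prime d3 fun e => dW (e ▸ one_mem _)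
  have zW := hR.le hz
  have z1 := ne_one_of_prime (oz ▸ p3)
  have nd : zpowers d ≤ 𝐍(R) := zpowers_le.2 (nR (tri.mem_norm v))
  have hD : IsPGroup 3 (zpowers d ⊔ R : Subgroup G) := isPGroup_sup (pg_zp od) hR.pgrp nd
  have zR := zpowers_le.2 hz
  have DX : zpowers d ⊔ R ≤ 𝐂[z] := by
    rw [← cent_zpowers, cent_comm]
    exact BG04.le_cent_of_card_le_prime p3 hD ⟨zR.trans le_sup_right, (sup_le nd
      (le_norm_self R)).trans (norm_le_norm_of_le_cyclic cR zR)⟩ (by rw [Nat.card_zpowers, oz])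
  have cD : 𝐨((zpowers d ⊔ R : Subgroup G)) = 3 * 𝐨(R) := by
    rw [H1.card_sup_of_inf_eq_bot nd ((inf_eq_bot_or_le_of_card_prime
      (by rw [Nat.card_zpowers, od]; exact p3) R).resolve_right
        fun e => dW (hR.le (e (mem_zpowers d)))), Nat.card_zpowers, od]
  have sD : IsSyl 3 (zpowers d ⊔ R) 𝐂[z] := by
    refine ⟨DX, hD, fun ⟨j, hj⟩ => ?_⟩
    obtain ⟨i, hi, e⟩ := h.k_card v zW (oz ▸ p3) (oz ▸ h3)
    have h1 := hR.of_le (le_inf (le_sup_right.trans DX) hR.le) inf_le_right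
    rw [← H1.card_mul_relIndex DX, ← H1.card_mul_relIndex h1.le, cD, hj, mul_comm 3, mul_assoc,
      mul_assoc, Nat.mul_right_inj (card_ne_zero R)] at e
    have h2 : 9 ∣ i := ((p3.coprime_iff_not_dvd.2 h1.ndvd).pow_left 2).dvd_of_dvd_mul_left
      ⟨j, by rw [← e]; ring⟩
    have h4 : i ≠ 0 := fun e1 => L.relIndex_ne_zero (zpowers d ⊔ R) 𝐂[z] (by
      rw [e1] at e; omega)
    omega
  obtain ⟨u, v1, du⟩ := h.exists_v4_k ht dL (od ▸ p3) (od ▸ h3)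
  obtain ⟨g, -, e⟩ := h.conj4 v1 v
  have o1 := (orderOf_cj g d).trans od
  have h1 : zpowers (g * d * g⁻¹) = zpowers z := by
    refine eq_of_card_prime_of_isCyclic p3 cR (hR.le_of_normal p3 ((cent_le_norm _).trans nR)
      (pg_zp o1) (zpowers_le.2 ?_)) zR (by rw [Nat.card_zpowers, o1]) (by rw [Nat.card_zpowers, oz])
    rw [← e, cent_conj, cent_V2]
    exact conj_mem_conj (mem_inf.2 ⟨LL_le t dL, du⟩) g
  have zd : d ∈ 𝐂[z] := DX (mem_sup_left (mem_zpowers d))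
  obtain ⟨c, hc, h2⟩ := sD.exists_conj_le p3 (pg_zp ((orderOf_cj g z).trans oz))
    (zpowers_le.2 (by
      rw [← cent_zpowers, ← h1, cent_zpowers]; exact cent_cj (mem_cent1_comm.1 zd) g))
  have z3 : z ^ 3 = 1 := oz ▸ pow_orderOf_eq_one z
  have nz : d ∉ zpowers z := fun e => dW (hR.le (zR e))
  have hE : IsElem 3 (1 + 1) (zpowers z ⊔ zpowers d) :=
    ((isElem_one_iff p3).2 (by rw [Nat.card_zpowers, oz])).sup
      ((isElem_one_iff p3).2 (by rw [Nat.card_zpowers, od])) (by rwa [cent_zpowers, zpowers_le])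
      ((inf_comm _ _).trans ((inf_eq_bot_or_le_of_card_prime (by rw [Nat.card_zpowers, od]; exact p3)
        _).resolve_right fun e => nz (e (mem_zpowers d))))
  have hE' : zpowers z ⊔ zpowers d ≤ zpowers d ⊔ R :=
    sup_le (zR.trans le_sup_right) le_sup_left
  have h4 := (omega_of_cyclic_index_p p3 (by decide) hD
    (fun e => hE.not_isCyclic p3 le_rfl (isCyclic_of_le hE' e)) le_sup_right cR (by
      have := H1.card_mul_relIndex (le_sup_right : R ≤ zpowers d ⊔ R)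
      rwa [cD, mul_comm 3, Nat.mul_right_inj (card_ne_zero R)] at this)).eq_of_le hE
    (le_omegaOne_of_elemAb hE' hE.elemAb)
  obtain ⟨U, -, -, -, h5, h6⟩ := h.exists_U v
  have h7 : ∀ x, c * g * x * (c * g)⁻¹ = c * (g * x * g⁻¹) * c⁻¹ := fun x => by group
  refine e9 h.e8 (t := t) (g := c * g) z3 d3 z1 (mem_cent1_iff_commute.1 zd) nz ?_
    (mem_cent1_iff_conj.1 (mem_cent1_comm.1 (LL_le t dL))) ?_ ?_
  · rw [ht.inv_eq]
    exact h6 t (h.mem_cent_V F.lt.hyp.tX F.lt.hyp.sX) ht (h.not_mem_V ht F.lt.hyp.tX F.lt.hyp.sX) z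
      (h5 z zW (cop_of_mem p3 (h.k_f p3 h3) hR.pgrp hz))
  · rw [h7]
    exact (mem_normalizer_iff.1 (norm_zp_of_cent (mem_cent1_comm.1 hc)) _).1 (h1 ▸ mem_zpowers _)
  · rw [h4, h7]
    exact mem_omegaOne (h2 (conj_mem_conj (mem_zpowers _) c))
      (by rw [conj_pow, conj_pow, z3]; simp)

end JA

end Cfsg.Agent.P7.Ax
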