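/-
The centralizer of an element of a torus of order `l`: reduction to a single configuration.
-/
import Cfsg.Agent.P7.A4

set_option autoImplicit false
set_option linter.unusedSectionVars false

namespace Cfsg.Agent.P7.Ax

open Subgroup Cfsg Cfsg.Agent Cfsg.Agent.FT
open Cfsg.Agent.P5 (V4 Tri LT K4)
open Cfsg.Agent.P6 (Inv Od Rk2 odd_Od Od_normal le_Od norm_le_norm_Od odd_of_le
  odd_orderOf_of_mem eq_one_of_eq_inv)

universe u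

variable {G : Type u} [Group G] [Finite G]

theorem eq_or_of_V2 {a b c : G} (v : V4 a b) (v1 : V4 a c) (e : V2 a c = V2 a b) :
    c = b ∨ c = a * b :=
  ((v.mem_iff.1 (mem_V2 e).2).resolve_left v1.s1).resolve_left v1.ts.symm

theorem inv_of_V2 {a b c y : G} (v : V4 a b) (v1 : V4 a c) (e : V2 a c = V2 a b) (hy : y ∈ 𝐂[a])
    (h : b * y * b = y⁻¹) : c * y * c = y⁻¹ := by
  rcases eq_or_of_V2 v v1 e with rfl | rfl
  exacts [h, inverts_mul (inv_a v) hy (mem_cent1.2 v.comm) h]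

theorem eq_one_of_inv {a y : G} (ha : Inv a) (ho : Odd (orderOf y)) (hy : y ∈ 𝐂[a])
    (h : a * y * a = y⁻¹) : y = 1 := by
  rw [mem_cent1.1 hy, ha.mul_cancel_right] at h
  exact eq_one_of_eq_inv ho h

theorem cent_of_inv {a b y : G} (v : V4 a b) (h1 : a * y * a = y⁻¹) (h2 : b * y * b = y⁻¹) :
    y ∈ 𝐂[a * b] := by
  rw [mem_cent1_comm, mem_cent1_iff_conj, mul_inv_rev, (inv_a v).inv_eq, (inv_b v).inv_eq]
  calc _ = a * (b * y * b) * a := by group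
    _ = (a * y * a)⁻¹ := by rw [h2, mul_inv_rev, mul_inv_rev, (inv_a v).inv_eq, mul_assoc]
    _ = y := by rw [h1, inv_inv]

theorem eight_dvd {X : Subgroup G} {a b u : G} (v : V4 a b) (hu : Inv u) (h1 : u ∉ V2 a b)
    (h2 : u ∈ 𝐂(V2 a b)) (ha : a ∈ X) (hb : b ∈ X) (h3 : u ∈ X) : 8 ∣ 𝐨(X) := by
  have := FT.card_dvd_of_le (sup_le (V4.le_iff.2 ⟨ha, hb⟩) (zpowers_le.2 h3))
  rwa [KO.card_sup_zpowers hu (mem_cent_iff_cent1.1 h2) h1, v.card] at this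

theorem exists_eig {a b : G} (v : V4 a b) {Q : Subgroup G} (ho : Odd 𝐨(Q)) (hn : V2 a b ≤ 𝐍(Q))
    (h : ¬ Q ≤ 𝐂[a]) : ∃ c, V4 a c ∧ V2 a c = V2 a b ∧ ∃ y ∈ Q ⊓ 𝐂[c], (orderOf y).Prime ∧
      a * y * a = y⁻¹ := by
  obtain ⟨c, d, v1, e, h1⟩ : ∃ c d, V4 c d ∧ V2 c d = V2 a b ∧ ¬ Q ⊓ 𝐂[c] ≤ 𝐂[a] := by
    by_contra! h1
    exact h (gen4 v ho hn h1)
  have hc := (mem_V2 e).1
  have v2 := v4_of (inv_a v) (inv_a v1) (fun e => h1 (e ▸ inf_le_right))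
    (cent_le_cent1 V4.t_mem (V2_le_cent v hc))
  exact ⟨c, v2, V2_eq v v2 V4.t_mem hc, exists_inv_prime (inv_a v)
    (mem_norm_inf (hn V4.t_mem) (le_norm_self _ (mem_cent1.2 v2.comm.symm))) h1⟩

theorem dich {a b : G} (v : V4 a b) {X : Subgroup G} (ho : Odd 𝐨(X)) (hn : V2 a b ≤ 𝐍(X)) :
    ((∀ x ∈ X, (orderOf x).Prime → a * x * a = x⁻¹ → ¬ orderOf x ∣ 𝐨((X ⊓ 𝐂[a] : Subgroup G))) ∧
      ∃ K : Subgroup G, ∀ x, x ∈ K ↔ x ∈ X ∧ a * x * a = x⁻¹) ∨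
    ∃ (s : ℕ) (Q : Subgroup G) (c y z : G), s.Prime ∧ IsPGroup s Q ∧ Q ≤ X ∧ V2 a b ≤ 𝐍(Q) ∧
      V4 a c ∧ V2 a c = V2 a b ∧ y ∈ Q ⊓ 𝐂[c] ∧ orderOf y = s ∧ a * y * a = y⁻¹ ∧
      z ∈ Q ⊓ 𝐂[a] ∧ orderOf z = s := by
  by_cases h : ∀ x ∈ X, (orderOf x).Prime → a * x * a = x⁻¹ →
    ¬ orderOf x ∣ 𝐨((X ⊓ 𝐂[a] : Subgroup G))
  · exact Or.inl ⟨h, exists_inv_subgroup (inv_a v) ho (hn V4.t_mem) h⟩
  push Not at h
  obtain ⟨x, hx, hs, h1, h2⟩ := h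
  obtain ⟨Q0, h3, -, h4⟩ := exists_syl4 v (odd_of_le inf_le_left ho) (H1.le_normalizer_inf hn
    (((V2_le_cent v).trans (cent_le_cent1 V4.t_mem)).trans (le_norm_self _))) hs IsPGroup.of_bot
    bot_le (le_top.trans norm_bot.ge)
  obtain ⟨Q, h5, h6, h7⟩ := exists_syl4 v ho hn hs h3.pgrp (h3.le.trans inf_le_left) h4
  obtain ⟨z, hz, h8⟩ := exists_mem_orderOf_eq_prime hs
    (prime_dvd_card_of_isPGroup hs h3.pgrp (h3.ne_bot hs h2))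
  obtain ⟨c, v1, e, y, hy, h9, h10⟩ := exists_eig v (odd_of_le h5.le ho) h7 fun e => h5.ndvd
    ((P6.dvd_of_inverted hs ho (inv_a v) (hn V4.t_mem) hx rfl h1).trans (relIndex_dvd_of_le_left X e))
  exact Or.inr ⟨_, Q, c, y, z, hs, h5.pgrp, h5.le, h7, v1, e, hy,
    P6.orderOf_eq_of_prime_of_mem hs h5.pgrp hy.1 h9, h10, ⟨h6 hz, (h3.le hz).2⟩, h8⟩

namespace JA

variable {q p k l f : ℕ} (h : JA G q p k l f)
include h

theorem cop_l : l.Coprime (8 * k * f) := Nat.coprime_of_dvd fun _ hr h1 => h.good_l hr h1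

theorem cop_k : k.Coprime (2 * f) := Nat.coprime_of_dvd fun _ hr h1 => h.k_f hr h1

theorem tl_inv {t c w x : G} (v : V4 t c) (hw : TL (LL t) l w) (h1 : w ∈ 𝐂[t])
    (h2 : c * w * c = w⁻¹) (hx : x ∈ LL t ⊓ 𝐂[w]) : c * x * c = x⁻¹ := by
  obtain ⟨b, hb, v1, e, -⟩ := h.exists_b v
  refine inv_of_V2 v1 v e.symm (LL_le t hx.1) (hw.inverts h.ep.oddl hb (inv_b v1) ?_ hx)
  rw [(inv_b v1).inv_eq, inv_of_V2 v v1 e h1 h2]
  exact inv_mem (self_mem_cent1 w)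

theorem oddsub (e : q = 4 * k + 1) {a : G} (ha : Inv a) {K : Subgroup G} (hK : K ≤ LL a)
    (ho : Odd 𝐨(K)) {x y : G} (hx : x ∈ K) (hr : (orderOf x).Prime) (rl : orderOf x ∣ l)
    (hy : y ∈ K) : orderOf y ∣ l := by
  obtain ⟨s, b, F, -, rfl, rfl, -⟩ := h.exists_fr ha
  exact (orderOf_dvd_card_of_mem hy).trans
    (Ax.oddsub F.toL2F e hK ho hr rl (orderOf_dvd_card_of_mem hx))

/-- An eigenvector lies in `LL c`, so its order does not divide `2 f`. -/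
theorem eig_f {c d y : G} (v : V4 c d) (hy : y ∈ 𝐂[c]) (hs : (orderOf y).Prime)
    (ho : Odd (orderOf y)) (hi : d * y * d = y⁻¹) : y ∈ LL c ∧ ¬ orderOf y ∣ 2 * f := by
  have h1 := mem_LL_of_inv (mem_cent1.2 v.comm) hy ho ((inv_b v).inv_eq.symm ▸ hi)
  refine ⟨h1, fun e => (hs.dvd_mul.1 e).elim (fun e => ho.not_two_dvd_nat
    ((Nat.prime_dvd_prime_iff_eq hs Nat.prime_two).1 e).symm.dvd) fun e => ?_⟩
  exact (h.cop _ hs e).elim (fun e => h.nr0 e.2 v e.1 hy hi)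
    fun e => e (h.cardL (inv_a v) ▸ orderOf_dvd_card_of_mem h1)

theorem k_big {a b y : G} (v : V4 a b) (hy : y ∈ 𝐂(V2 a b)) (hr : (orderOf y).Prime)
    (rk : orderOf y ∣ k) {D : Subgroup G} (hD : D ≤ 𝐂[y]) (ho : Odd 𝐨(D))
    (hi : ∀ d ∈ D, a * d * a = d⁻¹) : 𝐨(D) ≤ 13 := by
  have ha := mem_cent_iff_cent1.1 hy V4.t_mem
  have hb := mem_cent_iff_cent1.1 hy V4.s_mem
  have h8 := h.k_eight v hy hr rk
  rcases npc_or_tri v ha hb h8 with h1 | ⟨x, hx, tri⟩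
  · have h2 : Od 𝐂[y] ≤ 𝐂(V2 a b) :=
      gen4 v (odd_Od _) ((V4.le_iff.2 ⟨ha, hb⟩).trans (Od_normal _).2) fun c d v1 e => by
        rw [← e, cent_V2]
        exact le_inf inf_le_right ((inf_le_inf_right _ (Od_normal _).1).trans
          (h.k_cent v1 (e ▸ hy) hr rk))
    have h3 := (P5.Mx.le_O_of_le_sup (V4.le_iff.2 ⟨ha, hb⟩) v.isPGroup h1 hD ho).trans h2
    rw [show D = ⊥ from eq_bot_iff.2 fun d hd => eq_one_of_inv (inv_a v) (odd_orderOf_of_mem ho hd)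
      (cent_le_cent1 V4.t_mem (h3 hd)) (hi d hd), card_bot]
    omega
  · have := card_add_two_le v ha hb h8 hx tri hD ho hi
    have := (h.k_fifteen v hy hr rk).imp_left (relIndex_le_three v)
    omega

section

variable {t c w y : G} (v : V4 t c) (hw : w ∈ LL t) (hr : (orderOf w).Prime) (rl : orderOf w ∣ l)
  (cw : c * w * c = w⁻¹)
  (H : ∀ x ∈ 𝐂[w], (orderOf x).Prime → t * x * t = x⁻¹ → ¬ orderOf x ∣ l)
  (hy : y ∈ 𝐂[w]) (yc : y ∈ 𝐂[c]) (ty : t * y * t = y⁻¹)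
include v hw hr rl cw H hy yc ty

theorem b1 {K : Subgroup G} (hK : ∀ x, x ∈ K ↔ x ∈ Od 𝐂[w] ∧ t * x * t = x⁻¹)
    (hs : (orderOf y).Prime) (sk : orderOf y ∣ k) : False := by
  have ht := inv_a v
  have tl := h.tl ht hw hr rl dvd_rfl
  have oT : Odd 𝐨((LL t ⊓ 𝐂[w] : Subgroup G)) := tl.1.symm ▸ h.ep.oddl
  have oy := h.ep.oddk.of_dvd_nat sk
  have yK := (hK y).2 ⟨h.mem_O ht hw oT hy oy, ty⟩
  have KO : K ≤ Od 𝐂[w] := fun x hx => ((hK x).1 hx).1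
  have oK := odd_of_le KO (odd_Od _)
  have cK := isMulComm_iff_le_cent.1 (comm_of_inverts ht fun x hx => ((hK x).1 hx).2)
  obtain ⟨u, v1, yu⟩ := h.exists_v4_k (inv_b v) (h.eig_f v.swap yc hs oy ty).1 hs sk
  have yW : y ∈ 𝐂(V2 c u) := cent_V2 c u ▸ ⟨yc, yu⟩
  have nK : ∀ g ∈ 𝐍(zpowers w), g ∈ 𝐂[t] → g ∈ 𝐍(K) := fun g hg =>
    norm_inv_subgroup hK (norm_Od_cent hg)
  have h1 : ∀ x ∈ K, x ∈ 𝐂[t * c] → x = 1 := fun x hx h1 => by_contra fun x1 => by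
    obtain ⟨z, hz, h2⟩ := P6.exists_prime_pow_mem x1
    have zK := zpowers_le.2 hx hz
    have zw := (Od_normal _).1 (KO zK)
    have h3 : orderOf w ≠ orderOf z := fun e => H z zw h2 ((hK z).1 zK).2 (e ▸ rl)
    have h4 := mem_cent1_iff_commute.1 zw
    have h5 := h4.orderOf_mul_eq_mul_orderOf_of_coprime ((Nat.coprime_primes hr h2).2 h3)
    have h6 := h.ep.oddl.of_dvd_nat rl
    have h7 := odd_orderOf_of_mem oK zK
    have h8 := h.k_big v1 yW hs sk (D := zpowers (w * z)) (zpowers_le.2 (mul_mem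
      (mem_cent1_comm.1 hy) (cent_le_cent1 yK (cK zK)))) (by
        rw [Nat.card_zpowers, h5]; exact h6.mul h7) fun d hd =>
      P6.inverts_of_mem_zpowers v.ss (by
        have := inverts_mul (inv_ab v) (zpowers_le.2 h1 hz) (mem_cent1.2 (v4_mul v).comm.symm)
          ((hK z).1 zK).2
        rw [mul_assoc t, ← v.comm.eq, ht.mul_cancel_left] at this
        rw [h4.eq, mul_inv_rev, ← h4.eq, ← cw, ← this]
        simp only [mul_assoc, (inv_b v).mul_cancel_left]) hd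
    rw [Nat.card_zpowers, h5] at h8
    obtain ⟨i, hi⟩ := h6
    obtain ⟨j, hj⟩ := h7
    have := hr.two_le
    have := h2.two_le
    rw [hi, hj] at h8 h3
    have : 1 ≤ i := by omega
    have : 1 ≤ j := by omega
    have : 2 ≤ i ∨ 2 ≤ j := by omega
    rcases this with _ | _ <;> nlinarith
  have h2 : c ∈ 𝐂(K) := mem_cent_iff_cent1.2 fun x hx => by
    have := cent_of_inv (v4_mul v) ((hK x).1 hx).2 (inverts_of_fpf (inv_ab v) oK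
      (nK _ (V2_le_norm_zp v (LL_le t hw) cw (mul_mem V4.t_mem V4.s_mem))
        (mem_cent1.2 (v4_mul v).comm)) h1 hx)
    rwa [ht.mul_cancel_left] at this
  have h3 := fun x => h.tl_inv (x := x) v tl (LL_le t hw) cw
  have h4 : LL t ⊓ 𝐂[w] ≤ 𝐂[y] := fun x hx => cent_le_cent1 yK (mem_of_inv h2
    (H1.normalizer_le_normalizer_centralizer _ (nK x (norm_zp_of_cent (mem_cent1_comm.1 hx.2))
      (LL_le t hx.1))) (odd_orderOf_of_mem oT hx) ((inv_b v).inv_eq.symm ▸ h3 x hx))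
  have h5 := tl.1 ▸ h.k_big v1 yW hs sk h4 oT h3
  obtain ⟨i, hi, e⟩ := h.k_card v1 yW hs sk
  have h6 : l ∣ i := (h.cop_l.coprime_dvd_right ((FT.card_dvd_of_le inf_le_right).trans
    (h.card_W v1))).dvd_of_dvd_mul_left (e ▸ tl.1 ▸ FT.card_dvd_of_le h4)
  have h7 : i ≠ 0 := fun e1 => card_ne_zero _ (by rw [e, e1, mul_zero])
  have h8 := h.not_three_dvd_k ht
  have h9 := h.ep.eps
  have h10 := Nat.odd_iff.1 h.ep.oddk
  have h11 := h.q5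
  rcases hi with hi | rfl
  · have := Nat.le_of_dvd (Nat.pos_of_ne_zero h7) h6
    omega
  · interval_cases l <;> omega

theorem b2 (hp : orderOf y = p) : False := by
  have ht := inv_a v
  have hc := inv_b v
  have oy : Odd (orderOf y) := hp ▸ h.hp.odd_of_ne_two h.p_ne_two
  have yL := (h.eig_f v.swap yc (hp ▸ h.hp) oy ty).1
  obtain ⟨cP, eP, h1⟩ := h.tp hc yL hp
  obtain ⟨b, hb, v1, e1, -⟩ := h.exists_b v.swap
  obtain ⟨ε, iP, R, h2, cR, nR⟩ := h1 b hb (inv_b v1) (inv_of_V2 v.swap v1 e1 yc ty)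
  have oP : Odd 𝐨((LL c ⊓ 𝐂[y] : Subgroup G)) := cP.symm ▸ h.ep.oddq
  have nO : V2 c t ≤ 𝐍(Od 𝐂[y]) := (V2_le_norm_zp v.swap yc ty).trans norm_Od_cent
  have wO := h.mem_O hc yL oP (mem_cent1_comm.1 hy) (h.ep.oddl.of_dvd_nat rl)
  have oO := odd_Od 𝐂[y]
  have A : ∀ a : G, Inv a → ∀ x ∈ Od 𝐂[y] ⊓ LL a, (orderOf x).Prime → orderOf x ∣ l →
      ∀ z ∈ Od 𝐂[y] ⊓ LL a, orderOf z ∣ l := fun a ha x hx h1 h2 z hz =>
    h.oddsub ε ha inf_le_right (odd_of_le inf_le_left oO) hx h1 h2 hz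
  rcases dich v oO (V2_swap c t ▸ nO) with ⟨-, Y, hY⟩ |
    ⟨s, Q, c1, y1, z, hs, -, QO, -, v2, e2, h3, rfl, h4, h5, h6⟩
  · have cY := isMulComm_iff_le_cent.1 (comm_of_inverts ht fun x hx => ((hY x).1 hx).2)
    have PY : LL c ⊓ 𝐂[y] ≤ Y := fun x hx => (hY x).2 ⟨h.le_O hc yL oP inf_le_right oP hx,
      inv_of_V2 v1 v.swap e1.symm (LL_le c hx.1) (iP x hx)⟩
    have Rt : R ≤ 𝐂[t] := fun x hx => cent_le_cent1 V4.s_mem
      (e1 ▸ cent_V2 c b ▸ mem_inf.2 ⟨LL_le c (h2 hx).1, (h2 hx).2⟩)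
    have RY : R ≤ 𝐍(Y) := fun x hx => mem_norm_of_conj_le fun _ h3 => by
      obtain ⟨z, hz, rfl⟩ := mem_conj'.1 h3
      refine (hY _).2 ⟨h.mem_O hc yL oP (cent_le_cent1 (mem_inf.2 ⟨yL, self_mem_cent1 y⟩)
        ((mem_normalizer_iff.1 (H1.normalizer_le_normalizer_centralizer _ (nR hx)) z).1
          (cent_anti PY (cY hz)))) (orderOf_cj x z ▸ odd_orderOf_of_mem oO ((hY z).1 hz).1), ?_⟩
      exact mem_cent1_iff_conj.1 (Rt hx) ▸ inverts_cj ((hY z).1 hz).2 x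
    have h3 : ¬ Rk2 (LL t ⊓ 𝐍(Y)) := fun ⟨a, ha, d, hd, h3, h4, h5, h6⟩ => by
      have v2 := v4_of h3 h4 h5 (mem_cent1.2 h6)
      refine h.not_eight h.hp (h.good_p fun e => by have := h.eps_three e; omega)
        (H2.isPGroup_pCoreOf p Y) (fun e => ne_one_of_prime (hp ▸ h.hp) (mem_bot.1 (e ▸
          le_pCoreOf ⟨PY, (cY.trans (cent_anti PY)).trans (cent_le_norm _)⟩ (elemAb_isPGroup eP)
            ⟨yL, self_mem_cent1 y⟩))) (H2.normalizer_le_normalizer_pCoreOf p Y) v2 ha.2 hd.2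
        (eight_dvd v2 ht (h.not_mem_V ht ha.1 hd.1) (h.mem_cent_V ha.1 hd.1) ha.2 hd.2
          (norm_inv_subgroup hY (nO V4.s_mem) (self_mem_cent1 t)))
    have h4 := fun x => P6.mem_Od_of_npc (x := x) (P6.hasNPC_of_not_rk2 (comm_two h.e8) h3)
    obtain ⟨s, hs, h5⟩ := Nat.exists_prime_and_dvd (n := k) (by have := h.q5; omega)
    obtain ⟨ρ, hρ, rfl⟩ := exists_mem_orderOf_eq_prime hs (cR ▸ h5)
    exact h.k_l hs (h.oddsub ε ht ((Od_normal _).1.trans inf_le_left) (odd_Od _)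
      (h4 w ⟨hw, norm_inv_subgroup hY ((Od_normal _).2 (mem_cent1_comm.1 hy)) (LL_le t hw)⟩
        (h.ep.oddl.of_dvd_nat rl)) hr rl
      (h4 ρ ⟨h.mem_L ht (Rt hρ) (hs.coprime_iff_not_dvd.2 (h.k_f hs h5)), RY hρ⟩
        (h.ep.oddk.of_dvd_nat h5))) (h5.mul_left 4)
  obtain ⟨h7, h8⟩ := h.eig_f v2.swap h3.2 hs (odd_orderOf_of_mem oO (QO h3.1)) h4
  have sl : orderOf y1 ∣ l := h6 ▸ A t ht w ⟨wO, hw⟩ hr rl z
    ⟨QO h5.1, h.mem_L ht h5.2 (h6 ▸ hs.coprime_iff_not_dvd.2 h8)⟩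
  rcases eq_or_of_V2 v v2 e2 with rfl | rfl
  · exact h.p_l (h.eq_p hs (cP ▸ orderOf_dvd_card_of_mem
      (mem_inf.2 ⟨h7, (Od_normal _).1 (QO h3.1)⟩)) ▸ sl)
  rcases dich v.swap oO nO with ⟨-, K, hK⟩ |
    ⟨s, Q2, c2, y2, z2, hs2, -, Q2O, -, v3, e3, h9, rfl, h10, h11, h12⟩
  · refine H y1 (cent_le_cent1 ((hK w).2 ⟨wO, cw⟩) (isMulComm_iff_le_cent.1 (comm_of_inverts hc
      fun x hx => ((hK x).1 hx).2) ((hK y1).2 ⟨QO h3.1, ?_⟩))) hs h4 sl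
    have := inverts_mul (inv_ab v) h3.2 (mem_cent1.2 (v4_mul v).comm.symm) h4
    rwa [mul_assoc t, ← v.comm.eq, ht.mul_cancel_left] at this
  obtain ⟨h13, h14⟩ := h.eig_f v3.swap h9.2 hs2 (odd_orderOf_of_mem oO (Q2O h9.1)) h10
  refine h.p_l (h.eq_p hs2 (h12 ▸ cP ▸ orderOf_dvd_card_of_mem (mem_inf.2 ⟨h.mem_L hc h11.2
    (h12 ▸ hs2.coprime_iff_not_dvd.2 h14), (Od_normal _).1 (Q2O h11.1)⟩)) ▸ ?_)
  rcases eq_or_of_V2 v.swap v3 e3 with rfl | rfl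
  · exact A _ ht w ⟨wO, hw⟩ hr rl y2 ⟨Q2O h9.1, h13⟩
  · exact A _ (inv_ab v) y1 ⟨QO h3.1, h7⟩ hs sl y2 ⟨Q2O h9.1, v.comm.eq ▸ h13⟩

end

theorem alpha_or {t w : G} (ht : Inv t) (hw : w ∈ LL t) (hr : (orderOf w).Prime)
    (rl : orderOf w ∣ l) : 𝐂[w] ≤ 𝐂[t] ∨ ∃ (s : ℕ) (c : G) (Q : Subgroup G), s.Prime ∧ s ∣ l ∧
      V4 t c ∧ c * w * c = w⁻¹ ∧ IsPGroup s Q ∧ Q ≤ 𝐂[w] ∧ V2 t c ≤ 𝐍(Q) ∧ Q ⊓ 𝐂[t] ≠ ⊥ ∧
        Q ⊓ 𝐂[c] ≠ ⊥ := by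
  have tl := h.tl ht hw hr rl dvd_rfl
  have oT : Odd 𝐨((LL t ⊓ 𝐂[w] : Subgroup G)) := tl.1.symm ▸ h.ep.oddl
  obtain ⟨-, -, b, hb, h1, h2, -⟩ := id tl
  have v := v4_of ht h1 (fun e => h.not_mem ht (e ▸ hb)) (LL_le t hb)
  have bw := h2 w ⟨hw, self_mem_cent1 w⟩
  have nO : V2 t b ≤ 𝐍(Od 𝐂[w]) := (V2_le_norm_zp v (LL_le t hw) bw).trans norm_Od_cent
  have oO := odd_Od 𝐂[w]
  rcases dich v oO nO with ⟨H, K, hK⟩ |
    ⟨s, Q, c, y, z, hs, hQ, QO, nQ, v1, e, h3, rfl, h4, h5, h6⟩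
  · refine Or.inl (h.le_of_O ht hw oT (by_contra fun h3 => ?_))
    obtain ⟨c, v1, e, y, hy, hs, ty⟩ := exists_eig v oO nO h3
    have oy := odd_orderOf_of_mem oO hy.1
    have cw := inv_of_V2 v v1 e (LL_le t hw) bw
    have H' : ∀ x ∈ 𝐂[w], (orderOf x).Prime → t * x * t = x⁻¹ → ¬ orderOf x ∣ l :=
      fun x hx h4 h5 h6 => H x (h.mem_O ht hw oT hx (h.ep.oddl.of_dvd_nat h6)) h4 h5
        (h6.trans (tl.1 ▸ FT.card_dvd_of_le (le_inf (h.le_O ht hw oT inf_le_right oT)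
          (inf_le_left.trans (LL_le t)))))
    have yL := (h.eig_f v1.swap hy.2 hs oy ty).1
    have yw := (Od_normal _).1 hy.1
    have h4 := orderOf_dvd_card_of_mem (mem_inf.2 ⟨yL, self_mem_cent1 y⟩)
    rcases h.typ (inv_b v1) yL (ne_one_of_prime hs) oy with h5 | h5 | h5 <;> rw [h5.1] at h4
    · exact h.b1 v1 hw hr rl cw H' yw hy.2 ty hK hs
        ((Nat.coprime_two_right.2 oy).dvd_of_dvd_mul_left h4)
    · exact H' y yw hs ty h4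
    · exact h.b2 v1 hw hr rl cw H' yw hy.2 ty (h.eq_p hs h4)
  · have h7 := (h.eig_f v1.swap h3.2 hs (odd_orderOf_of_mem oO (QO h3.1)) h4).2
    refine Or.inr ⟨_, c, Q, hs, ?_, v1, inv_of_V2 v v1 e (LL_le t hw) bw, hQ,
      QO.trans (Od_normal _).1, e ▸ nQ, fun e => ne_one_of_prime (h6 ▸ hs) (mem_bot.1 (e ▸ h5)),
      fun e => ne_one_of_prime hs (mem_bot.1 (e ▸ h3))⟩
    exact h6 ▸ tl.1 ▸ orderOf_dvd_card_of_mem (mem_inf.2 ⟨h.mem_L ht h5.2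
      (h6 ▸ hs.coprime_iff_not_dvd.2 h7), (Od_normal _).1 (QO h5.1)⟩)

end JA

end Cfsg.Agent.P7.Ax
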