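/-
Maximal `r`-subgroups normalized by a four-group, `r` dividing `l`.
-/
import Cfsg.Agent.P7.A5

set_option autoImplicit false
set_option linter.unusedSectionVars false

namespace Cfsg.Agent.P7.Ax

open Subgroup Cfsg Cfsg.Agent Cfsg.Agent.FT
open Cfsg.Agent.P5 (V4 Tri LT K4)
open Cfsg.Agent.P6 (Inv Od Rk2 odd_Od Od_normal le_Od norm_le_norm_Od odd_of_le
  odd_orderOf_of_mem eq_one_of_eq_inv)

universe u

variable {G : Type u} [Group G] [Finite G]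

theorem quad {r : ℕ} (hr : r.Prime) {K X : Subgroup G} (hK : IsPGroup r K) (hX : IsPGroup r X)
    (hn : X ≤ 𝐍(K)) (hc : 𝐨(K) ∣ r ^ 2) : ⁅⁅K, X⁆, X⁆ = ⊥ := by
  by_cases h1 : K = ⊥
  · simp [h1]
  have hR := isPGroup_sup hX hK hn
  have h2 : K ⊲ X ⊔ K := ⟨le_sup_right, sup_le hn (le_norm_self K)⟩
  have h3 := BG04.comm_lt_of_isNilpotent (isNilpotent_of_isPGroup hr hR) h2 h1
  have h4 := BG04.le_cent_of_card_le_prime hr hR ⟨h3.le.trans le_sup_right,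
    H1.le_normalizer_commutator h2.2 (le_norm_self _)⟩ (by
      obtain ⟨i, hi, e⟩ := (Nat.dvd_prime_pow hr).1 ((FT.card_dvd_of_le h3.le).trans hc)
      have := (H1.card_lt_of_lt h3).trans_le (Nat.le_of_dvd (pow_pos hr.pos 2) hc)
      rw [e, Nat.pow_lt_pow_iff_right hr.one_lt] at this
      rw [e]
      exact (Nat.pow_le_pow_right hr.pos (by omega : i ≤ 1)).trans_eq (pow_one r))
  exact eq_bot_iff.2 ((commutator_mono (commutator_mono le_rfl le_sup_left) le_sup_left).trans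
    (comm_eq_bot_iff.2 h4).le)

theorem inf_cent_ne_bot {Q : Subgroup G} {c g : G} (h : Q ⊓ 𝐂[c] ≠ ⊥) :
    Q ^ᵍ g ⊓ 𝐂[g * c * g⁻¹] ≠ ⊥ := by
  rwa [cent1_conj, ← conj_inf, Ne, conj_eq_bot_iff]

theorem all_weights {a b x : G} (v : V4 a b) (hx : Tri x a b) {Z : Subgroup G} (ho : Odd 𝐨(Z))
    (hn : V2 a b ≤ 𝐍(Z)) (h1 : Z ≠ ⊥) (xZ : x ∈ 𝐍(Z)) {c : G} (hc : c ∈ V2 a b) (c1 : c ≠ 1) :
    Z ⊓ 𝐂[c] ≠ ⊥ := by
  obtain ⟨d, _, v1, e, h2⟩ := exists_weight v ho hn h1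
  obtain ⟨g, hg, rfl⟩ := hx.exists_conj v (mem_V2 e).1 v1.t1
  obtain ⟨y, hy, rfl⟩ := hx.exists_conj v hc c1
  have := inf_cent_ne_bot (g := y * g⁻¹) h2
  rwa [conj_eq_of_mem_norm (zpowers_le.2 xZ (mul_mem hy (inv_mem hg))),
    show y * g⁻¹ * (g * a * g⁻¹) * (y * g⁻¹)⁻¹ = y * a * y⁻¹ by group] at this

theorem exists_ord {r : ℕ} (hr : r.Prime) {Q X : Subgroup G} (hQ : IsPGroup r Q) (h : Q ⊓ X ≠ ⊥) :
    ∃ w ∈ Q ⊓ X, orderOf w = r :=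
  exists_mem_orderOf_eq_prime hr (prime_dvd_card_of_isPGroup hr (hQ.to_le inf_le_left) h)

theorem norm_inf_cent {a b c : G} (v : V4 a b) {Q : Subgroup G} (hn : V2 a b ≤ 𝐍(Q))
    (hc : c ∈ V2 a b) : V2 a b ≤ 𝐍((Q ⊓ 𝐂[c] : Subgroup G)) :=
  H1.le_normalizer_inf hn (((V2_le_cent v).trans (cent_le_cent1 hc)).trans (le_norm_self _))

theorem v4_of_V2 {a b c d : G} (v : V4 a b) (hc : c ∈ V2 a b) (hd : d ∈ V2 a b) (c1 : c ≠ 1)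
    (d1 : d ≠ 1) (h : c ≠ d) : V4 c d ∧ V2 c d = V2 a b :=
  have v1 := v4_of ⟨c1, v.sq hc⟩ ⟨d1, v.sq hd⟩ h (cent_le_cent1 hc (V2_le_cent v hd))
  ⟨v1, V2_eq v v1 hc hd⟩

/-- `Q` is a maximal `W`-invariant `r`-subgroup. -/
structure MX (r : ℕ) (W Q : Subgroup G) : Prop where
  pg : IsPGroup r Q
  nrm : W ≤ 𝐍(Q)
  max : ∀ R : Subgroup G, IsPGroup r R → W ≤ 𝐍(R) → Q ≤ R → R = Q

theorem exists_mx {r : ℕ} {W Q : Subgroup G} (hQ : IsPGroup r Q) (hn : W ≤ 𝐍(Q)) :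
    ∃ R, MX r W R ∧ Q ≤ R := by
  obtain ⟨R, h1, h2⟩ := Finite.exists_le_maximal
    (p := fun R : Subgroup G => IsPGroup r R ∧ W ≤ 𝐍(R)) ⟨hQ, hn⟩
  exact ⟨R, ⟨h2.1.1, h2.1.2, fun S h3 h4 h5 => le_antisymm (h2.2 ⟨h3, h4⟩ h5) h5⟩, h1⟩

theorem pg_cj {r : ℕ} {Q : Subgroup G} (h : IsPGroup r Q) (g : G) : IsPGroup r (Q ^ᵍ g) :=
  (isPGroup_map_iff (conj_injective g)).2 h

theorem nrm_cj {W Q : Subgroup G} (h : W ≤ 𝐍(Q)) {g : G} (hg : g ∈ 𝐍(W)) : W ≤ 𝐍(Q ^ᵍ g) :=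
  conj_eq_of_mem_norm hg ▸ conj_le_norm_iff.2 h

theorem MX.cj {r : ℕ} {W Q : Subgroup G} (h : MX r W Q) {g : G} (hg : g ∈ 𝐍(W)) :
    MX r W (Q ^ᵍ g) :=
  ⟨pg_cj h.pg g, nrm_cj h.nrm hg, fun R h1 h2 h3 => by
    rw [← h.max _ (pg_cj h1 g⁻¹) (nrm_cj h2 (inv_mem hg)) (conj_le_iff.1 h3), conj_inv_conj]⟩

theorem MX.isSyl {r : ℕ} (hr : r.Prime) {a b : G} (v : V4 a b) {Q X : Subgroup G}
    (h : MX r (V2 a b) Q) (ho : Odd 𝐨(X)) (hn : V2 a b ≤ 𝐍(X)) (hQ : Q ≤ X) : IsSyl r Q X := by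
  obtain ⟨P, h1, h2, h3⟩ := exists_syl4 v ho hn hr h.pg hQ h.nrm
  exact h.max P h1.pgrp h3 h2 ▸ h1

/-- `Ω₁(Z(Q))`. -/
abbrev EE (r : ℕ) (Q : Subgroup G) : Subgroup G := omegaOne r 𝐙(Q)

theorem EE_le (r : ℕ) (Q : Subgroup G) : EE r Q ≤ Q := (omegaOne_le _ _).trans inf_le_left

theorem le_cent_EE (r : ℕ) (Q : Subgroup G) : Q ≤ 𝐂(EE r Q) :=
  cent_comm.1 ((omegaOne_le _ _).trans inf_le_right)

theorem norm_EE (r : ℕ) (Q : Subgroup G) : 𝐍(Q) ≤ 𝐍(EE r Q) :=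
  (norm_le_norm_center Q).trans (norm_le_norm_omegaOne _ r)

theorem ea_EE (r : ℕ) (Q : Subgroup G) : IsElementaryAbelian r (EE r Q) :=
  elemAb_omegaOne (isMulComm_center Q)

theorem EE_ne_bot {r : ℕ} (hr : r.Prime) {Q : Subgroup G} (hQ : IsPGroup r Q) (h : Q ≠ ⊥) :
    EE r Q ≠ ⊥ :=
  omegaOne_ne_bot hr (prime_dvd_card_of_isPGroup hr (hQ.to_le inf_le_left)
    (center_ne_bot (isNilpotent_of_isPGroup hr hQ) h))

/-- A maximal invariant `r`-subgroup whose center has all three weights. -/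
structure S3 (r : ℕ) (W Q : Subgroup G) : Prop extends MX r W Q where
  wt : ∀ c ∈ W, c ≠ 1 → EE r Q ⊓ 𝐂[c] ≠ ⊥

namespace JA

variable {q p k l f : ℕ} (h : JA G q p k l f)
include h

theorem ord_LW {c a x : G} (v : V4 c a) (hx : x ∈ LL c) (xa : x ∈ 𝐂[a]) (ho : Odd (orderOf x)) :
    orderOf x ∣ k := by
  obtain ⟨b, hb, v1, e, -⟩ := h.exists_b v
  have h1 : x ∈ 𝐂(V2 c b) := e ▸ cent_V2 c a ▸ mem_inf.2 ⟨LL_le c hx, xa⟩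
  exact ((Nat.coprime_two_right.2 ho).pow_right 2).dvd_of_dvd_mul_left (h.card_LC (inv_a v) hb
    (inv_b v1) ▸ orderOf_dvd_card_of_mem (mem_inf.2 ⟨hx, cent_le_cent1 V4.s_mem h1⟩))

variable {r : ℕ} (hr : r.Prime) (rl : r ∣ l)
include hr rl

theorem tl' {D : Subgroup G} (hD : IsPGroup r D) {c w : G} (hc : Inv c) (hw : w ∈ D ⊓ 𝐂[c])
    (w1 : w ≠ 1) : w ∈ LL c ∧ TL (LL c) l w ∧ Odd 𝐨((LL c ⊓ 𝐂[w] : Subgroup G)) := by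
  have h1 := h.good_mem hr (h.good_l hr rl) hD hc hw.1 hw.2
  obtain ⟨n, e⟩ := ord_pow hr hD hw.1
  have h2 := h.tl hc h1 hr rl (e ▸ dvd_pow_self r fun e1 => w1 (by simpa [e1] using e))
  exact ⟨h1, h2, h2.1.symm ▸ h.ep.oddl⟩

theorem cyc {D : Subgroup G} (hD : IsPGroup r D) {c : G} (hc : Inv c) :
    IsCyclic (D ⊓ 𝐂[c] : Subgroup G) := by
  by_cases h1 : D ⊓ 𝐂[c] = ⊥
  · rw [h1]; infer_instance
  obtain ⟨⟨w, hw⟩, w1⟩ := ne_bot_iff_exists_ne_one.1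
    (center_ne_bot (isNilpotent_of_isPGroup hr (hD.to_le inf_le_left)) h1)
  exact isCyclic_of_le (le_inf (fun x hx => h.good_mem hr (h.good_l hr rl) hD hc hx.1 hx.2)
    (mem_cent_iff_cent1.1 hw.2)) (h.tl' hr rl hD hc hw.1 fun e => w1 (Subtype.ext e)).2.1.2.1

theorem zp_eq {D : Subgroup G} (hD : IsPGroup r D) {c w z : G} (hc : Inv c) (hw : w ∈ D ⊓ 𝐂[c])
    (hz : z ∈ D ⊓ 𝐂[c]) (ow : orderOf w = r) (oz : orderOf z = r) : zpowers w = zpowers z :=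
  eq_of_card_prime_of_isCyclic hr (h.cyc hr rl hD hc) (zpowers_le.2 hw) (zpowers_le.2 hz)
    (by rw [Nat.card_zpowers, ow]) (by rw [Nat.card_zpowers, oz])

theorem card_wt {Z : Subgroup G} (hZ : IsElementaryAbelian r Z) {c : G} (hc : Inv c) :
    𝐨((Z ⊓ 𝐂[c] : Subgroup G)) ∣ r := by
  obtain ⟨x, hx⟩ := isCyclic_iff_zpowers.1 (h.cyc hr rl (elemAb_isPGroup hZ) hc)
  rw [← hx, Nat.card_zpowers]
  exact orderOf_dvd_of_pow_eq_one (hZ.2 x (hx.le (mem_zpowers x)).1)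

theorem odd_cent {Z : Subgroup G} (hZ : IsPGroup r Z) {c d : G} (v : V4 c d) (h1 : Z ⊓ 𝐂[c] ≠ ⊥)
    (h2 : Z ⊓ 𝐂[d] ≠ ⊥) : Odd 𝐨(𝐂(Z)) := P6.odd_of_no_inv fun u hu h3 => by
  have h4 := h.cyc hr rl hZ h3
  rw [inf_of_le_left (mem_cent_iff_cent1.1 hu)] at h4
  exact inf_ne_bot_of_isCyclic hr h4 hZ inf_le_left inf_le_left h1 h2 (eq_bot_iff.2 fun x hx =>
    h.good_one hr (h.good_l hr rl) hZ v hx.1.1 hx.1.2 hx.2.2)

theorem le_O_norm {a b : G} (v : V4 a b) {D U : Subgroup G} (hD : IsPGroup r D) (D1 : D ≠ ⊥)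
    (nD : V2 a b ≤ 𝐍(D)) (hU : IsPGroup r U) (nU : V2 a b ≤ 𝐍(U)) (UD : U ≤ 𝐍(D)) :
    U ≤ Od 𝐍(D) := by
  have gr := h.good_l hr rl
  have oU := h.good_odd hr gr hU
  rcases npc_or_tri v (nD V4.t_mem) (nD V4.s_mem)
    (h.not_eight hr gr hD D1 le_rfl v (nD V4.t_mem) (nD V4.s_mem)) with h1 | ⟨x, hx, tri⟩
  · exact P5.Mx.le_O_of_le_sup nD v.isPGroup h1 UD oU
  have hE := ea_EE r D
  have pE := elemAb_isPGroup hE
  have oE := h.good_odd hr gr pE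
  have cE := isMulComm_iff_le_cent.1 hE.1
  have nE := nD.trans (norm_EE r D)
  have wt := fun c => all_weights (c := c) v tri oE nE (EE_ne_bot hr hD D1) (norm_EE r D hx)
  refine gen4 v oU nU fun c d v1 e => quad_le_Od h.e8 hr (h.l_ne_two rl) pE (norm_EE r D)
    (inf_le_left.trans UD) ?_ (h.odd_cent hr rl pE v (wt a V4.t_mem v.t1) (wt b V4.s_mem v.s1))
  rw [← e] at nE nU
  have nc := zpowers_le.2 (nE V4.t_mem)
  have co := (inv_a v1).coprime oE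
  have KE : ⁅EE r D, zpowers c⁆ ≤ EE r D := comm_le_left_iff.2 nc
  have XE : U ⊓ 𝐂[c] ≤ 𝐍(EE r D) := (inf_le_left.trans UD).trans (norm_EE r D)
  have nK : ∀ X : Subgroup G, X ≤ 𝐍(EE r D) → X ≤ 𝐂[c] → X ≤ 𝐍(⁅EE r D, zpowers c⁆) :=
    fun X h1 h2 => H1.le_normalizer_commutator h1 fun y hy =>
      norm_zp_of_cent (mem_cent1_comm.1 (h2 hy))
  have h1 : ⁅EE r D, zpowers c⁆ ≤ EE r D ⊓ 𝐂[d] ⊔ EE r D ⊓ 𝐂[c * d] :=
    gen4 v1 (odd_of_le KE oE) (nK _ nE ((V2_le_cent v1).trans (cent_le_cent1 V4.t_mem)))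
      fun x y v2 e2 => by
      rcases (v1.mem_iff.1 (mem_V2 e2).1).resolve_left v2.t1 with rfl | rfl | rfl
      · rw [inf_comm, ← cent_zpowers, H1.centralizer_inf_commutator_eq_bot hE.1 nc co]
        exact bot_le
      · exact (inf_le_inf_right _ KE).trans le_sup_left
      · exact (inf_le_inf_right _ KE).trans le_sup_right
  have h2 := quad hr (pE.to_le KE) (hU.to_le inf_le_left) (nK _ XE inf_le_right)
    ((FT.card_dvd_of_le h1).trans ((H1.card_sup_dvd ((inf_le_left.trans cE).trans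
      ((cent_anti inf_le_left).trans (cent_le_norm _)))).trans (pow_two r ▸ mul_dvd_mul
        (h.card_wt hr rl hE (inv_b v1)) (h.card_wt hr rl hE (inv_ab v1)))))
  have h3 : EE r D ≤ 𝐍(⁅⁅EE r D, zpowers c⁆, U ⊓ 𝐂[c]⁆) := cE.trans ((cent_anti
    ((commutator_mono KE le_rfl).trans (comm_le_left_iff.2 XE))).trans (cent_le_norm _))
  refine eq_bot_iff.2 (le_of_le_of_eq (commutator_mono ?_ le_rfl) h2)
  nth_rw 1 [← H1.commutator_sup_centralizer nc co (Or.inl (Inv.solv c)), commutator_comm]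
  refine comm_sup_le (KE.trans h3) (inf_le_left.trans h3) (commutator_comm _ _).le ?_
  rw [cent_zpowers, comm_eq_bot_iff.2 fun y hy => ?_]
  · exact bot_le
  have h4 := isPGroup_sup hU pE (UD.trans (norm_EE r D))
  exact cent_anti (inf_le_inf_right _ le_sup_right) (isMulComm_iff_le_cent.1
    (isMulComm_of_isCyclic (h.cyc hr rl h4 (inv_a v1))) ⟨mem_sup_left hy.1, hy.2⟩)

theorem mx_conj {a b : G} (v : V4 a b) {Q R : Subgroup G} (hQ : MX r (V2 a b) Q)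
    (hR : MX r (V2 a b) R) (h1 : Q ⊓ R ≠ ⊥) : ∃ c ∈ 𝐂(V2 a b), Q ^ᵍ c = R := by
  induction' hn : Nat.card G - 𝐨((Q ⊓ R : Subgroup G)) using Nat.strong_induction_on with n ih
    generalizing Q R
  by_cases e : Q = R
  · exact ⟨1, one_mem _, by rw [conj_one, e]⟩
  have nD := H1.le_normalizer_inf hQ.nrm hR.nrm
  have key : ∀ S, MX r (V2 a b) S → Q ⊓ R < S → Q ⊓ R < S ⊓ 𝐍(Q ⊓ R) ∧
      V2 a b ≤ 𝐍(S ⊓ 𝐍(Q ⊓ R)) ∧ S ⊓ 𝐍(Q ⊓ R) ≤ Od 𝐍(Q ⊓ R) := fun S hS h2 =>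
    have h3 := H1.le_normalizer_inf hS.nrm (nD.trans (le_norm_self _))
    ⟨lt_inf_norm_of_isNilpotent (isNilpotent_of_isPGroup hr hS.pg) h2, h3, h.le_O_norm hr rl v
      (hQ.pg.to_le inf_le_left) h1 nD (hS.pg.to_le inf_le_left) h3 inf_le_right⟩
  obtain ⟨a1, a2, a3⟩ := key Q hQ (inf_lt_left.2 fun h2 => e (hQ.max R hR.pg hR.nrm h2).symm)
  obtain ⟨b1, b2, b3⟩ := key R hR (inf_lt_right.2 fun h2 => e (hR.max Q hQ.pg hQ.nrm h2))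
  have nO := nD.trans (Od_normal _).2
  obtain ⟨P, c1, c2, c3⟩ := exists_syl4 v (odd_Od _) nO hr (hQ.pg.to_le inf_le_left) a3 a2
  obtain ⟨c, hc, c4⟩ := exists_conj4 v (odd_Od _) nO hr c1 c3 (hR.pg.to_le inf_le_left) b3 b2
  obtain ⟨S, hS, c5⟩ := exists_mx c1.pgrp c3
  have key2 : ∀ T U : Subgroup G, MX r (V2 a b) T → U ≤ T → U ≤ S → 𝐨((Q ⊓ R : Subgroup G)) < 𝐨(U) →
      ∃ c ∈ 𝐂(V2 a b), T ^ᵍ c = S := fun T U hT h2 h3 h4 => by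
    have h5 := h4.trans_le (card_le_of_le (le_inf h2 h3))
    have := card_le_card_group (T ⊓ S)
    refine ih _ (by omega) hT hS (fun e => ?_) rfl
    rw [e, card_bot] at h5
    exact absurd Nat.card_pos (by omega : ¬ 0 < 𝐨((Q ⊓ R : Subgroup G)))
  obtain ⟨x, hx, e1⟩ := key2 Q _ hQ inf_le_left (c2.trans c5) (H1.card_lt_of_lt a1)
  obtain ⟨y, hy, e2⟩ := key2 _ _ (hR.cj (cent_le_norm _ hc.2)) (conj_mono inf_le_left c)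
    (c4.trans c5) ((H1.card_lt_of_lt b1).trans_eq (card_conj _ c).symm)
  refine ⟨(y * c)⁻¹ * x, mul_mem (inv_mem (mul_mem hy hc.2)) hx, ?_⟩
  rw [← conj_conj, e1, ← e2, conj_conj R, conj_conj_inv]

theorem exists_H {c d : G} (v : V4 c d) : ∃ H ≤ 𝐂(V2 c d), 𝐨(H) = 4 * k ∧
    ∀ w ∈ 𝐂[c], orderOf w = r → d * w * d = w⁻¹ → ∀ Q : Subgroup G, IsPGroup r Q →
      V2 c d ≤ 𝐍(Q) → Q ⊓ 𝐂[c] ≠ ⊥ → ∃ x ∈ H, w ∈ Q ^ᵍ x := by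
  obtain ⟨b, hb, v1, e, -⟩ := h.exists_b v
  have hc := inv_a v
  obtain ⟨s, hs, v2⟩ := h.exists_v4L hc hb (inv_b v1)
  obtain ⟨F, -, -, rfl, -⟩ := h.fr hc v2.swap hs hb
  refine ⟨LL c ⊓ 𝐂[b], e ▸ cent_V2 c b ▸ inf_le_inf_right _ (LL_le c),
    h.card_LC hc hb (inv_b v1), fun w hw ow iw Q hQ nQ h1 => ?_⟩
  obtain ⟨z, hz, oz⟩ := exists_ord hr hQ h1
  have gr := h.good_l hr rl
  obtain ⟨x, hx, e1⟩ := tori F.toL2F (h.good_mem hr gr hQ hc hz.1 hz.2)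
    (h.good_mem hr gr (pg_zp ow) hc (mem_zpowers w) hw) hr rl oz ow
    (h.good_inv hr gr hQ v1 (e ▸ nQ) hz) (inv_of_V2 v v1 e hw iw)
  exact ⟨x, hx, zpowers_le.2 (conj_mem_conj hz.1 x) (e1 ▸ mem_zpowers w)⟩

theorem exists_d {a b : G} (v : V4 a b) {Q : Subgroup G} (hQ : MX r (V2 a b) Q)
    (ha : Q ⊓ 𝐂[a] ≠ ⊥) (hb : Q ⊓ 𝐂[b] ≠ ⊥) : S3 r (V2 a b) Q ∧ ∃ d ∈ 𝐍(Q), Tri d a b := by
  obtain ⟨t, ht, h1, h2⟩ := h.exists_t v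
  obtain ⟨x, -, -, tri⟩ := h.exists_x v ht h1 h2
  obtain ⟨H, h3, -, h4⟩ := h.exists_H hr rl v.swap
  rw [V2_swap] at h3 h4
  obtain ⟨w, hw, ow⟩ := exists_ord hr hQ.pg hb
  have h5 := hQ.cj (tri.mem_norm v)
  obtain ⟨y, hy, h6⟩ := h4 w hw.2 ow (h.good_inv hr (h.good_l hr rl) hQ.pg v.swap
    (V2_swap a b ▸ hQ.nrm) hw) _ h5.pg h5.nrm (tri.1 ▸ inf_cent_ne_bot ha)
  obtain ⟨c, hc, e⟩ := h.mx_conj hr rl v (h5.cj (cent_le_norm _ (h3 hy))) hQ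
    fun e => ne_one_of_prime (ow ▸ hr) (mem_bot.1 (e ▸ mem_inf.2 ⟨h6, hw.1⟩))
  rw [conj_conj, conj_conj, conj_eq_self_iff] at e
  have h7 : ∀ z ∈ V2 a b, c * y * x * z * (c * y * x)⁻¹ = x * z * x⁻¹ := fun z hz => by
    rw [← mem_cent1_iff_conj.1 (cent_le_cent1 ((mem_normalizer_iff.1 (tri.mem_norm v) z).1 hz)
      (mul_mem hc (h3 hy)))]
    group
  have h8 : Tri (c * y * x) a b := ⟨(h7 a V4.t_mem).trans tri.1, (h7 b V4.s_mem).trans tri.2⟩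
  exact ⟨⟨hQ, fun z => all_weights v h8 (h.good_odd hr (h.good_l hr rl) (hQ.pg.to_le (EE_le r Q)))
    (hQ.nrm.trans (norm_EE r Q)) (EE_ne_bot hr hQ.pg fun e => ha (by simp [e])) (norm_EE r Q e)⟩,
    _, e, h8⟩

section S3

variable {a b : G} (v : V4 a b) {Q : Subgroup G} (hQ : S3 r (V2 a b) Q)
include v hQ

theorem exists_w {c : G} (hc : c ∈ V2 a b) (c1 : c ≠ 1) : ∃ w ∈ EE r Q ⊓ 𝐂[c], orderOf w = r :=
  exists_ord hr (hQ.pg.to_le (EE_le r Q)) (hQ.wt c hc c1)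

theorem mem_EE {c x : G} (hc : c ∈ V2 a b) (c1 : c ≠ 1) (hx : x ∈ Q ⊓ 𝐂[c]) (h1 : x ^ r = 1) :
    x ∈ EE r Q := by
  obtain ⟨w, hw, ow⟩ := h.exists_w hr rl v hQ hc c1
  by_cases x1 : x = 1
  · exact x1 ▸ one_mem _
  have := Fact.mk hr
  exact zpowers_le.2 hw.1 (h.zp_eq hr rl hQ.pg ⟨c1, v.sq hc⟩ hx ⟨EE_le r Q hw.1, hw.2⟩
    (orderOf_eq_prime h1 x1) ow ▸ mem_zpowers x)

theorem odd_CE : Odd 𝐨(𝐂(EE r Q)) :=
  h.odd_cent hr rl (hQ.pg.to_le (EE_le r Q)) v (hQ.wt a V4.t_mem v.t1) (hQ.wt b V4.s_mem v.s1)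

theorem CE_le : 𝐂(EE r Q) ≤ Od 𝐍(EE r Q) :=
  le_Od ⟨cent_le_norm _, H1.normalizer_le_normalizer_centralizer _⟩ (h.odd_CE hr rl v hQ)

theorem nE : V2 a b ≤ 𝐍(EE r Q) := hQ.nrm.trans (norm_EE r Q)

theorem eight_E : ¬ 8 ∣ 𝐨(𝐍(EE r Q)) :=
  h.not_eight hr (h.good_l hr rl) (hQ.pg.to_le (EE_le r Q))
    (fun e => hQ.wt a V4.t_mem v.t1 (by simp [e])) le_rfl v (h.nE hr rl v hQ V4.t_mem)
    (h.nE hr rl v hQ V4.s_mem)

variable {w : G} (hw : w ∈ EE r Q ⊓ 𝐂[a]) (ow : orderOf w = r)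
include hw ow

theorem w_facts : w ∈ LL a ∧ TL (LL a) l w ∧ Odd 𝐨((LL a ⊓ 𝐂[w] : Subgroup G)) ∧
    b * w * b = w⁻¹ ∧ V2 a b ≤ 𝐍(Od 𝐂[w]) ∧ IsSyl r Q (Od 𝐂[w]) := by
  have pE := hQ.pg.to_le (EE_le r Q)
  obtain ⟨h1, h2, h3⟩ := h.tl' hr rl pE (inv_a v) hw (ne_one_of_prime (ow ▸ hr))
  have h4 := h.good_inv hr (h.good_l hr rl) pE v (h.nE hr rl v hQ) hw
  have h5 := (V2_le_norm_zp v hw.2 h4).trans norm_Od_cent
  exact ⟨h1, h2, h3, h4, h5, hQ.isSyl hr v (odd_Od _) h5 (h.le_O (inv_a v) h1 h3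
    ((le_cent_EE r Q).trans (cent_le_cent1 hw.1)) (h.good_odd hr (h.good_l hr rl) hQ.pg))⟩

theorem mem_norm_Q {g : G} (hg : g ∈ 𝐂(V2 a b)) (gw : g ∈ 𝐍(zpowers w)) : g ∈ 𝐍(Q) := by
  obtain ⟨wL, tl, oT, -, nO, sQ⟩ := h.w_facts hr rl v hQ hw ow
  have gr := h.good_l hr rl
  refine mem_norm_of_conj_le (conj_le_iff.2 (gen4 v (h.good_odd hr gr hQ.pg) hQ.nrm
    fun c d v1 e => conj_le_iff.1 ?_))
  have hc := (mem_V2 e).1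
  have h1 : Q ⊓ 𝐂[c] ≤ Od 𝐂[w] ⊓ LL c := fun x hx =>
    ⟨sQ.le hx.1, h.good_mem hr gr hQ.pg (inv_a v1) hx.1 hx.2⟩
  refine (conj_eq_of_mem_norm (norm_le_norm_of_le_cyclic ?_ h1 (mem_norm_inf (norm_Od_cent gw)
    ((LL_normal c).2 (cent_le_cent1 hc hg))))).le.trans inf_le_left
  by_cases e1 : c = a
  · exact isCyclic_of_le (le_inf (e1 ▸ inf_le_right) (inf_le_left.trans (Od_normal _).1)) tl.2.1
  obtain ⟨v2, -⟩ := v4_of_V2 v hc V4.t_mem v1.t1 v.t1 e1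
  obtain ⟨z, hz, oz⟩ := h.exists_w hr rl v hQ hc v1.t1
  have h2 := h1 ⟨EE_le r Q hz.1, hz.2⟩
  have oJ : Odd 𝐨((Od 𝐂[w] ⊓ LL c : Subgroup G)) := odd_of_le inf_le_left (odd_Od _)
  refine isCyclic_of_le (le_inf inf_le_right ((isMulComm_iff_le_cent.1 (comm_of_inverts (inv_a v)
    fun x => inverts_of_fpf (inv_a v) oJ (mem_norm_inf (nO V4.t_mem)
      ((LL_normal c).2 (mem_cent1.2 v2.comm))) fun y hy ya => ?_)).trans (cent_le_cent1 h2)))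
    (h.tl (inv_a v1) h2.2 hr rl oz.symm.dvd).2.1
  have h3 := h.ord_LW v2 hy.2 ya (odd_orderOf_of_mem oJ hy)
  exact orderOf_eq_one_iff.1 (Nat.eq_one_of_dvd_coprimes h.ep.cop_kl (h3.mul_left 4)
    (tl.1 ▸ orderOf_dvd_card_of_mem (mem_inf.2 ⟨h.mem_L (inv_a v) ya
      (h.cop_k.coprime_dvd_left h3), (Od_normal _).1 hy.1⟩)))

omit hw ow in
theorem exists_g : ∃ t g, Inv t ∧ a ∈ LL t ∧ b ∈ LL t ∧ g ∈ LL t ∧ g ^ 3 = 1 ∧ Tri g a b ∧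
    g ∈ 𝐍(Q) := by
  obtain ⟨t, ht, h1, h2⟩ := h.exists_t v
  obtain ⟨x, xL, x3, tri⟩ := h.exists_x v ht h1 h2
  obtain ⟨H, h3, cH, h4⟩ := h.exists_H hr rl v
  obtain ⟨w, hw, ow⟩ := h.exists_w hr rl v hQ V4.t_mem v.t1
  have wQ := EE_le r Q hw.1
  obtain ⟨c, hc, h5⟩ := exists_conj_into Nat.prime_three (P := zpowers x) (C := H) (H := 𝐍(Q))
    (elemAb_isPGroup (elemAb_zpowers x3)) (fun y hy c hc => by
      have hn := mul_mem (zpowers_le.2 (tri.mem_norm v) hy) (cent_le_norm _ (h3 hc))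
      generalize y * c = n at hn
      have h5 := hQ.cj hn
      obtain ⟨z, hz, h6⟩ := h4 w hw.2 ow (h.w_facts hr rl v hQ hw ow).2.2.2.1 _ h5.pg h5.nrm (by
        rw [← cj_cj n a]
        exact inf_cent_ne_bot fun e => hQ.wt _ ((mem_normalizer_iff.1 (inv_mem hn) a).1 V4.t_mem)
          ((inv_a v).conj _).ne (eq_bot_iff.2 (e ▸ inf_le_inf_right _ (EE_le r Q))))
      have h7 := h5.cj (cent_le_norm _ (h3 hz))
      obtain ⟨c0, h8, e⟩ := h.mx_conj hr rl v hQ.toMX h7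
        fun e => ne_one_of_prime (ow ▸ hr) (mem_bot.1 (e ▸ mem_inf.2 ⟨wQ, h6⟩))
      have h9 := h.zp_eq hr rl h7.pg (inv_a v) ⟨e ▸ conj_mem_conj wQ c0, P5.cj
        (cent_le_cent1 V4.t_mem h8) hw.2⟩ ⟨h6, hw.2⟩ ((orderOf_cj c0 w).trans ow) ow
      rw [conj_eq_of_mem_norm (h.mem_norm_Q hr rl v hQ hw ow h8
        (conj_eq_self_iff.1 ((zpowers_conj w c0).symm.trans h9))), conj_conj] at e
      exact ⟨z⁻¹, inv_mem hz, by rw [inv_inv]; exact conj_eq_self_iff.1 e.symm⟩)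
    fun e => h.not_three_dvd_k ht (by have := cH ▸ e.trans (relIndex_dvd_card' _ _); omega)
  have h6 := inv_mem (h3 hc)
  have h7 := fun z (hz : z ∈ V2 a b) => mem_cent1_iff_conj.1 (cent_le_cent1 hz h6)
  refine ⟨_, c⁻¹ * x * c⁻¹⁻¹, ht.conj c⁻¹, h7 a V4.t_mem ▸ mem_LL_cj h1 _,
    h7 b V4.s_mem ▸ mem_LL_cj h2 _, mem_LL_cj xL _, by rw [conj_pow, x3, mul_one, mul_inv_cancel],
    ?_, by rw [inv_inv]; exact h5 x (mem_zpowers x)⟩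
  have := Tri.cj tri c⁻¹
  rwa [h7 a V4.t_mem, h7 b V4.s_mem] at this

end S3

end JA

end Cfsg.Agent.P7.Ax
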