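/-
The configuration of three commuting tori is impossible when `r = 3`.
-/
import Cfsg.Agent.P7.A6

set_option autoImplicit false
set_option linter.unusedSectionVars false

namespace Cfsg.Agent.P7.Ax

open Subgroup Cfsg Cfsg.Agent Cfsg.Agent.FT
open Cfsg.Agent.P5 (V4 Tri LT K4)
open Cfsg.Agent.P6 (Inv Od Rk2 odd_Od Od_normal le_Od norm_le_norm_Od odd_of_le
  odd_orderOf_of_mem eq_one_of_eq_inv)
open scoped commutatorElement

universe u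

variable {G : Type u} [Group G] [Finite G]

theorem le_cent_27 {s : ℕ} (hs : s.Prime) (s2 : s ≠ 2) (s3 : s ≠ 3) {E P : Subgroup G}
    (hE : 𝐨(E) ∣ 3 ^ 3) (hP : IsPGroup s P) (hn : P ≤ 𝐍(E)) (h : s ≠ 13 ∨ E ⊓ 𝐂(P) ≠ ⊥) :
    P ≤ 𝐂(E) := by
  have h1 : 𝐨(E) ≡ 𝐨((E ⊓ 𝐂(P) : Subgroup G)) [MOD s] :=
    P6.ncard_modEq_cent hs hP (S := E) fun x hx y hy => (mem_normalizer_iff.1 (hn hx) y).1 hy
  have h2 := FT.card_dvd_of_le (inf_le_left : E ⊓ 𝐂(P) ≤ E)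
  refine cent_comm.1 (inf_eq_left.1 (eq_of_le_of_card_ge inf_le_left (not_lt.1 fun h3 => ?_)))
  rw [Ne, Ne, ← card_eq_one] at h
  obtain ⟨i, hi, e1⟩ := (Nat.dvd_prime_pow Nat.prime_three).1 hE
  obtain ⟨j, hj, e2⟩ := (Nat.dvd_prime_pow Nat.prime_three).1 (h2.trans hE)
  have h4 := (Nat.modEq_iff_dvd' h3.le).1 h1.symm
  rw [e1, e2] at h3 h4
  rw [e2] at h
  have key : ∀ n, n ∣ 2 ^ 3 * 3 ^ 2 → ¬ s ∣ n := fun n h5 h6 =>
    (hs.dvd_mul.1 (h6.trans h5)).elim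
      (fun e => s2 ((Nat.prime_dvd_prime_iff_eq hs Nat.prime_two).1 (hs.dvd_of_dvd_pow e)))
      fun e => s3 ((Nat.prime_dvd_prime_iff_eq hs Nat.prime_three).1 (hs.dvd_of_dvd_pow e))
  interval_cases i <;> interval_cases j <;> first | omega | exact key _ (by decide) h4 | skip
  exact (hs.dvd_mul.1 (show s ∣ 2 * 13 from h4)).elim (key _ (by decide)) fun e =>
    h.elim (fun h => h ((Nat.prime_dvd_prime_iff_eq hs (by decide)).1 e)) fun h => h rfl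

namespace JA

variable {q p k l f : ℕ} (h : JA G q p k l f) {r : ℕ} (hr : r.Prime) (rl : r ∣ l) {a b : G}
  (v : V4 a b) {Q : Subgroup G} (hQ : S3 r (V2 a b) Q)
include h hr rl v hQ

theorem exists_e {g : G} (g3 : g ^ 3 = 1) (tri : Tri g a b) (gQ : g ∈ 𝐍(Q)) :
    ∃ e ∈ EE r Q ⊓ 𝐂[g], (∀ t : G, Inv t → a ∈ LL t → e ∉ 𝐂[t]) ∧
      (r = 3 → ∃ z ∈ EE r Q, z * g * z⁻¹ = e * g) := by
  obtain ⟨w, hw, ow⟩ := h.exists_w hr rl v hQ V4.t_mem v.t1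
  have hE := ea_EE r Q
  have pE := elemAb_isPGroup hE
  have gr := h.good_l hr rl
  have nE := h.nE hr rl v hQ
  have c : ∀ x ∈ EE r Q, ∀ y ∈ EE r Q, x * y = y * x := fun x hx y hy =>
    mem_cent.1 (isMulComm_iff_le_cent.1 hE.1 hy) x hx
  have j : ∀ x ∈ EE r Q, g * x * g⁻¹ ∈ EE r Q := fun x hx =>
    (mem_normalizer_iff.1 (norm_EE r Q gQ) x).1 hx
  have h2 : g * w * g⁻¹ ∈ EE r Q ⊓ 𝐂[b] := ⟨j _ hw.1, tri.1 ▸ cent_cj hw.2 g⟩
  have h3 : g * (g * w * g⁻¹) * g⁻¹ ∈ EE r Q ⊓ 𝐂[a * b] := ⟨j _ h2.1, tri.2 ▸ cent_cj h2.2 g⟩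
  have h4 : g * (g * (g * w * g⁻¹) * g⁻¹) * g⁻¹ = w := by
    calc _ = g ^ 3 * w * (g ^ 3)⁻¹ := by simp only [pow_succ, pow_zero]; group
      _ = w := by rw [g3]; group
  have i2 := h.good_inv hr gr pE v.swap (V2_swap a b ▸ nE) h2
  have i3 := h.good_inv hr gr pE (v4_mul v).swap (by rwa [V2_swap, V2_mul]) h3
  generalize e2 : g * w * g⁻¹ = x at h2 h3 h4 i2 i3
  generalize e3 : g * x * g⁻¹ = y at h3 h4 i3
  have ha := inv_a v
  have hm := mul_mem (mul_mem hw.1 h2.1) h3.1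
  refine ⟨w * x * y, ⟨hm, mem_cent1_comm.1 (mem_cent1_iff_conj.2 ?_)⟩, fun t ht h5 h6 => ?_,
    fun e => ⟨w * x⁻¹, mul_mem hw.1 (inv_mem h2.1), ?_⟩⟩
  · rw [← conj_mul, ← conj_mul, e2, e3, h4, c _ (mul_mem h2.1 h3.1) w hw.1, mul_assoc]
  · have h7 : a * (w * x * y) * a * (w * x * y) = w * w := by
      calc _ = a * w * a * (a * x * a) * (a * y * a) * (w * x * y) := by
            simp only [mul_assoc, ha.mul_cancel_left]
        _ = _ := by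
          rw [i2, i3, mem_cent1.1 hw.2, ha.mul_cancel_right, c w hw.1 x h2.1,
            c _ (mul_mem h2.1 hw.1) y h3.1]
          group
    have h8 := LL_le t h5
    refine ne_one_of_prime (ow ▸ hr) (eq_one_of_eq_inv (ow ▸ hr.odd_of_ne_two (h.l_ne_two rl))
      (mul_eq_one_iff_eq_inv.1 (h.good_one hr gr pE (v4_of ht ha (fun e => h.not_mem ht (e ▸ h5)) h8)
        (mul_mem hw.1 hw.1) (h7 ▸ mul_mem (mul_mem (mul_mem h8 h6) h8) h6) (mul_mem hw.2 hw.2))))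
  · have h5 : x⁻¹ * x⁻¹ = x := by
      rw [← mul_inv_rev, inv_eq_iff_mul_eq_one, ← hE.2 x h2.1, e, pow_succ, pow_two]
    calc _ = w * x⁻¹ * (g * x * g⁻¹ * (g * w * g⁻¹)⁻¹) * g := by group
      _ = w * (x⁻¹ * x⁻¹) * y * g := by rw [e2, e3, c y h3.1 _ (inv_mem h2.1)]; group
      _ = _ := by rw [h5]

theorem lt_x {w : G} (hw : w ∈ EE r Q ⊓ 𝐂[a]) (ow : orderOf w = r) (ha : a ∈ 𝐍(EE r Q))
    (hb : b ∈ 𝐍(EE r Q)) {L A : Subgroup _} (hL : LT L A (ob _ ⟨a, ha⟩) (ob _ ⟨b, hb⟩))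
    {α : _} (hα : α ∈ A) (α1 : α ≠ 1) :
    ∃ x : 𝐍(EE r Q), (x : G) ∈ LL a ⊓ 𝐂[w] ∧ ob _ x = α * α := by
  obtain ⟨y, hy, rfl⟩ := H1.mem_bar.1 (ob_cent1 ha (inv_a v) ▸ hL.hyp.Ut hα)
  have h1 : ob _ ⁅y, ⟨b, hb⟩⁆ = ob _ y * ob _ y := by
    rw [map_commutatorElement, commutatorElement_def, mul_assoc, mul_assoc, ← mul_assoc _ _ _⁻¹,
      ← conj_inv, hL.inv _ hα, inv_inv]
  have h2 : ((⁅y, ⟨b, hb⟩⁆ : 𝐍(EE r Q)) : G) ∈ LL a :=
    commutator_mem_commutator hy.2 (mem_cent1.2 v.comm)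
  refine ⟨_, ⟨h2, ((h.w_facts hr rl v hQ hw ow).2.1.sq_or h2 (cent_le_cent1 hw.1
    (isMulComm_iff_le_cent.1 (ea_EE r Q).1 ((mem_normalizer_iff.1 (Subtype.prop _) w).1
      hw.1)))).resolve_right fun e => α1 ?_⟩, h1⟩
  have h3 := fun x hx => P5.eq_one_of_odd (j := x) hL.hyp.odd hx
  refine h3 _ hα (h3 _ (mul_mem hα hα) ?_)
  rw [← h1, ← map_mul, ← map_one (ob _)]
  exact congrArg _ (Subtype.ext e)

theorem card_E : 𝐨(EE r Q) ∣ r ^ 3 := by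
  have hE := ea_EE r Q
  have cE := isMulComm_iff_le_cent.1 hE.1
  have h1 : EE r Q ≤ EE r Q ⊓ 𝐂[a] ⊔ EE r Q ⊓ 𝐂[b] ⊔ EE r Q ⊓ 𝐂[a * b] :=
    gen4 v (h.good_odd hr (h.good_l hr rl) (elemAb_isPGroup hE)) (h.nE hr rl v hQ) fun x y v2 e => by
      rcases (v.mem_iff.1 (mem_V2 e).1).resolve_left v2.t1 with rfl | rfl | rfl
      exacts [le_sup_of_le_left le_sup_left, le_sup_of_le_left le_sup_right, le_sup_right]
  have h2 : ∀ (X : Subgroup G) c, X ≤ EE r Q → 𝐨((X ⊔ EE r Q ⊓ 𝐂[c] : Subgroup G)) ∣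
      𝐨(X) * 𝐨((EE r Q ⊓ 𝐂[c] : Subgroup G)) := fun X c hX =>
    H1.card_sup_dvd ((hX.trans cE).trans ((cent_anti inf_le_left).trans (cent_le_norm _)))
  refine (FT.card_dvd_of_le h1).trans ((h2 _ _ (sup_le inf_le_left inf_le_left)).trans ?_)
  rw [pow_succ, pow_two]
  exact mul_dvd_mul ((h2 _ _ inf_le_left).trans (mul_dvd_mul (h.card_wt hr rl hE (inv_a v))
    (h.card_wt hr rl hE (inv_b v)))) (h.card_wt hr rl hE (inv_ab v))

variable (r3 : r = 3)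
include r3

theorem T_le {w : G} (hw : w ∈ EE r Q ⊓ 𝐂[a]) (ow : orderOf w = r) :
    LL a ⊓ 𝐂[w] ⊓ 𝐍(EE r Q) ≤ 𝐂(EE r Q) := by
  obtain ⟨wL, tl, oT, bw, nO, sQ⟩ := h.w_facts hr rl v hQ hw ow
  refine H1.le_of_forall_isPGroup_le fun s hs P hP pP _ => ?_
  have h1 := hP.trans inf_le_left
  by_cases P1 : P = ⊥
  · exact P1 ▸ bot_le
  by_cases s3 : s = r
  · have h2 := norm_le_norm_of_le_cyclic tl.2.1 h1
    obtain ⟨c, hc, h3⟩ := exists_conj4 v (odd_Od _) nO hr sQ hQ.nrm (s3 ▸ pP)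
      (h.le_O (inv_a v) wL oT (h1.trans inf_le_right) (odd_of_le h1 oT))
      ((H1.le_normalizer_inf (((V2_le_cent v).trans (cent_le_cent1 V4.t_mem)).trans
        (LL_normal a).2) fun x hx => norm_cent1 (V2_le_norm_zp v hw.2 bw hx)).trans h2)
    rw [conj_eq_of_mem_norm (h2 (mem_norm_inf ((LL_normal a).2 (cent_le_cent1 V4.t_mem hc.2))
      (le_norm_self _ ((Od_normal _).1 hc.1))))] at h3
    exact h3.trans (le_cent_EE r Q)
  exact le_cent_27 hs (h.l_ne_two (tl.1 ▸ (prime_dvd_card_of_isPGroup hs pP P1).trans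
    (FT.card_dvd_of_le h1))) (r3 ▸ s3) (r3 ▸ h.card_E hr rl v hQ) pP (hP.trans inf_le_right)
    (Or.inr fun e => ne_one_of_prime (ow ▸ hr) (mem_bot.1 (e ▸ mem_inf.2
      ⟨hw.1, mem_cent_iff_cent1.2 (h1.trans inf_le_right)⟩)))

theorem O_norm {c : G} (hc : c ∈ V2 a b) :
    Od 𝐍(EE r Q) ≤ 𝐍((EE r Q ⊓ 𝐂[c] : Subgroup G)) := by
  have nE := h.nE hr rl v hQ
  refine gen4 v (odd_Od _) (nE.trans (Od_normal _).2) fun d d' v1 e x hx => ?_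
  have xM := (Od_normal _).1 hx.1
  obtain ⟨w, hw, ow⟩ := h.exists_w hr rl v hQ (mem_V2 e).1 v1.t1
  have h1 : ⁅x, c⁆ ∈ LL d :=
    commutator_mem_commutator hx.2 (cent_le_cent1 (mem_V2 e).1 (V2_le_cent v hc))
  have h2 : ⁅x, c⁆ ∈ Od 𝐍(EE r Q) := by
    rw [commutatorElement_def, mul_assoc, mul_assoc, ← mul_assoc c]
    exact mul_mem hx.1 ((mem_normalizer_iff.1 ((Od_normal _).2 (nE hc)) _).1 (inv_mem hx.1))
  have h3 := (Od_normal _).1 h2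
  have h4 := h.T_le hr rl v1 (e ▸ hQ) r3 hw ow ⟨⟨h1, ((h.w_facts hr rl v1 (e ▸ hQ) hw ow).2.1.sq_or
    h1 (cent_le_cent1 hw.1 (isMulComm_iff_le_cent.1 (ea_EE r Q).1
      ((mem_normalizer_iff.1 h3 w).1 hw.1)))).elim id
        fun e => P5.eq_one_of_odd (odd_Od _) h2 e ▸ one_mem _⟩, h3⟩
  refine mem_norm_of_conj_le fun _ hz => ?_
  obtain ⟨z, h5, rfl⟩ := mem_conj'.1 hz
  have h6 := (mem_normalizer_iff.1 xM z).1 h5.1
  refine ⟨h6, mem_cent1_comm.1 ((mul_mem_cancel_left (cent_le_cent1 h6 h4)).1 ?_)⟩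
  rw [commutatorElement_def, inv_mul_cancel_right]
  exact mem_cent1_comm.1 (cent_cj h5.2 x)

theorem mon {m c x : G} (hm : m ∈ 𝐍(EE r Q)) (hc : c ∈ V2 a b) (c1 : c ≠ 1)
    (hx : x ∈ EE r Q ⊓ 𝐂[c]) : ∃ d ∈ V2 a b, d ≠ 1 ∧ m * x * m⁻¹ ∈ EE r Q ⊓ 𝐂[d] := by
  have nE := h.nE hr rl v hQ
  have CO := h.CE_le hr rl v hQ
  rcases struct4 v (nE V4.t_mem) (nE V4.s_mem) (h.eight_E hr rl v hQ) with h1 | ⟨L, A, -, hL⟩
  · have h2 := (⟨c1, v.sq hc⟩ : Inv c).conj m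
    obtain ⟨o, ho, d, hd, e⟩ := h1 _ (P5.cj hm (nE hc)) h2
    have d1 : d ≠ 1 := fun e1 => h2.ne (by rw [← e, e1, mul_one, mul_inv_cancel])
    refine ⟨d, hd, d1, ?_⟩
    rw [← conj_eq_of_mem_norm (h.O_norm hr rl v hQ r3 hd ho),
      ← inf_cent_cj ((Od_normal _).1 ho), e]
    exact ⟨(mem_normalizer_iff.1 hm x).1 hx.1, cent_cj hx.2 m⟩
  obtain ⟨w, hw, ow⟩ := h.exists_w hr rl v hQ V4.t_mem v.t1
  obtain rfl : A = ⊥ := eq_bot_iff.2 fun α hα => by_contra fun α1 => by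
    obtain ⟨x, hx, e⟩ := h.lt_x hr rl v hQ hw ow _ _ hL hα α1
    exact α1 (P5.eq_one_of_odd hL.hyp.odd hα (e ▸ H1.qmk_eq_one_iff.2
      (CO (h.T_le hr rl v hQ r3 hw ow ⟨hx, x.2⟩))))
  obtain ⟨P, hP⟩ := exists_isSyl Nat.prime_five 𝐍(EE r Q)
  refine absurd (((by decide : 5 ∣ 60).trans (lt_card hL ▸ card_subgroup_dvd_card L)).trans
    (relIndex_dvd_of_le_left _ ((le_cent_27 Nat.prime_five (by decide) (by decide)
      (r3 ▸ h.card_E hr rl v hQ) hP.pgrp hP.le (Or.inl (by decide))).trans CO))) hP.ndvd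

theorem case_three : False := by
  obtain ⟨t, g, ht, aL, -, gL, g3, tri, gQ⟩ := h.exists_g hr rl v hQ
  obtain ⟨e, he, et, h1⟩ := h.exists_e hr rl v hQ g3 tri gQ
  obtain ⟨z, hz, zg⟩ := h1 r3
  obtain ⟨w, hw, ow⟩ := h.exists_w hr rl v hQ V4.t_mem v.t1
  obtain ⟨wL, tl, oT, bw, nO, sQ⟩ := h.w_facts hr rl v hQ hw ow
  have hE := ea_EE r Q
  have cE := isMulComm_iff_le_cent.1 hE.1
  have ha := inv_a v
  have og : orderOf g = r := r3 ▸ orderOf_eq_prime g3 fun e => tri.not_mem_cent v (e ▸ one_mem _)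
  have sC : IsSyl r Q 𝐂[w] := isSyl_of_maximal hr (sQ.le.trans (Od_normal _).1) hQ.pg
    fun R h1 h2 h3 => sQ.eq_of_le hr h1
      (h.le_O ha wL oT h2 (h.good_odd hr (h.good_l hr rl) h3)) h3
  obtain ⟨y, hy, ye⟩ : ∃ y, zpowers (y * g * y⁻¹) = zpowers w ∧ y * e * y⁻¹ ∈ Q := by
    obtain ⟨x, rfl⟩ := h.conj ht ha
    obtain ⟨s, s0, F, -, -, rfl, -⟩ := h.exists_fr ha
    obtain ⟨c, -, e1⟩ := exists_conj_l F.toL2F (mem_LL_cj gL x) wL hr rl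
      ((orderOf_cj x g).trans og) ow
    obtain ⟨d, hd, e2⟩ := sC.exists_conj_le hr (pg_cj (pg_cj ((elemAb_isPGroup hE).to_le
      (zpowers_le.2 he.1)) x) c) (by
        rw [← zpowers_conj, ← zpowers_conj, zpowers_le, ← cent_zpowers, ← e1, cent_zpowers]
        exact cent_cj (cent_cj he.2 x) c)
    have e3 : ∀ u, d * (c * x) * u * (d * (c * x))⁻¹ = d * (c * (x * u * x⁻¹) * c⁻¹) * d⁻¹ :=
      fun u => by group
    refine ⟨d * (c * x), ?_, e3 e ▸ e2 (conj_mem_conj (conj_mem_conj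
      (conj_mem_conj (mem_zpowers e) x) c) d)⟩
    rw [e3, zpowers_conj, e1, conj_eq_of_mem_norm (norm_zp_of_cent (mem_cent1_comm.1 hd))]
  have yE : y * e * y⁻¹ ∈ EE r Q := omega_le v hr (h.l_ne_two rl) hQ.pg hQ.nrm rfl
    (fun c d v1 e x hx => h.mem_EE hr rl v hQ (mem_V2 e).1 v1.t1 hx) ye
    (by rw [conj_pow, hE.2 e he.1, mul_one, mul_inv_cancel])
  have yg : y * g * y⁻¹ ∈ EE r Q ⊓ 𝐂[a] := zpowers_le.2 hw (hy ▸ mem_zpowers _)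
  have ze := mem_cent1_iff_conj.1 (cent_le_cent1 he.1 (cE hz))
  have h2 : zpowers g ⊔ zpowers e ≤ 𝐂[e] :=
    sup_le (zpowers_le.2 (mem_cent1_comm.1 he.2)) (zpowers_le.2 (self_mem_cent1 e))
  have h3 : (zpowers g ⊔ zpowers e) ^ᵍ y ≤ EE r Q := by
    rw [conj_sup, ← zpowers_conj, ← zpowers_conj]
    exact sup_le (zpowers_le.2 yg.1) (zpowers_le.2 yE)
  have g1 := conj_mem_conj (mem_sup_left (mem_zpowers g) : g ∈ zpowers g ⊔ zpowers e) y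
  have e1 := conj_mem_conj (mem_sup_right (mem_zpowers e) : e ∈ zpowers g ⊔ zpowers e) y
  obtain ⟨m, hm, h4⟩ := exists_norm_conj hr (sC.of_le ((le_cent_EE r Q).trans (cent_anti h3))
    ((cent_le_cent1 g1).trans (by rw [← cent_zpowers, hy, cent_zpowers]))) (g := y * z * y⁻¹) (by
      rw [norm_conj]
      refine conj_mem_conj (mem_norm_of_conj_le ?_) y
      rw [conj_sup, ← zpowers_conj, ← zpowers_conj, zg, ze]
      exact sup_le (zpowers_le.2 (mul_mem (mem_sup_right (mem_zpowers e))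
        (mem_sup_left (mem_zpowers g)))) le_sup_right)
  have h5 := h4 _ g1
  have h6 := h4 _ e1
  rw [conj_inv, conj_mul, conj_mul] at h5 h6
  rw [zg, ← conj_mul (a := e) (b := y)] at h5
  rw [ze] at h6
  have h7 : ∀ u ∈ EE r Q ⊓ 𝐂[a], u ∈ zpowers (y * g * y⁻¹) := fun u hu => by
    rw [zpowers_eq_of_card_prime (X := EE r Q ⊓ 𝐂[a]) (((Nat.dvd_prime hr).1 (h.card_wt hr rl hE
      ha)).resolve_left (fun e => hQ.wt a V4.t_mem v.t1 (card_eq_one.1 e)) |>.symm ▸ hr) yg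
        (ne_one_of_prime (((orderOf_cj y g).trans og).symm ▸ hr))]
    exact hu
  have h8 : y * e * y⁻¹ ∉ 𝐂[a] := fun h8 => et t ht aL (zpowers_le.2 (LL_le t gL)
    (conj_mem_conj_iff.1 (zpowers_conj g y ▸ h7 _ ⟨yE, h8⟩)))
  have og' := (orderOf_cj y g).trans og
  generalize y * e * y⁻¹ = ε at h5 h6 h8 yE
  generalize y * g * y⁻¹ = γ at h5 yg og'
  obtain ⟨c, hc, c1, h9⟩ := h.mon hr rl v hQ r3 (norm_EE r Q hm) V4.t_mem v.t1 yg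
  obtain ⟨d, hd, d1, h10⟩ := h.mon hr rl v hQ r3 (norm_EE r Q hm) hc c1 h9
  rw [h5] at h9
  rw [h5, ← conj_mul, h5, h6] at h10
  have key : ∀ c ∈ V2 a b, c ≠ 1 → c ≠ a → ∀ u ∈ EE r Q ⊓ 𝐂[c], a * u * a = u⁻¹ :=
    fun c hc c1 ca u hu =>
    have ⟨v1, e⟩ := v4_of_V2 v hc V4.t_mem c1 v.t1 ca
    h.good_inv hr (h.good_l hr rl) (elemAb_isPGroup hE) v1 (e ▸ h.nE hr rl v hQ) hu
  have i1 := key c hc c1 (fun e => h8 ((mul_mem_cancel_right (mem_inf.1 yg).2).1 (e ▸ h9.2))) _ h9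
  have i2 := key d hd d1 (fun e => h8 (P6.mem_of_sq_mem (odd_orderOf_of_mem (h.good_odd hr
    (h.good_l hr rl) (elemAb_isPGroup hE)) yE) ((mul_mem_cancel_right (mem_inf.1 yg).2).1
      (mul_assoc ε ε γ ▸ e ▸ h10.2)))) _ h10
  have i3 : a * ε * a = ε⁻¹ := by
    have : ε = ε * (ε * γ) * (ε * γ)⁻¹ := by group
    calc a * ε * a = a * (ε * (ε * γ)) * a * (a * (ε * γ) * a)⁻¹ := by
          rw [mul_inv_rev, mul_inv_rev, ha.inv_eq]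
          simp only [mul_assoc, ha.mul_cancel_left, mul_inv_rev, mul_inv_cancel_left]
      _ = ε⁻¹ := by
          rw [i1, i2, inv_inv, mul_inv_rev, mem_cent.1 (cE (inv_mem yE)) _ (inv_mem h9.1)]
          group
  refine ne_one_of_prime (og' ▸ hr) (eq_one_of_inv ha (og' ▸ hr.odd_of_ne_two (h.l_ne_two rl))
    yg.2 ?_)
  calc a * γ * a = (a * ε * a)⁻¹ * (a * (ε * γ) * a) := by
        rw [mul_inv_rev, mul_inv_rev, ha.inv_eq]
        simp only [mul_assoc, ha.mul_cancel_left, inv_mul_cancel_left]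
    _ = γ⁻¹ := by
        rw [i3, i1, inv_inv, mul_inv_rev, mem_cent.1 (cE (inv_mem yE)) _ (inv_mem yg.1)]
        group

end JA

end Cfsg.Agent.P7.Ax
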