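/-
The configuration of three commuting tori is impossible; centralizers of elements of `T`.
-/
import Cfsg.Agent.P7.A7

set_option autoImplicit false
set_option linter.unusedSectionVars false

namespace Cfsg.Agent.P7.Ax

open Subgroup Cfsg Cfsg.Agent Cfsg.Agent.FT
open Cfsg.Agent.P5 (V4 Tri LT K4)
open Cfsg.Agent.P6 (Inv Od Rk2 odd_Od Od_normal le_Od norm_le_norm_Od odd_of_le
  odd_orderOf_of_mem eq_one_of_eq_inv)

universe u

variable {G : Type u} [Group G] [Finite G]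

theorem lift_norm {X : Subgroup G} {a b x : G} (v : V4 a b) (ha : a ∈ X) (hb : b ∈ X) (hx : x ∈ X)
    (h1 : x * a * x⁻¹ ∈ V2 a b ⊔ Od X) (h2 : x * b * x⁻¹ ∈ V2 a b ⊔ Od X) :
    ∃ o ∈ Od X, o * x ∈ 𝐍(V2 a b) := by
  have hn := (V4.le_iff.2 ⟨ha, hb⟩).trans (Od_normal X).2
  have := Fact.mk Nat.prime_two
  obtain ⟨_, hg, h3⟩ := H1.frattini_argument (le_sup_left : V2 a b ≤ V2 a b ⊔ Od X) v.isPGroup
    (fun e => (odd_Od X).not_two_dvd_nat ((H2.relIndex_sup_left_of_le_normalizer hn ▸ e).trans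
      (relIndex_dvd_card' _ _))) (x := x) (mem_norm_of_conj_le (by
    rw [conj_sup, conj_eq_of_mem_norm ((Od_normal X).2 hx)]
    exact sup_le (conj_le_iff.2 (V4.le_iff.2
      ⟨mem_conj.2 (by simpa using h1), mem_conj.2 (by simpa using h2)⟩)) le_sup_right))
  obtain ⟨w, hw, o, ho, rfl⟩ := (H1.mem_sup_iff_of_le_normalizer hn).1 hg
  exact ⟨o, ho, (mul_mem_cancel_left (le_norm_self _ hw)).1 (mul_assoc w o x ▸ h3)⟩

theorem pow_three_arith {s m n : ℕ} (hs : s.Prime) (hn : Odd n) (h1 : s ∣ 3 ^ m + 1)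
    {l : ℕ} (h2 : 3 ^ n = 2 * l + 1) (h3 : s ∣ l) : s = 2 := by
  have e1 : (3 : ZMod s) ^ m = -1 := by
    have := (ZMod.natCast_eq_zero_iff _ _).2 h1
    push_cast at this
    exact eq_neg_of_add_eq_zero_left this
  have e2 : (3 : ZMod s) ^ n = 1 := by
    have := congrArg (Nat.cast : ℕ → ZMod s) h2
    push_cast at this
    rw [this, (ZMod.natCast_eq_zero_iff _ _).2 h3, mul_zero, zero_add]
  have e3 : ((2 : ℕ) : ZMod s) = 0 := by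
    have := congrArg (· ^ n) e1
    simp only [← pow_mul, mul_comm m, hn.neg_one_pow] at this
    rw [pow_mul, e2, one_pow] at this
    push_cast
    linear_combination this
  exact (Nat.prime_dvd_prime_iff_eq hs Nat.prime_two).1 ((ZMod.natCast_eq_zero_iff _ _).1 e3)

/-- Some four-group has two weights on an `r`-group. -/
def C3 (G : Type u) [Group G] (r : ℕ) : Prop :=
  ∃ (a b : G) (Q : Subgroup G), V4 a b ∧ IsPGroup r Q ∧ V2 a b ≤ 𝐍(Q) ∧ Q ⊓ 𝐂[a] ≠ ⊥ ∧ Q ⊓ 𝐂[b] ≠ ⊥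

namespace JA

variable {q p k l f : ℕ} (h : JA G q p k l f)
include h

theorem real_lift (e3 : p = 3) {X : Subgroup G} {a b : G} (v : V4 a b) (ha : a ∈ X) (hb : b ∈ X)
    {ξ υ : _} (tri : Tri ξ (ob X ⟨a, ha⟩) (ob X ⟨b, hb⟩)) (x3 : orderOf ξ = 3)
    (hu : υ * ξ * υ⁻¹ = ξ⁻¹) : False := by
  have p3 := Nat.prime_three
  have := Fact.mk p3
  have OX := (Od_normal X).1
  have WX : V2 a b ≤ X := V4.le_iff.2 ⟨ha, hb⟩
  obtain ⟨x, hx, rfl⟩ : ∃ x : X, (x : G) ∈ 𝐍(V2 a b) ∧ ob X x = ξ := by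
    obtain ⟨x, rfl⟩ := H1.qmk_surjective ξ
    have key : ∀ y z : X, (z : G) ∈ V2 a b → ob X x * ob X y * (ob X x)⁻¹ = ob X z →
        (x : G) * y * (x : G)⁻¹ ∈ V2 a b ⊔ Od X := fun y z hz e =>
      (H1.qmk_mem_bar_iff OX WX (y := x * y * x⁻¹)).1 (by
        rw [map_mul, map_mul, map_inv, e]; exact H1.qmk_mem_bar hz)
    obtain ⟨o, ho, h1⟩ := lift_norm v ha hb x.2 (key ⟨a, ha⟩ _ V4.s_mem tri.1)
      (key ⟨b, hb⟩ (⟨a, ha⟩ * ⟨b, hb⟩) (mul_mem V4.t_mem V4.s_mem) (tri.2.trans (map_mul _ _ _).symm))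
    exact ⟨⟨o, OX ho⟩ * x, h1, by rw [map_mul, H1.qmk_eq_one_iff.2 ho, one_mul]⟩
  obtain ⟨u, rfl⟩ := H1.qmk_surjective υ
  have xX := zpowers_le.2 x.2
  have mY : ∀ y : X, (y : G) ∈ zpowers (x : G) ⊔ Od X ↔ ob X y ∈ zpowers (ob X x) := fun y => by
    rw [← H1.qmk_mem_bar_iff OX xX, H1.bar_zpowers]
  have YX := sup_le xX OX
  obtain ⟨D0, h1, -, h2⟩ := exists_syl4 v (odd_Od X) (WX.trans (Od_normal X).2) p3
    IsPGroup.of_bot bot_le (le_top.trans norm_bot.ge)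
  have h3 : D0 ≤ (zpowers (x : G) ⊔ Od X) ⊓ 𝐍(V2 a b) := le_inf (h1.le.trans le_sup_right)
    ((h.three_cent e3 v h1.pgrp h2).trans (cent_le_norm _))
  obtain ⟨D, h4, -⟩ := exists_isSyl_ge p3 h1.pgrp h3
  have h5 := h4.trans p3 inf_le_left fun e => h1.ndvd (Dvd.dvd.trans (by
    rwa [← H2.relIndex_sup_left_of_le_normalizer ((inf_le_left.trans YX).trans (Od_normal X).2),
      le_antisymm (sup_le inf_le_left le_sup_right) (sup_le_sup_right (le_inf le_sup_left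
        (zpowers_le.2 hx)) _)]) (relIndex_dvd_of_le_left _ h3))
  obtain ⟨y, hy, h6⟩ := H1.frattini_argument h5.le h5.pgrp h5.ndvd (x := u)
    (mem_norm_of_conj_le (by
      rw [conj_sup, conj_eq_of_mem_norm ((Od_normal X).2 u.2), ← zpowers_conj]
      refine sup_le (zpowers_le.2 ((mY (u * x * u⁻¹)).2 ?_)) le_sup_right
      rw [map_mul, map_mul, map_inv, hu]
      exact inv_mem (mem_zpowers _)))
  obtain ⟨m, hm, h7⟩ := exists_odd_pow h.e8 (y * u)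
  obtain ⟨n, hn⟩ : ∃ n : X, n = (⟨y, YX hy⟩ * u) ^ m := ⟨_, rfl⟩
  have h8 : ob X n * ob X x * (ob X n)⁻¹ = (ob X x)⁻¹ := by
    rw [hn, map_pow]
    refine inverts_pow_odd ?_ hm
    rw [map_mul, ← mem_cent1_iff_conj.1 (zpowers_le.2 (self_mem_cent1 (ob X x)⁻¹)
      (zpowers_inv (g := ob X x) ▸ (mY ⟨y, YX hy⟩).1 hy)), ← hu]
    group
  have h9 : ∀ z ∈ zpowers (ob X x), z ∈ 𝐂[ob X n] → z = 1 := fun z hz h9 =>
    eq_one_of_eq_inv (Odd.of_dvd_nat (by decide) (x3 ▸ orderOf_dvd_of_mem_zpowers hz))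
      ((mem_cent1_iff_conj.1 (mem_cent1_comm.1 h9)).symm.trans (P5.inverts_of_mem_zpowers h8 hz))
  have e : (n : G) = (y * u) ^ m := by rw [hn]; rfl
  have h10 : Inv (n : G) := ⟨fun e1 => ne_one_of_prime (x3 ▸ p3) (h9 _ (mem_zpowers _) (by
    rw [show n = 1 from Subtype.ext e1, map_one, cent1_one]; trivial)), e ▸ h7⟩
  obtain ⟨z, hz, h11, h12⟩ := exists_inv_prime h10 (e ▸ pow_mem h6 m) fun h11 => h5.ndvd (by
    refine Dvd.dvd.trans ?_ (relIndex_dvd_of_le_left _ fun d hd => (H1.qmk_eq_one_iff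
      (y := ⟨d, YX (h5.le hd)⟩)).1 (h9 _ ((mY _).1 (h5.le hd)) (mem_cent1.2 (by
        rw [← map_mul, ← map_mul]
        exact congrArg _ (Subtype.ext (mem_cent1.1 (h11 hd)))))))
    rw [← H1.card_bar YX, H1.bar_sup_self OX xX, H1.bar_zpowers, Nat.card_zpowers, x3])
  obtain ⟨t, ht, -, -, h13⟩ := h.exists_cent_three (h.not_three_dvd_k h10) v h4.pgrp
    (h4.le.trans inf_le_right)
  exact h.nr e3 ht h10 (P6.orderOf_eq_of_prime_of_mem p3 h4.pgrp hz h11) (h13 hz) h12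

theorem card_NW {a b : G} (v : V4 a b) : 𝐨(𝐍(V2 a b)) ∣ 3 * (8 * k * f) := by
  obtain ⟨t, ht, h1, h2⟩ := h.exists_t v
  obtain ⟨x, -, x3, tri⟩ := h.exists_x v ht h1 h2
  refine (FT.card_dvd_of_le (K := zpowers x ⊔ 𝐂(V2 a b)) fun g hg => ?_).trans
    ((H1.card_sup_dvd (zpowers_le.2 (H1.normalizer_le_normalizer_centralizer _
      (tri.mem_norm v)))).trans (mul_dvd_mul ?_ (h.card_W v)))
  · obtain ⟨y, hy, h3⟩ := exists_tri_mul h.e8 v tri hg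
    exact (mul_mem_cancel_left (inv_mem (mem_sup_left hy))).1 (mem_sup_right h3)
  · exact Nat.card_zpowers x ▸ orderOf_dvd_of_pow_eq_one x3

section

variable {r : ℕ} (hr : r.Prime) (rl : r ∣ l) {a b : G} (v : V4 a b) {Q : Subgroup G}
  (hQ : S3 r (V2 a b) Q) (e3 : p = 3)
include hr rl v hQ e3

theorem lt_p (ha : a ∈ 𝐍(EE r Q)) (hb : b ∈ 𝐍(EE r Q)) {L A : Subgroup _}
    (hL : LT L A (ob _ ⟨a, ha⟩) (ob _ ⟨b, hb⟩)) : False := by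
  obtain ⟨q', hq⟩ := KO.isL2_of hL.isL2
  obtain ⟨F⟩ := l2Api _ L L 1 q' _ _ hq.lm hL.hyp.v4 hL.hyp.tX hL.hyp.sX
  have x1 : F.x ≠ 1 := fun e => F.tri.not_mem_cent F.v4 (by rw [e]; exact one_mem _)
  have ox : orderOf F.x = 3 := orderOf_eq_prime F.x3 x1
  rcases Ax.typ F.toL2F F.xL x1 (ox ▸ by decide) with ⟨-, ⟨u, -, h1⟩, -⟩ |
    ⟨-, -, u, -, h1, h2, -⟩ | ⟨-, h1, -⟩
  · exact h.real_lift e3 v ha hb F.tri ox h1
  · exact h.real_lift e3 v ha hb F.tri ox (υ := u)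
      (by rw [h1.inv_eq]; exact h2 _ ⟨F.xL, self_mem_cent1 _⟩)
  have h2 : q' = 3 ^ F.n := by
    rw [← ox, elemAb_orderOf F.hp h1 ⟨F.xL, self_mem_cent1 _⟩ x1]
    exact F.hq
  have h3 : q' % 4 = 3 := by
    obtain ⟨m, hm⟩ := F.oddn
    rw [h2, hm, pow_succ, pow_mul, Nat.mul_mod, Nat.pow_mod]; simp
  have h4 := F.ep.eps
  have h5 := F.five
  obtain ⟨s, hs, h6⟩ := Nat.exists_prime_and_dvd (n := F.k) (by omega)
  obtain ⟨α, hα, rfl⟩ := exists_mem_orderOf_eq_prime hs (F.cardR ▸ h6)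
  obtain ⟨w, hw, ow⟩ := h.exists_w hr rl v hQ V4.t_mem v.t1
  obtain ⟨x, hx, e⟩ := h.lt_x hr rl v hQ hw ow ha hb F.lt hα (ne_one_of_prime hs)
  have h7 := F.oddk.of_dvd_nat h6
  have h8 : orderOf α ∣ l := by
    rw [← (Nat.coprime_two_right.2 h7).orderOf_pow, pow_two, ← e,
      ← (h.w_facts hr rl v hQ hw ow).2.1.1]
    exact (orderOf_map_dvd _ x).trans (orderOf_coe x ▸ orderOf_dvd_card_of_mem hx)
  obtain ⟨n, hn, h9⟩ := h.hq
  have := h.eps_three e3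
  have := h.ep.eps
  exact h7.not_two_dvd_nat (pow_three_arith hs hn
    (h2 ▸ (show q' + 1 = 4 * F.k by omega) ▸ h6.mul_left 4) (by rw [← e3, ← h9]; omega) h8).symm.dvd

theorem case_p : False := by
  have p3 := Nat.prime_three
  obtain ⟨t, g, ht, aL, -, gL, g3, tri, gQ⟩ := h.exists_g hr rl v hQ
  obtain ⟨e, he, et, -⟩ := h.exists_e hr rl v hQ g3 tri gQ
  have gr := h.good_l hr rl
  have nE := h.nE hr rl v hQ
  have pe := (hQ.pg.to_le (EE_le r Q)).to_le (zpowers_le.2 he.1)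
  have oe := odd_orderOf_of_mem (h.good_odd hr gr pe) (mem_zpowers e)
  have e1 : e ≠ 1 := fun e1 => et t ht aL (e1 ▸ one_mem _)
  have og : orderOf g = 3 := orderOf_eq_prime g3 fun e => tri.not_mem_cent v (e ▸ one_mem _)
  have cP := (h.tp ht gL (og.trans e3.symm)).1
  have oP : Odd 𝐨((LL t ⊓ 𝐂[g] : Subgroup G)) := cP.symm ▸ h.ep.oddq
  obtain ⟨u, hu⟩ : ∃ u, u * e * u⁻¹ = e⁻¹ := by
    obtain ⟨R, hR, -, nR⟩ := exists_invariant_isSyl hr (zpowers_le.2 ((Od_normal _).2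
      (mem_cent1_comm.1 (LL_le t gL)))) (ht.coprime (odd_Od 𝐂[g])) (Or.inl (Inv.solv t))
      IsPGroup.of_bot bot_le (le_top.trans norm_bot.ge)
    obtain ⟨o, -, h1⟩ := hR.exists_conj_le hr pe (zpowers_le.2 (h.mem_O ht gL oP he.2 oe))
    have h2 := inverts_of_fpf ht (h.good_odd hr gr hR.pgrp) (nR (mem_zpowers t))
      (fun x hx h2 => orderOf_eq_one_iff.1 (Nat.eq_one_of_dvd_coprimes (cop_of_mem hr
        (fun e => h.p_l (h.eq_p hr e ▸ rl)) hR.pgrp hx) dvd_rfl (cP ▸ orderOf_dvd_card_of_mem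
          (mem_inf.2 ⟨h.good_mem hr gr hR.pgrp ht hx h2, (Od_normal _).1 (hR.le hx)⟩))))
      (h1 (conj_mem_conj (mem_zpowers e) o))
    exact ⟨o⁻¹ * t * o⁻¹⁻¹, by
      rw [(ht.conj o⁻¹).inv_eq]; exact cj_cj' o e ▸ inverts_cj h2 o⁻¹⟩
  rcases struct4 v (nE V4.t_mem) (nE V4.s_mem) (h.eight_E hr rl v hQ) with h1 | ⟨L, A, -, hL⟩
  swap
  · exact h.lt_p hr rl v hQ e3 _ _ hL
  have nO := nE.trans (Od_normal _).2
  have OM := (Od_normal 𝐍(EE r Q)).1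
  have sQ : IsSyl r Q ⊤ := by
    have h2 : ∀ x ∈ 𝐍(EE r Q), Inv x → x ∈ V2 a b ⊔ Od 𝐍(EE r Q) := fun x hx h2 => by
      obtain ⟨o, ho, c, hc, rfl⟩ := h1 x hx h2
      exact P5.cj (mem_sup_right ho) (mem_sup_left hc)
    have h3 : 𝐍(EE r Q) ≤ 𝐍(EE r Q) ⊓ 𝐍(V2 a b) ⊔ Od 𝐍(EE r Q) := fun x hx => by
      obtain ⟨o, ho, h3⟩ := lift_norm v (nE V4.t_mem) (nE V4.s_mem) hx
        (h2 _ (P5.cj hx (nE V4.t_mem)) ((inv_a v).conj x))
        (h2 _ (P5.cj hx (nE V4.s_mem)) ((inv_b v).conj x))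
      exact (mul_mem_cancel_left (mem_sup_right ho)).1 (mem_sup_left ⟨mul_mem (OM ho) hx, h3⟩)
    refine IsSyl.of_norm hr (((hQ.isSyl hr v (odd_Od _) nO ((le_cent_EE r Q).trans
      (h.CE_le hr rl v hQ))).trans hr OM fun h4 => ?_).of_le (le_inf le_top (le_norm_self Q))
        (inf_le_right.trans (norm_EE r Q)))
    nth_rw 2 [le_antisymm h3 (sup_le inf_le_left OM)] at h4
    rw [H1.relIndex_sup_of_le_normalizer (inf_le_left.trans (Od_normal _).2)] at h4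
    exact (hr.dvd_mul.1 ((h4.trans (relIndex_dvd_card' _ _)).trans ((FT.card_dvd_of_le
      inf_le_right).trans (h.card_NW v)))).elim
        (fun e => h.p_l (e3 ▸ (Nat.prime_dvd_prime_iff_eq hr p3).1 e ▸ rl)) gr
  obtain ⟨m, hm, h2⟩ := exists_norm_conj hr (sQ.of_le ((le_cent_EE r Q).trans
    (cent_anti (zpowers_le.2 he.1))) le_top) (g := u)
    (conj_eq_self_iff.1 (by rw [← zpowers_conj, hu, zpowers_inv]))
  obtain ⟨j, hj, h3, h4⟩ := exists_inv_of_real h.e8 (fun e => e1 (eq_one_of_eq_inv oe e))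
    ((h2 e (mem_zpowers e)).trans hu)
  have jM := zpowers_le.2 (norm_EE r Q hm) hj
  have gM := norm_EE r Q gQ
  obtain ⟨c, hc, h5⟩ := P6.exists_inv_of_even (X := 𝐂[e]) fun ho => by
    obtain ⟨o, h5, c, hc, rfl⟩ := h1 j jM h3
    have h6 := inverts_cj h4 g
    rw [mem_cent1_iff_conj.1 (mem_cent1_comm.1 he.2)] at h6
    have h7 : o * c * o⁻¹ * (g * (o * c * o⁻¹) * g⁻¹) ∈ 𝐂[e] := by
      have h8 := h3.conj g
      generalize g * (o * c * o⁻¹) * g⁻¹ = y at h6 h8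
      generalize o * c * o⁻¹ = x at h3 h4
      rw [mem_cent1_iff_conj, mul_inv_rev, h3.inv_eq, h8.inv_eq]
      calc _ = x * (y * e * y) * x := by group
        _ = (x * e * x)⁻¹ := by rw [h6, mul_inv_rev, mul_inv_rev, h3.inv_eq, mul_assoc]
        _ = e := by rw [h4, inv_inv]
    have c1 : c ≠ 1 := fun e => h3.ne (by rw [e, mul_one, mul_inv_cancel])
    obtain ⟨v1, -⟩ := v4_of_V2 v hc ((mem_normalizer_iff.1 (tri.mem_norm v) c).1 hc) c1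
      ((⟨c1, v.sq hc⟩ : Inv c).conj g).ne fun e => by
        obtain ⟨y, hy, rfl⟩ := tri.exists_conj v hc c1
        refine tri.not_commute v (mem_cent1_iff_commute.1 (mem_cent1_comm.1 ?_))
        have := cent_cj (mem_cent1_iff_conj.2 e.symm) y⁻¹
        rwa [cj_cj', mem_cent1_iff_conj.1 (inv_mem (zpowers_le.2 (self_mem_cent1 g) hy))] at this
    have h8 := orderOf_map_dvd (ob _) (⟨o, OM h5⟩ * ⟨c, nE hc⟩ * ⟨o, OM h5⟩⁻¹ * (⟨g, gM⟩ *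
      (⟨o, OM h5⟩ * ⟨c, nE hc⟩ * ⟨o, OM h5⟩⁻¹) * ⟨g, gM⟩⁻¹))
    simp only [map_mul, map_inv, (H1.qmk_eq_one_iff (y := ⟨o, OM h5⟩)).2 h5, one_mul, inv_one,
      mul_one] at h8
    have h9 := (inv_ab (v4_ob v1 (nE hc) (P5.cj gM (nE hc)))).orderOf_eq
    rw [show (⟨_, P5.cj gM (nE hc)⟩ : 𝐍(EE r Q)) = ⟨g, gM⟩ * ⟨c, nE hc⟩ * ⟨g, gM⟩⁻¹ from rfl,
      map_mul, map_mul, map_inv] at h9
    rw [h9, ← orderOf_coe] at h8
    exact (odd_orderOf_of_mem ho h7).not_two_dvd_nat h8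
  obtain ⟨eL, ⟨-, -, d, hd, h6, h7, -⟩, oT⟩ :=
    h.tl' hr rl pe h5 ⟨mem_zpowers e, mem_cent1_comm.1 hc⟩ e1
  have v1 := v4_of h5 h6 (fun e => h.not_mem h5 (e ▸ hd)) (LL_le c hd)
  obtain ⟨D, h8, -, h9⟩ := exists_syl4 v1 (odd_Od 𝐂[e]) ((V2_le_norm_zp v1 (LL_le c eL)
    (h7 e ⟨eL, self_mem_cent1 e⟩)).trans norm_Od_cent) p3 IsPGroup.of_bot bot_le
    (le_top.trans norm_bot.ge)
  obtain ⟨o, -, h10⟩ := h8.exists_conj_le p3 (pg_zp og)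
    (zpowers_le.2 (h.mem_O h5 eL oT (mem_cent1_comm.1 he.2) (og ▸ by decide)))
  have h11 := mem_cent_iff_cent1.1
    (h.three_cent e3 v1 h8.pgrp h9 (h10 (conj_mem_conj (mem_zpowers g) o)))
  have h12 : Rk2 𝐂[o * g * o⁻¹] := ⟨c, h11 V4.t_mem, d, h11 V4.s_mem, h5, h6, v1.ts, v1.comm.eq⟩
  exact h.not_rk2 ht gL oP (by simpa only [cent1_conj, conj_conj_inv] using h12.conj o⁻¹)

end

theorem exists_s3 {r : ℕ} (hr : r.Prime) (rl : r ∣ l) (h1 : C3 G r) :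
    ∃ (a b : G) (Q : Subgroup G), V4 a b ∧ S3 r (V2 a b) Q := by
  obtain ⟨a, b, Q, v, h1, h2, h3, h4⟩ := h1
  obtain ⟨R, hR, h5⟩ := exists_mx h1 h2
  exact ⟨a, b, R, v, (h.exists_d hr rl v hR (ne_bot_of_le_ne_bot h3 (inf_le_inf_right _ h5))
    (ne_bot_of_le_ne_bot h4 (inf_le_inf_right _ h5))).1⟩

theorem alpha_three (l3 : 3 ∣ l) {t u : G} (ht : Inv t) (hu : u ∈ LL t) (ou : orderOf u = 3) :
    𝐂[u] ≤ 𝐂[t] := by
  have p3 := Nat.prime_three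
  refine (h.alpha_or ht hu (ou ▸ p3) (ou ▸ l3)).resolve_right ?_
  rintro ⟨s, c, Q, hs, sl, v, cu, h1, h2, h3, h4, h5⟩
  obtain ⟨R, hR, h6⟩ := exists_mx h1 h3
  obtain ⟨hS, d, hd, tri⟩ := h.exists_d hs sl v hR (ne_bot_of_le_ne_bot h4 (inf_le_inf_right _ h6))
    (ne_bot_of_le_ne_bot h5 (inf_le_inf_right _ h6))
  obtain ⟨w, hw, ow⟩ := exists_ord hs h1 h4
  obtain ⟨z, hz, oz⟩ := exists_ord hs h1 h5
  have e1 : d⁻¹ * c * d⁻¹⁻¹ = t := tri.1 ▸ cj_cj' d t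
  have e2 : d⁻¹ * t * d⁻¹⁻¹ = t * c := by
    nth_rw 1 [← tri.third v]; exact cj_cj' d _
  obtain ⟨wL, -, oT, -, nO, -⟩ := h.w_facts hs sl v hS ⟨h.mem_EE hs sl v hS V4.t_mem v.t1
    ⟨h6 hw.1, hw.2⟩ (ow ▸ pow_orderOf_eq_one w), hw.2⟩ ow
  have o2 := (orderOf_cj d⁻¹ u).trans ou
  have h7 : d⁻¹ * u * d⁻¹⁻¹ ∈ 𝐂[w] := by
    rw [← cent_zpowers, h.zp_eq hs sl hR.pg ht ⟨h6 hw.1, hw.2⟩ ⟨(mem_normalizer_iff.1 (inv_mem hd)
      z).1 (h6 hz.1), e1 ▸ cent_cj hz.2 d⁻¹⟩ ow ((orderOf_cj d⁻¹ z).trans oz), cent_zpowers]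
    exact cent_cj (mem_cent1_comm.1 (h2 hz.1)) d⁻¹
  have h8 : d⁻¹ * u * d⁻¹⁻¹ ∈ 𝐂[t * c] := e2 ▸ cent_cj (LL_le t hu) d⁻¹
  obtain ⟨P, h9, h10, h11⟩ := exists_syl4 v (odd_Od _) nO p3 (pg_zp ou) (zpowers_le.2
    (h.mem_O ht wL oT (mem_cent1_comm.1 (h2 hw.1)) (ou ▸ by decide)))
    (V2_le_norm_zp v (LL_le t hu) cu)
  obtain ⟨x, hx, h12⟩ := exists_conj4 v (odd_Od _) nO p3 h9 h11 (pg_zp o2) (zpowers_le.2
    (h.mem_O ht wL oT h7 (o2 ▸ by decide))) (V2_mul t c ▸ V2_swap (t * c) t ▸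
      V2_le_norm_zp (v4_mul v).swap h8 (e1 ▸ inverts_cj cu d⁻¹))
  obtain ⟨a, b, S, v1, h13⟩ := h.exists_s3 p3 l3 ⟨t, t * c, P, v4_mul v, h9.pgrp, V2_mul t c ▸ h11,
    fun e => ne_one_of_prime (ou ▸ p3) (mem_bot.1 (e ▸ mem_inf.2 ⟨h10 (mem_zpowers u), LL_le t hu⟩)),
    fun e => ne_one_of_prime (((orderOf_cj x _).trans o2).symm ▸ p3) (mem_bot.1 (e ▸ mem_inf.2
      ⟨h12 (conj_mem_conj (mem_zpowers _) x), P5.cj (cent_le_cent1
        (mul_mem V4.t_mem V4.s_mem) hx.2) h8⟩))⟩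
  exact h.case_three p3 l3 v1 h13 rfl

theorem three_cases {t : G} (ht : Inv t) : p = 3 ∨ 3 ∣ l := by
  obtain ⟨s, b, F, -⟩ := h.exists_fr ht
  have h1 := orderOf_dvd_card_of_mem F.xL
  rw [orderOf_eq_prime F.x3 fun e => F.tri.not_mem_cent F.v4 (e ▸ one_mem _), h.cardL ht] at h1
  have := h.not_three_dvd_k ht
  exact (Nat.prime_three.dvd_mul.1 h1).symm.imp (fun e => (h.eq_p Nat.prime_three e).symm)
    fun e => (Nat.prime_three.dvd_mul.1 e).resolve_left (by omega)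

theorem not_c3 {r : ℕ} (hr : r.Prime) (rl : r ∣ l) : ¬ C3 G r := fun h1 => by
  obtain ⟨a, b, Q, v, hQ⟩ := h.exists_s3 hr rl h1
  refine (h.three_cases (inv_a v)).elim (h.case_p hr rl v hQ) fun l3 => ?_
  obtain ⟨t, g, ht, aL, -, gL, g3, tri, gQ⟩ := h.exists_g hr rl v hQ
  obtain ⟨e, he, et, -⟩ := h.exists_e hr rl v hQ g3 tri gQ
  exact et t ht aL (h.alpha_three l3 ht gL
    (orderOf_eq_prime g3 fun e => tri.not_mem_cent v (e ▸ one_mem _)) he.2)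

theorem alpha {t w : G} (ht : Inv t) (hw : w ∈ LL t) (w1 : w ≠ 1) (wl : orderOf w ∣ l) :
    𝐂[w] ≤ 𝐂[t] := by
  obtain ⟨y, hy, hr⟩ := P6.exists_prime_pow_mem w1
  refine (cent1_le_cent1_of_mem_zpowers hy).trans ((h.alpha_or ht (zpowers_le.2 hw hy) hr
    ((orderOf_dvd_of_mem_zpowers hy).trans wl)).resolve_right ?_)
  rintro ⟨s, c, Q, hs, sl, v, -, h1, -, h3, h4, h5⟩
  exact h.not_c3 hs sl ⟨t, c, Q, v, h1, h3, h4, h5⟩

end JA

end Cfsg.Agent.P7.Ax
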