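/-
Groups with `C(t) = ⟨t⟩ × PSL₂(q).Φ`, `q > 5`: the arithmetic of `|G : C(t)|` and the
centralizers of the elements of the torus `T`.
-/
import Cfsg.Agent.P7.A8

set_option autoImplicit false
set_option linter.unusedSectionVars false

namespace Cfsg.Agent.P7

open Subgroup Cfsg Cfsg.Agent Cfsg.Agent.FT
open Cfsg.Agent.P5 (V4 Tri LT K4)
open Cfsg.Agent.P6 (Inv Od Rk2 odd_Od Od_normal le_Od norm_le_norm_Od odd_of_le
  odd_orderOf_of_mem eq_one_of_eq_inv)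

universe u

variable {G : Type u} [Group G] [Finite G]

namespace Ax

theorem three_dvd_tri {x a b : G} (tri : Tri x a b) (v : V4 a b) : 3 ∣ orderOf x := by
  by_contra h
  obtain ⟨m, hm⟩ := exists_pow_eq_self_of_coprime (Nat.prime_three.coprime_iff_not_dvd.2 h)
  refine tri.not_commute v (mem_cent1_iff_commute.1 (mem_cent1_comm.1
    (hm ▸ pow_mem (mem_cent1_iff_conj.2 ?_) m)))
  calc _ = x * (x * (x * a * x⁻¹) * x⁻¹) * x⁻¹ := by simp only [pow_three, mul_inv_rev, mul_assoc]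
    _ = a := by rw [tri.1, tri.2, tri.third v]

theorem ndvd_index {r : ℕ} {R H : Subgroup G} (h : IsSyl r R ⊤) (hH : R ≤ H) : ¬ r ∣ H.index :=
  fun e => h.ndvd (relIndex_top_right R ▸ e.trans (index_dvd_of_le hH))

namespace JA

variable {q p k l f : ℕ} (h : JA G q p k l f)
include h

theorem k_cent_le (l3 : 3 ∣ l) {a b y : G} (v : V4 a b) (hy : y ∈ 𝐂(V2 a b))
    (hr : (orderOf y).Prime) (rk : orderOf y ∣ k) : 𝐂[y] ≤ 𝐂(V2 a b) := by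
  have p3 := Nat.prime_three
  have yW := mem_cent_iff_cent1.1 hy
  rcases npc_or_tri v (yW V4.t_mem) (yW V4.s_mem) (h.k_eight v hy hr rk) with h1 | ⟨x, hx, tri⟩
  · refine h1.trans (sup_le (gen4 v (odd_Od _) (yW.trans (Od_normal _).2) fun c d v1 e => ?_)
      (V2_le_cent v))
    rw [← e, cent_V2]
    exact le_inf inf_le_right ((inf_le_inf_right _ (Od_normal _).1).trans
      (h.k_cent v1 (e ▸ hy) hr rk))
  obtain ⟨u, hu, ou⟩ := exists_mem_orderOf_eq_prime p3 (Nat.card_zpowers x ▸ three_dvd_tri tri v)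
  obtain ⟨t, ht, aL, bL, h1⟩ := h.exists_cent_three (h.not_three_dvd_k (inv_a v)) v (pg_zp ou)
    (zpowers_le.2 (zpowers_le.2 (tri.mem_norm v) hu))
  exact absurd (mem_cent1_comm.1 (h.alpha ht (h.good_mem p3 (h.good_l p3 l3) (pg_zp ou) ht
    (mem_zpowers u) (h1 (mem_zpowers u))) (ne_one_of_prime (ou ▸ p3)) (ou ▸ l3)
    (mem_cent1_comm.1 (zpowers_le.2 hx hu))))
    (h.k_inv v hy hr rk (h.mem_cent_V aL bL) ht (h.not_mem_V ht aL bL))

theorem five_k (e : p = 3) : ¬ 5 ∣ k := fun h5 => by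
  obtain ⟨n, ⟨m, rfl⟩, hn⟩ := h.hq
  have h1 := h.eps_three e
  have h2 : 9 ^ m % 5 = 1 ∨ 9 ^ m % 5 = 4 := by
    clear hn
    induction m with
    | zero => simp
    | succ m ih => rw [pow_succ]; omega
  rw [e, pow_succ, pow_mul] at hn
  norm_num at hn
  omega

theorem k_hall {t : G} (ht : Inv t) {r : ℕ} (hr : r.Prime) (rk : r ∣ k) : ¬ r ∣ 𝐂[t].index := by
  obtain ⟨s, b, F, -⟩ := h.exists_fr ht
  have v := v4_of ht (inv_a F.v4) (fun e => h.not_mem ht (e ▸ F.lt.hyp.tX)) (LL_le t F.lt.hyp.tX)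
  obtain ⟨R, hR, cR, -, y, hy, rfl⟩ := h.exists_R v hr rk
  have yR := zpowers_le.2 hy
  have Ry : R ≤ 𝐂[y] := (isMulComm_iff_le_cent.1 (isMulComm_of_isCyclic cR)).trans
    (cent_le_cent1 hy)
  have h1 : IsSyl (orderOf y) R 𝐂[y] := by
    refine (h.three_cases ht).elim (fun e3 => ?_)
      fun l3 => hR.of_le Ry (h.k_cent_le l3 v (hR.le hy) hr rk)
    refine (hR.of_le (le_inf Ry hR.le) inf_le_right).trans hr inf_le_left fun h1 => ?_
    obtain ⟨i, hi, e⟩ := h.k_card v (hR.le hy) hr rk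
    rw [← H1.card_mul_relIndex (inf_le_left : 𝐂[y] ⊓ 𝐂(V2 t s) ≤ 𝐂[y]),
      Nat.mul_right_inj (card_ne_zero _)] at e
    have h2 : i ≠ 0 := e ▸ L.relIndex_ne_zero _ _
    have h3 : orderOf y ∣ 2 * 3 * 5 := (e ▸ h1).trans (by
      rcases hi with hi | rfl
      · interval_cases i <;> simp_all
      · decide)
    rcases hr.dvd_mul.1 h3 with h3 | h3
    · rcases hr.dvd_mul.1 h3 with h3 | h3
      · exact h.k_ne_two rk ((Nat.prime_dvd_prime_iff_eq hr Nat.prime_two).1 h3)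
      · exact h.not_three_dvd_k ht ((Nat.prime_dvd_prime_iff_eq hr Nat.prime_three).1 h3 ▸ rk)
    · exact h.five_k e3 ((Nat.prime_dvd_prime_iff_eq hr Nat.prime_five).1 h3 ▸ rk)
  refine ndvd_index (IsSyl.of_norm hr (isSyl_of_maximal hr (le_inf le_top (le_norm_self R)) hR.pgrp
    fun Q h2 h3 hQ => h1.eq_of_le hr h2 ?_ hQ)) (hR.le.trans (cent_le_cent1 V4.t_mem))
  rw [← cent_zpowers, cent_comm]
  exact BG04.le_cent_of_card_le_prime hr hQ ⟨yR.trans h2, (h3.trans inf_le_right).trans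
    (norm_le_norm_of_le_cyclic cR yR)⟩ (Nat.card_zpowers y).le

theorem p_part (e : q = 4 * k + 1) {t : G} (ht : Inv t) : ¬ p ∣ 𝐂[t].index ∨ q ∣ 𝐂[t].index := by
  have gp := h.good_p fun e3 => by have := h.eps_three e3; omega
  have hp := h.hp
  obtain ⟨s, b, F, e1, e2, -⟩ := h.exists_fr ht
  have v := v4_of ht (inv_a F.v4) (fun e => h.not_mem ht (e ▸ F.lt.hyp.tX)) (LL_le t F.lt.hyp.tX)
  obtain ⟨P, hP⟩ : ∃ P, P = F.P := ⟨_, rfl⟩
  have PL : P ≤ LL t := hP ▸ F.PL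
  have ea : IsElementaryAbelian p P := hP ▸ e1 ▸ F.eaP
  have cP : 𝐨(P) = q := hP ▸ F.cardP
  have ce : ∀ u ∈ P, u ≠ 1 → LL t ⊓ 𝐂[u] = P := hP ▸ F.centP
  obtain ⟨R, RL, Rs, cR, hR⟩ : ∃ R ≤ LL t, R ≤ 𝐂[s] ∧ 𝐨(R) = k ∧ R ⊔ zpowers s ≤ 𝐍(P) := by
    refine ⟨R0 (LL t) s, F.lt.hyp.UX, F.lt.hyp.Ut, e2 ▸ F.cardR, ?_⟩
    rcases card_H F.toL2F with h1 | h1
    · rw [← h1.2.1, hP]
      exact (HL F.toL2F).trans inf_le_right
    · omega
  have pP := elemAb_isPGroup ea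
  obtain ⟨u, hu, u1⟩ := (bot_or_exists_ne_one P).resolve_left fun e => by
    have := h.q5
    rw [e, card_bot] at cP
    omega
  have tP : t ∈ 𝐂(P) := mem_cent_iff_cent1.2 (PL.trans (LL_le t))
  have nr : ¬ Rk2 𝐂(P) := fun h1 => h.not_rk2 ht (PL hu) (by rw [ce u hu u1, cP]; exact h.ep.oddq)
    (h1.mono (cent_le_cent1 hu))
  have npc := P6.hasNPC_of_not_rk2 (comm_two h.e8) nr
  have nO : 𝐍(P) ≤ 𝐍(Od 𝐂(P)) := (H1.normalizer_le_normalizer_centralizer P).trans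
    (norm_le_norm_Od _)
  have OC := (Od_normal 𝐂(P)).1
  have WP : V2 t s ≤ 𝐍(P) := V4.le_iff.2 ⟨cent_le_norm P tP, hR (mem_sup_right (mem_zpowers s))⟩
  have inP : ∀ x ∈ Od 𝐂(P), x ∈ LL t → x ∈ P := fun x h1 h2 =>
    ce u hu u1 ▸ mem_inf.2 ⟨h2, cent_le_cent1 hu (OC h1)⟩
  obtain ⟨Y, hY, PY, nY⟩ := exists_syl4 v (odd_Od _) (WP.trans nO) hp pP (P6.le_Od_of_npc npc
    (isMulComm_iff_le_cent.1 ea.1) (cP ▸ h.ep.oddq)) WP
  by_cases h1 : Y ≤ 𝐂[t]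
  · obtain rfl : Y = P := le_antisymm
      (fun y hy => inP y (hY.le hy) (h.good_mem hp gp hY.pgrp ht hy (h1 hy))) PY
    refine Or.inl (ndvd_index (IsSyl.of_norm hp (isSyl_of_maximal hp
      (le_inf le_top (le_norm_self Y)) pP fun Q h2 h3 hQ => ?_)) h1)
    obtain ⟨c, hc, h4⟩ := exists_conj_into hp hQ (C := Od 𝐂(Y)) (H := 𝐂[t]) (fun x hx c hc => by
      have h4 : x * c ∈ 𝐍(Y) := mul_mem (h3 hx).2 (cent_le_norm Y (OC hc))
      have h5 := (mem_normalizer_iff.1 (H1.normalizer_le_normalizer_centralizer Y h4) t).1 tP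
      have h6 := P6.odd_mul_of_not_rk2 nr tP h5 ht (ht.conj _)
      obtain ⟨d, hd, h7⟩ := P6.exists_conj_of_odd ht (ht.conj _) h6
      refine ⟨d, zpowers_le.2 (P6.mem_Od_of_npc npc (mul_mem tP h5) h6) hd,
        mem_cent1_iff_conj.2 ?_⟩
      calc _ = d⁻¹ * (x * c * t * (x * c)⁻¹) * d := by group
        _ = t := by rw [← h7]; group)
      fun h4 => hY.ndvd (h4.trans (relIndex_dvd_of_le_left _ h1))
    have h5 : IsSyl p Y (LL t) := ⟨PL, pP, fun h5 => by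
      have h6 := H1.card_mul_relIndex PL
      rw [cP, h.cardL ht, mul_comm, Nat.mul_left_inj h.ep.oddq.pos.ne'] at h6
      exact (hp.dvd_mul.1 (h6 ▸ h5)).elim h.p_k h.p_l⟩
    have h6 : Q ^ᵍ c⁻¹ ≤ 𝐂[t] := conj_le_iff.2 fun x hx => mem_conj.2 (by simpa using h4 x hx)
    have h7 := hQ.map (MulAut.conj c⁻¹).toMonoidHom
    refine (eq_of_le_of_card_ge h2 ?_).symm
    rw [← card_conj Q c⁻¹]
    exact Nat.le_of_dvd Nat.card_pos (h5.card_dvd hp h7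
      fun x hx => h.good_mem hp gp h7 ht hx (h6 hx))
  right
  obtain ⟨c, v1, e3, y, hy, h2, ty⟩ := exists_eig v (odd_of_le hY.le (odd_Od _)) nY h1
  have hc := inv_b v1
  have oy := P6.orderOf_eq_of_prime_of_mem hp hY.pgrp hy.1 h2
  have yL := h.good_mem hp gp hY.pgrp hc hy.1 hy.2
  obtain ⟨J, hJ⟩ : ∃ J, J = Od 𝐂(P) ⊓ LL c := ⟨_, rfl⟩
  have JO : J ≤ Od 𝐂(P) := hJ ▸ inf_le_left
  have JL : J ≤ LL c := hJ ▸ inf_le_right
  have yJ : y ∈ J := hJ ▸ ⟨hY.le hy.1, yL⟩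
  have oJ := odd_of_le JO (odd_Od _)
  have nJ : 𝐍(P) ⊓ 𝐂[c] ≤ 𝐍(J) := hJ ▸ H1.le_normalizer_inf (inf_le_left.trans nO)
    (inf_le_right.trans (LL_normal c).2)
  have qk : q.Coprime k := h.ep.cop_qk.coprime_mul_left_right
  have fp : ∀ x ∈ J, x ∈ 𝐂[t] → x = 1 := fun x hx xt => by
    have h3 := h.ord_LW v1.swap (JL hx) xt (odd_orderOf_of_mem oJ hx)
    exact orderOf_eq_one_iff.1 (Nat.eq_one_of_dvd_coprimes qk (cP ▸ orderOf_dvd_card_of_mem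
      (inP x (JO hx) (h.mem_L ht xt (h.cop_k.coprime_dvd_left h3)))) h3)
  have h3 : J ≤ LL c ⊓ 𝐂[y] := le_inf JL ((isMulComm_iff_le_cent.1 (comm_of_inverts ht
    fun x hx => inverts_of_fpf ht oJ (nJ ⟨cent_le_norm P tP, mem_cent1.2 v1.comm.symm⟩) fp hx)).trans
      (cent_le_cent1 yJ))
  obtain ⟨h4, h5, -⟩ := h.tp hc yL oy
  have Rc : R ≤ 𝐂[c] := by
    refine le_trans ?_ (cent_le_cent1 (mem_V2 e3).2)
    rw [cent_V2]
    exact le_inf (RL.trans (LL_le t)) Rs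
  have h6 : k ∣ 𝐨(J) - 1 := by
    refine cR ▸ (semiReg_iff.2 fun x hx x1 j hj h6 => by_contra fun j1 => x1 ?_).card_dvd
      ((le_inf (le_sup_left.trans hR) Rc).trans nJ)
    have h7 : orderOf x ∣ k := cR ▸ orderOf_dvd_card_of_mem hx
    exact orderOf_eq_one_iff.1 (Nat.eq_one_of_dvd_coprimes qk
      ((h.tp hc (JL hj) (elemAb_orderOf hp h5 (h3 hj) j1)).1 ▸ orderOf_dvd_card_of_mem (mem_inf.2
        ⟨h.mem_L hc (Rc hx) (h.cop_k.coprime_dvd_left h7), mem_cent1.2 h6.symm⟩)) h7)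
  have h7 : 𝐨(J) = q := by
    obtain ⟨m, hm⟩ := h6
    obtain ⟨n, hn⟩ := h4 ▸ FT.card_dvd_of_le h3
    have h8 : 1 < 𝐨(J) := (one_lt_card_iff_ne_bot J).2 fun e =>
      ne_one_of_prime h2 (mem_bot.1 (e ▸ yJ))
    obtain ⟨i, hi⟩ := oJ
    obtain ⟨j, hj⟩ := h.ep.oddk
    have h9 : 𝐨(J) ≤ q := Nat.le_of_dvd h.ep.oddq.pos ⟨n, hn⟩
    have h10 : m ≤ 4 := by
      by_contra! h10
      have := Nat.mul_le_mul_left k h10
      omega
    interval_cases m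
    · omega
    · omega
    · have : n = 1 := by
        by_contra h11
        rcases Nat.lt_or_ge n 2 with h12 | h12
        · interval_cases n <;> omega
        · have := Nat.mul_le_mul_left 𝐨(J) h12
          omega
      rw [hn, this, mul_one]
    · omega
    · omega
  have h8 := card_subgroup_dvd_card (J ⊔ P)
  rw [H1.card_sup_of_inf_eq_bot ((JO.trans OC).trans (cent_le_norm P)) (eq_bot_iff.2 fun x hx =>
    fp x hx.1 (LL_le t (PL hx.2))), h7, cP, ← card_mul_index 𝐂[t], h.card t ht,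
    mul_comm (4 * k * l), mul_assoc, mul_assoc, Nat.mul_dvd_mul_iff_left h.ep.oddq.pos] at h8
  obtain ⟨n, -, hn⟩ := h.hq
  refine Nat.Coprime.dvd_of_dvd_mul_left ?_ (Nat.Coprime.dvd_of_dvd_mul_left ?_ h8)
  · exact hn ▸ (hp.coprime_iff_not_dvd.2 (h.two_f gp)).pow_left n
  · exact h.ep.cop_qk.mul_right h.ep.cop_ql

end JA

end Ax

variable {t s s0 : G} {L : Subgroup G} {q : ℕ} (h : JRF t L q) (F : Fr 𝐂[t] L t q s s0)
  (q5 : 5 < q) (h0 : ∀ r, r.Prime → r ∣ 𝐨(Phi 𝐂[t] s s0) → (r = 3 ∧ F.p = 3) ∨ ¬ r ∣ 𝐨(L))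
include h q5 h0

theorem not_three_dvd_k : ¬ 3 ∣ F.k :=
  (Ax.ja_of h F q5 h0).not_three_dvd_k (P6.inv_of_orderOf h.inv)

theorem alpha : ∀ w ∈ F.T, w ≠ 1 → 𝐂[w] ≤ 𝐂[t] := fun _ hw w1 =>
  (Ax.ja_of h F q5 h0).alpha (P6.inv_of_orderOf h.inv) (Ax.eq_LL F ▸ F.TL hw) w1
    (F.cardT ▸ orderOf_dvd_card_of_mem hw)

theorem k_hall : ∀ r, r.Prime → r ∣ F.k → ¬ r ∣ 𝐂[t].index := fun _ hr rk =>
  (Ax.ja_of h F q5 h0).k_hall (P6.inv_of_orderOf h.inv) hr rk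

theorem k_coprime : 𝐂[t].index.Coprime F.k :=
  Nat.coprime_of_dvd fun r hr h1 h2 => k_hall h F q5 h0 r hr h2 h1

theorem p_part (e : q = 4 * F.k + 1) : ¬ F.p ∣ 𝐂[t].index ∨ q ∣ 𝐂[t].index :=
  (Ax.ja_of h F q5 h0).p_part e (P6.inv_of_orderOf h.inv)

end Cfsg.Agent.P7
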