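/-
The arithmetic of section J5.
-/
import Mathlib.Tactic

set_option autoImplicit false

namespace Cfsg.Agent.P7.J5

theorem basic {y I u : ℤ} (hy : y ≠ 0) (hy1 : y ^ 2 - 1 ≠ 0) (hu : u ≠ 0) (hu1 : u + 1 ≠ 0)
    (e1 : I * (u + y) ^ 2 = y * (y - 1) * (y + 1) ^ 2 * (u * (u + 1))) (d1 : u ∣ I * y)
    (d2 : u + 1 ∣ I * (1 - y)) (co : IsCoprime I (y ^ 2 - 1)) :
    ∃ m e, m * e = y ∧ u = m * (y ^ 2 - 1) - y ∧ I = (y ^ 2 - 1 - e) * (m * (y + 1) - 1) * e := by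
  have ym : y - 1 ≠ 0 := fun e => hy1 (by linear_combination (y + 1) * e)
  have yp : y + 1 ≠ 0 := fun e => hy1 (by linear_combination (y - 1) * e)
  obtain ⟨d, rfl⟩ : ∃ d, u = d - y := ⟨u + y, by ring⟩
  obtain ⟨A, hA⟩ := d1
  obtain ⟨B, hB⟩ := d2
  have hd : d ≠ 0 := by
    rintro rfl
    have : y * (y - 1) * (y + 1) ^ 2 * ((0 - y) * (0 - y + 1)) ≠ 0 := by
      exact mul_ne_zero (mul_ne_zero (mul_ne_zero hy ym) (pow_ne_zero _ yp)) (mul_ne_zero hu hu1)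
    exact this (by linear_combination -e1)
  have a1 : A * d ^ 2 = y * (y - 1) * (y + 1) ^ 2 * (d - y + 1) * y :=
    mul_left_cancel₀ hu (by linear_combination y * e1 - d ^ 2 * hA)
  have a2 : B * d ^ 2 = y * (y - 1) * (y + 1) ^ 2 * (d - y) * (1 - y) :=
    mul_left_cancel₀ hu1 (by linear_combination (1 - y) * e1 - d ^ 2 * hB)
  have a3 : (A + B) * d = y * (y - 1) * (y + 1) ^ 2 :=
    mul_right_cancel₀ hd (by linear_combination a1 + a2)
  have a4 : d ^ 2 ∣ (y * (y ^ 2 - 1)) ^ 2 :=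
    ⟨y * (A + B) - A, by linear_combination a1 - y * d * a3⟩
  obtain ⟨e, he⟩ := (Int.pow_dvd_pow_iff two_ne_zero).1 a4
  have st : I * y * (y - 1) = (d - y) * (d - y + 1) * e ^ 2 := by
    refine mul_left_cancel₀ (mul_ne_zero (mul_ne_zero hy ym) (pow_ne_zero 2 yp)) ?_
    linear_combination e ^ 2 * e1 + I * (y * (y ^ 2 - 1) + d * e) * he
  have c1 : IsCoprime I (y - 1) := co.of_isCoprime_of_dvd_right ⟨y + 1, by ring⟩
  have c2 : IsCoprime I (y + 1) := co.of_isCoprime_of_dvd_right ⟨y - 1, by ring⟩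
  obtain ⟨g, d', k, hg, cg, hd', hk⟩ := Int.exists_gcd_one' (Int.gcd_pos_of_ne_zero_left (y - 1) hd)
  have g0 : (g : ℤ) ≠ 0 := by exact_mod_cast hg.ne'
  have cg' : IsCoprime k d' := (Int.isCoprime_iff_gcd_eq_one.2 cg).symm
  have k1 : k ∣ e := cg'.dvd_of_dvd_mul_left ⟨y * (y + 1), mul_right_cancel₀ g0 (by
    linear_combination -he - e * hd' + y * (y + 1) * hk)⟩
  obtain ⟨e', rfl⟩ := k1
  have k0 : k ≠ 0 := by rintro rfl; exact ym (by simpa using hk)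
  have k2 : k ∣ I * y := ⟨(d - y) * (d' - k) * e' ^ 2, mul_left_cancel₀ (mul_ne_zero g0 k0) (by
    linear_combination st - I * y * hk + (d - y) * (k * e') ^ 2 * (hd' - hk))⟩
  have k3 : IsCoprime (I * y) (y - 1) := c1.mul_left ⟨1, -1, by ring⟩
  have k4 : IsUnit k := (k3.of_isCoprime_of_dvd_right ⟨g, hk⟩).isUnit_of_dvd' k2 dvd_rfl
  obtain ⟨d1, rfl⟩ : y - 1 ∣ d := by
    rw [hk, hd']
    exact mul_dvd_mul_right (k4.dvd) _
  generalize k * e' = e at *
  have b1 : y * (y + 1) = d1 * e := mul_left_cancel₀ ym (by linear_combination he)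
  have b2 : I * y = ((y - 1) * d1 - y) * (d1 - 1) * e ^ 2 :=
    mul_left_cancel₀ ym (by linear_combination st)
  have b3 : IsCoprime (I * y) (y + 1) := c2.mul_left ⟨-1, 1, by ring⟩
  have b4 : IsCoprime e (y + 1) := b3.of_isCoprime_of_dvd_left
    (b2 ▸ (dvd_pow_self e two_ne_zero).mul_left _)
  obtain ⟨m, hm⟩ : e ∣ y := b4.dvd_of_dvd_mul_right ⟨d1, by rw [b1]; ring⟩
  have e0 : e ≠ 0 := by rintro rfl; exact hy (by simpa using hm)
  have m0 : m ≠ 0 := by rintro rfl; exact hy (by simpa using hm)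
  have b5 : d1 = m * (y + 1) := mul_right_cancel₀ e0 (by linear_combination -b1 + (y + 1) * hm)
  subst b5
  refine ⟨m, e, by linear_combination -hm, by ring, mul_right_cancel₀ hy ?_⟩
  rw [b2]
  linear_combination (m * (y + 1) - 1) * e * (y ^ 2 - 1) * (-hm)

theorem four_cases {p : ℕ} (hp : p.Prime) {n : ℕ} {y I m e : ℤ} (hy : y.natAbs = p ^ n)
    (me : m * e = y) (hI : I = (y ^ 2 - 1 - e) * (m * (y + 1) - 1) * e)
    (h : ¬ (p : ℤ) ∣ I ∨ y ∣ I) :
    (m = y ∧ e = 1) ∨ (m = -y ∧ e = -1) ∨ (m = 1 ∧ e = y) ∨ (m = -1 ∧ e = -y) := by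
  have hp' : Prime (p : ℤ) := Nat.prime_iff_prime_int.1 hp
  have y0 : y ≠ 0 := by
    rintro rfl
    exact pow_ne_zero n hp.ne_zero (by simpa using hy.symm)
  have key : ∀ a : ℤ, a ∣ y → IsUnit a ∨ (p : ℤ) ∣ a := fun a ha => by
    obtain ⟨i, -, hi⟩ := (Nat.dvd_prime_pow hp).1 (hy ▸ Int.natAbs_dvd_natAbs.2 ha)
    rcases i with _ | i
    · exact .inl (Int.isUnit_iff_natAbs_eq.2 (by simpa using hi))
    · exact .inr (Int.natCast_dvd.2 (hi ▸ dvd_pow_self p i.succ_ne_zero))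
  rcases key e ⟨m, by rw [← me, mul_comm]⟩ with he | he
  · rcases Int.isUnit_iff.1 he with rfl | rfl
    · exact .inl ⟨by linear_combination me, rfl⟩
    · exact .inr (.inl ⟨by linear_combination -me, rfl⟩)
  rcases key m ⟨e, me.symm⟩ with hm | hm
  · rcases Int.isUnit_iff.1 hm with rfl | rfl
    · exact .inr (.inr (.inl ⟨rfl, by linear_combination me⟩))
    · exact .inr (.inr (.inr ⟨rfl, by linear_combination -me⟩))
  have e0 : e ≠ 0 := by rintro rfl; exact y0 (by simpa using me.symm)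
  have h1 := h.resolve_left (not_not.2 (hI ▸ he.mul_left _))
  have h2 : m ∣ (y ^ 2 - 1 - e) * (m * (y + 1) - 1) := by
    refine (mul_dvd_mul_iff_right e0).1 ?_
    rwa [me, ← hI]
  have hy' : (p : ℤ) ∣ y := me ▸ he.mul_left m
  exfalso
  rcases hp'.dvd_or_dvd (hm.trans h2) with h3 | h3
  · refine hp'.not_dvd_one ?_
    have := (dvd_sub ((dvd_pow hy' two_ne_zero).sub he) h3)
    rwa [show y ^ 2 - e - (y ^ 2 - 1 - e) = 1 by ring] at this
  · refine hp'.not_dvd_one ?_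
    have := (dvd_sub (hm.mul_right (y + 1)) h3)
    rwa [show m * (y + 1) - (m * (y + 1) - 1) = 1 by ring] at this

theorem three_of_sq {p : ℕ} (hp : p.Prime) {n : ℕ} {D E : ℤ} (hE : E ≠ 0)
    (h : 3 * D ^ 2 = (p ^ n : ℕ) * E ^ 2) : p = 3 := by
  by_contra hne
  have : Fact (Nat.Prime 3) := ⟨Nat.prime_three⟩
  have h1 : 3 * D.natAbs ^ 2 = p ^ n * E.natAbs ^ 2 := by
    have := congrArg Int.natAbs h
    simpa [Int.natAbs_mul, Int.natAbs_pow] using this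
  have E0 : E.natAbs ≠ 0 := Int.natAbs_ne_zero.2 hE
  have p0 : p ^ n ≠ 0 := pow_ne_zero n hp.ne_zero
  have D0 : D.natAbs ≠ 0 := fun e => mul_ne_zero p0 (pow_ne_zero 2 E0) (by rw [← h1, e]; rfl)
  have h2 := congrArg (padicValNat 3) h1
  rw [padicValNat.mul (by norm_num) (pow_ne_zero 2 D0), padicValNat.mul p0 (pow_ne_zero 2 E0),
    padicValNat.pow D.natAbs, padicValNat.pow E.natAbs, padicValNat_self,
    padicValNat.eq_zero_of_not_dvd (n := p ^ n) fun e => hne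
      ((Nat.prime_dvd_prime_iff_eq Nat.prime_three hp).1 (Nat.prime_three.dvd_of_dvd_pow e)).symm]
    at h2
  omega

/-- The third virtual character in pattern A. -/
theorem patA3 {y I u x z : ℤ} (hI : I ≠ 0) (hu : u ≠ 0) (hu1 : u + 1 ≠ 0)
    (e1 : I * (u + y) ^ 2 = y * (y - 1) * (y + 1) ^ 2 * (u * (u + 1))) (s : 1 + x + u + z = 0)
    (e3 : I * (x * u * z + u * z + y ^ 2 * x * z + y ^ 2 * x * u) =
      y * (y - 1) * (y + 1) ^ 2 * (x * u * z)) : u + 1 = (y - 1) * x := by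
  obtain rfl : z = -(1 + x + u) := by linear_combination s
  have : I * u ^ 2 * (u + 1 - (y - 1) * x) ^ 2 = 0 := by
    linear_combination (-u) * (u + 1) * e3 + u * x * (1 + x + u) * (-e1)
  have := (mul_eq_zero.1 this).resolve_left (mul_ne_zero hI (pow_ne_zero 2 hu))
  exact sub_eq_zero.1 (pow_eq_zero_iff two_ne_zero |>.1 this)

/-- Pattern A. -/
theorem patA {y l I u m e x g g' : ℤ} (hl : y + 1 = 2 * l) (y8 : y % 8 = 5) (big : 11 ≤ |y|)
    (hu : u = m * (y ^ 2 - 1) - y) (hI : I = (y ^ 2 - 1 - e) * (m * (y + 1) - 1) * e)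
    (cases : (m = y ∧ e = 1) ∨ (m = -y ∧ e = -1) ∨ (m = 1 ∧ e = y) ∨ (m = -1 ∧ e = -y))
    (hx : u + 1 = (y - 1) * x) (x8 : x % 8 = 1) (s : 1 + x + g + g' = 0)
    (e1 : I * (x * g * g' + g * g' + l ^ 2 * x * g' + l ^ 2 * x * g) =
      y ^ 2 * (y + 1) * (y + 3) * (x * g * g')) :
    y < 0 ∧ u = -y ^ 3 ∧ I = y ^ 2 * (y ^ 2 + y + 1) ∧ x = -(y ^ 2 + y + 1) ∧
      3 * (g * g') = y * (y ^ 2 + y + 1) * l ^ 2 ∧ 3 * (g - g') ^ 2 = -y * (2 * l * (y - 1)) ^ 2 := by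
  have y0 : y ≠ 0 := by omega
  have ym : y - 1 ≠ 0 := by omega
  have yp : y + 1 ≠ 0 := by omega
  have l0 : l ≠ 0 := by omega
  have x0 : x ≠ 0 := by omega
  have x1 : x = m * (y + 1) - 1 := mul_left_cancel₀ ym (by linear_combination hu - hx)
  obtain ⟨w, hw⟩ : ∃ w, y = 8 * w + 5 := ⟨y / 8, by omega⟩
  have hb : 11 ≤ y ∨ y ≤ -11 := by rcases abs_cases y with h | h <;> omega
  have s' : g' = -(1 + x + g) := by linear_combination s
  rcases cases with ⟨hm, he⟩ | ⟨hm, he⟩ | ⟨hm, he⟩ | ⟨hm, he⟩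
  · have : x = 8 * (8 * w ^ 2 + 11 * w + 3) + 5 := by rw [x1, hm, hw]; ring
    omega
  · have a1 : x = -(y ^ 2 + y + 1) := by rw [x1, hm]; ring
    have a2 : I = y ^ 2 * (y ^ 2 + y + 1) := by rw [hI, hm, he]; ring
    have a3 : 3 * (g * g') = y * (y ^ 2 + y + 1) * l ^ 2 := by
      refine mul_left_cancel₀ (mul_ne_zero (mul_ne_zero (pow_ne_zero 2 y0) yp) x0) ?_
      rw [a2, a1] at e1
      rw [a1] at s ⊢
      linear_combination (-1) * e1 - y ^ 2 * (y ^ 2 + y + 1) ^ 2 * l ^ 2 * s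
    have a4 : 3 * (g - g') ^ 2 = -y * (2 * l * (y - 1)) ^ 2 := by
      rw [a1] at s
      linear_combination 3 * (g + g' + y ^ 2 + y) * s - 4 * a3 + 3 * y ^ 2 * (y + 1 + 2 * l) * hl
    refine ⟨?_, by rw [hu, hm]; ring, a2, a1, a3, a4⟩
    by_contra hn
    have : 0 < y * (2 * l * (y - 1)) ^ 2 := by
      have : 0 < y := by omega
      positivity
    nlinarith [sq_nonneg (g - g')]
  · have : x = y := by rw [x1, hm]; ring
    omega
  · have a1 : x = -(y + 2) := by rw [x1, hm]; ring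
    have a2 : I = (y ^ 2 + y - 1) * (y + 2) * y := by rw [hI, hm, he]; ring
    have a3 : (2 * y + 1) * (g * g') = (y + 2) * (y ^ 2 + y - 1) * l ^ 2 := by
      refine mul_left_cancel₀ (mul_ne_zero (mul_ne_zero y0 yp) x0) ?_
      rw [a2, a1] at e1
      rw [a1] at s ⊢
      linear_combination (-1) * e1 - (y ^ 2 + y - 1) * (y + 2) ^ 2 * y * l ^ 2 * s
    have a4 : (2 * y + 1) * (g - g') ^ 2 =
        4 * l ^ 2 * (2 * y + 1 - (y + 2) * (y ^ 2 + y - 1)) := by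
      rw [a1] at s
      linear_combination (2 * y + 1) * (g + g' + y + 1) * s - 4 * a3 +
        (2 * y + 1) * (y + 1 + 2 * l) * hl
    have l2 : 0 < l ^ 2 := by positivity
    exfalso
    rcases hb with hb | hb
    · have : 2 * y + 1 - (y + 2) * (y ^ 2 + y - 1) < 0 := by nlinarith
      nlinarith [sq_nonneg (g - g')]
    · have : 0 < 2 * y + 1 - (y + 2) * (y ^ 2 + y - 1) := by nlinarith
      nlinarith [sq_nonneg (g - g')]

theorem quad {A B s l b D : ℤ} (h : A * (b * D) = B * l * (4 * D + b)) (hs : b + D = l * s) :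
    A * D ^ 2 + (3 * B - A * s) * l * D + B * s * l ^ 2 = 0 := by
  linear_combination -h + (A * D - B * l) * hs

theorem quad' {A B s l D : ℤ} (h : A * D ^ 2 + (3 * B - A * s) * l * D + B * s * l ^ 2 = 0) :
    (2 * A * D + (3 * B - A * s) * l) ^ 2 = l ^ 2 * ((9 * B - A * s) * (B - A * s)) := by
  linear_combination 4 * A * h

theorem quad_dvd {A B C l D c : ℤ} (hl : l ≠ 0) (h : A * D ^ 2 + B * l * D + C * l ^ 2 = 0)
    (hc : l ∣ A - c) : l ∣ c * D := by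
  obtain ⟨g, D', l', hg, cg, rfl, rfl⟩ :=
    Int.exists_gcd_one' (Int.gcd_pos_of_ne_zero_right D hl)
  have g0 : (g : ℤ) ≠ 0 := by exact_mod_cast hg.ne'
  have h1 : l' ∣ A * D' ^ 2 := ⟨-(B * D' + C * l'), mul_left_cancel₀ (pow_ne_zero 2 g0) (by
    linear_combination h)⟩
  have h2 : l' ∣ A := (Int.isCoprime_iff_gcd_eq_one.2 cg).symm.pow_right.dvd_of_dvd_mul_right h1
  have h3 := dvd_sub h2 ((dvd_mul_right l' g).trans hc)
  rw [sub_sub_cancel] at h3
  rw [← mul_assoc]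
  exact mul_dvd_mul_right (h3.mul_right D') _

theorem dvd_or {p : ℕ} (hp : p.Prime) {n : ℕ} {y a b c : ℤ} (hy : y.natAbs = p ^ n)
    (h : y ∣ a * b) (hc : a - b = c) (hpc : ¬ (p : ℤ) ∣ c) : y ∣ a ∨ y ∣ b := by
  have hp' : Prime (p : ℤ) := Nat.prime_iff_prime_int.1 hp
  have key : ∀ a : ℤ, ¬ (p : ℤ) ∣ a → IsCoprime y a := fun a ha => by
    rw [Int.isCoprime_iff_gcd_eq_one, Int.gcd, hy]
    exact (hp.coprime_iff_not_dvd.2 fun h => ha (Int.natCast_dvd.2 h)).pow_left n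
  by_cases ha : (p : ℤ) ∣ a
  · exact .inl ((key b fun hb => hpc (hc ▸ dvd_sub ha hb)).dvd_of_dvd_mul_right h)
  · exact .inr ((key a ha).dvd_of_dvd_mul_left h)

theorem patB1 {y l D : ℤ} (l0 : l ≠ 0) (big : 19 ≤ y ∨ y ≤ -19)
    (h : (7 * y ^ 2 + 4 * y - 2) * D ^ 2 + (3 * ((y ^ 2 - 2) * (y ^ 2 + y - 1)) -
      (7 * y ^ 2 + 4 * y - 2) * (y ^ 2 - y - 1)) * l * D +
      (y ^ 2 - 2) * (y ^ 2 + y - 1) * (y ^ 2 - y - 1) * l ^ 2 = 0) : False := by
  have h1 := quad' h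
  have h2 : 361 ≤ y ^ 2 := by rcases big with h | h <;> nlinarith
  have h3 : 0 < 9 * ((y ^ 2 - 2) * (y ^ 2 + y - 1)) - (7 * y ^ 2 + 4 * y - 2) * (y ^ 2 - y - 1) := by
    have a1 : 0 < 2 * y ^ 2 + 12 * y - 15 := by rcases big with h | h <;> nlinarith
    have a2 : 0 < y ^ 2 - 16 * y + 16 := by rcases big with h | h <;> nlinarith
    nlinarith [mul_pos a1 (show 0 < y ^ 2 by omega)]
  have h4 : (y ^ 2 - 2) * (y ^ 2 + y - 1) - (7 * y ^ 2 + 4 * y - 2) * (y ^ 2 - y - 1) < 0 := by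
    rcases big with h | h <;> nlinarith
  exact absurd (h1 ▸ mul_neg_of_pos_of_neg (by positivity) (mul_neg_of_pos_of_neg h3 h4))
    (not_lt.2 (sq_nonneg _))

theorem patB2 {y l D : ℤ} (l0 : l ≠ 0) (y3 : y % 9 = 0 ∨ y % 3 = 2)
    (h : 5 * D ^ 2 + (3 * (y ^ 2 + y + 1) - 5 * -(y ^ 2 - y + 1)) * l * D +
      (y ^ 2 + y + 1) * -(y ^ 2 - y + 1) * l ^ 2 = 0) : False := by
  have h1 := quad' h
  generalize 2 * 5 * D + (3 * (y ^ 2 + y + 1) - 5 * -(y ^ 2 - y + 1)) * l = X at h1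
  obtain ⟨r, rfl⟩ : 2 * l ∣ X := (Int.pow_dvd_pow_iff two_ne_zero).1
    ⟨21 * y ^ 4 - 8 * y ^ 3 + 38 * y ^ 2 - 8 * y + 21, by rw [h1]; ring⟩
  have h2 : r ^ 2 = 21 * y ^ 4 - 8 * y ^ 3 + 38 * y ^ 2 - 8 * y + 21 :=
    mul_left_cancel₀ (pow_ne_zero 2 (mul_ne_zero two_ne_zero l0)) (by linear_combination h1)
  have key : ∀ a c : ℤ, r ^ 2 = 9 * a + 3 * c → c % 3 ≠ 0 → False := fun a c e hc => by
    obtain ⟨r, rfl⟩ := Int.prime_three.dvd_of_dvd_pow (⟨3 * a + c, by rw [e]; ring⟩ : 3 ∣ r ^ 2)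
    have : 9 * r ^ 2 = 9 * a + 3 * c := by linear_combination e
    omega
  rcases y3 with e | e
  · obtain ⟨w, rfl⟩ : ∃ w, y = 9 * w := ⟨y / 9, by omega⟩
    exact key (21 * 729 * w ^ 4 - 8 * 81 * w ^ 3 + 38 * 9 * w ^ 2 - 8 * w) 7 (by rw [h2]; ring)
      (by norm_num)
  · obtain ⟨w, rfl⟩ : ∃ w, y = 3 * w - 1 := ⟨y / 3 + 1, by omega⟩
    exact key (189 * w ^ 4 - 276 * w ^ 3 + 188 * w ^ 2 - 64 * w) 32 (by rw [h2]; ring)
      (by norm_num)

theorem patB3 {p : ℕ} (hp : p.Prime) {n : ℕ} {y l D : ℤ} (hy : y.natAbs = p ^ n)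
    (hl : y + 1 = 2 * l) (y8 : y % 8 = 5) (big : 19 ≤ y ∨ y ≤ -19) (hD : D % 2 = 1)
    (h : (y ^ 2 + 7 * y + 1) * D ^ 2 + (3 * (y * (y ^ 2 - y - 1)) -
      (y ^ 2 + 7 * y + 1) * (y - 2)) * l * D + y * (y ^ 2 - y - 1) * (y - 2) * l ^ 2 = 0) :
    False := by
  have l0 : l ≠ 0 := by omega
  have neg : y ≤ -19 := big.resolve_left fun hb => by
    have h1 := quad' h
    have h3 : 0 < 9 * (y * (y ^ 2 - y - 1)) - (y ^ 2 + 7 * y + 1) * (y - 2) := by nlinarith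
    have h4 : y * (y ^ 2 - y - 1) - (y ^ 2 + 7 * y + 1) * (y - 2) < 0 := by nlinarith
    exact absurd (h1 ▸ mul_neg_of_pos_of_neg (by positivity) (mul_neg_of_pos_of_neg h3 h4))
      (not_lt.2 (sq_nonneg _))
  obtain ⟨q, rfl⟩ : ∃ q, y = -q := ⟨-y, by ring⟩
  have q19 : 19 ≤ q := by omega
  have p10 : ¬ (p : ℤ) ∣ 10 := fun e => by
    have e' : p ∣ 2 * 5 := by exact_mod_cast e
    have hq : (q : ℤ) = p ^ n := by rw [← Nat.cast_pow, ← hy]; omega
    rcases (Nat.Prime.dvd_mul hp).1 e' with e | e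
    · obtain rfl := (Nat.prime_dvd_prime_iff_eq hp Nat.prime_two).1 e
      rcases n with _ | n
      · omega
      · rw [pow_succ] at hq; omega
    · obtain rfl := (Nat.prime_dvd_prime_iff_eq hp Nat.prime_five).1 e
      have := Int.ModEq.pow n (show ((5 : ℕ) : ℤ) ≡ 1 [ZMOD 4] by decide)
      rw [one_pow, Int.ModEq] at this
      omega
  have c10 : IsCoprime (-q) 10 := by
    rw [Int.isCoprime_iff_gcd_eq_one, Int.gcd, hy]
    exact (hp.coprime_iff_not_dvd.2 fun h => p10 (Int.natCast_dvd.2 h)).pow_left n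
  obtain ⟨z, hz⟩ := quad_dvd (c := -5) l0 h ⟨2 * (6 - q), by linear_combination (6 - q) * hl⟩
  obtain ⟨J, rfl⟩ : ∃ J, z = -J - 5 * q := ⟨-z - 5 * q, by ring⟩
  have hJ : J % 2 = 0 := by
    by_contra e
    obtain ⟨a, ha⟩ : ∃ a, -J - 5 * q = 2 * a := ⟨(-J - 5 * q) / 2, by omega⟩
    rw [ha, ← mul_assoc, mul_comm l, mul_assoc] at hz
    omega
  have F : (q ^ 2 - 7 * q + 1) * J ^ 2 - 5 * (22 * q ^ 2 + 8 * q - 2) * J =
      25 * (12 * q ^ 3 + 8 * q ^ 2) := by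
    refine mul_left_cancel₀ (pow_ne_zero 2 l0) ?_
    linear_combination 25 * h - ((q ^ 2 - 7 * q + 1) * (-5 * D + l * (-J - 5 * q)) -
      5 * (3 * (-q * (q ^ 2 + q - 1)) - (q ^ 2 - 7 * q + 1) * (-q - 2)) * l) * hz
  have A0 : 0 < q ^ 2 - 7 * q + 1 := by nlinarith
  have b1 : J < 12 * q := by
    by_contra e
    have e1 : 12 * q ^ 3 - 194 * q ^ 2 - 28 * q + 10 ≤
      (q ^ 2 - 7 * q + 1) * J - 5 * (22 * q ^ 2 + 8 * q - 2) := by nlinarith
    have e2 : 0 < 12 * q ^ 3 - 194 * q ^ 2 - 28 * q + 10 := by nlinarith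
    have e3 := mul_le_mul (not_lt.1 e) e1 e2.le (by omega)
    have e4 : 0 < q ^ 3 := by positivity
    nlinarith
  have b2 : -3 * q < J := by
    by_contra e
    have e1 : 9 * q ^ 2 ≤ J ^ 2 := by nlinarith
    have e2 := mul_le_mul_of_nonneg_left e1 A0.le
    have e3 : 0 < 22 * q ^ 2 + 8 * q - 2 := by nlinarith
    have e4 := mul_le_mul_of_nonneg_left (not_lt.1 e) e3.le
    have e5 : 0 < q ^ 3 := by positivity
    nlinarith
  rcases dvd_or hp hy (a := J + 10) (b := J) ⟨q * J ^ 2 - 7 * J ^ 2 - 110 * q * J - 40 * J -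
    300 * q ^ 2 - 200 * q, by linear_combination F⟩ (by ring) p10 with ⟨w, hw⟩ | ⟨w, hw⟩
  · obtain rfl : J = -q * w - 10 := by linear_combination hw
    have w2 : w % 2 = 0 := by
      by_contra e
      obtain ⟨a, rfl⟩ : ∃ a, w = 2 * a + 1 := ⟨w / 2, by omega⟩
      rw [show -q * (2 * a + 1) - 10 = 2 * (-q * a) - q - 10 by ring] at hJ
      omega
    have w3 : -13 < w := by nlinarith
    have w4 : w < 3 := by nlinarith
    obtain ⟨v, hv⟩ : -q ∣ w - 30 := c10.dvd_of_dvd_mul_left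
      ⟨(q ^ 2 - 7 * q + 1) * w ^ 2 + 20 * (q - 7) * w + 110 * q * w + 40 * w - 300 * q + 1000,
      mul_left_cancel₀ (show q ≠ 0 by omega) (by linear_combination F)⟩
    have v2 : v % 2 = 0 := by
      by_contra e
      obtain ⟨a, rfl⟩ : ∃ a, v = 2 * a + 1 := ⟨v / 2, by omega⟩
      rw [show -q * (2 * a + 1) = 2 * (-q * a) - q by ring] at hv
      omega
    have v3 : 0 < v := by nlinarith
    have v4 : v < 3 := by nlinarith
    obtain rfl : v = 2 := by omega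
    obtain rfl : q = 19 := by omega
    obtain rfl : w = -8 := by omega
    norm_num at F
  · subst hw
    have w3 : -12 < w := by nlinarith
    have w4 : w < 3 := by nlinarith
    obtain ⟨v, hv⟩ : -q ∣ w := c10.dvd_of_dvd_mul_left
      ⟨-((q ^ 2 - 7 * q + 1) * w ^ 2 + 110 * q * w + 40 * w - 300 * q - 200),
      mul_left_cancel₀ (show q ≠ 0 by omega) (by linear_combination -F)⟩
    have v3 : -1 < v := by nlinarith
    have v4 : v < 1 := by nlinarith
    obtain rfl : v = 0 := by omega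
    rw [hv] at F
    nlinarith

theorem patB4 {p : ℕ} (hp : p.Prime) {n : ℕ} {y l D : ℤ} (hy : y.natAbs = p ^ n)
    (hl : y + 1 = 2 * l) (y8 : y % 8 = 5) (big : 19 ≤ y ∨ y ≤ -19) (hD : D % 2 = 1)
    (h : (y ^ 2 - 3 * y - 3) * D ^ 2 + (3 * -((y + 2) * (y ^ 2 + y - 1)) -
      (y ^ 2 - 3 * y - 3) * -y) * l * D + -((y + 2) * (y ^ 2 + y - 1)) * -y * l ^ 2 = 0) :
    False := by
  have l0 : l ≠ 0 := by omega
  have pos : 19 ≤ y := big.resolve_right fun hb => by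
    have h1 := quad' h
    have h3 : 0 < 9 * -((y + 2) * (y ^ 2 + y - 1)) - (y ^ 2 - 3 * y - 3) * -y := by nlinarith
    have h4 : -((y + 2) * (y ^ 2 + y - 1)) - (y ^ 2 - 3 * y - 3) * -y < 0 := by nlinarith
    exact absurd (h1 ▸ mul_neg_of_pos_of_neg (by positivity) (mul_neg_of_pos_of_neg h3 h4))
      (not_lt.2 (sq_nonneg _))
  have p6 : ¬ (p : ℤ) ∣ 6 := fun e => by
    have e' : p ∣ 2 * 3 := by exact_mod_cast e
    have hq : y = p ^ n := by rw [← Nat.cast_pow, ← hy]; omega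
    rcases (Nat.Prime.dvd_mul hp).1 e' with e | e
    · obtain rfl := (Nat.prime_dvd_prime_iff_eq hp Nat.prime_two).1 e
      rcases n with _ | n
      · omega
      · rw [pow_succ] at hq; omega
    · obtain rfl := (Nat.prime_dvd_prime_iff_eq hp Nat.prime_three).1 e
      obtain ⟨a, rfl | rfl⟩ := Nat.even_or_odd' n
      all_goals
        have := Int.ModEq.pow a (show ((3 : ℕ) : ℤ) ^ 2 ≡ 1 [ZMOD 8] by decide)
        rw [one_pow, Int.ModEq, ← pow_mul] at this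
      · omega
      · rw [pow_succ] at hq; omega
  obtain ⟨z, hz⟩ := quad_dvd (c := 1) l0 h ⟨2 * (y - 4), by linear_combination (y - 4) * hl⟩
  obtain ⟨j, rfl⟩ : ∃ j, z = y + j := ⟨z - y, by ring⟩
  rw [one_mul] at hz
  have hj : j % 2 = 0 := by
    by_contra e
    obtain ⟨a, ha⟩ : ∃ a, y + j = 2 * a := ⟨(y + j) / 2, by omega⟩
    rw [ha, ← mul_assoc, mul_comm l, mul_assoc] at hz
    omega
  subst hz
  have F : (y ^ 2 - 3 * y - 3) * j ^ 2 = (3 * y ^ 2 + 2 * y - 1) * (6 * j + 4 * y) :=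
    mul_left_cancel₀ (pow_ne_zero 2 l0) (by linear_combination h)
  have A0 : 0 < y ^ 2 - 3 * y - 3 := by nlinarith
  have B0 : 0 < 3 * y ^ 2 + 2 * y - 1 := by nlinarith
  have b1 : j < 2 * y := by
    by_contra e
    have e1 : 2 * y ^ 3 - 24 * y ^ 2 - 18 * y + 6 ≤
      (y ^ 2 - 3 * y - 3) * j - 6 * (3 * y ^ 2 + 2 * y - 1) := by nlinarith
    have e2 : 0 < 2 * y ^ 3 - 24 * y ^ 2 - 18 * y + 6 := by nlinarith
    have e3 := mul_le_mul (not_lt.1 e) e1 e2.le (by omega)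
    have e4 : 0 < y ^ 3 := by positivity
    nlinarith
  have b2 : -y < j := by
    by_contra e
    have e1 : 0 < j ^ 2 := by nlinarith
    have e2 := mul_pos A0 e1
    have e4 := mul_pos B0 (show 0 < -(6 * j + 4 * y) by omega)
    nlinarith
  have key : ∀ w i, j = y * w + i → i = 0 ∨ i = 2 → False := fun w i hw hi => by
    have w2 : w % 2 = 0 := by
      by_contra e
      obtain ⟨a, rfl⟩ : ∃ a, w = 2 * a + 1 := ⟨w / 2, by omega⟩
      rw [show y * (2 * a + 1) = 2 * (y * a) + y by ring] at hw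
      omega
    have w3 : -2 < w := by rcases hi with rfl | rfl <;> nlinarith
    have w4 : w < 2 := by rcases hi with rfl | rfl <;> nlinarith
    obtain rfl : w = 0 := by omega
    subst hw
    rcases hi with rfl | rfl <;> nlinarith
  rcases dvd_or hp hy (a := 3 * j) (b := 3 * j - 6)
    ⟨3 * (y * j ^ 2 - 3 * j ^ 2 - 18 * y * j - 12 * j - 12 * y ^ 2 - 8 * y + 4),
      by linear_combination -3 * F⟩ (by ring) p6 with hw | hw
  all_goals
    have c3 : IsCoprime y 3 := by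
      rw [Int.isCoprime_iff_gcd_eq_one, Int.gcd, hy]
      exact (hp.coprime_iff_not_dvd.2 fun h =>
        p6 ((Int.natCast_dvd.2 h).trans (by norm_num))).pow_left n
  · obtain ⟨w, hw⟩ := c3.dvd_of_dvd_mul_left hw
    exact key w 0 (by rw [hw, add_zero]) (.inl rfl)
  · obtain ⟨w, hw⟩ := c3.dvd_of_dvd_mul_left (show y ∣ 3 * (j - 2) by rwa [mul_sub])
    exact key w 2 (by linear_combination hw) (.inr rfl)

/-- Pattern B. -/
theorem patB {p : ℕ} (hp : p.Prime) {n : ℕ} {y l I u m e b c D : ℤ} (hy : y.natAbs = p ^ n)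
    (hl : y + 1 = 2 * l) (y8 : y % 8 = 5) (big : 19 ≤ |y|) (y3 : y % 3 ≠ 1)
    (hu : u = m * (y ^ 2 - 1) - y) (hI : I = (y ^ 2 - 1 - e) * (m * (y + 1) - 1) * e)
    (cases : (m = y ∧ e = 1) ∨ (m = -y ∧ e = -1) ∨ (m = 1 ∧ e = y) ∨ (m = -1 ∧ e = -y))
    (hc : 2 * c = -(u + 1)) (s : 1 + b + c + D = 0) (hD : D % 2 = 1)
    (e1 : I * (b * c * D + (2 * l) ^ 2 * c * D + (1 - l) ^ 2 * b * D + l ^ 2 * b * c) =
      y ^ 2 * (y + 1) * (y + 3) * (b * c * D)) : False := by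
  have hb : 19 ≤ y ∨ y ≤ -19 := by rcases abs_cases y with h | h <;> omega
  have y0 : y ≠ 0 := by omega
  have l0 : l ≠ 0 := by omega
  have l1 : l - 1 ≠ 0 := by omega
  have n0 : m * (y + 1) - 1 ≠ 0 := by rw [hl, mul_left_comm]; omega
  have c1 : c = -(l - 1) * (m * (y + 1) - 1) := mul_left_cancel₀ two_ne_zero (by
    linear_combination hc - hu + (m * (y + 1) - 1) * (-hl))
  have s1 : b + D = l * (m * (y - 1) - 1) := by
    linear_combination s - c1 + m * (-hl)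
  have Q : (y ^ 2 - 1 - e) * e * ((2 * m - 1) * (b * D) + (m * (y + 1) - 1) * l * (4 * D + b)) =
      2 * y ^ 2 * (y + 3) * (b * D) := by
    refine mul_left_cancel₀ (mul_ne_zero (mul_ne_zero l0 l1) n0) ?_
    rw [hI, c1] at e1
    obtain rfl : y = 2 * l - 1 := by linear_combination hl
    linear_combination -e1
  rcases cases with ⟨hm, he⟩ | ⟨hm, he⟩ | ⟨hm, he⟩ | ⟨hm, he⟩ <;> rw [hm] at s1 <;>
    rw [hm, he] at Q
  · exact patB1 (D := D) l0 hb (quad (b := b) (by linear_combination -Q) (by linear_combination s1))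
  · refine patB2 (y := y) (D := D) l0 ?_ (quad (b := b) (mul_left_cancel₀ (pow_ne_zero 2 y0)
      (by linear_combination -Q)) (by linear_combination s1))
    by_contra hn
    have h3 : 3 ∣ p ^ n := by omega
    obtain rfl := (Nat.prime_dvd_prime_iff_eq Nat.prime_three hp).1
      (Nat.prime_three.dvd_of_dvd_pow h3)
    rcases n with _ | _ | n
    · omega
    · omega
    · rw [pow_succ, pow_succ] at hy; omega
  · exact patB3 hp hy hl y8 hb hD (quad (b := b) (mul_left_cancel₀ y0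
      (by linear_combination -Q)) (by linear_combination s1))
  · exact patB4 hp hy hl y8 hb hD (quad (b := b) (mul_left_cancel₀ y0
      (by linear_combination Q)) (by linear_combination s1))

/-- The third virtual character in pattern B. -/
theorem patB0 {y l I u c e : ℤ} (hl : y + 1 = 2 * l) (l1 : 1 - l ≠ 0) (hI : I ≠ 0) (hu : u ≠ 0)
    (e1 : I * (u + y) ^ 2 = y * (y - 1) * (y + 1) ^ 2 * (u * (u + 1))) (s : 1 + c + u + e = 0)
    (e3 : I * (c * u * e + (1 - l) ^ 2 * u * e + y ^ 2 * c * e + (1 - l) ^ 2 * c * u) =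
      y * (y - 1) * (y + 1) ^ 2 * (c * u * e)) : 2 * c = -(u + 1) := by
  obtain rfl : e = -(1 + c + u) := by linear_combination s
  obtain rfl : y = 2 * l - 1 := by linear_combination hl
  have : I * u ^ 2 * (1 - l) ^ 2 * (2 * c + (u + 1)) ^ 2 = 0 := by
    linear_combination (-u) * (u + 1) * e3 + u * c * (1 + c + u) * (-e1)
  have := (mul_eq_zero.1 this).resolve_left
    (mul_ne_zero (mul_ne_zero hI (pow_ne_zero 2 hu)) (pow_ne_zero 2 l1))
  linear_combination pow_eq_zero_iff two_ne_zero |>.1 this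

end Cfsg.Agent.P7.J5
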