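/-
The lattice combinatorics of section J5.
-/
import Mathlib.Tactic

set_option autoImplicit false

namespace Cfsg.Agent.P7.J5

variable {V : Type*} [AddCommGroup V]

/-- A positive definite integral lattice generated by an orthonormal family, with a degree map. -/
structure Lt (b : V →+ V →+ ℤ) (d : V →+ ℤ) : Prop where
  symm : ∀ x y, b x y = b y x
  pos : ∀ x, 0 ≤ b x x
  defn : ∀ x, b x x = 0 → x = 0
  two : ∀ x, b x x = 2 → ∃ y z, b y y = 1 ∧ b z z = 1 ∧ b y z = 0 ∧ x = y + z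
  deg : ∀ x, b x x = 1 → d x ≠ 0

namespace Lt

variable {b : V →+ V →+ ℤ} {d : V →+ ℤ} (h : Lt b d)
include h

theorem sq_le {v x : V} (hx : b x x = 1) : b x v ^ 2 ≤ b v v := by
  have := h.pos (v - b x v • x)
  simp only [map_sub, map_zsmul, AddMonoidHom.sub_apply, AddMonoidHom.smul_apply, smul_eq_mul,
    hx, h.symm v x] at this
  linarith

theorem tri {v x : V} (hx : b x x = 1) (hv : b v v ≤ 3) : -1 ≤ b x v ∧ b x v ≤ 1 := by
  have := h.sq_le (v := v) hx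
  constructor <;> nlinarith

theorem cases {x y : V} (hx : b x x = 1) (hy : b y y = 1) : x = y ∨ x = -y ∨ b x y = 0 := by
  have := h.tri hx (v := y) (by omega)
  rcases (by omega : b x y = 1 ∨ b x y = -1 ∨ b x y = 0) with e | e | e
  · exact .inl (sub_eq_zero.1 (h.defn _ (by simp [hx, hy, h.symm y x, e])))
  · exact .inr (.inl (eq_neg_of_add_eq_zero_left (h.defn _ (by simp [hx, hy, h.symm y x, e]))))
  · exact .inr (.inr e)

theorem orth {x y v : V} (hx : b x x = 1) (hy : b y y = 1) (h1 : b x v ≠ 0) (h2 : b y v = 0) :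
    b x y = 0 := by
  rcases h.cases hx hy with rfl | rfl | e
  · exact absurd h2 h1
  · simp [h2] at h1
  · exact e

theorem theta {θ₁ θ₂ θ₃ : V} (n1 : b θ₁ θ₁ = 2) (n2 : b θ₂ θ₂ = 2) (n3 : b θ₃ θ₃ = 2)
    (p12 : b θ₁ θ₂ = 1) (p13 : b θ₁ θ₃ = 1) (p23 : b θ₂ θ₃ = 1) (d1 : d θ₁ = -1) (d2 : d θ₂ = -1)
    (d3 : d θ₃ = -1) : ∃ U, b U U = 1 ∧ b U θ₁ = 1 ∧ b U θ₂ = 1 ∧ b U θ₃ = 1 := by
  obtain ⟨U, u0, u1, u2⟩ : ∃ U, b U U = 1 ∧ b U θ₁ = 1 ∧ b U θ₂ = 1 := by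
    obtain ⟨y, z, hy, hz, yz, rfl⟩ := h.two _ n1
    have a1 := h.tri hy (v := θ₂) (by omega)
    have a2 := h.tri hz (v := θ₂) (by omega)
    simp only [map_add, AddMonoidHom.add_apply] at p12
    by_cases e : b y θ₂ = 1
    · exact ⟨y, hy, by simp [hy, yz], e⟩
    · exact ⟨z, hz, by simp [hz, h.symm z y, yz], by omega⟩
  refine ⟨U, u0, u1, u2, ?_⟩
  have a1 := h.tri u0 (v := θ₃) (by omega)
  have s1 := h.symm θ₁ U
  have s2 := h.symm θ₂ U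
  have s3 := h.symm θ₃ U
  have s12 := h.symm θ₂ θ₁
  have s13 := h.symm θ₃ θ₁
  have s23 := h.symm θ₃ θ₂
  have a2 := h.pos (θ₃ + U + U - θ₁ - θ₂)
  have a3 := h.defn (θ₃ + U + U - θ₁ - θ₂)
  simp only [map_add, map_sub, AddMonoidHom.add_apply, AddMonoidHom.sub_apply] at a2 a3
  by_contra e
  have a4 := congrArg d (a3 (by omega))
  simp only [map_add, map_sub, map_zero] at a4
  omega

variable {β₁ β₂ β₃ : V}

/-- A unit vector with prescribed multiplicities. -/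
def Dv (b : V →+ V →+ ℤ) (β₁ β₂ β₃ x : V) (i j k : ℤ) : Prop :=
  b x x = 1 ∧ b x β₁ = i ∧ b x β₂ = j ∧ b x β₃ = k

theorem dU (n1 : b β₁ β₁ = 3) (n2 : b β₂ β₂ = 3) (n3 : b β₃ β₃ = 3) (p13 : b β₁ β₃ = 1)
    {θ₁ θ₂ θ₃ U : V} (m1 : b θ₁ θ₁ = 2) (m2 : b θ₂ θ₂ = 2) (m3 : b θ₃ θ₃ = 2)
    (q12 : b θ₁ θ₂ = 1) (q13 : b θ₁ θ₃ = 1) (q23 : b θ₂ θ₃ = 1)
    (u : b U U = 1 ∧ b U θ₁ = 1 ∧ b U θ₂ = 1 ∧ b U θ₃ = 1)
    (c1 : ∀ θ, θ = θ₁ ∨ θ = θ₂ ∨ θ = θ₃ → b θ β₁ = 0 ∧ b θ β₂ = 0 ∧ b θ β₃ = 1) :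
    Dv b β₁ β₂ β₃ U 0 0 1 := by
  obtain ⟨u0, u1, u2, u3⟩ := u
  obtain ⟨a1, a2, a3⟩ := c1 θ₁ (.inl rfl)
  obtain ⟨a4, a5, a6⟩ := c1 θ₂ (.inr (.inl rfl))
  obtain ⟨a7, a8, a9⟩ := c1 θ₃ (.inr (.inr rfl))
  have key : ∀ (β : V) (c e : ℤ), b (β - c • U - e • (U + U + U - θ₁ - θ₂ - θ₃))
      (β - c • U - e • (U + U + U - θ₁ - θ₂ - θ₃)) = b β β - 2 * c * b U β -
      2 * e * (3 * b U β - b θ₁ β - b θ₂ β - b θ₃ β) + c ^ 2 + 3 * e ^ 2 := fun β c e => by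
    simp only [map_add, map_sub, map_zsmul, AddMonoidHom.add_apply, AddMonoidHom.sub_apply,
      AddMonoidHom.smul_apply, smul_eq_mul, h.symm β U, h.symm β θ₁, h.symm β θ₂, h.symm β θ₃,
      h.symm θ₁ U, h.symm θ₂ U, h.symm θ₃ U, h.symm θ₂ θ₁, h.symm θ₃ θ₁, h.symm θ₃ θ₂, u0, u1,
      u2, u3, m1, m2, m3, q12, q13, q23]
    ring
  have z1 : b U β₁ = 0 := by
    have := h.pos (β₁ - b U β₁ • U - b U β₁ • (U + U + U - θ₁ - θ₂ - θ₃))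
    rw [key, n1, a1, a4, a7] at this
    nlinarith
  have z2 : b U β₂ = 0 := by
    have := h.pos (β₂ - b U β₂ • U - b U β₂ • (U + U + U - θ₁ - θ₂ - θ₃))
    rw [key, n2, a2, a5, a8] at this
    nlinarith
  refine ⟨u0, z1, z2, ?_⟩
  have t3 := h.tri u0 n3.le
  have k1 := h.pos (β₃ - b U β₃ • U - (b U β₃ - 1) • (U + U + U - θ₁ - θ₂ - θ₃))
  have k2 := h.defn (β₃ - b U β₃ • U - (b U β₃ - 1) • (U + U + U - θ₁ - θ₂ - θ₃))
  rw [key, n3, a3, a6, a9] at k1 k2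
  rcases (by omega : b U β₃ = 1 ∨ b U β₃ = -1 ∨ b U β₃ = 0) with e | e | e
  · exact e
  · rw [e] at k1; omega
  · rw [e] at k2
    have := congrArg (b β₁) (k2 (by norm_num))
    simp only [map_add, map_sub, map_zsmul, smul_eq_mul, h.symm β₁ U, h.symm β₁ θ₁, h.symm β₁ θ₂,
      h.symm β₁ θ₃, map_zero] at this
    omega

theorem split {β x : V} (n : b β β = 3) (hx : b x x = 1) (e : b x β = 1) :
    ∃ y z, b y y = 1 ∧ b z z = 1 ∧ b y z = 0 ∧ b y x = 0 ∧ b z x = 0 ∧ b y β = 1 ∧ b z β = 1 ∧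
      β = x + y + z := by
  obtain ⟨y, z, hy, hz, yz, e1⟩ := h.two (β - x) (by simp [n, hx, e, h.symm β x])
  have e2 : β = x + y + z := by rw [add_assoc, ← e1]; abel
  have e3 : b x y + b x z = 0 := by rw [← map_add, ← e1]; simp [hx, e]
  have e4 : b y x = 0 := by
    rcases h.cases hy hx with rfl | rfl | e'
    · omega
    · simp [hx] at yz e3; omega
    · exact e'
  have e5 : b z x = 0 := by rw [h.symm z, ← e3, h.symm x y, e4, zero_add]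
  exact ⟨y, z, hy, hz, yz, e4, e5, by simp [e2, e4, hy, yz], by simp [e2, e5, hz, h.symm z y, yz],
    e2⟩

theorem patterns (n1 : b β₁ β₁ = 3) (n2 : b β₂ β₂ = 3) (n3 : b β₃ β₃ = 3) (p12 : b β₁ β₂ = 1)
    (p13 : b β₁ β₃ = 1) (p23 : b β₂ β₃ = 1) (d12 : d β₁ = d β₂) {U : V}
    (hU : Dv b β₁ β₂ β₃ U 0 0 1) :
    (∃ X Z g g', β₃ = X + U + Z ∧ β₁ = X + g + g' ∧ Dv b β₁ β₂ β₃ X 1 1 1 ∧
      Dv b β₁ β₂ β₃ Z 0 0 1 ∧ Dv b β₁ β₂ β₃ g 1 0 0 ∧ Dv b β₁ β₂ β₃ g' 1 0 0) ∨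
    ∃ c e a D, β₃ = c + U + e ∧ β₁ = a + c + D ∧ Dv b β₁ β₂ β₃ c 1 0 1 ∧
      Dv b β₁ β₂ β₃ e 0 1 1 ∧ Dv b β₁ β₂ β₃ a 1 1 0 ∧ Dv b β₁ β₂ β₃ D 1 0 0 := by
  obtain ⟨u0, u1, u2, u3⟩ := hU
  obtain ⟨x, z, hx, hz, x3, z3, x1, z1, e⟩ : ∃ x z, b x x = 1 ∧ b z z = 1 ∧ b x β₃ = 1 ∧
      b z β₃ = 1 ∧ b x β₁ = 1 ∧ b z β₁ = 0 ∧ β₃ = x + U + z := by
    obtain ⟨y, z, hy, hz, -, -, -, y3, z3, e⟩ := h.split n3 u0 u3
    have a1 := h.tri hy n1.le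
    have a2 := h.tri hz n1.le
    rw [h.symm, e] at p13
    simp only [map_add, AddMonoidHom.add_apply] at p13
    by_cases e' : b y β₁ = 1
    · exact ⟨y, z, hy, hz, y3, z3, e', by omega, by rw [e]; abel⟩
    · exact ⟨z, y, hz, hy, z3, y3, by omega, by omega, by rw [e]; abel⟩
  obtain ⟨g, g', hg, hg', gg', gx, gx', g1, g1', e1⟩ := h.split n1 hx x1
  have k3 : ∀ g, b g g = 1 → b g x = 0 → b g β₁ = 1 → b g β₃ = 0 := fun g hg gx g1 => by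
    rw [e, map_add, map_add, gx, h.orth hg u0 (by omega) u1, h.orth hg hz (by omega) z1]
    rfl
  have g3 := k3 g hg gx g1
  have g3' := k3 g' hg' gx' g1'
  have a1 := h.tri hx n2.le
  have a2 := h.tri hz n2.le
  have a3 := h.tri hg n2.le
  have a4 := h.tri hg' n2.le
  have a5 : b x β₂ + b z β₂ = 1 := by
    rw [h.symm, e] at p23
    simp only [map_add, AddMonoidHom.add_apply] at p23
    omega
  have a6 : b x β₂ + b g β₂ + b g' β₂ = 1 := by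
    rw [e1] at p12
    simpa only [map_add, AddMonoidHom.add_apply] using p12
  by_cases x2 : b x β₂ = 1
  · have k2 : ∀ g g', b g g = 1 → b g' g' = 1 → b g g' = 0 → b g x = 0 → b g' x = 0 →
        β₁ = x + g + g' → b g β₂ = 1 → b g' β₂ = -1 → False := fun g g' hg hg' gg' gx gx' e1 i j => by
      have := congrArg d (h.defn (β₂ - (x + g - g')) (by
        simp only [map_add, map_sub, AddMonoidHom.add_apply, AddMonoidHom.sub_apply,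
          h.symm β₂ x, h.symm β₂ g, h.symm β₂ g', h.symm x g, h.symm x g', h.symm g' g]
        omega))
      rw [e1] at d12
      simp only [map_add, map_sub, map_zero] at this d12
      exact h.deg g' hg' (by omega)
    have g2 : b g β₂ = 0 := by
      by_contra hn
      by_cases i : b g β₂ = 1
      · exact k2 g g' hg hg' gg' gx gx' e1 i (by omega)
      · exact k2 g' g hg' hg (by rwa [h.symm]) gx' gx (by rw [e1]; abel) (by omega) (by omega)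
    exact .inl ⟨x, z, g, g', e, e1, ⟨hx, x1, x2, x3⟩, ⟨hz, z1, by omega, z3⟩, ⟨hg, g1, g2, g3⟩,
      ⟨hg', g1', by omega, g3'⟩⟩
  · by_cases i : b g β₂ = 1
    · exact .inr ⟨x, z, g, g', e, by rw [e1]; abel, ⟨hx, x1, by omega, x3⟩,
        ⟨hz, z1, by omega, z3⟩, ⟨hg, g1, i, g3⟩, ⟨hg', g1', by omega, g3'⟩⟩
    · exact .inr ⟨x, z, g', g, e, by rw [e1]; abel, ⟨hx, x1, by omega, x3⟩,
        ⟨hz, z1, by omega, z3⟩, ⟨hg', g1', by omega, g3'⟩, ⟨hg, g1, by omega, g3⟩⟩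

end Lt

end Cfsg.Agent.P7.J5
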