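/-
General character theory for section J5.
-/
import Cfsg.Agent.P5.CharMain
import Cfsg.Agent.P1.Block
import Cfsg.Agent.FT.P.CH2_2
import Cfsg.Agent.P7.J5L

set_option autoImplicit false

namespace Cfsg.Agent.P7.J5

open Subgroup Cfsg Cfsg.Agent Cfsg.Agent.FT
open Cfsg.Agent.P5 (tw th tw_apply th_pos th_neg inv_eq_of_sq)
open scoped ComplexConjugate

universe u

variable {G : Type u} [Group G] [Finite G]

/-- A character of `r`-defect zero vanishes on the `r`-singular elements. -/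
theorem vanish_of_defect_zero {r : ℕ} (hr : r.Prime) {H : Subgroup G} {χ : G → ℂ}
    (hχ : χ ∈ Irr H) (hd : ∃ m, 𝐨(H) = dg χ * m ∧ m.Coprime r) {g : G} (hg : r ∣ orderOf g) :
    χ g = 0 := by
  have := Fintype.ofFinite G
  obtain ⟨B, hv⟩ := P1.exists_val hr
  obtain ⟨m, hm, hc⟩ := hd
  have h0 := irr_one_ne_zero hχ
  have hE : P5.idem H (star χ) ∈ P1.ZL B.valuation H := by
    refine P1.mem_ZL.2 ⟨?_, fun g => ?_⟩
    · rw [P5.idem, P1.coeff_toA]
      exact Submodule.smul_mem _ _ (star_mem_CF (star_mem_CF (irr_mem_CF hχ)))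
    · rw [P5.idem, P1.coeff_toA, Pi.smul_apply, smul_eq_mul, star_star]
      refine P1.val_mul_le ?_ (P5.val_le_of_isIntegral _ ((irr_isChar hχ).isIntegral g))
      rw [(irr_isChar hχ).star_one, hm, Nat.cast_mul, ← irr_one_eq hχ, div_mul_cancel_left₀ h0,
        map_inv₀, P1.val_nat_eq_one hv hc, inv_one]
  have hs := star_mem_Irr hχ
  have hEE : P5.idem H (star χ) * P5.idem H (star χ) = P5.idem H (star χ) :=
    P1.eq_of_om (P1.mem_ZL.1 (mul_mem hE hE)).1 (P1.mem_ZL.1 hE).1 fun φ hφ => by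
      rw [P1.om_mul hφ (P1.mem_ZL.1 hE).1, P5.om_idem hs hφ]
      split_ifs <;> simp
  have := P1.weak_orth hr hv hE hEE (x := 1) (by simp) hg
  rw [Finset.sum_eq_single χ (fun φ hφ hne => by
    rw [P5.om_idem hs (star_mem_Irr hφ), if_neg (mt star_injective.eq_iff.1 hne), zero_mul])
    (fun e => absurd hχ e), P5.om_idem hs hs, if_pos rfl, one_mul] at this
  exact (mul_eq_zero.1 this).resolve_right h0

/-- Induction computed on a family of coset representatives. -/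
theorem ind_fam {ι : Type*} {X H : Subgroup G} (hH : H ≤ X) (S : Finset ι) (r : ι → G)
    (hr : ∀ i ∈ S, r i ∈ X) (inj : ∀ i ∈ S, ∀ j ∈ S, (r i)⁻¹ * r j ∈ H → i = j) {α : G → ℂ}
    (hα : α ∈ CF H) {g : G} (hg : g ∈ X)
    (cov : ∀ x ∈ X, α (x⁻¹ * g * x) ≠ 0 → ∃ i ∈ S, (r i)⁻¹ * x ∈ H) :
    ind X H α g = ∑ i ∈ S, α ((r i)⁻¹ * g * r i) := by
  rw [ind_of_mem _ _ hg, res_of_mem_CF hα, ← Finset.sum_of_injOn (s := S ×ˢ fs (H : Set G))
    (f := fun x => α ((r x.1)⁻¹ * g * r x.1)) (fun x => r x.1 * x.2), Finset.sum_product,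
    Finset.mul_sum]
  · refine Finset.sum_congr rfl fun i _ => ?_
    rw [sum_fs_const H (α ((r i)⁻¹ * g * r i)), nsmul_eq_mul,
      inv_mul_cancel_left₀ (card_ne_zero_C _)]
  · rintro ⟨i, a⟩ h1 ⟨j, b⟩ h2 e
    simp only [Finset.coe_product, Set.mem_prod, Finset.mem_coe, mem_fs, SetLike.mem_coe] at h1 h2
    obtain rfl := inj i h1.1 j h2.1 (by
      rw [show r j = r i * a * b⁻¹ from eq_mul_inv_of_mul_eq e.symm, mul_assoc,
        inv_mul_cancel_left]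
      exact mul_mem h1.2 (inv_mem h2.2))
    exact congrArg _ (mul_left_cancel e)
  · rintro ⟨i, a⟩ h1
    simp only [Finset.coe_product, Set.mem_prod, Finset.mem_coe, mem_fs, SetLike.mem_coe] at h1 ⊢
    exact mul_mem (hr i h1.1) (hH h1.2)
  · intro x hx hn
    by_contra e
    obtain ⟨i, hi, h1⟩ := cov x (mem_fs.1 hx) e
    exact hn ⟨(i, (r i)⁻¹ * x), by simpa using ⟨hi, h1⟩, mul_inv_cancel_left _ _⟩
  · rintro ⟨i, a⟩ h1
    rw [← CF_conj' hα (mem_fs.1 (Finset.mem_product.1 h1).2)]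
    congr 1
    group

/-- The sum of `θ` over the products of two conjugates of `x`. -/
noncomputable def pr (X : Subgroup G) (x : G) : (G → ℂ) →ₗ[ℂ] ℂ where
  toFun θ := ∑ j ∈ fs (classSupp {x} X), ∑ j' ∈ fs (classSupp {x} X), θ (j * j')
  map_add' θ θ' := by simp [Finset.sum_add_distrib]
  map_smul' c θ := by simp [Finset.mul_sum]

theorem pr_apply (X : Subgroup G) (x : G) (θ : G → ℂ) :
    pr X x θ = ∑ j ∈ fs (classSupp {x} X), ∑ j' ∈ fs (classSupp {x} X), θ (j * j') := rfl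

theorem pr_dirr {X : Subgroup G} {x : G} (hx : x ∈ X) {χ : G → ℂ} (hχ : Dirr X χ) :
    pr X x χ = (𝐂[x].relIndex X : ℂ) ^ 2 * (χ x ^ 2 / χ 1) := by
  have key : ∀ χ ∈ Irr X, pr X x χ = (𝐂[x].relIndex X : ℂ) ^ 2 * (χ x ^ 2 / χ 1) := fun χ hχ => by
    have e3 := P5.Hyp.sum_sum_class X x χ
    have c2 : (𝐨((X ⊓ 𝐂[x] : Subgroup G)) : ℂ) * 𝐂[x].relIndex X = 𝐨(X) := by
      rw [← inf_relIndex_left]
      exact_mod_cast H1.card_mul_relIndex (inf_le_left : X ⊓ 𝐂[x] ≤ X)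
    rw [P5.Hyp.sum_sum_irr hχ hx, ← c2, mul_pow, mul_assoc] at e3
    exact (mul_left_cancel₀ (pow_ne_zero 2 (card_ne_zero_C _)) e3).symm
  obtain ⟨ε, hε, ψ, hψ, rfl⟩ := hχ.exists_sign
  rw [map_smul, key ψ hψ]
  rcases hε with rfl | rfl <;> simp [div_neg]

theorem pr_ind (N : Subgroup G) (x : G) (α : G → ℂ) :
    pr ⊤ x (ind ⊤ N α) = N.index * pr ⊤ x (res N α) := by
  have e1 : ∀ g : G, ∑ j ∈ fs (classSupp {x} ⊤), ∑ j' ∈ fs (classSupp {x} ⊤),
      res N α (g⁻¹ * (j * j') * g) = pr ⊤ x (res N α) := fun g => by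
    have h1 := fun y => conj_mem_classSupp_iff (A := {x}) (X := ⊤) (y := y) (mem_top g⁻¹)
    rw [pr_apply, ← sum_fs_conj_set h1 fun j => ∑ j' ∈ fs (classSupp {x} ⊤), res N α (j * j')]
    refine sum_fs_congr fun j _ => ?_
    rw [← sum_fs_conj_set h1 fun j' => res N α (g⁻¹ * j * g⁻¹⁻¹ * j')]
    refine sum_fs_congr fun j' _ => ?_
    congr 1
    group
  rw [pr_apply, sum_fs_congr fun j _ => sum_fs_congr fun j' _ => ind_of_mem _ _ (mem_top _)]
  simp only [← Finset.mul_sum]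
  rw [sum_fs_congr fun j _ => Finset.sum_comm, Finset.sum_comm, sum_fs_congr fun g _ => e1 g,
    sum_fs_const, nsmul_eq_mul, card_top, ← N.card_mul_index, Nat.cast_mul, mul_assoc,
    inv_mul_cancel_left₀ (card_ne_zero_C _)]

theorem dirr_dvd {χ : G → ℂ} (hχ : Dirr ⊤ χ) {x : G} {n m : ℤ} (h1 : χ 1 = n) (hx : χ x = m) :
    n ∣ (𝐂[x].index : ℤ) * m := by
  have h0 := hχ.one_ne_zero
  have key : IsIntegral ℤ ((𝐂[x].index : ℂ) * χ x / χ 1) := by
    obtain ⟨ε, hε, ψ, hψ, rfl⟩ := hχ.exists_sign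
    have := irr_central_isIntegral hψ (mem_top x)
    rw [relIndex_top_right] at this
    rcases hε with rfl | rfl <;> simpa [neg_div_neg_eq] using this
  rw [h1, hx] at key
  rw [h1, Int.cast_ne_zero] at h0
  have h2 : IsIntegral ℤ (((𝐂[x].index : ℤ) * m : ℤ) / n : ℚ) :=
    (isIntegral_algebraMap_iff (algebraMap ℚ ℂ).injective).1 (by simpa using key)
  obtain ⟨c, hc⟩ := IsIntegrallyClosed.isIntegral_iff.1 h2
  rw [eq_div_iff (Int.cast_ne_zero.2 h0)] at hc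
  rw [eq_intCast] at hc
  exact ⟨c, by rw [mul_comm n]; exact_mod_cast hc.symm⟩

theorem mod_card {S : Subgroup G} {t : G} (hS : ∀ x ∈ S, x ≠ 1 → IsConj t x) {χ : G → ℂ}
    (hχ : χ ∈ VChar ⊤) {n m : ℤ} (h1 : χ 1 = n) (ht : χ t = m) : (𝐨(S) : ℤ) ∣ n - m := by
  obtain ⟨c, hc⟩ := vchar_ip_int (vchar_res le_top hχ) (cf1_mem_VChar S)
  have h2 : ∑ x ∈ fs (S : Set G), (χ x - m) = n - m := by
    rw [sum_fs_sharp, h1, Finset.sum_eq_zero, add_zero]
    intro x hx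
    obtain ⟨g, rfl⟩ := isConj_iff.1 (hS x (mem_fs.1 hx).1 (mem_fs.1 hx).2)
    rw [CF_conj (vchar_mem_CF hχ) (mem_top g), ht, sub_self]
  rw [ip_res_left, ip_cf1_right, inv_mul_eq_iff_eq_mul₀ (card_ne_zero_C _)] at hc
  rw [Finset.sum_sub_distrib, hc, sum_fs_const, nsmul_eq_mul] at h2
  exact ⟨c - m, Int.cast_injective (α := ℂ) (by push_cast; linear_combination -h2)⟩

/-- The integral form on virtual characters. -/
theorem exists_lt (X : Subgroup G) : ∃ (b : VChar X →+ VChar X →+ ℤ) (d : VChar X →+ ℤ),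
    Lt b d ∧ (∀ φ ψ, ip X φ.1 ψ.1 = b φ ψ) ∧ ∀ φ, φ.1 1 = d φ := by
  choose b hb using fun φ ψ : VChar X => vchar_ip_int φ.2 ψ.2
  choose d hd using fun φ : VChar X => vchar_one_int φ.2
  have ci := Int.cast_injective (α := ℂ)
  have one : ∀ φ : G → ℂ, (hφ : Dirr X φ) → b ⟨φ, hφ.mem_VChar⟩ ⟨φ, hφ.mem_VChar⟩ = 1 :=
    fun φ hφ => ci (by rw [← hb, Int.cast_one]; exact hφ.ip_self)
  let B : VChar X →+ VChar X →+ ℤ := AddMonoidHom.mk' (fun φ => AddMonoidHom.mk' (b φ) fun ψ ψ' =>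
    ci (by rw [Int.cast_add, ← hb, ← hb, ← hb, Submodule.coe_add, ip_add_right])) fun φ φ' =>
    AddMonoidHom.ext fun ψ => ci (show (b (φ + φ') ψ : ℂ) = (b φ ψ + b φ' ψ : ℤ) by
      rw [Int.cast_add, ← hb, ← hb, ← hb, Submodule.coe_add, ip_add_left])
  have hB : ∀ φ ψ, B φ ψ = b φ ψ := fun _ _ => rfl
  let D : VChar X →+ ℤ := AddMonoidHom.mk' d fun φ φ' =>
    ci (by rw [Int.cast_add, ← hd, ← hd, ← hd, Submodule.coe_add, Pi.add_apply])
  have hD : ∀ φ, D φ = d φ := fun _ => rfl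
  refine ⟨B, D, ⟨fun φ ψ => ?_, fun φ => ?_, fun φ h => ?_, fun φ h => ?_, fun φ h e => ?_⟩, hb, hd⟩
  · rw [hB, hB]
    exact ci (by rw [← hb, ← hb, vchar_ip_comm φ.2 ψ.2])
  · have := nsq_nonneg X φ.1
    rw [nsq_eq_of_ip (r := b φ φ) (by rw [hb]; simp)] at this
    rw [hB]
    exact_mod_cast this
  · rw [hB] at h
    exact Subtype.ext (eq_zero_of_nsq (vchar_mem_CF φ.2) (nsq_eq_of_ip (by rw [hb, h]; simp)))
  · classical
    rw [hB] at h
    obtain ⟨E, h5, h6, h7, h8⟩ := vchar_small_norm φ.2 (n := 2) (nsq_eq_of_ip (by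
      rw [hb, h]; simp)) (by norm_num)
    obtain ⟨α, β, hne, rfl⟩ := Finset.card_eq_two.mp h5
    rw [Finset.sum_pair hne] at h8
    have hα := h6 α (by simp)
    have hβ := h6 β (by simp)
    refine ⟨⟨α, hα.mem_VChar⟩, ⟨β, hβ.mem_VChar⟩, one α hα, one β hβ, ?_, Subtype.ext h8⟩
    rw [hB]
    exact ci (by rw [← hb, Int.cast_zero]; exact h7.2 α (by simp) β (by simp) hne)
  · rw [hB] at h
    rw [hD] at e
    refine (dirr_of_nsq_one φ.2 (nsq_eq_of_ip ?_)).one_ne_zero ?_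
    · rw [hb, h]; simp
    · rw [hd, e]; simp

/-- `H = H₀ × ⟨t⟩`. -/
structure Half (H H₀ : Subgroup G) (t : G) : Prop where
  tt : t * t = 1
  le : H₀ ≤ H
  tH : t ∈ H
  nt : t ∉ H₀
  cent : H ≤ 𝐂[t]
  cover : ∀ g ∈ H, g ∈ H₀ ∨ g * t ∈ H₀

namespace Half

variable {H H₀ : Subgroup G} {t : G} (h : Half H H₀ t)
include h

omit [Finite G] in
theorem mtt (g : G) : g * t * t = g := by rw [mul_assoc, h.tt, mul_one]

omit [Finite G] in
theorem not_mul {g : G} (hg : g ∈ H₀) : g * t ∉ H₀ := fun e =>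
  h.nt ((mul_mem_cancel_left hg).1 e)

omit [Finite G] in
theorem comm {g : G} (hg : g ∈ H) : Commute t g := mem_cent1.1 (h.cent hg)

omit [Finite G] in
theorem norm : H ≤ 𝐍(H₀) := fun g hg => by
  rcases h.cover g hg with e | e
  · exact le_norm_self _ e
  · rw [← h.mtt g]
    exact mul_mem (le_norm_self _ e) (cent_le_norm _ (mem_centralizer_iff.2 fun x hx =>
      (h.comm (h.le hx)).eq.symm))

theorem sum {M : Type*} [AddCommMonoid M] (F : G → M) :
    ∑ g ∈ fs (H : Set G), F g = ∑ u ∈ fs (H₀ : Set G), (F u + F (u * t)) := by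
  rw [sum_fs_diff (A := H₀) h.le, Finset.sum_add_distrib, sum_fs_bij (A := H₀) (B := H \ H₀)
    (· * t) ⟨fun g hg => ⟨mul_mem (h.le hg) h.tH, h.not_mul hg⟩, fun g _ g' _ e => by simpa using e,
    fun g hg => ⟨g * t, (h.cover g hg.1).resolve_left hg.2, h.mtt g⟩⟩]

theorem card : 𝐨(H) = 2 * 𝐨(H₀) := by
  have := h.sum fun _ => 1
  rwa [sum_fs_const, sum_fs_const, smul_eq_mul, smul_eq_mul, mul_one, mul_comm] at this

theorem tw_vchar {φ : G → ℂ} (hφ : φ ∈ VChar H) : tw H₀ t φ ∈ VChar H₀ := by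
  have key : ∀ ψ, IsChar H ψ → tw H₀ t ψ ∈ VChar H₀ := fun ψ hψ => by
    have := sub_mem (P5.isChar_half h.tH h.tt h.cent h.le hψ (.inl rfl)).mem_VChar
      (P5.isChar_half h.tH h.tt h.cent h.le hψ (.inr rfl)).mem_VChar
    convert this using 1
    module
  obtain ⟨χ, ψ, h1, h2, rfl⟩ := vchar_eq_sub hφ
  have := sub_mem (key χ h1) (key ψ h2)
  rwa [tw, tw, ← map_sub] at this

theorem ip_th (φ α : G → ℂ) : ip H φ ((2 : ℂ) • th H₀ t α) = ip H₀ (tw H₀ t φ) α := by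
  rw [ip_smul_right, ip_def, ip_def, h.sum, h.card, sum_fs_congr
    (g := fun u => tw H₀ t φ u * conj (α u)) fun u hu => by
      rw [th_neg α (h.not_mul hu), th_pos α (g := u * t) (by rwa [h.mtt]), h.mtt, tw_apply t φ hu]
      simp]
  have := card_ne_zero_C H₀
  rw [show (starRingEnd ℂ) 2 = 2 from map_ofNat _ 2]
  push_cast
  field_simp

theorem res_irr {φ : G → ℂ} (hφ : φ ∈ Irr H) : res H₀ φ ∈ Irr H₀ := by
  refine ((irr_isChar hφ).res h.le).mem_Irr_iff.2 (nsq_eq_of_ip ?_)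
  have := ip_irr_self hφ
  rw [ip_def, h.sum, h.card, sum_fs_congr (g := fun u => 2 * (φ u * conj (φ u))) fun u hu => by
    rcases P5.irr_mul_central h.tH h.tt h.cent hφ with e | e <;> rw [e] <;> simp [two_mul],
    ← Finset.mul_sum] at this
  rw [ip_res_left, ip_res_right, ip_def, Complex.ofReal_one, ← this]
  have := card_ne_zero_C H₀
  push_cast
  field_simp

theorem reg_eq : P1.regSet 2 H = P1.regSet 2 H₀ := by
  refine Set.ext fun g => ⟨fun hg => ⟨(h.cover g hg.1).resolve_right fun e => h.nt ?_, hg.2⟩,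
    fun hg => ⟨h.le hg.1, hg.2⟩⟩
  rw [← P5.mul_pow_odd (Nat.coprime_two_right.1 hg.2) h.tt (h.comm hg.1) (pow_orderOf_eq_one g)]
  exact pow_mem e _

end Half

end Cfsg.Agent.P7.J5
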