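/-
The principal block of a group with Klein four Sylow 2-subgroups and the virtual characters `β`.
-/
import Cfsg.Agent.P7.J5B

set_option autoImplicit false

namespace Cfsg.Agent.P7.J5

open Subgroup Cfsg Cfsg.Agent Cfsg.Agent.FT
open Cfsg.Agent.P5 (tw th Th tw_apply th_pos th_neg inv_eq_of_sq Hyp)
open scoped ComplexConjugate

universe u

variable {G : Type u} [Group G] [Finite G]

/-- The principal 2-block of `M` is `{1, ± a 0, ± a 1, ± a 2}`. -/
structure Blk (M : Subgroup G) (a : Fin 3 → G → ℂ) : Prop where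
  dirr : ∀ i, Dirr M (a i)
  orth : ∀ i j, i ≠ j → ip M (a i) (a j) = 0
  orth1 : ∀ i, ip M (a i) (cf1 M) = 0
  sing : ∀ i, ∀ g ∈ M, ¬ Odd (orderOf g) → a i g = 1
  reg : ∀ g ∈ M, Odd (orderOf g) → 1 + ∑ i, a i g = 0
  proj : ∀ (F : G → ℂ) (g : G), ∑ φ ∈ P1.B0 2 M, ip M F φ * φ g =
    ip M F (cf1 M) * cf1 M g + ∑ i, ip M F (a i) * a i g

theorem hyp_even {X U : Subgroup G} {t s : G} (h : Hyp X U t s) {g : G} (hg : g ∈ X)
    (he : ¬ Odd (orderOf g)) : ∃ c ∈ X, ∃ u ∈ U, g = c * (u * t) * c⁻¹ := by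
  obtain ⟨n, hn⟩ := Nat.not_odd_iff_even.1 he
  have h0 := orderOf_pos g
  obtain ⟨c, hc, e⟩ := h.conj (g ^ n) (pow_mem hg n) (pow_ne_one_of_lt_orderOf (by omega) (by omega))
    (by rw [← pow_add, ← hn, pow_orderOf_eq_one])
  have e1 : (c⁻¹ * g * c⁻¹⁻¹) ^ n = t := by rw [conj_pow, ← e]; group
  have e2 : c⁻¹ * g * c⁻¹⁻¹ ∈ X ⊓ 𝐂[t] := ⟨P5.cj (inv_mem hc) hg, mem_cent1.2 (by
    rw [← e1]; exact (Commute.self_pow _ n).eq.symm)⟩
  refine ⟨c, hc, c⁻¹ * g * c⁻¹⁻¹ * t, ?_, by rw [mul_assoc _ t, h.tt]; group⟩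
  obtain ⟨m, rfl | rfl⟩ := Nat.even_or_odd' n
  · exact absurd (by rw [← e1, pow_mul, sq]; exact pow_mem (h.sq_mem e2) m) h.t_notMem
  · rw [← e1, ← pow_succ', add_assoc, ← mul_add_one 2, pow_mul, sq]
    exact pow_mem (h.sq_mem e2) _

theorem exists_blk {X U : Subgroup G} {t s : G} (h : Hyp X U t s) :
    ∃ (a : Fin 3 → G → ℂ) (p : Fin 3 → ℤ), Blk X a ∧ (∀ i, a i 1 = p i) ∧
      ((X ⊓ 𝐂[t]).relIndex X : ℚ) * (1 + ∑ i, (1 : ℚ) / p i) =
        8 * (𝐂[s].relIndex (X ⊓ 𝐂[t]) : ℚ) ^ 2 := by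
  classical
  have e0 := res_cf1 h.UH
  obtain ⟨χ, c1, c2, c3, δ, d1, d2, -, -, d5⟩ := h.pure_block (cf1_mem_Irr _)
    (e0 ▸ cf1_mem_Irr _) (fun g _ u hu e => by rw [cf1_of_mem (h.UH hu), cf1_of_mem (h.UH e)])
    (h.lin_sq (isLin_cf1 _))
  rw [e0] at d2
  simp only [← ip_res_right U _ (cf1 (X ⊓ 𝐂[t])), e0] at c3
  have e1 : tw U t (cf1 X) = cf1 U := res_congr fun u hu => cf1_of_mem (mul_mem (h.UX hu) h.tX)
  obtain ⟨l, hl⟩ := c3 _ (cf1_mem_Irr X) (by rw [e1]; simp)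
  have e2 : δ l = 1 := by
    have := congrFun (d2 l) 1
    rw [hl, e1] at this
    simp only [cf1_one, Pi.smul_apply, smul_eq_mul, mul_one] at this
    exact_mod_cast this.symm
  have dd : ∀ i, (δ i : ℂ) * δ i = 1 := fun i => by rcases d1 i with e | e <;> simp [e]
  have sing : ∀ i, ∀ g ∈ X, ¬ Odd (orderOf g) → (δ i : ℂ) * χ i g = 1 := fun i g hg he => by
    obtain ⟨c, hc, u, hu, rfl⟩ := hyp_even h hg he
    rw [CF_conj (irr_mem_CF (c1 i)) hc, ← tw_apply t (χ i) hu, d2, Pi.smul_apply, cf1_of_mem hu,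
      smul_eq_mul, mul_one, dd]
  have hv := cf1_mem_VChar U
  have T0 : ∀ g, Odd (orderOf g) → Th X U t (cf1 U) g = 0 := fun g hg =>
    ind_apply_eq_zero fun x _ _ => by
      rw [Pi.smul_apply, th_neg, smul_zero]
      intro e
      have e3 := h.pow_eq e
      refine h.t_notMem (h.mem_of_odd h.tH hg ?_)
      rw [← e3, ← pow_mul, mul_comm, pow_mul, show x⁻¹ * g * x = x⁻¹ * g * x⁻¹⁻¹ by simp,
        conj_pow, pow_orderOf_eq_one]
      simp
  have T1 : ∀ g ∈ X, ¬ Odd (orderOf g) → Th X U t (cf1 U) g = 4 := fun g hg he => by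
    obtain ⟨c, hc, u, hu, rfl⟩ := hyp_even h hg he
    rw [CF_conj (vchar_mem_CF (h.Th_vchar hv)) hc, ← tw_apply t (Th X U t (cf1 U)) hu,
      h.tw_Th fun g hg x hx => by
      rw [cf1_of_mem hx, cf1_of_mem ((mem_normalizer_iff.1 (h.HU hg) x).1 hx)]]
    simp [res_of_mem _ hu, cf1_of_mem hu]
  have T2 : ∀ g, Th X U t (cf1 U) g = ∑ i, δ i * χ i g := fun g => by
    rw [apply_eq_sum_irr (vchar_mem_CF (h.Th_vchar hv)), ← Finset.sum_subset
      (s₁ := Finset.univ.image χ) (fun φ hφ => by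
        obtain ⟨i, -, rfl⟩ := Finset.mem_image.1 hφ
        exact c1 i) fun φ hφ hn => by
      rw [h.ip_Th' (irr_mem_VChar hφ) hv, of_not_not (mt (c3 φ hφ) (by simpa using hn)), zero_mul],
      Finset.sum_image c2.injOn]
    exact Finset.sum_congr rfl fun i _ => by
      rw [h.ip_Th' (irr_mem_VChar (c1 i)) hv, d2]; simp
  have T3 : ∀ φ ∈ Irr X, ip U (tw U t φ) (cf1 U) =
      4 * (ip X φ (cf1 X) - (𝐨(X) : ℂ)⁻¹ * ∑ x ∈ fs (P1.regSet 2 X), φ x) := fun φ hφ => by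
    rw [← h.ip_Th (irr_mem_CF hφ), ip_cf1_right, ip_def, sum_fs_diff (P1.regSet_subset 2 X),
      sum_fs_diff (P1.regSet_subset 2 X) φ, Finset.sum_eq_zero fun x hx => by
        rw [T0 x (Nat.coprime_two_right.1 (mem_fs.1 hx).2), map_zero, mul_zero],
      sum_fs_congr (g := fun x => 4 * φ x) fun x hx => by
        rw [T1 x hx.1 fun e => hx.2 ⟨hx.1, Nat.coprime_two_right.2 e⟩, mul_comm,
          show (starRingEnd ℂ) 4 = 4 from map_ofNat _ 4], ← Finset.mul_sum]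
    ring
  have B : P1.B0 2 X = Finset.univ.image χ := by
    ext φ
    rw [Finset.mem_image]
    by_cases e : φ = cf1 X
    · exact iff_of_true (e ▸ P1.cf1_mem_B0 2 X) ⟨l, Finset.mem_univ _, hl.trans e.symm⟩
    refine ⟨fun hφ => ?_, fun ⟨i, _, hi⟩ => P1.mem_B0.2 ⟨hi ▸ c1 i, fun e' => ?_⟩⟩
    · obtain ⟨h1, h2⟩ := P1.mem_B0.1 hφ
      obtain ⟨i, hi⟩ := c3 φ h1 (by
        rw [T3 φ h1, ip_irr_of_ne h1 (cf1_mem_Irr X) e]
        simpa [card_ne_zero_C X] using h2)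
      exact ⟨i, Finset.mem_univ _, hi⟩
    · have := T3 φ (hi ▸ c1 i)
      rw [e', ip_irr_of_ne (hi ▸ c1 i) (cf1_mem_Irr X) e, ← hi, d2] at this
      rcases d1 i with e | e <;> simp [e] at this
  have ne : ∀ i j, i ≠ j → ip X (χ i) (χ j) = 0 := fun i j hij =>
    ip_irr_of_ne (c1 i) (c1 j) (c2.ne hij)
  refine ⟨fun i => (δ (l.succAbove i) : ℂ) • χ (l.succAbove i),
    fun i => δ (l.succAbove i) * dg (χ (l.succAbove i)), ⟨fun i => dirr_sign_smul (.inl (c1 _)) (d1 _),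
    fun i j hij => ?_, fun i => ?_, fun i => sing _, fun g hg ho => ?_, fun F g => ?_⟩,
    fun i => ?_, ?_⟩
  · simp [ne _ _ (Fin.succAbove_right_injective.ne hij)]
  · rw [← hl]; simp [ne _ _ (l.succAbove_ne i)]
  · have := (T2 g).symm.trans (T0 g ho)
    rwa [Fin.sum_univ_succAbove _ l, hl, e2, cf1_of_mem hg, Int.cast_one, one_mul] at this
  · rw [B, Finset.sum_image c2.injOn, Fin.sum_univ_succAbove _ l, hl]
    refine congrArg _ (Finset.sum_congr rfl fun i _ => ?_)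
    rw [ip_smul_right, map_intCast, Pi.smul_apply, smul_eq_mul]
    linear_combination (-ip X F (χ (l.succAbove i)) * χ (l.succAbove i) g) * dd (l.succAbove i)
  · simp [irr_one_eq (c1 _)]
  · rw [Fin.sum_univ_succAbove _ l, hl, e2, dg_cf1, dg_cf1] at d5
    simpa using d5

namespace Blk

variable {M : Subgroup G} {a : Fin 3 → G → ℂ} (h : Blk M a)
include h

theorem perm (e : Equiv.Perm (Fin 3)) : Blk M (a ∘ e) :=
  ⟨fun _ => h.dirr _, fun _ _ hij => h.orth _ _ (e.injective.ne hij), fun _ => h.orth1 _,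
    fun _ => h.sing _, fun g hg ho => (Equiv.sum_comp e fun i => a i g) ▸ h.reg g hg ho,
    fun F g => (Equiv.sum_comp e fun i => ip M F (a i) * a i g) ▸ h.proj F g⟩

theorem ip_a (i j : Fin 3) : ip M (a i) (a j) = if i = j then 1 else 0 := by
  split_ifs with e
  exacts [e ▸ (h.dirr i).ip_self, h.orth i j e]

theorem vch (i : Fin 3) : cf1 M - a i ∈ VChar M := sub_mem (cf1_mem_VChar M) (h.dirr i).mem_VChar

theorem van (i : Fin 3) (g : G) (hg : ¬ Odd (orderOf g)) : (cf1 M - a i) g = 0 := by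
  by_cases e : g ∈ M
  · rw [Pi.sub_apply, cf1_of_mem e, h.sing i g e hg, sub_self]
  · exact CF_off (vchar_mem_CF (h.vch i)) e

theorem exists_eq {φ : G → ℂ} (hφ : Dirr M φ) (h1 : ip M φ (cf1 M) = 0)
    (hs : ∀ g ∈ M, ¬ Odd (orderOf g) → φ g = 1) {s : G} (sM : s ∈ M) (se : ¬ Odd (orderOf s)) :
    ∃ i, φ = a i := by
  by_contra hn
  have h2 : ∀ i, ip M φ (a i) = 0 := fun i => by
    rcases hφ.ip_cases (h.dirr i) with e | e | e
    · exact absurd ⟨i, e⟩ hn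
    · have := hs s sM se
      rw [e, Pi.neg_apply, h.sing i s sM se] at this
      norm_num at this
    · exact e
  have h3 : ip M (φ - cf1 M) (cf1 M + ∑ i, a i) = 0 := ip_eq_zero_of_disjoint fun x hx => by
    by_cases e : Odd (orderOf x)
    · exact .inr (by rw [Pi.add_apply, cf1_of_mem hx, Finset.sum_apply, h.reg x hx e])
    · exact .inl (by rw [Pi.sub_apply, cf1_of_mem hx, hs x hx e, sub_self])
  simp [ip_sum_right, h1, h2, ip_eq_zero_symm (h.orth1 _)] at h3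

end Blk

/-- The virtual character of `G` attached to a virtual character of `M`. -/
noncomputable def bet (M : Subgroup G) (t : G) (α : G → ℂ) : G → ℂ :=
  ind ⊤ 𝐂[t] ((2 : ℂ) • th M t α)

theorem pr_eq {t : G} {J : Set G} (hJ : J ⊆ classSupp {t} ⊤) {f : G → ℂ}
    (h : ∀ j ∈ classSupp {t} ⊤, ∀ j' ∈ classSupp {t} ⊤, f (j * j') ≠ 0 → j ∈ J ∧ j' ∈ J) :
    pr ⊤ t f = ∑ j ∈ fs J, ∑ j' ∈ fs J, f (j * j') := by
  rw [pr_apply, ← sum_fs_subset hJ fun j hj hn => Finset.sum_eq_zero fun j' hj' =>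
    of_not_not fun e => hn (h j hj j' (mem_fs.1 hj') e).1]
  exact sum_fs_congr fun j hj => (sum_fs_subset hJ fun j' hj' hn =>
    of_not_not fun e => hn (h j (hJ hj) j' hj' e).2).symm

omit [Finite G] in
theorem inverts {j j' : G} (jj : j * j = 1) (jj' : j' * j' = 1) :
    j * (j * j') * j⁻¹ = (j * j')⁻¹ ∧ j' * (j * j') * j'⁻¹ = (j * j')⁻¹ := by
  rw [mul_inv_rev, inv_eq_of_sq jj, inv_eq_of_sq jj', ← mul_assoc, jj, one_mul, mul_assoc,
    mul_assoc, jj', mul_one]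
  exact ⟨rfl, rfl⟩

namespace Half

variable {M : Subgroup G} {t : G} (h : Half 𝐂[t] M t)
include h

theorem ip_bet {φ : G → ℂ} (hφ : φ ∈ CF ⊤) (α : G → ℂ) :
    ip ⊤ φ (bet M t α) = ip M (tw M t φ) α := by
  rw [bet, ip_ind_right le_top hφ, h.ip_th]

theorem tw_vchar' {φ : G → ℂ} (hφ : φ ∈ VChar ⊤) : tw M t φ ∈ VChar M := by
  have := h.tw_vchar (vchar_res le_top hφ)
  rwa [show tw M t (res 𝐂[t] φ) = tw M t φ from
    res_congr fun g hg => res_of_mem _ (mul_mem (h.le hg) h.tH)] at this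

theorem bet_vchar {α : G → ℂ} (hα : α ∈ VChar M) : bet M t α ∈ VChar ⊤ :=
  mem_VChar_iff.2 ⟨ind_mem_CF _ _ _, fun χ hχ => by
    obtain ⟨n, hn⟩ := vchar_ip_int (h.tw_vchar' (irr_mem_VChar hχ)) hα
    exact ⟨n, ip_comm_of_int (by rw [h.ip_bet (irr_mem_CF hχ), hn])⟩⟩

theorem mem_of_odd {g : G} (hg : g ∈ 𝐂[t]) (ho : Odd (orderOf g)) : g ∈ M :=
  (h.reg_eq.subset ⟨hg, Nat.coprime_two_right.2 ho⟩).1

theorem bet_odd (α : G → ℂ) {g : G} (ho : Odd (orderOf g)) : bet M t α g = 0 :=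
  ind_apply_eq_zero fun x _ hx => by
    rw [Pi.smul_apply, th_neg _ (h.not_mul (h.mem_of_odd hx (by
      rwa [show x⁻¹ * g * x = MulAut.conj x⁻¹ g by simp, MulEquiv.orderOf_eq]))), smul_zero]

theorem pow_eq {g : G} (hg : g * t ∈ M) (ho : Odd (orderOf (g * t))) :
    g ^ orderOf (g * t) = t := by
  have := P5.mul_pow_odd ho h.tt (h.comm (h.le hg)) (pow_orderOf_eq_one _)
  rwa [h.mtt] at this

theorem normedTI : NormedTI {g | g * t ∈ M ∧ Odd (orderOf (g * t))} ⊤ 𝐂[t] where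
  nonempty := ⟨t, by simp [h.tt, one_mem]⟩
  one_notMem := fun e => h.nt (by simpa using e.1)
  subset := fun g hg => (mul_mem_cancel_right h.tH).1 (h.le hg.1)
  le := le_top
  norm := fun g hg a ha => by
    have e : g * a * g⁻¹ * t = MulAut.conj g (a * t) := by
      rw [MulAut.conj_apply, mul_assoc, ← (h.comm (inv_mem hg)).eq]; group
    exact ⟨e ▸ (mem_normalizer_iff.1 (h.norm hg) _).1 ha.1, by rw [e, MulEquiv.orderOf_eq]; exact ha.2⟩
  ti := fun g _ a ha hb => by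
    have e1 := h.pow_eq ha.1 ha.2
    have e2 := h.pow_eq hb.1 hb.2
    have p : ∀ n, Odd n → t ^ n = t := fun n hn => by
      simpa using P5.mul_pow_odd hn h.tt (Commute.one_right t) (one_pow n)
    refine mem_cent1_iff_conj.2 ?_
    calc g * t * g⁻¹ = g * (a ^ orderOf (a * t)) ^ orderOf (g * a * g⁻¹ * t) * g⁻¹ := by
          rw [e1, p _ hb.2]
      _ = ((g * a * g⁻¹) ^ orderOf (g * a * g⁻¹ * t)) ^ orderOf (a * t) := by
          rw [← pow_mul, ← pow_mul, conj_pow, mul_comm (orderOf _)]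
      _ = t := by rw [e2, p _ ha.2]

theorem bet_apply {α : G → ℂ} (hα : α ∈ CF M) (h0 : ∀ g, ¬ Odd (orderOf g) → α g = 0) {y : G}
    (hy : y ∈ M) (ho : Odd (orderOf y)) : bet M t α (y * t) = 2 * α y := by
  have key : ∀ g ∈ 𝐂[t], ∀ x, α (g * x * g⁻¹) = α x := fun g hg x => by
    rcases h.cover g hg with e | e
    · exact CF_conj hα e x
    by_cases hx : x ∈ M
    · rw [← CF_conj hα e x, mul_inv_rev, mul_assoc g t, (h.comm (h.le hx)).eq]
      congr 1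
      group
    · rw [CF_off hα hx, CF_off hα (mt (mem_normalizer_iff.1 (h.norm hg) _).2 hx)]
  rw [bet, h.normedTI.ind_apply (Submodule.smul_mem _ _ (mem_CFon.2 ⟨mem_CF.2 ⟨fun x hx =>
    th_neg _ fun e => hx ((mul_mem_cancel_right h.tH).1 (h.le e)), fun g hg x => ?_⟩,
    fun x hx => ?_⟩)) (show y * t * t ∈ M ∧ _ by rw [h.mtt]; exact ⟨hy, ho⟩), Pi.smul_apply,
    th_pos _ (by rwa [h.mtt]), h.mtt, smul_eq_mul]
  · have e : g * x * g⁻¹ * t = g * (x * t) * g⁻¹ := by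
      rw [mul_assoc, ← (h.comm (inv_mem hg)).eq]; group
    unfold th
    rw [e, key g hg, ← mem_normalizer_iff.1 (h.norm hg)]
  · by_cases e : x * t ∈ M
    · rw [th_pos _ e, h0 _ fun e' => hx ⟨e, e'⟩]
    · exact th_neg _ e

theorem ip_bet_bet {α α' : G → ℂ} (hα : α ∈ CF M) (h0 : ∀ g, ¬ Odd (orderOf g) → α g = 0)
    (h0' : ∀ g, ¬ Odd (orderOf g) → α' g = 0) :
    ip ⊤ (bet M t α) (bet M t α') = 2 * ip M α α' := by
  rw [h.ip_bet (show bet M t α ∈ CF ⊤ from ind_mem_CF _ _ _), ← ip_smul_left, ip_def, ip_def]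
  refine congrArg _ (sum_fs_congr fun x hx => ?_)
  by_cases e : Odd (orderOf x)
  · rw [tw_apply _ _ hx, h.bet_apply hα h0 hx e]; rfl
  · simp [h0' x e]

theorem pr_bet {s : G} (hG : ∀ j : G, j ≠ 1 → j * j = 1 → j ∈ classSupp {t} ⊤)
    (hM : ∀ j, j ∈ classSupp {s} M ↔ j ∈ M ∧ j ≠ 1 ∧ j * j = 1) {α : G → ℂ}
    (h0 : ∀ g, ¬ Odd (orderOf g) → α g = 0) :
    pr ⊤ t (bet M t α) = 𝐂[t].index * (4 * pr M s α) := by
  set K := classSupp {s} M
  have t1 : t ≠ 1 := fun e => h.nt (e ▸ one_mem M)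
  have sq : ∀ j ∈ 𝐂[t], j * j = 1 → j * t * (j * t) = 1 := fun j hj jj => by
    rw [mul_assoc, ← mul_assoc t, (h.comm hj).eq, h.mtt, jj]
  have cl : ∀ j ∈ classSupp {t} (⊤ : Subgroup G), j ≠ 1 ∧ j * j = 1 := by
    rintro _ ⟨a, rfl, g, -, rfl⟩
    exact ⟨by simpa using t1, by rw [conj_mul, h.tt]; simp⟩
  have b : ∀ F : G → ℂ, ∑ j ∈ fs (K ∪ {j | j * t ∈ K}), F j = ∑ j ∈ fs K, (F j + F (j * t)) :=
    fun F => by
    rw [sum_fs_union (A := K) (B := {j | j * t ∈ K}) (Set.disjoint_left.2 fun j h1 h2 =>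
      h.not_mul ((hM _).1 h1).1 ((hM (j * t)).1 h2).1),
      Finset.sum_add_distrib, sum_fs_bij (A := K) (B := {j | j * t ∈ K}) (fun g => g * t)
      ⟨fun g hg => by change g * t * t ∈ K; rwa [h.mtt], fun g _ g' _ e => by simpa using e,
      fun g hg => ⟨g * t, hg, h.mtt g⟩⟩]
  have e3 : res 𝐂[t] ((2 : ℂ) • th M t α) = (2 : ℂ) • th M t α := res_eq_self fun g hg => by
    rw [Pi.smul_apply, th_neg _ fun e => hg ((mul_mem_cancel_right h.tH).1 (h.le e)), smul_zero]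
  rw [bet, pr_ind, e3, pr_eq (J := K ∪ {j | j * t ∈ K}), b, pr_apply, Finset.mul_sum,
    Finset.mul_sum, Finset.mul_sum]
  · refine sum_fs_congr fun j hj => congrArg _ ?_
    rw [← Finset.sum_add_distrib, b, Finset.mul_sum]
    refine sum_fs_congr fun j' hj' => ?_
    have m := mul_mem ((hM _).1 hj).1 ((hM _).1 hj').1
    have c := (h.comm (h.le ((hM _).1 hj').1)).eq
    have e1 : j * t * j' = j * j' * t := by rw [mul_assoc, c, mul_assoc]
    simp only [Pi.smul_apply, smul_eq_mul]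
    rw [← mul_assoc j, ← mul_assoc (j * t), e1, h.mtt, th_neg _ (h.not_mul m),
      th_pos _ (by rwa [h.mtt]), h.mtt]
    ring
  · rintro j (hj | hj)
    · exact hG j ((hM _).1 hj).2.1 ((hM _).1 hj).2.2
    · obtain ⟨h1, h2, h3⟩ := (hM _).1 hj
      refine hG j (fun e => h.nt (by simpa [e] using h1)) ?_
      simpa [h.mtt] using sq _ (h.le h1) h3
  · intro j hj j' hj' e
    have e1 : j * j' * t ∈ M := by_contra fun e' => e (by rw [Pi.smul_apply, th_neg _ e', smul_zero])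
    have e2 : Odd (orderOf (j * j' * t)) := by_contra fun e' => e (by
      rw [Pi.smul_apply, th_pos _ e1, h0 _ e', smul_zero])
    have e4 := h.pow_eq e1 e2
    have odd : ∀ i : G, i ≠ 1 → i * i = 1 → ¬ Odd (orderOf i) := fun i i1 ii => by
      rw [orderOf_eq_prime (p := 2) (by rwa [pow_two]) i1]; decide
    have key : ∀ i : G, i ≠ 1 ∧ i * i = 1 → i * (j * j') * i⁻¹ = (j * j')⁻¹ → i ≠ t →
        i ∈ K ∪ {j | j * t ∈ K} := fun i hi inv it => by
      have c : i ∈ 𝐂[t] := mem_cent1_iff_conj.2 (by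
        rw [← e4, ← conj_pow, inv, inv_pow, e4, inv_eq_of_sq h.tt])
      rcases h.cover i c with e | e
      · exact .inl ((hM _).2 ⟨e, hi⟩)
      · exact .inr ((hM _).2 ⟨e, fun e' => it (by rw [← h.mtt i, e', one_mul]), sq i c hi.2⟩)
    obtain ⟨i1, i2⟩ := inverts (cl j hj).2 (cl j' hj').2
    refine ⟨key j (cl j hj) i1 ?_, key j' (cl j' hj') i2 ?_⟩
    · rintro rfl
      rw [show j * j' * j = MulAut.conj j j' by rw [MulAut.conj_apply, inv_eq_of_sq h.tt],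
        MulEquiv.orderOf_eq] at e2
      exact odd j' (cl j' hj').1 (cl j' hj').2 e2
    · rintro rfl
      rw [h.mtt] at e2
      exact odd j (cl j hj).1 (cl j hj).2 e2

/-- The values of a constituent of some `β_i` on the 2-section of `t`. -/
theorem dvec {a : Fin 3 → G → ℂ} (hb : Blk M a) {χ : G → ℂ} (hχ : Dirr ⊤ χ)
    (hd : ∃ i, ip ⊤ χ (bet M t (cf1 M - a i)) ≠ 0) {y : G} (hy : y ∈ M) (ho : Odd (orderOf y)) :
    χ (y * t) = -∑ i, ip ⊤ χ (bet M t (cf1 M - a i)) * a i y := by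
  classical
  obtain ⟨ε, hε, χ, hχ', rfl⟩ := hχ.exists_sign
  replace hχ := hχ'
  suffices χ (y * t) = -∑ i, ip ⊤ χ (bet M t (cf1 M - a i)) * a i y by
    simp only [Pi.smul_apply, this, ip_smul_left, smul_eq_mul, mul_assoc, ← Finset.mul_sum, mul_neg]
  replace hd : ∃ i, ip ⊤ χ (bet M t (cf1 M - a i)) ≠ 0 :=
    hd.imp fun i hi e => hi (by rw [ip_smul_left, e, mul_zero])
  have k1 : ∀ φ ∈ Irr 𝐂[t], ∀ y ∈ M, ∑ ψ ∈ P1.B0 2 M, ip M (tw M t φ) ψ * ψ y =
      if φ ∈ P1.B0 2 𝐂[t] then φ (y * t) else 0 := fun φ hφ y hy => by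
    have r := h.res_irr hφ
    have r1 : res M φ ∈ P1.B0 2 M ↔ φ ∈ P1.B0 2 𝐂[t] := by
      rw [P1.mem_B0, P1.mem_B0, h.reg_eq, sum_fs_congr fun x hx => res_of_mem φ hx.1]
      exact and_congr_left fun _ => iff_of_true r hφ
    have r2 : ∑ ψ ∈ P1.B0 2 M, ip M φ ψ * ψ y = if φ ∈ P1.B0 2 𝐂[t] then φ y else 0 := by
      rw [Finset.sum_congr rfl (g := fun ψ => if res M φ = ψ then ψ y else 0) fun ψ hψ => by
        rw [← ip_res_left, ip_irr r (P1.B0_subset _ _ hψ)]; split_ifs <;> simp,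
        Finset.sum_ite_eq, res_of_mem _ hy]
      simp only [r1]
    rcases P5.irr_mul_central h.tH h.tt h.cent hφ with e | e
    · simp only [tw, ip_res_left, e, r2]
    · simp only [tw, ip_res_left, e]
      rw [Finset.sum_congr rfl (g := fun ψ => -(ip M φ ψ * ψ y)) fun ψ _ => by
        rw [← neg_mul, ← ip_neg_left]; rfl, Finset.sum_neg_distrib, r2]
      split_ifs <;> simp
  have k2 : tw M t χ = ∑ φ ∈ Irr 𝐂[t], ip 𝐂[t] χ φ • tw M t φ := by
    simp only [tw, ← map_smul, ← map_sum]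
    refine res_congr fun g hg => ?_
    rw [← res_of_mem χ (mul_mem (h.le hg) h.tH),
      apply_eq_sum_irr (res_mem_CF le_top (irr_mem_CF hχ)), Finset.sum_apply]
    simp only [ip_res_left]
    rfl
  have k3 : ∀ y ∈ M, Odd (orderOf y) → -∑ i, ip ⊤ χ (bet M t (cf1 M - a i)) * a i y =
      if χ ∈ P1.B0 2 ⊤ then χ (y * t) else 0 := fun y hy ho => by
    have := P1.B0_second (k := 1) (y := y) Nat.prime_two (mem_top t) (by rw [pow_one, sq, h.tt])
      (by rw [top_inf_eq]; exact ⟨h.le hy, Nat.coprime_two_right.2 ho⟩) hχ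
    rw [top_inf_eq, (h.comm (h.le hy)).eq] at this
    have k4 : ∑ ψ ∈ P1.B0 2 M, ip M (tw M t χ) ψ * ψ y =
        ∑ φ ∈ P1.B0 2 𝐂[t], ip 𝐂[t] χ φ * φ (y * t) := by
      simp only [k2, ip_sum_left, ip_smul_left, Finset.sum_mul, mul_assoc]
      rw [Finset.sum_comm, ← Finset.inter_eq_right.2 (P1.B0_subset 2 𝐂[t]),
        ← Finset.sum_ite_mem]
      refine Finset.sum_congr rfl fun φ hφ => ?_
      rw [← Finset.mul_sum, k1 φ hφ y hy]
      split_ifs <;> simp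
    rw [← this, ← k4, hb.proj, cf1_of_mem hy]
    simp only [h.ip_bet (irr_mem_CF hχ), ip_sub_right, sub_mul, Finset.sum_sub_distrib,
      ← Finset.mul_sum]
    linear_combination (-ip M (tw M t χ) (cf1 M)) * hb.reg y hy ho
  by_cases hB : χ ∈ P1.B0 2 ⊤
  · rw [k3 y hy ho, if_pos hB]
  obtain ⟨j, hj⟩ := hd
  have k5 : ip M (∑ i, ip ⊤ χ (bet M t (cf1 M - a i)) • a i) (cf1 M - a j) = 0 :=
    ip_eq_zero_of_disjoint fun x hx => by
      by_cases e : Odd (orderOf x)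
      · have := k3 x hx e
        rw [if_neg hB, neg_eq_zero] at this
        exact .inl (by rw [Finset.sum_apply]; exact this)
      · exact .inr (hb.van j x e)
  simp [ip_sum_left, hb.orth1, hb.ip_a] at k5
  exact absurd k5 hj

end Half

end Cfsg.Agent.P7.J5
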