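/-
The virtual characters `θ` and the character theoretic core of section J5.
-/
import Cfsg.Agent.P7.J5C
import Cfsg.Agent.P7.J5A

set_option autoImplicit false

namespace Cfsg.Agent.P7.J5

open Subgroup Cfsg Cfsg.Agent Cfsg.Agent.FT
open Cfsg.Agent.P5 (tw th tw_apply th_pos th_neg inv_eq_of_sq)
open scoped ComplexConjugate

universe u

variable {G : Type u} [Group G] [Finite G]

/-- `H \ K` is a TI set with normalizer `H⟨s⟩`. -/
structure Tor (t s : G) (H H₀ A K : Subgroup G) : Prop where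
  half : Half H H₀ t
  odd : Odd 𝐨(H₀)
  KH : K ≤ H
  tK : t ∈ K
  der : ⁅H, H⁆ ≤ K
  AH : A ≤ H
  sup : ∀ x ∈ H, ∃ a ∈ A, ∃ k ∈ K, x = a * k
  ss : s * s = 1
  sH : s ∉ H
  sN : s ∈ 𝐍(H)
  sK : s ∈ 𝐍(K)
  inv : ∀ a ∈ A, s * a * s⁻¹ = a⁻¹
  ti : ∀ g, ∀ x ∈ H, x ∉ K → g⁻¹ * x * g ∈ H → g⁻¹ * x * g ∉ K → g ∈ H ∨ s⁻¹ * g ∈ H
  invol : ∀ j, j * j = 1 → ∀ x ∈ H, x ∉ K → j * x * j⁻¹ = x⁻¹ → j * s ∈ A

namespace Tor

variable {t s : G} {H H₀ A K : Subgroup G} (h : Tor t s H H₀ A K) {l m : G → ℂ}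
include h

theorem lin (hl : l ∈ irrKer H K) : IsLin H l := isLin_of_mem_irrKer h.der hl

theorem ker (hl : l ∈ irrKer H K) {x : G} (hx : x ∈ K) : l x = 1 :=
  (h.lin hl).mem_cfKer_iff.1 ((mem_irrKer.1 hl).2 hx)

theorem van (hl : l ∈ irrKer H K) {x : G} (hx : x ∈ H → x ∈ K) : (cf1 H - l) x = 0 := by
  by_cases e : x ∈ H
  · rw [Pi.sub_apply, cf1_of_mem e, h.ker hl (hx e), sub_self]
  · exact CF_off (sub_mem (cf1_mem_CF H) (h.lin hl).mem_CF) e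

theorem conj_s (hl : l ∈ irrKer H K) {x : G} (hx : x ∈ H) : l (s⁻¹ * x * s) = conj (l x) := by
  obtain ⟨a, ha, k, hk, rfl⟩ := h.sup x hx
  have e : s⁻¹ * (a * k) * s = a⁻¹ * (s * k * s⁻¹) := by
    rw [← h.inv a ha, inv_eq_of_sq h.ss, mul_assoc (s * a), ← mul_assoc s (s * k), ← mul_assoc s s,
      h.ss]
    group
  rw [e, apply_mul_of_mem_cfKer (h.lin hl).mem_CF ((mem_irrKer.1 hl).2
    ((mem_normalizer_iff.1 h.sK k).1 hk)), apply_mul_of_mem_cfKer (h.lin hl).mem_CF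
    ((mem_irrKer.1 hl).2 hk), (h.lin hl).isChar.apply_inv]

theorem vch (hl : l ∈ irrKer H K) : ind ⊤ H (cf1 H - l) ∈ VChar ⊤ :=
  vchar_ind le_top (sub_mem (cf1_mem_VChar H) (h.lin hl).isChar.mem_VChar)

theorem apply (hl : l ∈ irrKer H K) {x : G} (hx : x ∈ H) (hK : x ∉ K) :
    ind ⊤ H (cf1 H - l) x = (cf1 H - l + (cf1 H - star l)) x := by
  rw [ind_fam le_top Finset.univ ![1, s] (fun _ _ => mem_top _) (fun i _ j _ e => by
    fin_cases i <;> fin_cases j <;> simp_all [h.sH]) (sub_mem (cf1_mem_CF H) (h.lin hl).mem_CF)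
    (mem_top x) fun g _ e => ?_]
  · have : s⁻¹ * x * s ∈ H := by simpa using (mem_normalizer_iff.1 (inv_mem h.sN) x).1 hx
    simp [h.conj_s hl hx, cf1_of_mem hx, cf1_of_mem this, star_apply']
    ring
  · have e1 : ¬ (g⁻¹ * x * g ∈ H → g⁻¹ * x * g ∈ K) := mt (h.van hl) e
    rw [Classical.not_imp] at e1
    rcases h.ti g x hx hK e1.1 e1.2 with e | e
    exacts [⟨0, by simp, by simpa using e⟩, ⟨1, by simp, by simpa using e⟩]

theorem eq_of_res {B : Subgroup G} (hB : ∀ x ∈ H, ∃ a ∈ B, ∃ k ∈ K, x = a * k ∨ x = k * a)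
    (hl : l ∈ irrKer H K) (e : ∀ x ∈ B, l x = 1) : l = cf1 H :=
  CF_ext (h.lin hl).mem_CF (cf1_mem_CF H) fun x hx => by
    obtain ⟨a, ha, k, hk, rfl | rfl⟩ := hB x hx
    · rw [cf1_of_mem hx, apply_mul_of_mem_cfKer (h.lin hl).mem_CF ((mem_irrKer.1 hl).2 hk), e a ha]
    · rw [cf1_of_mem hx, mem_cfKer.1 ((mem_irrKer.1 hl).2 hk), e a ha]

theorem sup₀ (x : G) (hx : x ∈ H) : ∃ a ∈ H₀, ∃ k ∈ K, x = a * k ∨ x = k * a := by
  rcases h.half.cover x hx with e | e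
  exacts [⟨x, e, 1, one_mem K, .inl (mul_one x).symm⟩, ⟨_, e, t, h.tK, .inl (h.half.mtt x).symm⟩]

theorem ne_star (hl : l ∈ irrKer H K) (h1 : l ≠ cf1 H) : l ≠ star l := fun e =>
  h1 (h.eq_of_res h.sup₀ hl fun x hx => by
    have e1 := (h.lin hl).mul_conj (h.half.le hx)
    rw [← star_apply', ← e, ← sq] at e1
    obtain ⟨n, hn⟩ := h.odd
    have e2 := (h.lin hl).pow_apply (h.half.le hx) 𝐨(H₀)
    rwa [P5.pow_card_of_mem hx, h.ker hl (one_mem K), hn, pow_succ, pow_mul, e1, one_pow, one_mul,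
      eq_comm] at e2)

theorem ip_res {B : Subgroup G} (BH : B ≤ H)
    (hB : ∀ x ∈ H, ∃ a ∈ B, ∃ k ∈ K, x = a * k ∨ x = k * a) (hl : l ∈ irrKer H K)
    (h1 : l ≠ cf1 H) : ∑ x ∈ fs (B : Set G), (cf1 H - l) x = 𝐨(B) := by
  have := ip_irr_of_ne ((h.lin hl).res BH).mem_Irr (cf1_mem_Irr B) fun e =>
    h1 (h.eq_of_res hB hl fun x hx => by rw [← res_of_mem l hx, e, cf1_of_mem hx])
  rw [ip_res_left, ip_cf1_right, mul_eq_zero_iff_left (inv_ne_zero (card_ne_zero_C B))] at this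
  simp only [Pi.sub_apply, Finset.sum_sub_distrib]
  rw [this, sub_zero, sum_fs_congr fun x hx => cf1_of_mem (BH hx), sum_fs_const, nsmul_one]

theorem ip_ip (hl : l ∈ irrKer H K) (hm : m ∈ irrKer H K) (l1 : l ≠ cf1 H) (m1 : m ≠ cf1 H)
    (h2 : l ≠ star m) : ip ⊤ (ind ⊤ H (cf1 H - l)) (ind ⊤ H (cf1 H - m)) =
      if l = m then 3 else 2 := by
  have il := (mem_irrKer.1 hl).1
  have im := (mem_irrKer.1 hm).1
  rw [ip_ind_left le_top _ (ind_mem_CF _ _ _), ip_congr_of_supp (A := (H : Set G) \ K)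
    (fun x hx hn => h.van hl fun _ => of_not_not fun e => hn ⟨hx, e⟩)
    fun x hx => h.apply hm hx.1 hx.2]
  simp only [ip_add_right, ip_sub_left, ip_sub_right, ip_cf1_cf1, ip_irr il im,
    ip_irr_of_ne il (star_mem_Irr im) h2, ip_irr_of_ne il (cf1_mem_Irr H) l1,
    ip_irr_of_ne (cf1_mem_Irr H) im m1.symm,
    ip_irr_of_ne (cf1_mem_Irr H) (star_mem_Irr im) fun e => m1 (by rw [← star_star m, ← e, star_cf1])]
  split_ifs <;> norm_num

theorem ip_one (hl : l ∈ irrKer H K) (l1 : l ≠ cf1 H) :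
    ip ⊤ (ind ⊤ H (cf1 H - l)) (cf1 ⊤) = 1 := by
  rw [ip_ind_left le_top _ (cf1_mem_CF _), ← ip_res_right, res_cf1 le_top, ip_sub_left,
    ip_irr_of_ne (mem_irrKer.1 hl).1 (cf1_mem_Irr H) l1, ip_cf1_cf1, sub_zero]

theorem apply_sq (hl : l ∈ irrKer H K) {x : G} (hx : x * x = 1) : ind ⊤ H (cf1 H - l) x = 0 :=
  ind_apply_eq_zero fun g _ hg => h.van hl fun _ => by
    have e1 : g⁻¹ * x * g * (g⁻¹ * x * g) = 1 := by
      rw [show g⁻¹ * x * g * (g⁻¹ * x * g) = g⁻¹ * (x * x) * g by group, hx]; group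
    rcases h.half.cover _ hg with e | e
    · rw [P5.eq_one_of_odd h.odd e e1]; exact one_mem K
    · rw [← h.half.mtt (g⁻¹ * x * g), P5.eq_one_of_odd h.odd e (by
        rw [mul_assoc _ t, ← mul_assoc t, (h.half.comm hg).eq, h.half.mtt, e1]), one_mul]
      exact h.tK

theorem ip_bet {M : Subgroup G} (hC : Half 𝐂[t] M t) (hM : H₀ ≤ M) (hl : l ∈ irrKer H K)
    (l1 : l ≠ cf1 H) {α : G → ℂ} (hα : α ∈ CF M) (h0 : ∀ g, ¬ Odd (orderOf g) → α g = 0) {c : ℤ}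
    (hc : ∀ y ∈ H₀, y ∉ K → α y = c) : ip ⊤ (ind ⊤ H (cf1 H - l)) (bet M t α) = c := by
  rw [ip_ind_left le_top _ (show bet M t α ∈ CF ⊤ from ind_mem_CF _ _ _), ip_def, h.half.sum,
    sum_fs_congr (g := fun y => 2 * c * (cf1 H - l) y) fun y hy => ?_, ← Finset.mul_sum,
    h.ip_res h.half.le h.sup₀ hl l1, h.half.card]
  · have := card_ne_zero_C H₀
    push_cast
    field_simp
  have ho : Odd (orderOf y) := h.odd.of_dvd_nat (orderOf_dvd_of_pow_eq_one (P5.pow_card_of_mem hy))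
  rw [hC.bet_odd α ho, hC.bet_apply hα h0 (hM hy) ho, map_zero, mul_zero, zero_add,
    show (cf1 H - l) (y * t) = (cf1 H - l) y by
      rw [Pi.sub_apply, Pi.sub_apply, apply_mul_of_mem_cfKer (h.lin hl).mem_CF
        ((mem_irrKer.1 hl).2 h.tK), cf1_of_mem (h.half.le hy),
        cf1_of_mem (mul_mem (h.half.le hy) h.half.tH)]]
  by_cases e : y ∈ K
  · rw [h.van hl fun _ => e, zero_mul, mul_zero]
  · rw [hc y hy e, map_mul, map_intCast, show (starRingEnd ℂ) 2 = 2 from map_ofNat _ 2, mul_comm]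

theorem pr_eq (hG : ∀ j : G, j ≠ 1 → j * j = 1 → j ∈ classSupp {t} ⊤) (hl : l ∈ irrKer H K)
    (l1 : l ≠ cf1 H) : pr ⊤ t (ind ⊤ H (cf1 H - l)) = H.index * 𝐨(A) ^ 2 := by
  have ss : ∀ g, g * s * s = g := fun g => by rw [mul_assoc, h.ss, mul_one]
  have b : ∀ F : G → ℂ, ∑ j ∈ fs {j | j * s ∈ A}, F j = ∑ a ∈ fs (A : Set G), F (a * s) :=
    fun F => (sum_fs_bij (A := A) (B := {j | j * s ∈ A}) (fun g => g * s)
      ⟨fun g hg => by change g * s * s ∈ A; rwa [ss], fun g _ g' _ e => by simpa using e,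
      fun g hg => ⟨g * s, hg, ss g⟩⟩ F).symm
  have e : ∀ a, ∀ a' ∈ A, a * s * (a' * s) = a * a'⁻¹ := fun a a' ha' => by
    rw [← h.inv a' ha', inv_eq_of_sq h.ss]; group
  rw [pr_ind, res_of_mem_CF (sub_mem (cf1_mem_CF H) (h.lin hl).mem_CF),
    J5.pr_eq (J := {j | j * s ∈ A}), b, sum_fs_congr (g := fun _ => (𝐨(A) : ℂ)) fun a ha => ?_,
    sum_fs_const, nsmul_eq_mul, sq]
  · rw [b, sum_fs_congr fun a' ha' => by rw [e a a' ha'],
      sum_fs_inv A fun x => (cf1 H - l) (a * x), sum_fs_mul_left ha,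
      h.ip_res h.AH (fun x hx => (h.sup x hx).imp fun a ha =>
        ⟨ha.1, ha.2.imp fun k hk => ⟨hk.1, .inl hk.2⟩⟩) hl l1]
  · intro j hj
    refine hG j (fun e => h.sH (h.AH (by simpa [e] using hj))) ?_
    rw [← ss j, e _ _ hj, mul_inv_cancel]
  · intro j hj j' hj' e
    have cl : ∀ j ∈ classSupp {t} (⊤ : Subgroup G), j * j = 1 := by
      rintro _ ⟨a, rfl, g, -, rfl⟩
      rw [conj_mul, h.half.tt]; simp
    have e1 : ¬ (j * j' ∈ H → j * j' ∈ K) := mt (h.van hl) e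
    rw [Classical.not_imp] at e1
    obtain ⟨i1, i2⟩ := inverts (cl j hj) (cl j' hj')
    exact ⟨h.invol j (cl j hj) _ e1.1 e1.2 i1, h.invol j' (cl j' hj') _ e1.1 e1.2 i2⟩

theorem exists_three (h5 : 5 < K.relIndex H) : ∃ l : Fin 3 → G → ℂ, (∀ i, l i ∈ irrKer H K) ∧
    (∀ i, l i ≠ cf1 H) ∧ (∀ i j, l i ≠ star (l j)) ∧ Function.Injective l := by
  classical
  rw [← card_irrKer_of_der_le h.der h.KH] at h5
  have key : ∀ S : Finset (G → ℂ), S.card ≤ 5 → ∃ l ∈ irrKer H K, l ∉ S := fun S hS =>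
    Finset.exists_mem_notMem_of_card_lt_card (hS.trans_lt h5)
  obtain ⟨a, ha, a1⟩ := key {cf1 H} (by simp)
  obtain ⟨b, hb, b1⟩ := key {cf1 H, a, star a} (Finset.card_le_three.trans (by norm_num))
  obtain ⟨c, hc, c1⟩ := key {cf1 H, a, star a, b, star b} Finset.card_le_five
  simp only [Finset.mem_insert, Finset.mem_singleton, not_or] at a1 b1 c1
  have st : ∀ x y : G → ℂ, x ≠ star y → y ≠ star x := fun x y h e => h (by rw [e, star_star])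
  refine ⟨![a, b, c], fun i => ?_, fun i => ?_, fun i j => ?_, fun i j e => ?_⟩
  · fin_cases i <;> assumption
  · fin_cases i
    exacts [a1, b1.1, c1.1]
  · fin_cases i <;> fin_cases j
    exacts [h.ne_star ha a1, st _ _ b1.2.2, st _ _ c1.2.2.1, b1.2.2, h.ne_star hb b1.1,
      st _ _ c1.2.2.2.2, c1.2.2.1, c1.2.2.2.2, h.ne_star hc c1.1]
  · fin_cases i <;> fin_cases j
    exacts [rfl, absurd e.symm b1.2.1, absurd e.symm c1.2.1, absurd e b1.2.1, rfl,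
      absurd e.symm c1.2.2.2.1, absurd e c1.2.1, absurd e c1.2.2.2.1, rfl]

end Tor

theorem eq4 {I R a b c x y z : ℤ} (hI : I ≠ 0) (hx : x ≠ 0) (hy : y ≠ 0) (hz : z ≠ 0)
    (h : (I : ℂ) ^ 2 * (1 + (a ^ 2 / x + b ^ 2 / y + c ^ 2 / z)) = I * R) :
    I * (x * y * z + a ^ 2 * y * z + b ^ 2 * x * z + c ^ 2 * x * y) = R * (x * y * z) := by
  rw [← Int.cast_ne_zero (α := ℂ)] at hI hx hy hz
  apply Int.cast_injective (α := ℂ)
  push_cast
  field_simp at h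
  linear_combination h

/-- The data produced by section J5; `y = -q`. -/
structure Out (t : G) (M : Subgroup G) (a : Fin 3 → G → ℂ) (y l : ℤ) (U X Z g g' : G → ℂ)
    (n n' : ℤ) : Prop where
  neg : y < 0
  idx : (𝐂[t].index : ℤ) = y ^ 2 * (y ^ 2 + y + 1)
  dU : Dirr ⊤ U
  dX : Dirr ⊤ X
  dZ : Dirr ⊤ Z
  dg : Dirr ⊤ g
  dg' : Dirr ⊤ g'
  U1 : U 1 = -y ^ 3
  X1 : X 1 = -(y ^ 2 + y + 1)
  g1 : g 1 = n
  g1' : g' 1 = n'
  sum : n + n' = y * (y + 1)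
  prod : 3 * (n * n') = y * (y ^ 2 + y + 1) * l ^ 2
  disc : 3 * (n - n') ^ 2 = -y * (2 * l * (y - 1)) ^ 2
  Ut : ∀ x ∈ M, Odd (orderOf x) → U (x * t) = -a 2 x
  Xt : ∀ x ∈ M, Odd (orderOf x) → X (x * t) = 1
  gt : ∀ x ∈ M, Odd (orderOf x) → g (x * t) = -a 0 x ∧ g' (x * t) = -a 0 x
  odd1 : ∀ x, Odd (orderOf x) → 1 + X x + g x + g' x = 0
  odd3 : ∀ x, Odd (orderOf x) → 1 + X x + U x + Z x = 0

theorem core {t s s0 : G} {M S H H₀ A K : Subgroup G} {a : Fin 3 → G → ℂ} {y l : ℤ} {p n : ℕ}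
    (hC : Half 𝐂[t] M t) (hG : ∀ j : G, j ≠ 1 → j * j = 1 → j ∈ classSupp {t} ⊤)
    (cS : 𝐨(S) = 8) (hS : ∀ x ∈ S, x ≠ 1 → IsConj t x) (sM : s ∈ M)
    (hM : ∀ j, j ∈ classSupp {s} M ↔ j ∈ M ∧ j ≠ 1 ∧ j * j = 1)
    (iM : (𝐂[s].relIndex M : ℤ) = l * y) (hb : Blk M a) (a0 : a 0 1 = -l) (a1 : a 1 1 = -l)
    (a2 : a 2 1 = y) (hT : Tor t s0 H H₀ A K) (H₀M : H₀ ≤ M)
    (aT : ∀ x ∈ H₀, x ∉ K → a 0 x = 0 ∧ a 1 x = 0 ∧ a 2 x = -1) (h5 : 5 < K.relIndex H)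
    (iH : (H.index * 𝐨(A) ^ 2 : ℤ) = 𝐂[t].index * (y * (y - 1) * (y + 1) ^ 2))
    (hp : p.Prime) (hy : y.natAbs = p ^ n) (hl : y + 1 = 2 * l) (y8 : y % 8 = 5) (big : 19 ≤ |y|)
    (y3 : y % 3 ≠ 1) (co : IsCoprime (𝐂[t].index : ℤ) (y ^ 2 - 1))
    (hq : ¬ (p : ℤ) ∣ 𝐂[t].index ∨ y ∣ 𝐂[t].index) :
    p = 3 ∧ ∃ U X Z g g' n n', Out t M a y l U X Z g g' n n' := by
  obtain ⟨b, d, L, hbi, hd⟩ := exists_lt (⊤ : Subgroup G)
  have ci := Int.cast_injective (α := ℂ)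
  set I : ℤ := (𝐂[t].index : ℤ) with hI
  have I0 : I ≠ 0 := by rw [hI]; exact_mod_cast index_ne_zero_of_finite
  have y0 : y ≠ 0 := by omega
  have l0 : l ≠ 0 := by omega
  have hb' : 19 ≤ y ∨ y ≤ -19 := by rcases abs_cases y with h | h <;> omega
  have o1 : Odd (orderOf (1 : G)) := by simp
  have c1 := cf1_mem_VChar (⊤ : Subgroup G)
  have B1 : ∀ i, ip ⊤ (cf1 ⊤) (bet M t (cf1 M - a i)) = 1 := fun i => by
    rw [hC.ip_bet (cf1_mem_CF _), show tw M t (cf1 ⊤) = cf1 M from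
      res_congr fun g _ => by simp, ip_sub_right, ip_eq_zero_symm (hb.orth1 i)]
    simp
  have B1' : ∀ i, ip ⊤ (bet M t (cf1 M - a i)) (cf1 ⊤) = 1 := fun i => by
    rw [← conj_ip, B1, map_one]
  let o : VChar (⊤ : Subgroup G) := ⟨cf1 ⊤, c1⟩
  let β : Fin 3 → VChar (⊤ : Subgroup G) := fun i => ⟨_, hC.bet_vchar (hb.vch i)⟩ - o
  have cβ : ∀ i, (β i).1 = bet M t (cf1 M - a i) - cf1 ⊤ := fun _ => rfl
  have bβ : ∀ i j, b (β i) (β j) = if i = j then 3 else 1 := fun i j => ci (by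
    rw [← hbi, cβ, cβ]
    simp only [ip_sub_left, ip_sub_right, B1, B1', ip_cf1_cf1,
      hC.ip_bet_bet (vchar_mem_CF (hb.vch i)) (hb.van i) (hb.van j), hb.orth1,
      ip_eq_zero_symm (hb.orth1 _), hb.ip_a]
    split_ifs <;> norm_num)
  have oβ : ∀ i, b o (β i) = 0 := fun i => ci (by rw [← hbi, cβ]; simp [o, B1])
  have oo : b o o = 1 := ci (by rw [← hbi]; simp [o])
  have dβ : ∀ i, d (β i) = -1 := fun i => ci (by rw [← hd, cβ]; simp [hC.bet_odd _ o1])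
  have dir : ∀ x, b x x = 1 → Dirr ⊤ x.1 := fun x hx =>
    dirr_of_nsq_one x.2 (nsq_eq_of_ip (by rw [hbi, hx]; simp))
  have val : ∀ x i j k, Lt.Dv b (β 0) (β 1) (β 2) x i j k → i ≠ 0 ∨ k ≠ 0 → ∀ z ∈ M,
      Odd (orderOf z) → x.1 (z * t) = -(i * a 0 z + j * a 1 z + k * a 2 z) := by
    rintro x i j k ⟨h0, rfl, rfl, rfl⟩ hne z hz ho
    have e1 : b x o = 0 := hne.elim (fun e => L.orth h0 oo e (oβ 0)) fun e => L.orth h0 oo e (oβ 2)
    have e2 : ∀ i, ip ⊤ x.1 (bet M t (cf1 M - a i)) = b x (β i) := fun i => by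
      rw [← hbi, cβ, ip_sub_right, show ip ⊤ x.1 (cf1 ⊤) = b x o from hbi x o, e1]; simp
    rw [hC.dvec hb (dir x h0) ?_ hz ho, Fin.sum_univ_three, e2, e2, e2]
    rcases hne with e | e
    exacts [⟨0, by rwa [e2, Int.cast_ne_zero]⟩, ⟨2, by rwa [e2, Int.cast_ne_zero]⟩]
  have valt : ∀ x i j k, Lt.Dv b (β 0) (β 1) (β 2) x i j k → i ≠ 0 ∨ k ≠ 0 →
      x.1 t = ((i + j) * l - k * y : ℤ) := fun x i j k h hne => by
    have := val x i j k h hne 1 (one_mem M) o1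
    rw [one_mul, a0, a1, a2] at this
    rw [this]; push_cast; ring
  have prd : ∀ (x : VChar (⊤ : Subgroup G)) (m : ℤ), b x x = 1 → x.1 t = m →
      pr ⊤ t x.1 = I ^ 2 * (m ^ 2 / d x) := fun x m hx e => by
    rw [pr_dirr (mem_top t) (dir x hx), relIndex_top_right, e, hd]; rfl
  have pro : pr ⊤ t (cf1 ⊤) = I ^ 2 := by
    rw [pr_dirr (mem_top t) (.inl (cf1_mem_Irr ⊤)), relIndex_top_right]; simp [hI]
  have se : ¬ Odd (orderOf s) := by
    obtain ⟨-, s1, ss⟩ := (hM s).1 (CH1.self_mem_class M s)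
    rw [orderOf_eq_prime (p := 2) (by rwa [pow_two]) s1]; decide
  have prβ : ∀ i, pr ⊤ t (β i).1 + I ^ 2 = I * (4 * (l * y) ^ 2 * (1 - 1 / a i 1)) := fun i => by
    rw [cβ, map_sub, pro, hC.pr_bet hG hM (hb.van i), map_sub, pr_dirr sM (hb.dirr i),
      pr_dirr sM (.inl (cf1_mem_Irr M)), hb.sing i s sM se, cf1_of_mem sM, cf1_one,
      ← Int.cast_natCast (𝐂[s].relIndex M), iM,
      show ((𝐂[t].index : ℕ) : ℂ) = (I : ℂ) from (Int.cast_natCast _).symm]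
    push_cast; ring
  have eqβ : ∀ i (x z w : VChar (⊤ : Subgroup G)) (m₁ m₂ m₃ R : ℤ), β i = x + z + w → b x x = 1 →
      b z z = 1 → b w w = 1 → x.1 t = m₁ → z.1 t = m₂ → w.1 t = m₃ →
      4 * (l * y) ^ 2 * (1 - 1 / a i 1) = R →
      1 + d x + d z + d w = 0 ∧ I * (d x * d z * d w + m₁ ^ 2 * d z * d w + m₂ ^ 2 * d x * d w +
        m₃ ^ 2 * d x * d z) = R * (d x * d z * d w) := by
    intro i x z w m₁ m₂ m₃ R e hx hz hw e1 e2 e3 e4
    have h1 := dβ i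
    have h2 := prβ i
    rw [e] at h1 h2
    rw [map_add, map_add] at h1
    rw [Submodule.coe_add, Submodule.coe_add, map_add, map_add, prd x _ hx e1, prd z _ hz e2,
      prd w _ hw e3, e4] at h2
    exact ⟨by omega, eq4 I0 (L.deg x hx) (L.deg z hz) (L.deg w hw) (by linear_combination h2)⟩
  have yC : (y : ℂ) ≠ 0 := Int.cast_ne_zero.2 y0
  have lC : (l : ℂ) ≠ 0 := Int.cast_ne_zero.2 l0
  have hlC : (y : ℂ) + 1 = 2 * l := by exact_mod_cast hl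
  have R0 : 4 * ((l : ℂ) * y) ^ 2 * (1 - 1 / a 0 1) = (y ^ 2 * (y + 1) * (y + 3) : ℤ) := by
    rw [a0]; push_cast; field_simp; linear_combination (-(y : ℂ) - 2 * l - 3) * hlC
  have R2 : 4 * ((l : ℂ) * y) ^ 2 * (1 - 1 / a 2 1) = (y * (y - 1) * (y + 1) ^ 2 : ℤ) := by
    rw [a2]; push_cast; field_simp; linear_combination (1 - (y : ℂ)) * (y + 1 + 2 * l) * hlC
  obtain ⟨lam, l1, l2, l3, l4⟩ := hT.exists_three h5
  let θ : Fin 3 → VChar (⊤ : Subgroup G) := fun i => ⟨_, hT.vch (l1 i)⟩ - o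
  have cθ : ∀ i, (θ i).1 = ind ⊤ H (cf1 H - lam i) - cf1 ⊤ := fun _ => rfl
  have T1 := fun i => hT.ip_one (l1 i) (l2 i)
  have T1' : ∀ i, ip ⊤ (cf1 ⊤) (ind ⊤ H (cf1 H - lam i)) = 1 := fun i => by
    rw [← conj_ip, T1, map_one]
  have bθ : ∀ i j, b (θ i) (θ j) = if i = j then 2 else 1 := fun i j => ci (by
    rw [← hbi, cθ, cθ]
    simp only [ip_sub_left, ip_sub_right, T1, T1', ip_cf1_cf1,
      hT.ip_ip (l1 i) (l1 j) (l2 i) (l2 j) (l3 i j), l4.eq_iff]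
    split_ifs <;> norm_num)
  have dθ : ∀ i, d (θ i) = -1 := fun i => ci (by
    rw [← hd, cθ, Pi.sub_apply, hT.apply_sq (l1 i) (one_mul 1)]; simp)
  have θβ : ∀ i j (c : ℤ), (∀ x ∈ H₀, x ∉ K → a j x = -c) → b (θ i) (β j) = c := fun i j c hc =>
    ci (by
      rw [← hbi, cθ, cβ]
      simp only [ip_sub_left, ip_sub_right, T1, B1, ip_cf1_cf1]
      rw [hT.ip_bet hC H₀M (l1 i) (l2 i) (vchar_mem_CF (hb.vch j)) (hb.van j) (c := 1 + c)
        fun x hx hK => by rw [Pi.sub_apply, cf1_of_mem (H₀M hx), hc x hx hK]; simp]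
      simp)
  obtain ⟨U, hU⟩ := L.theta (bθ 0 0) (bθ 1 1) (bθ 2 2) (bθ 0 1) (bθ 0 2) (bθ 1 2) (dθ 0) (dθ 1)
    (dθ 2)
  have DU := L.dU (bβ 0 0) (bβ 1 1) (bβ 2 2) (bβ 0 2) (bθ 0 0) (bθ 1 1) (bθ 2 2) (bθ 0 1) (bθ 0 2)
    (bθ 1 2) hU (by
      have : ∀ i, b (θ i) (β 0) = 0 ∧ b (θ i) (β 1) = 0 ∧ b (θ i) (β 2) = 1 := fun i =>
        ⟨θβ i 0 0 fun x hx hK => by simpa using (aT x hx hK).1,
          θβ i 1 0 fun x hx hK => by simpa using (aT x hx hK).2.1,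
          θβ i 2 1 fun x hx hK => by simpa using (aT x hx hK).2.2⟩
      rintro _ (rfl | rfl | rfl) <;> exact this _)
  have Ut := valt U _ _ _ DU (.inr one_ne_zero)
  have W0 : b (U - θ 0) (U - θ 0) = 1 := by simp [hU.1, hU.2.1, L.symm (θ 0) U, bθ]
  have W1 : d (U - θ 0) = d U + 1 := by simp [dθ]
  have Wt : (U - θ 0).1 t = (1 - y : ℤ) := by
    rw [Submodule.coe_sub, Pi.sub_apply, Ut, cθ, Pi.sub_apply, hT.apply_sq (l1 0) hC.tt]
    simp; ring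
  have u0 := L.deg U hU.1
  have u1 := W1 ▸ L.deg _ W0
  have e1 : I * (d U + y) ^ 2 = y * (y - 1) * (y + 1) ^ 2 * (d U * (d U + 1)) := by
    have h1 := prd _ _ W0 Wt
    have h2 : (H.index * 𝐨(A) ^ 2 : ℂ) = I * (y * (y - 1) * (y + 1) ^ 2) := by exact_mod_cast iH
    rw [Submodule.coe_sub, map_sub, cθ, map_sub, pro, hT.pr_eq hG (l1 0) (l2 0), prd U _ hU.1 Ut,
      W1, h2] at h1
    rw [← Int.cast_ne_zero (α := ℂ)] at I0 u0 u1
    apply ci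
    push_cast at h1 u1 ⊢
    field_simp at h1
    linear_combination h1
  obtain ⟨m, e, me, hu, hIe⟩ := basic y0 (by rcases hb' with h | h <;> nlinarith) u0 u1 e1
    (by simpa using dirr_dvd (dir U hU.1) (hd U) Ut) (W1 ▸ dirr_dvd (dir _ W0) (hd _) Wt) co
  have cs := four_cases hp hy me hIe hq
  have m8 : ∀ (x : VChar (⊤ : Subgroup G)) (m : ℤ), x.1 t = m → (8 : ℤ) ∣ d x - m := fun x m e => by
    simpa [cS] using mod_card hS x.2 (hd x) e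
  rcases L.patterns (bβ 0 0) (bβ 1 1) (bβ 2 2) (bβ 0 1) (bβ 0 2) (bβ 1 2) ((dβ 0).trans (dβ 1).symm)
    DU with ⟨X, Z, g, g', f3, f1, DX, DZ, Dg, Dg'⟩ | ⟨c, e', a', D, f3, f1, Dc, De, Da, DD⟩
  · have Xt := valt X _ _ _ DX (.inr one_ne_zero)
    have gt := valt g _ _ _ Dg (.inl one_ne_zero)
    have gt' := valt g' _ _ _ Dg' (.inl one_ne_zero)
    obtain ⟨s3, q3⟩ := eqβ 2 X U Z _ _ _ _ f3 DX.1 hU.1 DZ.1 Xt Ut
      (valt Z _ _ _ DZ (.inr one_ne_zero)) R2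
    obtain ⟨s1, q1⟩ := eqβ 0 X g g' _ _ _ _ f1 DX.1 Dg.1 Dg'.1 Xt gt gt' R0
    rw [show (1 + 1) * l - 1 * y = 1 by omega] at q3 q1
    have x8 := m8 X _ Xt
    obtain ⟨r1, r2, r3, r4, r5, r6⟩ := patA hl y8 (by omega) hu hIe cs
      (patA3 I0 u0 u1 e1 s3 (by linear_combination q3)) (by omega) s1 (by linear_combination q1)
    have k : ∀ i (x z w : VChar (⊤ : Subgroup G)), β i = x + z + w → ∀ v, Odd (orderOf v) →
        1 + x.1 v + z.1 v + w.1 v = 0 := fun i x z w e v hv => by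
      have := congrFun (congrArg Subtype.val e) v
      rw [cβ, Pi.sub_apply, hC.bet_odd _ hv, cf1_top_apply] at this
      simp only [Submodule.coe_add, Pi.add_apply] at this
      linear_combination -this
    refine ⟨three_of_sq hp (n := n) (D := d g - d g') (E := 2 * l * (y - 1))
      (mul_ne_zero (by omega) (by omega)) (by rw [r6, ← hy]; congr 1; omega), U, X, Z, g, g', d g,
      d g', r1, r3, dir _ hU.1, dir _ DX.1, dir _ DZ.1, dir _ Dg.1, dir _ Dg'.1,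
      by rw [hd, r2]; simp, by rw [hd, r4]; simp, hd g, hd g', by linear_combination s1 - r4, r5, r6,
      fun x hx ho => by simpa using val U _ _ _ DU (.inr one_ne_zero) x hx ho, fun x hx ho => ?_,
      fun x hx ho => ⟨by simpa using val g _ _ _ Dg (.inl one_ne_zero) x hx ho,
        by simpa using val g' _ _ _ Dg' (.inl one_ne_zero) x hx ho⟩, k 0 X g g' f1, k 2 X U Z f3⟩
    have := hb.reg x hx ho
    rw [Fin.sum_univ_three] at this
    rw [val X _ _ _ DX (.inr one_ne_zero) x hx ho]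
    push_cast
    linear_combination -this
  · have ct := valt c _ _ _ Dc (.inr one_ne_zero)
    have Dt := valt D _ _ _ DD (.inl one_ne_zero)
    obtain ⟨s3, q3⟩ := eqβ 2 c U e' _ _ _ _ f3 Dc.1 hU.1 De.1 ct Ut
      (valt e' _ _ _ De (.inr one_ne_zero)) R2
    obtain ⟨s1, q1⟩ := eqβ 0 a' c D _ _ _ _ f1 Da.1 Dc.1 DD.1
      (valt a' _ _ _ Da (.inl one_ne_zero)) ct Dt R0
    rw [show (1 + 0) * l - 1 * y = 1 - l by omega] at q3 q1
    rw [show (0 + 1) * l - 1 * y = 1 - l by omega] at q3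
    have x8 := m8 D _ Dt
    exact (patB hp hy hl y8 big y3 hu hIe cs (patB0 hl (by omega) I0 u0 e1 s3
      (by linear_combination q3)) s1 (by omega) (by linear_combination q1)).elim

end Cfsg.Agent.P7.J5
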