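/-
Janko-Ree type with field automorphisms: the normalizer of a Sylow 2-subgroup centralizes `Φ`.
-/
import Cfsg.Agent.P7.K1
import Cfsg.Agent.P6.End4
import Cfsg.Agent.H9.FixCount

set_option autoImplicit false
set_option linter.unusedSectionVars false

namespace Cfsg.Agent.P7

open Subgroup Cfsg Cfsg.Agent Cfsg.Agent.FT
open Cfsg.Agent.H2 (pPrimeCoreOf)
open Cfsg.Agent.P5 (V4 Tri)
open Cfsg.Agent.P6 (Inv Od)
open scoped commutatorElement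

universe u

variable {G : Type u} [Group G]

/-- The Sylow 2-subgroup `⟨s, s0, t⟩`. -/
abbrev S3 (t s s0 : G) : Subgroup G := V2 s s0 ⊔ zpowers t

variable [Finite G] {t s s0 : G} {L : Subgroup G} {q : ℕ}

namespace Z

theorem nInf {A B : Subgroup G} {g : G} (h1 : g ∈ 𝐍(A)) (h2 : g ∈ 𝐍(B)) :
    g ∈ 𝐍((A ⊓ B : Subgroup G)) :=
  zpowers_le.1 (H1.le_normalizer_inf (zpowers_le.2 h1) (zpowers_le.2 h2))

theorem nSup {A B : Subgroup G} {g : G} (h1 : g ∈ 𝐍(A)) (h2 : g ∈ 𝐍(B)) :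
    g ∈ 𝐍((A ⊔ B : Subgroup G)) :=
  zpowers_le.1 (H1.le_normalizer_sup (zpowers_le.2 h1) (zpowers_le.2 h2))

theorem nZp {a g : G} (h : g ∈ 𝐂[a]) : g ∈ 𝐍(zpowers a) :=
  cent_le_norm _ ((cent_zpowers a).ge h)

theorem nConj {A : Subgroup G} {g a : G} (hg : g ∈ 𝐍(A)) (ha : a ∈ A) : g * a * g⁻¹ ∈ A :=
  (mem_normalizer_iff.1 hg a).1 ha

theorem nConj' {A : Subgroup G} {g a : G} (hg : g ∈ 𝐍(A)) (ha : a ∈ A) : g⁻¹ * a * g ∈ A := by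
  simpa using nConj (inv_mem hg) ha

theorem index_modEq {r k : ℕ} (hr : r.Prime) {H : Subgroup G} {u : G} (hu : orderOf u = r ^ k)
    (uH : u ∈ H) (hf : ∀ g : G, g⁻¹ * u * g ∈ H → ∃ c ∈ 𝐂[u], c⁻¹ * g ∈ H) :
    H.index ≡ H.relIndex 𝐂[u] [MOD r] := by
  haveI := Fact.mk hr
  have h1 := H9.card_modEq_ncard_fixedBy (Ω := G ⧸ H) hu
  have h2 := MulAction.index_stabilizer (𝐂[u] : Subgroup G) ((1 : G) : G ⧸ H)
  have h3 : MulAction.stabilizer (𝐂[u] : Subgroup G) ((1 : G) : G ⧸ H) = H.subgroupOf 𝐂[u] := by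
    ext c
    rw [MulAction.mem_stabilizer_iff, mem_subgroupOf]
    change (((c : G) * 1 : G) : G ⧸ H) = _ ↔ _
    rw [eq_comm, QuotientGroup.eq]
    simp
  have h4 : MulAction.orbit (𝐂[u] : Subgroup G) ((1 : G) : G ⧸ H) =
      MulAction.fixedBy (G ⧸ H) u := by
    ext z
    induction z using QuotientGroup.induction_on with
    | H g =>
    rw [MulAction.mem_fixedBy]
    change _ ↔ ((u * g : G) : G ⧸ H) = _
    rw [eq_comm, QuotientGroup.eq, ← mul_assoc]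
    constructor
    · rintro ⟨c, hc⟩
      change (((c : G) * 1 : G) : G ⧸ H) = _ at hc
      rw [QuotientGroup.eq, mul_one] at hc
      have e := mem_cent1.1 c.2
      have := mul_mem (mul_mem (inv_mem hc) uH) hc
      refine (congrArg (· ∈ H) ?_).mp this
      calc _ = g⁻¹ * ((c : G) * u) * (c : G)⁻¹ * g := by group
        _ = _ := by rw [← e]; group
    · intro hg
      obtain ⟨c, hc, e⟩ := hf g hg
      refine ⟨⟨c, hc⟩, ?_⟩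
      change (((c : G) * 1 : G) : G ⧸ H) = _
      rwa [QuotientGroup.eq, mul_one]
  rw [h3, h4] at h2
  rw [← h2] at h1
  exact h1

variable (h : JRF t L q) (F : Fr 𝐂[t] L t q s s0)

section
include F

theorem v4 : V4 s s0 := F.lt.hyp.v4
theorem sL : s ∈ L := F.lt.hyp.tX
theorem s0L : s0 ∈ L := F.lt.hyp.sX
theorem VL : V2 s s0 ≤ L := P5.V4.le_iff.2 ⟨sL F, s0L F⟩
theorem LC : L ≤ 𝐂[t] := F.lm.normal.1
theorem CN : 𝐂[t] ≤ 𝐍(L) := F.lm.normal.2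
theorem odd_phi : Odd 𝐨(Phi 𝐂[t] s s0) := P6.odd_Od _
theorem phi_le : Phi 𝐂[t] s s0 ≤ 𝐂[t] ⊓ (𝐂[s] ⊓ 𝐂[s0]) := (P6.Od_normal _).1
theorem phiC : Phi 𝐂[t] s s0 ≤ 𝐂[t] := (phi_le F).trans inf_le_left
theorem phi_comm : Phi 𝐂[t] s s0 ≤ 𝐂(Phi 𝐂[t] s s0) :=
  isMulComm_iff_le_cent.1 (isMulComm_of_isCyclic F.cycF)

theorem centS : 𝐂(S3 t s s0) = 𝐂[t] ⊓ (𝐂[s] ⊓ 𝐂[s0]) := by
  ext g
  rw [cent_sup, cent_zpowers, mem_inf, V4.le_cent_iff, mem_inf, mem_inf, and_comm]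

theorem phi_eq : Phi 𝐂[t] s s0 = Od 𝐂(S3 t s s0) := by rw [centS F]; rfl
theorem phi_centS : Phi 𝐂[t] s s0 ≤ 𝐂(S3 t s s0) := (centS F).symm ▸ phi_le F
theorem S_cent_phi : S3 t s s0 ≤ 𝐂(Phi 𝐂[t] s s0) := cent_comm.1 (phi_centS F)
theorem centS_eq : 𝐂(S3 t s s0) = S3 t s s0 ⊔ Phi 𝐂[t] s s0 := by rw [centS F, F.centV]
theorem centS_le : 𝐂(S3 t s s0) ≤ 𝐂(Phi 𝐂[t] s s0) :=
  (centS_eq F).le.trans (sup_le (S_cent_phi F) (phi_comm F))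
theorem tS : t ∈ S3 t s s0 := mem_sup_right (mem_zpowers t)
theorem sS : s ∈ S3 t s s0 := mem_sup_left P5.V4.t_mem
theorem s0S : s0 ∈ S3 t s s0 := mem_sup_left P5.V4.s_mem
theorem SC : S3 t s s0 ≤ 𝐂[t] :=
  sup_le ((VL F).trans (LC F)) (zpowers_le.2 (self_mem_cent1 t))

theorem normS_phi : 𝐍(S3 t s s0) ≤ 𝐍(Phi 𝐂[t] s s0) := by
  rw [phi_eq F]
  exact (H1.normalizer_le_normalizer_centralizer _).trans (P6.norm_le_norm_Od _)

theorem xS : F.x ∈ 𝐍(S3 t s s0) :=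
  nSup (F.tri.mem_norm (v4 F)) (nZp (LC F F.xL))

theorem x_cent : F.x ∈ 𝐂(Phi 𝐂[t] s s0) := H1.mem_centralizer_iff_le.2 F.Fx

theorem x_not : F.x ∉ 𝐂[s] := fun hx =>
  F.tri.not_commute (v4 F) (mem_cent1_iff_commute.1 hx).symm

theorem phiL {φ : G} (hφ : φ ∈ Phi 𝐂[t] s s0) (hL : φ ∈ L) : φ = 1 :=
  F.disj φ hφ (mem_sup_left hL)

theorem comm_mem_L {a g : G} (ha : a ∈ L) (hg : g ∈ 𝐂[t]) : g * a * g⁻¹ ∈ L :=
  (mem_normalizer_iff.1 (CN F hg) a).1 ha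

theorem der_le : ⁅𝐂[t], 𝐂[t]⁆ ≤ L := by
  have key : ∀ g ∈ 𝐂[t], ∃ a ∈ L, ∃ c ∈ Phi 𝐂[t] s s0 ⊔ zpowers t, g = a * c := fun g hg => by
    obtain ⟨a, ha, φ, hφ, e | e⟩ := F.dec g hg
    · exact ⟨a, ha, φ, mem_sup_left hφ, e⟩
    · refine ⟨a, ha, t * φ, mul_mem (mem_sup_right (mem_zpowers t)) (mem_sup_left hφ), ?_⟩
      rw [e, mem_cent1.1 (LC F ha), mul_assoc]
  have hc : IsMulCommutative ↥(Phi 𝐂[t] s s0 ⊔ zpowers t) :=
    isMulComm_sup (isMulComm_of_isCyclic F.cycF) inferInstance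
      (cent_comm.1 (by rw [cent_zpowers]; exact phiC F))
  have hle : Phi 𝐂[t] s s0 ⊔ zpowers t ≤ 𝐂[t] :=
    sup_le (phiC F) (zpowers_le.2 (self_mem_cent1 t))
  have e : 𝐂[t] ≤ L ⊔ (Phi 𝐂[t] s s0 ⊔ zpowers t) := fun g hg => by
    obtain ⟨a, ha, c, hc, rfl⟩ := key g hg
    exact mul_mem (mem_sup_left ha) (mem_sup_right hc)
  refine (commutator_mono e e).trans (der_sup_le le_normalizer (hle.trans (CN F)) (FT.der_le L)
    (comm_le_left_iff.2 (hle.trans (CN F))) ?_)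
  rw [isMulComm_iff_comm_eq_bot.1 hc]
  exact bot_le

theorem comm_elt {a b : G} (ha : a ∈ 𝐂[t]) (hb : b ∈ 𝐂[t]) : ⁅a, b⁆ ∈ L :=
  der_le F (commutator_mem_commutator ha hb)

end

include h F

theorem inv_t : Inv t := P6.inv_of_orderOf h.inv

theorem s8 : S8 (S3 t s s0) := by
  have hc : 𝐨(S3 t s s0) = 8 := by
    rw [KO.card_sup_zpowers (inv_t h F) ((VL F).trans (LC F))
      (fun ht => KO.jrf_not_mem h (VL F ht)), (v4 F).card]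
  have h2 : IsPGroup 2 (S3 t s s0) := isPGroup_of_card_eq (n := 3) hc
  exact ⟨hc, fun a ha => h.e8.sq_of_mem h2 ha, KO.odd_index h.e8 (by rw [hc])⟩

theorem transS {a b : G} (ha : a ∈ S3 t s s0) (hb : b ∈ S3 t s s0) (a1 : a ≠ 1) (b1 : b ≠ 1) :
    ∃ g ∈ 𝐍(S3 t s s0), g * a * g⁻¹ = b := by
  have hS := s8 h F
  obtain ⟨g, hg⟩ := isConj_iff.1 ((h.conj a (Inv.orderOf_eq ⟨a1, hS.sq a ha⟩)).symm.trans
    (h.conj b (Inv.orderOf_eq ⟨b1, hS.sq b hb⟩)))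
  obtain ⟨k, hk, e⟩ := hS.fusion le_top ha (mem_top g) (hg ▸ hb)
  exact ⟨k, hk.2, e.trans hg⟩

end Z

open Z

variable (h : JRF t L q) (F : Fr 𝐂[t] L t q s s0)
include h F

theorem normS_le : 𝐍(V2 s s0 ⊔ zpowers t) ≤ 𝐂(Phi 𝐂[t] s s0) := by
  have hS := s8 h F
  have hK : 𝐍(S3 t s s0) ≤ 𝐍((𝐍(S3 t s s0) ⊓ 𝐂(Phi 𝐂[t] s s0) : Subgroup G)) :=
    H1.le_normalizer_inf le_normalizer
      ((normS_phi F).trans (H1.normalizer_le_normalizer_centralizer _))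
  have hf : ∀ a ∈ S3 t s s0, a ≠ 1 → ¬ 𝐍(S3 t s s0) ⊓ 𝐂(Phi 𝐂[t] s s0) ≤ 𝐂[a] := by
    intro a ha a1 hle
    obtain ⟨g, hg, e⟩ := transS h F ha (sS F) a1 (v4 F).t1
    have := conj_mono hle g
    rw [conj_eq_of_mem_norm (hK hg), ← cent1_conj, e] at this
    exact x_not F (this ⟨xS F, x_cent F⟩)
  intro g hg
  have t1 := (inv_t h F).ne
  obtain ⟨k, hk, e⟩ := hS.trans (le_inf le_normalizer (S_cent_phi F)) inf_le_left hf (tS F)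
    (hS.conj_mem hg (tS F)) t1 (by simpa using t1)
  have hc : k⁻¹ * g ∈ 𝐂[t] := mem_cent1_iff_conj.2 (by
    calc _ = k⁻¹ * (g * t * g⁻¹) * k := by group
      _ = t := by rw [← e]; group)
  have hn : k⁻¹ * g ∈ 𝐍(S3 t s s0) := mul_mem (inv_mem hk.1) hg
  suffices k⁻¹ * g ∈ 𝐂(Phi 𝐂[t] s s0) from (Subgroup.mul_mem_cancel_left _ (inv_mem hk.2)).1 this
  have key : ∀ a ∈ L, a ∈ 𝐍(S3 t s s0) → a ∈ 𝐂(Phi 𝐂[t] s s0) := fun a ha hn => by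
    have e : S3 t s s0 ⊓ L = V2 s s0 := by
      rw [sup_inf_of_le_left (zpowers_le.2 (cent_le_norm _ (V4.le_cent_iff.2
        ⟨mem_cent1_comm.1 (LC F (sL F)), mem_cent1_comm.1 (LC F (s0L F))⟩))) (VL F),
        sup_eq_left]
      intro y hy
      rcases (inv_t h F).mem_zpowers_iff.1 hy.1 with rfl | rfl
      exacts [one_mem _, absurd hy.2 (KO.jrf_not_mem h)]
    have h1 : a ∈ 𝐍(V2 s s0) := e ▸ nInf hn (le_normalizer ha)
    exact (sup_le (le_sup_left.trans (S_cent_phi F)) (zpowers_le.2 (x_cent F)) :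
      V2 s s0 ⊔ zpowers F.x ≤ _) (F.normV ▸ mem_inf.2 ⟨ha, h1⟩)
  obtain ⟨a, ha, φ, hφ, e | e⟩ := F.dec _ hc
  · rw [e] at hn ⊢
    exact mul_mem (key a ha ((Subgroup.mul_mem_cancel_right _
      (cent_le_norm _ (phi_centS F hφ))).1 hn)) (phi_comm F hφ)
  · rw [e] at hn ⊢
    exact mul_mem (mul_mem (S_cent_phi F (tS F)) (key a ha ((Subgroup.mul_mem_cancel_left _
      (le_normalizer (tS F))).1 ((Subgroup.mul_mem_cancel_right _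
      (cent_le_norm _ (phi_centS F hφ))).1 hn)))) (phi_comm F hφ)

theorem eq_of_conj {y g : G} (hy : y ∈ Phi 𝐂[t] s s0) (hg : g * y * g⁻¹ ∈ Phi 𝐂[t] s s0) :
    g * y * g⁻¹ = y := by
  have hS := s8 h F
  have h1 : S3 t s s0 ≤ 𝐂[g * y * g⁻¹] := (S_cent_phi F).trans (cent_le_cent1 hg)
  have h2 : S3 t s s0 ^ᵍ g ≤ 𝐂[g * y * g⁻¹] := by
    rw [cent1_conj]
    exact conj_mono ((S_cent_phi F).trans (cent_le_cent1 hy)) g
  obtain ⟨c, hc, e⟩ := (hS.isSyl h1).exists_conj_eq Nat.prime_two ((hS.cj g).isSyl h2)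
  rw [conj_conj, conj_eq_self_iff] at e
  have h3 := mem_cent1_iff_conj.1 (cent_le_cent1 hy (normS_le h F e))
  calc _ = c * (g * y * g⁻¹) * c⁻¹ := (mem_cent1_iff_conj.1 hc).symm
    _ = c * g * y * (c * g)⁻¹ := by group
    _ = y := h3

theorem norm_le_cent {Y : Subgroup G} (hY : Y ≤ Phi 𝐂[t] s s0) : 𝐍(Y) ≤ 𝐂(Y) := fun g hg =>
  mem_cent.2 fun y hy => mem_cent1.1 (mem_cent1_iff_conj.2
    (eq_of_conj h F (hY hy) (hY ((mem_normalizer_iff.1 hg y).1 hy))))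

end Cfsg.Agent.P7
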