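/-
The principal block of `M = L Φ`.
-/
import Cfsg.Agent.P7.J5D
import Cfsg.Agent.P7.Z0
import Cfsg.Agent.P7.L2Main

set_option autoImplicit false
set_option linter.unusedSectionVars false

namespace Cfsg.Agent.P7.J5

open Subgroup Cfsg Cfsg.Agent Cfsg.Agent.FT
open Cfsg.Agent.P5 (inv_eq_of_sq Hyp eq_one_of_odd)
open Cfsg.Agent.P7.Z
open scoped ComplexConjugate

universe u

variable {G : Type u} [Group G] [Finite G]

theorem pow_rel {N H : Subgroup G} (hN : H ≤ 𝐍(N)) {g : G} (hg : g ∈ H) :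
    g ^ N.relIndex H ∈ N :=
  haveI := H1.normal_subgroupOf_of_le hN
  pow_index_mem (N.subgroupOf H) ⟨g, hg⟩

theorem mem_of_pow {N : Subgroup G} {g : G} {n : ℕ} (h : g ^ n ∈ N) (hc : n.Coprime (orderOf g)) :
    g ∈ N := by
  obtain ⟨m, hm⟩ := exists_pow_eq_self_of_coprime hc
  exact hm ▸ pow_mem h m

theorem half_sup {H₀ : Subgroup G} {t : G} (tt : t * t = 1) (nt : t ∉ H₀) (hc : H₀ ≤ 𝐂[t]) :
    Half (H₀ ⊔ zpowers t) H₀ t := by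
  refine ⟨tt, le_sup_left, mem_sup_right (mem_zpowers t), nt,
    sup_le hc (zpowers_le.2 (self_mem_cent1 t)), fun g hg => ?_⟩
  obtain ⟨a, ha, b, hb, rfl⟩ := (mem_sup_of_norm (zpowers_le.2
    (cent_le_norm _ (mem_cent_iff_cent1.2 hc)))).1 hg
  rcases (mem_zpowers_invol tt).1 hb with rfl | rfl
  exacts [.inl (by rwa [mul_one]), .inr (by rwa [mul_assoc, tt, mul_one])]

variable {t s s0 : G} {L : Subgroup G} {q : ℕ} (F : Fr 𝐂[t] L t q s s0)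

local notation "Φ" => Phi 𝐂[t] s s0

include F

theorem sdM : SdProd L Φ (L ⊔ Φ) :=
  ⟨rfl, (phiC F).trans (CN F), eq_bot_iff.2 fun x hx => phiL F hx.2 hx.1⟩

theorem MC : L ⊔ Φ ≤ 𝐂[t] := sup_le (LC F) (phiC F)

theorem powM {g : G} (hg : g ∈ L ⊔ Φ) : g ^ 𝐨(Φ) ∈ L :=
  (sdM F).relIndex_left ▸ pow_rel (sdM F).le_norm hg

theorem invM {j : G} (hj : j ∈ L ⊔ Φ) (jj : j * j = 1) : j ∈ L :=
  mem_of_pow (powM F hj) ((Nat.coprime_two_right.2 (odd_phi F)).coprime_dvd_right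
    (orderOf_dvd_of_pow_eq_one (by rwa [sq])))

theorem half (h : JRF t L q) : Half 𝐂[t] (L ⊔ Φ) t := by
  refine ⟨h.tt, MC F, self_mem_cent1 t, fun e => h.not_mem (invM F e h.tt), le_rfl, fun g hg => ?_⟩
  obtain ⟨a, ha, φ, hφ, e⟩ := F.dec g hg
  have m := mul_mem (mem_sup_left ha) (mem_sup_right hφ : φ ∈ L ⊔ Φ)
  refine e.imp (fun e => by rwa [e]) fun e => ?_
  rwa [← mem_cent1.1 hg, e, mul_assoc t a, ← mul_assoc, h.tt, one_mul]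

theorem card_inf {X : Subgroup G} (hX : Φ ≤ X) :
    𝐨(((L ⊔ Φ) ⊓ X : Subgroup G)) = 𝐨((L ⊓ X : Subgroup G)) * 𝐨(Φ) :=
  ((sdM F).inf_of_le_right hX (hX.trans (le_norm_self X))).card

theorem mem_inf' {X : Subgroup G} (hX : Φ ≤ X) {g : G} (hg : g ∈ (L ⊔ Φ) ⊓ X) :
    ∃ a ∈ L ⊓ X, ∃ φ ∈ Φ, a * φ = g :=
  ((sdM F).inf_of_le_right hX (hX.trans (le_norm_self X))).mem_iff.1 hg

theorem phis : Φ ≤ 𝐂[s] := (phi_le F).trans (inf_le_right.trans inf_le_left)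

theorem phis0 : Φ ≤ 𝐂[s0] := (phi_le F).trans (inf_le_right.trans inf_le_right)

theorem phiR : Φ ≤ 𝐍(R0 L s) := (H1.le_normalizer_inf (sdM F).norm
  ((phis F).trans (le_norm_self _))).trans (P6.norm_le_norm_Od _)

theorem hypM : Hyp (L ⊔ Φ) (R0 L s ⊔ Φ) s s0 := by
  have h := F.lt.hyp
  refine ⟨mem_sup_left h.tX, mem_sup_left h.sX, h.t1, h.s1, h.ts, h.tt, h.ss, h.comm,
    sup_le_sup_right h.UX _, sup_le h.Ut (phis F), ?_, nSup h.sU (cent_le_norm _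
    (mem_cent_iff_cent1.2 (phis0 F))), fun g hg => ?_, fun j hj j1 jj => ?_⟩
  · rw [sup_comm]
    exact ((odd_phi F).mul h.odd).of_dvd_nat (H1.card_sup_dvd (phiR F))
  · obtain ⟨a, ha, φ, hφ, rfl⟩ := mem_inf' F (phis F) hg
    have c : ∀ b, b * φ * s = b * s * φ := fun b => by
      rw [mul_assoc, ← mem_cent1.1 (phis F hφ), mul_assoc]
    have m : ∀ b ∈ R0 L s, b * φ ∈ R0 L s ⊔ Φ := fun b hb =>
      mul_mem (mem_sup_left hb) (mem_sup_right hφ)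
    rw [← mul_assoc, c, c]
    exact (h.cover a ha).imp (m _) (Or.imp (m _) (Or.imp (m _) (m _)))
  · obtain ⟨g, hg, e⟩ := h.conj j (invM F hj jj) j1 jj
    exact ⟨g, mem_sup_left hg, e⟩

theorem idx_s : ((L ⊔ Φ) ⊓ 𝐂[s]).relIndex (L ⊔ Φ) = F.l * q := by
  have h1 := H1.card_mul_relIndex (inf_le_left : (L ⊔ Φ) ⊓ 𝐂[s] ≤ L ⊔ Φ)
  rw [card_inf F (phis F), F.lt.hyp.card_H, (sdM F).card, F.cardR, F.cardL] at h1
  refine Nat.eq_of_mul_eq_mul_left (Nat.mul_pos (Nat.mul_pos four_pos F.oddk.pos)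
    (odd_phi F).pos) (h1.trans (by ring))

theorem idx_s0 : 𝐂[s0].relIndex ((L ⊔ Φ) ⊓ 𝐂[s]) = F.k := by
  have h1 := H1.card_mul_relIndex (inf_le_left : (L ⊔ Φ) ⊓ 𝐂[s] ⊓ 𝐂[s0] ≤ (L ⊔ Φ) ⊓ 𝐂[s])
  have h2 : L ⊓ (𝐂[s] ⊓ 𝐂[s0]) = V2 s s0 := le_antisymm (Hyp.cent_le_V F.lt.hyp F.lt.inv)
    (le_inf (VL F) (P5.V4.le_iff.2 ⟨⟨self_mem_cent1 s, mem_cent1.2 (v4 F).comm.eq.symm⟩,
      mem_cent1.2 (v4 F).comm.eq, self_mem_cent1 s0⟩))
  rw [inf_relIndex_left, inf_assoc, card_inf F (le_inf (phis F) (phis0 F)), h2, (v4 F).card,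
    card_inf F (phis F), F.lt.hyp.card_H, F.cardR] at h1
  exact Nat.eq_of_mul_eq_mul_left (Nat.mul_pos four_pos (odd_phi F).pos) (h1.trans (by ring))

theorem oddP : Odd 𝐨(F.P) := by rw [F.cardP]; exact F.toL2F.ep.oddq

theorem eq_one_of_mem_P {u : G} (hu : u ∈ F.P) (hn : u ∈ 𝐍(F.P ^ᵍ s0)) (hs : s0 ∉ 𝐍(F.P)) :
    u = 1 := by
  by_contra e
  rw [norm_conj, mem_conj] at hn
  exact hs (inv_mem_iff.1 (F.tiP u hu e s0⁻¹ (inv_mem (s0L F)) (by rwa [inv_inv])))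

theorem cardH : 𝐨(F.H) ∣ 2 * F.k ∧ q = 4 * F.k + 1 ∨ 𝐨(F.H) = F.l ∧ q + 1 = 4 * F.k := by
  refine F.eps.imp (fun e => ⟨?_, e.1⟩) fun e => ⟨by rw [e.2.2, F.cardT], e.1⟩
  have := H1.card_sup_dvd (zpowers_le.2 F.lt.hyp.tU)
  rwa [Nat.card_zpowers, orderOf_eq_prime (p := 2) (by rw [sq, (v4 F).tt]) (v4 F).t1, F.cardR,
    sup_comm, ← e.2.2] at this

theorem s0N : s0 ∉ 𝐍(F.P) := fun e => by
  have h1 := F.opp
  rw [conj_eq_of_mem_norm e, inf_assoc, inf_idem, F.normP] at h1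
  have h2 := FT.card_dvd_of_le (le_sup_left.trans h1.le)
  have h3 := F.toL2F.ep
  have := F.five
  rw [F.cardP] at h2
  rcases cardH F with e | e
  · have := h3.cop_qk.eq_one_of_dvd ((h2.trans e.1).trans (mul_dvd_mul_right (by norm_num) _))
    omega
  · have := h3.cop_ql.eq_one_of_dvd (e.1 ▸ h2)
    omega

theorem HN : F.H ≤ L ⊓ 𝐍(F.P) ⊓ 𝐍(F.P ^ᵍ s0) := F.opp.ge

theorem phiN : Φ ≤ 𝐍(F.P ^ᵍ s0) := fun φ hφ => by
  rw [norm_conj, mem_conj, mul_assoc, ← mem_cent1.1 (phis0 F hφ), inv_mul_cancel_left]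
  exact F.FP hφ

theorem phiB : Φ ≤ (L ⊔ Φ) ⊓ 𝐍(F.P) := le_inf le_sup_right F.FP

theorem PB : F.P ≤ (L ⊔ Φ) ⊓ 𝐍(F.P) := le_inf (F.PL.trans le_sup_left) (le_norm_self _)

/-- The permutation character on the Sylow `p`-subgroups of `L`. -/
noncomputable def pi0 : G → ℂ := ind (L ⊔ Φ) ((L ⊔ Φ) ⊓ 𝐍(F.P)) (cf1 ((L ⊔ Φ) ⊓ 𝐍(F.P)))

theorem pi0_apply {g : G} (hg : g ∈ L ⊔ Φ) : pi0 F g = cf1 𝐍(F.P) g +
    ∑ u ∈ fs (F.P : Set G), cf1 𝐍(F.P ^ᵍ s0) (u⁻¹ * g * u) := by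
  have m0 : s0 ∈ L ⊔ Φ := mem_sup_left (s0L F)
  have n := fun u (hu : u ∈ F.P) => le_norm_self _ hu
  have c : ∀ x ∈ L ⊔ Φ, cf1 ((L ⊔ Φ) ⊓ 𝐍(F.P)) x = cf1 𝐍(F.P) x := fun x hx => by
    by_cases e : x ∈ 𝐍(F.P)
    · rw [cf1_of_mem e, cf1_of_mem (mem_inf.2 ⟨hx, e⟩)]
    · rw [cf1_of_notMem e, cf1_of_notMem fun e' => e (mem_inf.1 e').2]
  rw [pi0, ind_fam inf_le_left (Finset.insertNone (fs (F.P : Set G)))
    (fun o => o.elim 1 (· * s0)) ?_ ?_ (cf1_mem_CF _) hg fun x hx _ => ?_, Finset.sum_insertNone]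
  · simp only [Option.elim, inv_one, one_mul, mul_one, c g hg]
    refine congrArg _ (sum_fs_congr fun u hu => ?_)
    have m := mul_mem (PB F hu).1 m0
    rw [c _ (mul_mem (mul_mem (inv_mem m) hg) m)]
    have : (u * s0)⁻¹ * g * (u * s0) ∈ 𝐍(F.P) ↔ u⁻¹ * g * u ∈ 𝐍(F.P ^ᵍ s0) := by
      rw [norm_conj, mem_conj]; simp [mul_assoc]
    by_cases e : u⁻¹ * g * u ∈ 𝐍(F.P ^ᵍ s0)
    · rw [cf1_of_mem e, cf1_of_mem (this.2 e)]
    · rw [cf1_of_notMem e, cf1_of_notMem (mt this.1 e)]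
  · rintro (_ | u) hu
    exacts [one_mem _, mul_mem (PB F (by simpa using hu)).1 m0]
  · rintro (_ | u) hu (_ | v) hv e
    · rfl
    · exact absurd ((mul_mem_cancel_left (n v (by simpa using hv))).1 (by simpa using e.2)) (s0N F)
    · exact absurd ((mul_mem_cancel_left (n u (by simpa using hu))).1 (inv_mem_iff.1
        (by simpa using e.2))) (s0N F)
    · have := eq_one_of_mem_P F (mul_mem (inv_mem (show u ∈ F.P by simpa using hu))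
        (show v ∈ F.P by simpa using hv)) (by
          rw [norm_conj, mem_conj]; simpa [mul_assoc] using e.2) (s0N F)
      rw [inv_mul_eq_one.1 this]
  · obtain ⟨a, ha, φ, hφ, rfl⟩ := (sdM F).mem_iff.1 hx
    by_cases e : a ∈ 𝐍(F.P)
    · exact ⟨none, by simp, by simpa using ⟨hx, mul_mem e (F.FP hφ)⟩⟩
    obtain ⟨u, hu, k, hk, v, hv, rfl⟩ := F.bruhat a ha e
    refine ⟨some u, by simpa using hu,
      mem_inf.2 ⟨mul_mem (inv_mem (mul_mem (PB F hu).1 m0)) hx, ?_⟩⟩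
    have : k ∈ 𝐍(F.P ^ᵍ s0) := (HN F hk).2
    rw [norm_conj, mem_conj] at this
    simpa [mul_assoc] using mul_mem (mul_mem this (n v hv)) (F.FP hφ)

theorem pi0_fix {y : G} (hy : y ∈ F.H ⊔ Φ) : pi0 F y = 1 + 𝐨((F.P ⊓ 𝐂[y] : Subgroup G)) := by
  have h1 : y ∈ (L ⊔ Φ) ⊓ 𝐍(F.P) ⊓ 𝐍(F.P ^ᵍ s0) := (sup_le ((HN F).trans (inf_le_inf_right _
    (inf_le_inf_right _ le_sup_left))) (le_inf (phiB F) (phiN F))) hy
  have key : ∀ u ∈ F.P, u⁻¹ * y * u ∈ 𝐍(F.P ^ᵍ s0) → u ∈ 𝐂[y] := fun u hu e => by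
    have := eq_one_of_mem_P F (u := u⁻¹ * (y * u * y⁻¹)) (mul_mem (inv_mem hu) (nConj h1.1.2 hu))
      (by rw [← mul_assoc, ← mul_assoc]; exact mul_mem e (inv_mem h1.2)) (s0N F)
    rw [inv_mul_eq_one, eq_comm, mul_inv_eq_iff_eq_mul] at this
    exact mem_cent1.2 this
  rw [pi0_apply F h1.1.1, cf1_of_mem h1.1.2, ← sum_fs_subset (A := (F.P ⊓ 𝐂[y] : Subgroup G))
    (f := fun u => cf1 𝐍(F.P ^ᵍ s0) (u⁻¹ * y * u))
    (fun x hx => hx.1) fun u hu hn => cf1_of_notMem fun e => hn (mem_inf.2 ⟨hu, key u hu e⟩),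
    sum_fs_congr (g := fun _ => 1) fun u hu => cf1_of_mem (by
      rw [mul_assoc, mem_cent1.1 hu.2, inv_mul_cancel_left]; exact h1.2), sum_fs_const, nsmul_one]

theorem pi0_zero {g : G} {n : ℕ} (h1 : g ^ n ∈ L) (h2 : g ^ n ≠ 1)
    (h3 : (orderOf (g ^ n)).Coprime (𝐨(F.H) * q)) : pi0 F g = 0 :=
  ind_apply_eq_zero fun x hx e => by
    have e1 : x⁻¹ * g ^ n * x⁻¹⁻¹ ∈ L ⊓ 𝐍(F.P) :=
      ⟨nConj (inv_mem ((sdM F).le_norm hx)) h1, by rw [← conj_pow, inv_inv]; exact pow_mem e.2 n⟩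
    have e2 := H1.card_sup_dvd ((HN F).trans (inf_le_left.trans inf_le_right))
    rw [F.normP, sup_comm] at e1
    rw [F.cardP] at e2
    have e3 := (Subgroup.orderOf_dvd_natCard _ e1).trans e2
    rw [← MulAut.conj_apply, MulEquiv.orderOf_eq] at e3
    exact absurd (orderOf_eq_one_iff.1 (h3.eq_one_of_dvd e3)) h2

theorem pi0_dirr : Dirr (L ⊔ Φ) (pi0 F - cf1 (L ⊔ Φ)) ∧
    ip (L ⊔ Φ) (pi0 F - cf1 (L ⊔ Φ)) (cf1 (L ⊔ Φ)) = 0 := by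
  set B := (L ⊔ Φ) ⊓ 𝐍(F.P)
  have h1 : ip (L ⊔ Φ) (pi0 F) (cf1 (L ⊔ Φ)) = 1 := by
    rw [pi0, ip_ind_left inf_le_left _ (cf1_mem_CF _), ← ip_res_right, res_cf1 inf_le_left,
      ip_cf1_cf1]
  have sd : SdProd F.P (B ⊓ 𝐍(F.P ^ᵍ s0)) B := by
    refine ⟨le_antisymm (sup_le (PB F) inf_le_left) fun g hg => ?_, inf_le_left.trans inf_le_right,
      eq_bot_iff.2 fun u hu => eq_one_of_mem_P F hu.1 hu.2.2 (s0N F)⟩
    obtain ⟨a, ha, φ, hφ, rfl⟩ := mem_inf' F F.FP hg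
    rw [F.normP] at ha
    exact mul_mem (sup_le_sup_left ((HN F).trans (inf_le_inf_right _
      (inf_le_inf_right _ le_sup_left))) _ ha) (mem_sup_right ⟨phiB F hφ, phiN F hφ⟩)
  have h0 : ∑ b ∈ fs (B : Set G), ∑ u ∈ fs (F.P : Set G), cf1 𝐍(F.P ^ᵍ s0) (u⁻¹ * b * u) =
      𝐨(B) := by
    rw [Finset.sum_comm, sum_fs_congr (g := fun _ => (𝐨((B ⊓ 𝐍(F.P ^ᵍ s0) : Subgroup G)) : ℂ))
      fun u hu => by
        rw [sum_fs_conj' (le_norm_self _ (PB F hu)), ← sum_fs_subset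
          (A := (B ⊓ 𝐍(F.P ^ᵍ s0) : Subgroup G)) (fun x hx => hx.1) fun x hx hn =>
          cf1_of_notMem fun e => hn (mem_inf.2 ⟨hx, e⟩), sum_fs_congr fun x hx => cf1_of_mem hx.2,
          sum_fs_const, nsmul_one], sum_fs_const, nsmul_eq_mul, ← Nat.cast_mul, ← sd.card]
  have h2 : ip (L ⊔ Φ) (pi0 F) (pi0 F) = 2 := by
    nth_rw 2 [pi0]
    rw [ip_ind_right inf_le_left (show pi0 F ∈ CF _ from ind_mem_CF _ _ _), ip_cf1_right,
      sum_fs_congr fun b hb => by rw [pi0_apply F hb.1, cf1_of_mem hb.2], Finset.sum_add_distrib,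
      h0, sum_fs_const, nsmul_one, ← two_mul, mul_left_comm, inv_mul_cancel₀ (card_ne_zero_C _),
      mul_one]
  have h3 : ip (L ⊔ Φ) (cf1 (L ⊔ Φ)) (pi0 F) = 1 := by rw [← conj_ip, h1, map_one]
  refine ⟨dirr_of_nsq_one (sub_mem (vchar_ind inf_le_left (cf1_mem_VChar _)) (cf1_mem_VChar _))
    (nsq_eq_of_ip ?_), by simp [h1]⟩
  simp only [ip_sub_left, ip_sub_right, h1, h2, h3, ip_cf1_cf1]
  norm_num

theorem P_inf {y : G} {n : ℕ} (h1 : y ^ n ∈ L) (h2 : y ^ n ≠ 1)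
    (h3 : (orderOf (y ^ n)).Coprime q) : F.P ⊓ 𝐂[y] = ⊥ :=
  eq_bot_iff.2 fun u hu => of_not_not fun e => by
    have e1 : y ^ n ∈ L ⊓ 𝐂[u] := ⟨h1, pow_mem (mem_cent1_comm.1 hu.2) n⟩
    rw [F.centP u hu.1 e] at e1
    exact h2 (orderOf_eq_one_iff.1 (h3.eq_one_of_dvd
      (F.cardP ▸ Subgroup.orderOf_dvd_natCard _ e1)))

/-- The integers `y = ε q` and `ε l`. -/
theorem exists_eps : ∃ ε : ℤ, (ε = 1 ∧ q = 4 * F.k + 1 ∧ q + 1 = 2 * F.l ∧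
    F.H = R0 L s ⊔ zpowers s) ∨ (ε = -1 ∧ q + 1 = 4 * F.k ∧ q = 2 * F.l + 1 ∧ F.H = F.T) :=
  F.eps.elim (fun e => ⟨1, .inl ⟨rfl, e⟩⟩) fun e => ⟨-1, .inr ⟨rfl, e⟩⟩

theorem exists_blk' {ε : ℤ} (hε : (ε = 1 ∧ q = 4 * F.k + 1 ∧ q + 1 = 2 * F.l ∧
    F.H = R0 L s ⊔ zpowers s) ∨ (ε = -1 ∧ q + 1 = 4 * F.k ∧ q = 2 * F.l + 1 ∧ F.H = F.T)) :
    ∃ a, Blk (L ⊔ Φ) a ∧ a 0 1 = -(ε * F.l : ℤ) ∧ a 1 1 = -(ε * F.l : ℤ) ∧ a 2 1 = (ε * q : ℤ) ∧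
      a 2 = (ε : ℂ) • (pi0 F - cf1 (L ⊔ Φ)) := by
  have hM := hypM F
  have o2 : orderOf s = 2 := orderOf_eq_prime (by rw [sq, hM.tt]) hM.t1
  obtain ⟨a, p, hb, hp, e⟩ := exists_blk hM
  obtain ⟨i, hi⟩ := hb.exists_eq (φ := (ε : ℂ) • (pi0 F - cf1 (L ⊔ Φ)))
    (dirr_sign_smul (pi0_dirr F).1 (hε.imp And.left And.left))
    (by rw [ip_smul_left, (pi0_dirr F).2, mul_zero]) (fun g hg he => by
      obtain ⟨c, hc, u, hu, rfl⟩ := hyp_even hM hg he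
      have e1 : (u * s) ^ 𝐨((R0 L s ⊔ Φ : Subgroup G)) = s :=
        hM.pow_eq (by rwa [mul_assoc, hM.tt, mul_one])
      rw [CF_conj (Submodule.smul_mem _ _ (pi0_dirr F).1.mem_CF) hc, Pi.smul_apply, Pi.sub_apply,
        cf1_of_mem (mul_mem (hM.UX hu) hM.tX)]
      rcases hε with ⟨rfl, e2, -, e3⟩ | ⟨rfl, e2, -, e3⟩
      · rw [pi0_fix F (mul_mem ((sup_le_sup_right (show R0 L s ≤ F.H from e3 ▸ le_sup_left) Φ :
          _ ≤ _) hu)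
          (mem_sup_left (e3 ▸ mem_sup_right (mem_zpowers s)))), P_inf F (e1.symm ▸ sL F)
          (e1.symm ▸ hM.t1) (by rw [e1, o2]; exact Nat.coprime_two_left.2 F.toL2F.ep.oddq)]
        simp
      · rw [pi0_zero F (e1.symm ▸ sL F) (e1.symm ▸ hM.t1) (by
          rw [e1, o2, e3, F.cardT]
          exact Nat.coprime_two_left.2 (F.toL2F.ep.oddl.mul F.toL2F.ep.oddq))]
        simp) hM.tX (by rw [o2]; decide)
  have h1 : pi0 F 1 = 1 + q := by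
    rw [pi0_fix F (one_mem _), cent1_one, inf_top_eq, F.cardP]
  let σ := Equiv.swap i 2
  have hb' := hb.perm σ
  have h2 : (a ∘ σ) 2 = (ε : ℂ) • (pi0 F - cf1 (L ⊔ Φ)) := by simp [σ, hi]
  have h3 : p (σ 2) = ε * q := Int.cast_injective (α := ℂ) (by
    rw [← hp, show a (σ 2) = _ from h2]; simp [h1])
  have h4 : 1 + (p (σ 0) + p (σ 1) + p (σ 2)) = 0 := Int.cast_injective (α := ℂ) (by
    have := hb'.reg 1 (one_mem _) (by simp)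
    simp only [Fin.sum_univ_three, Function.comp, hp] at this
    exact_mod_cast this)
  have n0 : ∀ j, (p j : ℚ) ≠ 0 := fun j e => (hb.dirr j).one_ne_zero (by
    rw [hp]; exact_mod_cast e)
  rw [idx_s F, idx_s0 F, ← Equiv.sum_comp σ, Fin.sum_univ_three, h3] at e
  have n1 := n0 (σ 0)
  have n2 := n0 (σ 1)
  have q0 : (q : ℚ) ≠ 0 := by have := F.five; positivity
  have l0 : (F.l : ℚ) ≠ 0 := by have := F.toL2F.ep.oddl.pos; positivity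
  have key : p (σ 0) = -(ε * F.l) ∧ p (σ 1) = -(ε * F.l) := by
    rw [h3] at h4
    generalize p (σ 0) = x at *
    generalize p (σ 1) = z at *
    have h5 : (1 + (x + z + ε * q) : ℚ) = 0 := by exact_mod_cast h4
    have h6 : ((x : ℚ) + ε * F.l) ^ 2 = 0 := by
      rcases hε with ⟨rfl, e2, e3, -⟩ | ⟨rfl, e2, e3, -⟩
      · have a1 : (q : ℚ) = 2 * F.l - 1 := by
          rw [eq_sub_iff_add_eq]; exact_mod_cast e3
        have a2 : (F.k : ℚ) = (F.l - 1) / 2 := by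
          have : (q : ℚ) = 4 * F.k + 1 := by exact_mod_cast e2
          linarith
        have a3 : (z : ℚ) = -x - 2 * F.l := by push_cast at h5; linarith
        push_cast at e ⊢
        rw [a2] at e
        field_simp at e
        rw [a3, a1] at e
        rw [a1] at q0
        exact mul_left_cancel₀ q0 (by linear_combination -e / 8)
      · have a1 : (q : ℚ) = 2 * F.l + 1 := by exact_mod_cast e3
        have a2 : (F.k : ℚ) = (F.l + 1) / 2 := by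
          have : (q : ℚ) + 1 = 4 * F.k := by exact_mod_cast e2
          linarith
        have a3 : (z : ℚ) = -x + 2 * F.l := by push_cast at h5; linarith
        push_cast at e ⊢
        rw [a2] at e
        field_simp at e
        rw [a3, a1] at e
        rw [a1] at q0
        exact mul_left_cancel₀ q0 (by linear_combination e / 8)
    have h7 : x = -(ε * F.l) := by
      exact_mod_cast eq_neg_of_add_eq_zero_left (pow_eq_zero_iff two_ne_zero |>.1 h6)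
    refine ⟨h7, ?_⟩
    rcases hε with ⟨rfl, -, e3, -⟩ | ⟨rfl, -, e3, -⟩ <;> omega
  exact ⟨a ∘ σ, hb', by simp [hp, key.1], by simp [hp, key.2], by simp [hp, h3], h2⟩

end Cfsg.Agent.P7.J5
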