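/-
The TI set attached to the torus `T`.
-/
import Cfsg.Agent.P7.J5E

set_option autoImplicit false
set_option linter.unusedSectionVars false

namespace Cfsg.Agent.P7.J5

open Subgroup Cfsg Cfsg.Agent Cfsg.Agent.FT
open Cfsg.Agent.P5 (inv_eq_of_sq Hyp eq_one_of_odd)
open Cfsg.Agent.P7.Z

universe u

variable {G : Type u} [Group G] [Finite G]

theorem Half.sq_mem {H H₀ : Subgroup G} {t g : G} (h : Half H H₀ t) (hg : g ∈ H) : g ^ 2 ∈ H₀ := by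
  rcases h.cover g hg with e | e
  · exact pow_mem e 2
  · have := pow_mem e 2
    rwa [(h.comm hg).symm.mul_pow, sq t, h.tt, mul_one] at this

theorem Half.sq_mul {H H₀ : Subgroup G} {t j : G} (h : Half H H₀ t) (hj : j ∈ H) (jj : j * j = 1) :
    j * t * (j * t) = 1 := by
  rw [mul_assoc, ← mul_assoc t, (h.comm hj).eq, h.mtt, jj]

variable {t s s0 : G} {L : Subgroup G} {q : ℕ} (h : JRF t L q) (F : Fr 𝐂[t] L t q s s0)

local notation "Φ" => Phi 𝐂[t] s s0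

include F

theorem TC : F.T ≤ 𝐂[t] := F.TL.trans (LC F)

theorem commT : F.T ≤ 𝐂(F.T) := isMulComm_iff_le_cent.1 (isMulComm_of_isCyclic F.cycT)

theorem oddT : Odd 𝐨(F.T) := by rw [F.cardT]; exact F.toL2F.ep.oddl

theorem H0M : F.T ⊔ Φ ≤ L ⊔ Φ := sup_le_sup_right F.TL _

theorem sdT : SdProd F.T Φ (F.T ⊔ Φ) :=
  ⟨rfl, F.FT, eq_bot_iff.2 fun x hx => phiL F hx.2 (F.TL hx.1)⟩

theorem oddH0 : Odd 𝐨((F.T ⊔ Φ : Subgroup G)) := by
  rw [(sdT F).card]; exact (oddT F).mul (odd_phi F)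

theorem K1T : ⁅F.T, Φ⁆ ≤ F.T := comm_le_left_iff.2 F.FT

theorem s0T : s0 ∈ 𝐍(F.T) :=
  mem_normalizer_fintype fun w hw => by rw [F.invT w hw]; exact inv_mem hw

theorem s0phi : s0 ∈ 𝐍(Φ) := cent_le_norm _ (mem_cent_iff_cent1.2 (phis0 F))

theorem s0t : s0 ∈ 𝐍(zpowers t) := nZp (LC F (s0L F))

theorem tN {X : Subgroup G} (hX : X ≤ 𝐂[t]) : zpowers t ≤ 𝐂(X) :=
  zpowers_le.2 (mem_cent_iff_cent1.2 hX)

theorem derH : ⁅F.T ⊔ Φ ⊔ zpowers t, F.T ⊔ Φ ⊔ zpowers t⁆ ≤ ⁅F.T, Φ⁆ := by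
  have h1 : F.T ≤ 𝐍(⁅F.T, Φ⁆) := (commT F).trans ((cent_anti (K1T F)).trans (cent_le_norm _))
  have h2 : Φ ≤ 𝐍(⁅F.T, Φ⁆) := H1.le_normalizer_commutator_self
  have b : ∀ {A B : Subgroup G}, A ≤ 𝐂(B) → ⁅A, B⁆ ≤ ⁅F.T, Φ⁆ := fun e =>
    (comm_eq_bot_iff.2 e).trans_le bot_le
  exact der_sup_le (sup_le h1 h2) ((tN F ((K1T F).trans (TC F))).trans (cent_le_norm _))
    (der_sup_le h1 h2 (b (commT F)) le_rfl (b (phi_comm F)))
    (b (cent_comm.1 (tN F ((H0M F).trans (MC F))))) (b (tN F (zpowers_le.2 (self_mem_cent1 t))))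

theorem KH : ⁅F.T, Φ⁆ ⊔ Φ ⊔ zpowers t ≤ F.T ⊔ Φ ⊔ zpowers t :=
  sup_le_sup_right (sup_le_sup_right (K1T F) _) _

theorem KN : F.T ⊔ Φ ⊔ zpowers t ≤ 𝐍((⁅F.T, Φ⁆ ⊔ Φ ⊔ zpowers t : Subgroup G)) :=
  comm_le_left_iff.1 ((commutator_mono (KH F) le_rfl).trans ((derH F).trans
    (le_sup_left.trans le_sup_left)))

theorem relK : (⁅F.T, Φ⁆ ⊔ Φ ⊔ zpowers t).relIndex (F.T ⊔ Φ ⊔ zpowers t) ∣ F.l := by
  have e : F.T ⊔ Φ ⊔ zpowers t = ⁅F.T, Φ⁆ ⊔ Φ ⊔ zpowers t ⊔ F.T := le_antisymm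
    (sup_le (sup_le le_sup_right (le_sup_of_le_left (le_sup_of_le_left le_sup_right)))
      (le_sup_of_le_left le_sup_right)) (sup_le (KH F) (le_sup_of_le_left le_sup_left))
  rw [e, relIndex_sup_of_norm ((le_sup_of_le_left le_sup_left).trans (KN F)), ← F.cardT]
  exact relIndex_dvd_card _ _

theorem cop_l (hφ : 𝐨(Φ).Coprime 𝐨(L)) : F.l.Coprime (2 * 𝐨(Φ)) :=
  (Nat.coprime_two_right.2 F.toL2F.ep.oddl).mul_right
    (hφ.symm.coprime_dvd_left (F.cardT ▸ FT.card_dvd_of_le F.TL))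

theorem pow_ne (hφ : 𝐨(Φ).Coprime 𝐨(L)) {x : G} (hx : x ∈ F.T ⊔ Φ ⊔ zpowers t)
    (hK : x ∉ ⁅F.T, Φ⁆ ⊔ Φ ⊔ zpowers t) : x ^ (2 * 𝐨(Φ)) ≠ 1 := fun e =>
  hK (mem_of_pow (pow_rel (KN F) hx) (((cop_l F hφ).coprime_dvd_left (relK F)).coprime_dvd_right
    (orderOf_dvd_of_pow_eq_one e)))

include h

theorem half' {X : Subgroup G} (hX : X ≤ L ⊔ Φ) : Half (X ⊔ zpowers t) X t :=
  half_sup h.tt (fun e => (half F h).nt (hX e)) (hX.trans (MC F))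

theorem invC {j : G} (hj : j ∈ 𝐂[t]) (jj : j * j = 1) : j ∈ L ∨ j * t ∈ L :=
  ((half F h).cover j hj).imp (invM F · jj) (invM F · ((half F h).sq_mul hj jj))

theorem powC {g : G} (hg : g ∈ 𝐂[t]) : g ^ (2 * 𝐨(Φ)) ∈ L :=
  pow_mul g 2 _ ▸ powM F ((half F h).sq_mem hg)

theorem powT {x : G} (hx : x ∈ F.T ⊔ Φ ⊔ zpowers t) : x ^ (2 * 𝐨(Φ)) ∈ F.T := by
  rw [pow_mul, ← (sdT F).relIndex_left]
  exact pow_rel (sdT F).le_norm ((half' h F (H0M F)).sq_mem hx)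

theorem five_lt (hφ : 𝐨(Φ).Coprime 𝐨(L)) (hl : 5 < 𝐨((F.T ⊓ 𝐂(Φ) : Subgroup G))) :
    5 < (⁅F.T, Φ⁆ ⊔ Φ ⊔ zpowers t).relIndex (F.T ⊔ Φ ⊔ zpowers t) := by
  have e : (⁅F.T, Φ⁆ ⊔ Φ ⊔ zpowers t) ⊓ (F.T ⊓ 𝐂(Φ)) = ⊥ := eq_bot_iff.2 fun x hx => by
    have h1 := (sup_le_sup_right (K1T F) Φ).trans (H0M F)
    rcases (half' h F h1).cover x hx.1 with e | e
    · obtain ⟨a, ha, φ, hφ', rfl⟩ := (mem_sup_of_norm H1.le_normalizer_commutator_self).1 e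
      obtain rfl := phiL F hφ' (F.TL ((mul_mem_cancel_left (K1T F ha)).1 hx.2.1))
      rw [← H1.centralizer_inf_commutator_eq_bot (isMulComm_of_isCyclic F.cycT) F.FT
        (hφ.coprime_dvd_right (FT.card_dvd_of_le F.TL))]
      exact ⟨hx.2.2, by rwa [mul_one]⟩
    · exact absurd ((mul_mem_cancel_left (mem_sup_left (F.TL hx.2.1))).1 (h1 e)) (half F h).nt
  refine hl.trans_le (le_trans ?_ (relIndex_le_of_le_right (K := F.T ⊓ 𝐂(Φ))
    (inf_le_left.trans (le_sup_of_le_left le_sup_left)) index_ne_zero_of_finite))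
  rw [← inf_relIndex_right, e, relIndex_bot_left]

variable (hα : ∀ w ∈ F.T, w ≠ 1 → 𝐂[w] ≤ 𝐂[t])
include hα

theorem invol_eq {w j : G} (hw : w ∈ F.T) (w1 : w ≠ 1) (hj : j ∈ 𝐂[w]) (jj : j * j = 1)
    (j1 : j ≠ 1) : j = t := by
  have c := hα w hw w1 hj
  rcases invC h F c jj with e | e
  · exact absurd (eq_one_of_odd (oddT F) (F.centT w hw w1 ▸ mem_inf.2 ⟨e, hj⟩) jj) j1
  · rw [← (half F h).mtt j, eq_one_of_odd (oddT F) (F.centT w hw w1 ▸ mem_inf.2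
      ⟨e, mul_mem hj (mem_cent1_comm.1 (TC F hw))⟩) ((half F h).sq_mul c jj), one_mul]

theorem tor (hφ : 𝐨(Φ).Coprime 𝐨(L)) : Tor t s0 (F.T ⊔ Φ ⊔ zpowers t) (F.T ⊔ Φ)
    (F.T ⊔ zpowers t) (⁅F.T, Φ⁆ ⊔ Φ ⊔ zpowers t) := by
  have hH := half' h F (H0M F)
  have hA := half' h F (F.TL.trans le_sup_left)
  have v := v4 F
  have c0 := LC F (s0L F)
  have DH : Φ ⊔ zpowers t ≤ F.T ⊔ Φ ⊔ zpowers t := sup_le_sup_right le_sup_right _
  have DT : Φ ⊔ zpowers t ≤ 𝐍(F.T) := sup_le F.FT ((tN F (TC F)).trans (cent_le_norm _))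
  have TH : F.T ≤ F.T ⊔ Φ ⊔ zpowers t := le_sup_of_le_left le_sup_left
  refine ⟨hH, oddH0 F, KH F, mem_sup_right (mem_zpowers t), (derH F).trans
    (le_sup_left.trans le_sup_left), sup_le_sup_right le_sup_left _, fun x hx => ?_, v.ss,
    fun e => ?_, nSup (nSup (s0T F) (s0phi F)) (s0t F), nSup (nSup (zpowers_le.1
      (H1.le_normalizer_commutator (zpowers_le.2 (s0T F)) (zpowers_le.2 (s0phi F)))) (s0phi F))
      (s0t F), fun a ha => ?_, fun g x hx hK hx' hK' => ?_, fun j jj x hx hK e => ?_⟩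
  · rw [sup_assoc] at hx
    obtain ⟨a, ha, b, hb, rfl⟩ := (mem_sup_of_norm DT).1 hx
    exact ⟨a, mem_sup_left ha, b, SetLike.le_def.1 (sup_le_sup_right le_sup_right _) hb, rfl⟩
  · rcases hH.cover _ e with e' | e'
    · exact v.s1 (eq_one_of_odd (oddH0 F) e' v.ss)
    · refine h.not_mem ?_
      rw [eq_inv_of_mul_eq_one_right (eq_one_of_odd (oddH0 F) e' (hH.sq_mul e v.ss))]
      exact inv_mem (s0L F)
  · rcases hA.cover a ha with e | e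
    · exact F.invT a e
    · have := F.invT _ e
      rwa [mul_assoc, mul_assoc, mem_cent1.1 (inv_mem c0), ← mul_assoc, ← mul_assoc, mul_inv_rev,
        inv_eq_of_sq h.tt, (hA.comm (inv_mem ha)).eq, mul_left_inj] at this
  · have w := powT h F hx
    have w1 := pow_ne F hφ hx hK
    have w' := powT h F hx'
    have w1' := pow_ne F hφ hx' hK'
    have e : (g⁻¹ * x * g) ^ (2 * 𝐨(Φ)) = g⁻¹ * x ^ (2 * 𝐨(Φ)) * g := by
      simpa using conj_pow (a := g⁻¹) (b := x)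
    rw [e] at w' w1'
    generalize x ^ (2 * 𝐨(Φ)) = y at *
    have gC : g⁻¹ * t * g = t := invol_eq h F hα w' w1' (by
      rw [mem_cent1]
      calc _ = g⁻¹ * (y * t) * g := by group
        _ = _ := by rw [← mem_cent1.1 (TC F w)]; group)
      (by rw [show g⁻¹ * t * g * (g⁻¹ * t * g) = g⁻¹ * (t * t) * g by group, h.tt]; group)
      fun e => h.t1 (by simpa [mul_assoc] using congrArg (g * · * g⁻¹) e)
    obtain ⟨a, ha, b, hb, rfl⟩ : ∃ a ∈ L, ∃ b ∈ Φ ⊔ zpowers t, a * b = g := by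
      refine (mem_sup_of_norm (sup_le (phiC F) (zpowers_le.2 (self_mem_cent1 t)) |>.trans
        (CN F))).1 ?_
      have : g ∈ 𝐂[t] := mem_cent1.2 (by rw [← inv_mul_eq_iff_eq_mul, ← mul_assoc, gC])
      rw [← sup_assoc]
      rcases (half F h).cover g this with e | e
      exacts [mem_sup_left e, (mul_mem_cancel_right (mem_sup_right (mem_zpowers t))).1
        (mem_sup_left e)]
    have := nConj (DT hb) w'
    rcases F.normT y w w1 a⁻¹ (inv_mem ha) (by simpa [mul_assoc] using this) with e | e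
    · exact .inl (mul_mem (TH (inv_mem_iff.1 e)) (DH hb))
    · refine .inr ?_
      rw [← mul_assoc]
      exact mul_mem (TH (by simpa [mul_assoc] using nConj' (s0T F) (inv_mem e))) (DH hb)
  · have w := powT h F hx
    have w1 := pow_ne F hφ hx hK
    have e1 : j * x ^ (2 * 𝐨(Φ)) * j⁻¹ = (x ^ (2 * 𝐨(Φ)))⁻¹ := by rw [← conj_pow, e, inv_pow]
    generalize x ^ (2 * 𝐨(Φ)) = y at *
    have e2 : j * s0 ∈ 𝐂[y] := mem_cent1_iff_conj.2 (by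
      rw [show j * s0 * y * (j * s0)⁻¹ = j * (s0 * y * s0⁻¹) * j⁻¹ by group, F.invT y w,
        ← conj_inv, e1, inv_inv])
    have c := (mul_mem_cancel_right c0).1 (hα y w w1 e2)
    rcases invC h F c jj with e | e
    · exact mem_sup_left (F.centT y w w1 ▸ mem_inf.2 ⟨mul_mem e (s0L F), e2⟩)
    · refine (mul_mem_cancel_right (mem_sup_right (mem_zpowers t))).1 (mem_sup_left
        (F.centT y w w1 ▸ mem_inf.2 ⟨?_, mul_mem e2 (mem_cent1_comm.1 (TC F w))⟩))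
      rw [mul_assoc, ← mem_cent1.1 c0, ← mul_assoc]
      exact mul_mem e (s0L F)

theorem not_dvd_index (hφ : 𝐨(Φ).Coprime 𝐨(L)) {r : ℕ} (hr : r.Prime) (hl : r ∣ F.l) :
    ¬ r ∣ 𝐂[t].index := by
  obtain ⟨w, wT, hw⟩ := exists_mem_orderOf_eq_prime hr (H := F.T) (by rwa [F.cardT])
  have w1 : w ≠ 1 := fun e => hr.one_lt.ne (by rw [← hw, e, orderOf_one])
  obtain ⟨R, hR, wR⟩ := exists_isSyl_ge hr (Q := zpowers w) (IsPGroup.of_card (n := 1)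
    (by rw [Nat.card_zpowers, hw, pow_one])) le_top
  rw [zpowers_le] at wR
  obtain ⟨⟨z, hz⟩, z1⟩ := ne_bot_iff_exists_ne_one.1 (center_ne_bot (isNilpotent_of_isPGroup hr
    hR.pgrp) fun e => w1 (by rwa [e] at wR))
  have c : z ∈ 𝐂[w] := cent_le_cent1 wR hz.2
  have h1 : z ^ (2 * 𝐨(Φ)) ∈ F.T := F.centT w wT w1 ▸ mem_inf.2
    ⟨powC h F (hα w wT w1 c), pow_mem c _⟩
  have h2 : z ^ (2 * 𝐨(Φ)) ≠ 1 := fun e => by
    obtain ⟨n, hn⟩ := hR.pgrp ⟨z, hz.1⟩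
    exact z1 (Subtype.ext (orderOf_eq_one_iff.1 (Nat.eq_one_of_dvd_coprimes
      (((cop_l F hφ).coprime_dvd_left hl).pow_left n)
      (orderOf_dvd_of_pow_eq_one (congrArg Subtype.val hn)) (orderOf_dvd_of_pow_eq_one e))))
  exact fun e => hR.ndvd (relIndex_top_right R ▸ e.trans (index_dvd_of_le
    ((mem_cent_iff_cent1.1 (pow_mem hz.2 _)).trans (hα _ h1 h2))))

end Cfsg.Agent.P7.J5
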