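/-
Section J5: the index of the centralizer of an involution.
-/
import Cfsg.Agent.P7.J5F

set_option autoImplicit false
set_option linter.unusedSectionVars false

namespace Cfsg.Agent.P7

open Subgroup Cfsg Cfsg.Agent Cfsg.Agent.FT
open Cfsg.Agent.P7.Z

universe u

variable {G : Type u} [Group G] [Finite G]

namespace J5

theorem irr_of_dirr {H : Subgroup G} {χ : G → ℂ} (h : Dirr H χ) {n : ℕ} (h1 : χ 1 = n) :
    χ ∈ Irr H := h.elim id fun e => by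
  have e1 := irr_one_eq e
  rw [Pi.neg_apply, h1, neg_eq_iff_add_eq_zero] at e1
  have := irr_dg_pos e
  norm_cast at e1
  omega

theorem dirr_vanish {r n m : ℕ} (hr : r.Prime) {H : Subgroup G} {χ : G → ℂ} (h : Dirr H χ)
    (h1 : χ 1 = n ∨ χ 1 = -n) (hd : 𝐨(H) = n * m) (hc : m.Coprime r) {g : G}
    (hg : r ∣ orderOf g) : χ g = 0 := by
  have key : ∀ χ, Dirr H χ → χ 1 = n → χ g = 0 := fun χ h h1 =>
    vanish_of_defect_zero hr (irr_of_dirr h h1) ⟨m, by rwa [dg_eq_of h1], hc⟩ hg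
  exact h1.elim (key χ h) fun e => neg_eq_zero.1 (key _ h.neg (by rw [Pi.neg_apply, e, neg_neg]))

end J5

open J5

variable {t s s0 : G} {L : Subgroup G} {q : ℕ} (h : JRF t L q) (F : Fr 𝐂[t] L t q s s0)

local notation "Φ" => Phi 𝐂[t] s s0

include F in
theorem hl_of (q5 : 5 < q) (h3 : ¬ 3 ∣ F.k) (hφ : 𝐨(Φ).Coprime 𝐨(L))
    (hb : Φ = ⊥ ∨ (F.p = 3 ∧ (3 ∣ 𝐨(Φ) ∨ q ≠ 3 ^ 𝐨(Φ)))) :
    5 < 𝐨((F.T ⊓ 𝐂(Φ) : Subgroup G)) := by
  have ep := F.toL2F.ep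
  rcases hb with e | ⟨e, e'⟩
  · rw [e, cent_bot, inf_top_eq, F.cardT]
    obtain ⟨m, hm⟩ := ep.oddk
    have : F.k ≠ 3 := fun e => h3 (by rw [e])
    rcases ep.eps with e | e <;> omega
  have hq := F.hq
  rw [e] at hq
  replace e' := e'.resolve_left fun d => Nat.not_coprime_of_dvd_of_dvd (by norm_num) d (by
    rw [F.cardL]
    exact ((dvd_pow_self 3 F.oddn.pos.ne').trans hq.symm.dvd).mul_left _) hφ
  obtain ⟨φ, hφ⟩ := (Subgroup.isCyclic_iff_exists_zpowers_eq_top _).1 F.cycF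
  obtain ⟨q0, k0, l0, h1, h2, -, -, h3, -⟩ := F.fix φ (hφ ▸ mem_zpowers φ)
  rw [← Nat.card_zpowers, hφ] at h1
  rw [← hφ, cent_zpowers, h3]
  obtain ⟨m, -, rfl⟩ := (Nat.dvd_prime_pow Nat.prime_three).1
    ((dvd_pow_self q0 (odd_phi F).pos.ne').trans (h1.trans hq).dvd)
  have := ep.mod
  rcases m with _ | _ | _ | m
  · simp at h1; omega
  · exact absurd (by simpa using h1.symm) e'
  · rw [← h1, Nat.pow_mod] at this; simp at this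
  · have : 0 < 3 ^ m := by positivity
    simp only [pow_succ] at h2
    omega

include h F in
/-- The full output of section J5. -/
theorem j5' (hφ : 𝐨(Φ).Coprime 𝐨(L)) (hα : ∀ w ∈ F.T, w ≠ 1 → 𝐂[w] ≤ 𝐂[t])
    (hl : 5 < 𝐨((F.T ⊓ 𝐂(Φ) : Subgroup G))) (h3 : ¬ 3 ∣ F.k) (hk : 𝐂[t].index.Coprime F.k)
    (hp : ¬ F.p ∣ 𝐂[t].index ∨ q ∣ 𝐂[t].index) :
    F.p = 3 ∧ q + 1 = 4 * F.k ∧ q = 2 * F.l + 1 ∧ F.H = F.T ∧ ∃ a U X Z g g' n n',
      Blk (L ⊔ Φ) a ∧ a 0 1 = F.l ∧ a 1 1 = F.l ∧ a 2 = cf1 (L ⊔ Φ) - pi0 F ∧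
      J5.Out t (L ⊔ Φ) a (-q) (-F.l) U X Z g g' n n' := by
  obtain ⟨ε, hε⟩ := exists_eps F
  obtain ⟨a, hb, a0, a1, a2, a3⟩ := exists_blk' F hε
  have ep := F.toL2F.ep
  have S := Z.s8 h F
  have o2 : ∀ j : G, j ≠ 1 → j * j = 1 → IsConj t j := fun j j1 jj =>
    h.conj j (orderOf_eq_prime (by rwa [sq]) j1)
  have l5 : 5 < F.l := hl.trans_le (F.cardT ▸ card_le_of_le inf_le_left)
  obtain ⟨k', hk'⟩ := ep.oddk
  have k3 : F.k ≠ 3 := fun e => h3 (by rw [e])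
  have hH := half' h F (H0M F)
  have φ0 := (odd_phi F).pos
  have cM : 𝐨((L ⊔ Φ : Subgroup G)) = F.l * (4 * F.k * q * 𝐨(Φ)) := by
    rw [(sdM F).card, F.cardL]; ring
  have iH : (F.T ⊔ Φ ⊔ zpowers t).index = 4 * F.k * q * 𝐂[t].index := by
    have := H1.card_mul_relIndex hH.cent
    rw [hH.card, (sdT F).card, F.cardT, (half F h).card, cM] at this
    rw [← relIndex_mul_index hH.cent, Nat.eq_of_mul_eq_mul_left (by positivity)
      (this.trans (show _ = 2 * (F.l * 𝐨(Φ)) * (4 * F.k * q) by ring))]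
  have co : 𝐂[t].index.Coprime (8 * F.k * F.l) := ((Nat.Coprime.pow_right 3
    ((Nat.prime_two.coprime_iff_not_dvd.2 fun e => S.odd
      (e.trans (index_dvd_of_le (SC F)))).symm)).mul_right hk).mul_right
    (Nat.Coprime.symm (Nat.coprime_of_dvd fun r hr h1 => not_dvd_index h F hα hφ hr h1))
  have aT : ∀ x ∈ F.T ⊔ Φ, x ∉ ⁅F.T, Φ⁆ ⊔ Φ ⊔ zpowers t →
      a 0 x = 0 ∧ a 1 x = 0 ∧ a 2 x = -1 := fun x hx hK => by
    have w := powT h F (hH.le hx)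
    have w1 := pow_ne F hφ (hH.le hx) hK
    have ow : orderOf (x ^ (2 * 𝐨(Φ))) ∣ F.l := F.cardT ▸ Subgroup.orderOf_dvd_natCard _ w
    obtain ⟨r, hr, rw⟩ := Nat.exists_prime_and_dvd (mt orderOf_eq_one_iff.1 w1)
    have cr : (4 * F.k * q * 𝐨(Φ)).Coprime r := ((ep.cop_kl.mul_left ep.cop_ql).mul_left
      (cop_l F hφ).coprime_mul_left_right.symm).coprime_dvd_right (rw.trans ow)
    have rx := rw.trans (orderOf_pow_dvd _)
    have sg : ∀ z : ℂ, z = -(ε * F.l : ℤ) → z = F.l ∨ z = -F.l := fun z e => by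
      rcases hε with ⟨rfl, -⟩ | ⟨rfl, -⟩ <;> simp [e]
    refine ⟨dirr_vanish hr (hb.dirr 0) (sg _ a0) cM cr rx,
      dirr_vanish hr (hb.dirr 1) (sg _ a1) cM cr rx, ?_⟩
    rw [a3, Pi.smul_apply, Pi.sub_apply, cf1_of_mem (H0M F hx)]
    rcases hε with ⟨rfl, e1, -⟩ | ⟨rfl, -, -, e3⟩
    · rw [pi0_zero F (F.TL w) w1 (((ep.cop_kl.coprime_dvd_left ((((cardH F).resolve_right
        fun e => by omega).1).trans (mul_dvd_mul_right (by norm_num) _))).mul_left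
        ep.cop_ql).symm.coprime_dvd_left ow)]
      simp
    · rw [pi0_fix F (e3 ▸ hx), P_inf F (F.TL w) w1 (ep.cop_ql.symm.coprime_dvd_left ow)]
      simp
  obtain ⟨p3, U, X, Z, g, g', n, n', o⟩ := core (y := ε * q) (l := ε * F.l) (half F h)
    (fun j j1 jj => by
      obtain ⟨c, rfl⟩ := isConj_iff.1 (o2 j j1 jj)
      exact ⟨t, rfl, c, mem_top c, rfl⟩) S.card (fun x hx x1 => o2 x x1 (S.sq x hx))
    (mem_sup_left (sL F)) (fun j => (hypM F).mem_class_t) (by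
      rw [← inf_relIndex_left, idx_s F]
      rcases hε with ⟨rfl, -⟩ | ⟨rfl, -⟩ <;> push_cast <;> ring) hb a0 a1 a2 (tor h F hα hφ)
    (H0M F) aT (five_lt h F hφ hl) (by
      rw [iH, (half' h F (F.TL.trans le_sup_left)).card, F.cardT]
      rcases hε with ⟨rfl, e1, e2, -⟩ | ⟨rfl, e1, e2, -⟩
      · zify at e1 e2
        rw [one_mul, e2, show (q : ℤ) - 1 = 4 * F.k by omega]; push_cast; ring
      · zify at e1 e2
        rw [show -1 * (q : ℤ) - 1 = -(4 * F.k) by omega, show -1 * (q : ℤ) + 1 = -(2 * F.l) by omega]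
        push_cast; ring) F.hp (by
      rw [← F.hq]; rcases hε with ⟨rfl, -⟩ | ⟨rfl, -⟩ <;> simp)
    (by rcases hε with ⟨rfl, -, e, -⟩ | ⟨rfl, -, e, -⟩ <;> omega)
    (by rcases hε with ⟨rfl, e, -⟩ | ⟨rfl, e, -⟩ <;> omega)
    (by rcases hε with ⟨rfl, e, e', -⟩ | ⟨rfl, e, e', -⟩ <;> rw [le_abs] <;> omega)
    (by rcases hε with ⟨rfl, e, -⟩ | ⟨rfl, e, -⟩ <;> omega) (by
      rw [show (ε * q : ℤ) ^ 2 - 1 = (8 * F.k * F.l : ℕ) by
        rcases hε with ⟨rfl, e1, e2, -⟩ | ⟨rfl, e1, e2, -⟩ <;> zify at e1 e2 <;> push_cast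
        · linear_combination ((q : ℤ) + 1) * e1 + 4 * F.k * e2
        · linear_combination ((q : ℤ) - 1) * e1 + 4 * F.k * e2]
      exact Nat.isCoprime_iff_coprime.2 co)
    (hp.imp (mt Int.natCast_dvd_natCast.1) fun e => by
      rcases hε with ⟨rfl, -⟩ | ⟨rfl, -⟩ <;> simpa using Int.natCast_dvd_natCast.2 e)
  rcases hε with ⟨rfl, -⟩ | ⟨rfl, e1, e2, e3⟩
  · have := o.neg; omega
  · exact ⟨p3, e1, e2, e3, a, U, X, Z, g, g', n, n', hb, by simpa using a0, by simpa using a1,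
      by simpa using a3, by simpa using o⟩

include h F in
theorem j5 (hφ : 𝐨(Φ).Coprime 𝐨(L)) (hα : ∀ w ∈ F.T, w ≠ 1 → 𝐂[w] ≤ 𝐂[t])
    (hl : 5 < 𝐨((F.T ⊓ 𝐂(Φ) : Subgroup G))) (h3 : ¬ 3 ∣ F.k) (hk : 𝐂[t].index.Coprime F.k)
    (hp : ¬ F.p ∣ 𝐂[t].index ∨ q ∣ 𝐂[t].index) :
    F.p = 3 ∧ q + 1 = 4 * F.k ∧ 𝐂[t].index + q ^ 3 = q ^ 4 + q ^ 2 ∧
      ∃ ξ ∈ Irr (⊤ : Subgroup G), dg ξ = q ^ 3 ∧
        ∀ y ∈ F.T ⊔ Φ, ξ (y * t) = 𝐨((F.P ⊓ 𝐂[y] : Subgroup G)) := by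
  obtain ⟨p3, e1, -, e3, a, U, X, Z, g, g', n, n', -, -, -, a2, o⟩ := j5' h F hφ hα hl h3 hk hp
  have U1 : U 1 = (q ^ 3 : ℕ) := by rw [o.U1]; push_cast; ring
  refine ⟨p3, e1, by zify; linear_combination o.idx, U, irr_of_dirr o.dU U1, dg_eq_of U1,
    fun y hy => ?_⟩
  rw [o.Ut y (H0M F hy) ((oddH0 F).of_dvd_nat (Subgroup.orderOf_dvd_natCard _ hy)), a2,
    Pi.sub_apply, cf1_of_mem (H0M F hy), pi0_fix F (e3 ▸ hy)]
  ring

end Cfsg.Agent.P7
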