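/-
Doubly transitive groups with a regular normal subgroup of the point stabilizer: Hecke algebra.
-/
import Cfsg.Agent.FT.P.CH2_2
import Cfsg.Agent.H9.FixCount

set_option autoImplicit false
set_option linter.style.haveILetI false

namespace Cfsg.Agent.P7.J6

open Subgroup Cfsg Cfsg.Agent Cfsg.Agent.FT

universe u

theorem num1 {a b N : ℕ} {D : ℤ} (ha : a ≠ 0) (hb : b ≠ 0)
    (h : D * (a * b) = 3 ^ N * (a - b) ^ 2) : ∃ m ≤ N, D = 3 ^ (N - m) * (3 ^ m - 1) ^ 2 := by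
  obtain ⟨g, a, b, hg, hc, rfl, rfl⟩ := Nat.exists_coprime' (Nat.gcd_pos_of_pos_left b ha.bot_lt)
  replace h : D * (a * b) = 3 ^ N * (a - b) ^ 2 :=
    mul_right_cancel₀ (b := (g : ℤ) ^ 2) (by positivity) (by push_cast at h; linear_combination h)
  have key : ∀ a b : ℕ, a.Coprime b → D * (a * b) = 3 ^ N * (a - b) ^ 2 → ∃ i ≤ N, a = 3 ^ i :=
    fun a b hc h => (Nat.dvd_prime_pow Nat.prime_three).1 (hc.pow_right 2 |>.dvd_of_dvd_mul_right
      (Int.natCast_dvd_natCast.1 ⟨D * b - 3 ^ N * (a - 2 * b), by push_cast; linear_combination -h⟩))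
  obtain ⟨i, hi, rfl⟩ := key a b hc h
  obtain ⟨j, hj, rfl⟩ := key b _ hc.symm (by linear_combination h)
  have fin : ∀ m ≤ N, D * 3 ^ m = 3 ^ N * (3 ^ m - 1) ^ 2 → D = 3 ^ (N - m) * (3 ^ m - 1) ^ 2 :=
    fun m hm e => mul_right_cancel₀ (b := (3 : ℤ) ^ m) (by positivity) (by
      rw [e, ← pow_sub_mul_pow (3 : ℤ) hm]; ring)
  rcases Nat.eq_zero_or_pos i with rfl | i0
  · exact ⟨j, hj, fin j hj (by push_cast at h; linear_combination h)⟩
  rcases Nat.eq_zero_or_pos j with rfl | j0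
  · exact ⟨i, hi, fin i hi (by push_cast at h; linear_combination h)⟩
  simp [i0, j0] at hc

theorem num2 {n l m r : ℕ} {D : ℤ} (hl : 3 ^ n = 2 * l + 1) (n0 : n ≠ 0) (hm : m ≤ 3 * n)
    (hD : D = 3 ^ (3 * n - m) * (3 ^ m - 1) ^ 2) (h1 : (l : ℤ) ^ 2 ∣ D) (hr : r.Prime) (r3 : r ≠ 3)
    (h2 : (r : ℤ) ∣ (3 ^ n) ^ 2 - 3 ^ n + 1) (h3 : (r : ℤ) ∣ ((3 ^ n) ^ 3 - 1) ^ 2 - D) :
    D = ((3 ^ n) ^ 3 - 1) ^ 2 := by
  have hl' : (3 : ℤ) ^ n = 2 * l + 1 := by exact_mod_cast hl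
  have hc : IsCoprime (l : ℤ) 3 := (IsCoprime.pow_right_iff n0.bot_lt).1 ⟨-2, 1, by rw [hl']; ring⟩
  rw [hD] at h1
  have h4 := (Int.pow_dvd_pow_iff two_ne_zero).1 (hc.pow.dvd_of_dvd_mul_left h1)
  obtain ⟨a, b, hb, rfl⟩ : ∃ a b, b < n ∧ m = n * a + b :=
    ⟨m / n, m % n, Nat.mod_lt _ n0.bot_lt, (Nat.div_add_mod m n).symm⟩
  have h5 : (l : ℤ) ∣ 3 ^ b - 1 := by
    have h6 : (l : ℤ) ∣ (3 ^ n) ^ a - 1 :=
      (Dvd.intro_left 2 (by rw [hl']; ring)).trans (sub_one_dvd_pow_sub_one _ a)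
    exact (dvd_sub h4 (h6.mul_left (3 ^ b))).trans (dvd_of_eq (by ring))
  obtain rfl : b = 0 := by
    by_contra b0
    have h6 : (3 : ℤ) ^ (b + 1) ≤ 3 ^ n := pow_le_pow_right₀ (by norm_num) hb
    have h7 : (1 : ℤ) < 3 ^ b := one_lt_pow₀ (by norm_num) b0
    have := Int.le_of_dvd (by omega) h5
    rw [pow_succ] at h6
    omega
  have ha : a ≤ 3 := Nat.le_of_mul_le_mul_left (by omega) n0.bot_lt
  rw [add_zero, mul_comm 3 n, ← Nat.mul_sub, pow_mul, pow_mul] at hD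
  have hr' := Nat.prime_iff_prime_int.1 hr
  have odd : ¬ (r : ℤ) ∣ 2 := fun e => by
    obtain rfl : r = 2 := (Nat.prime_dvd_prime_iff_eq hr Nat.prime_two).1 (Int.natCast_dvd_natCast.1 e)
    rw [hl'] at h2
    have : (2 : ℤ) ∣ 1 :=
      (dvd_sub h2 (dvd_mul_right 2 (2 * (l : ℤ) ^ 2 + l))).trans (dvd_of_eq (by ring))
    omega
  generalize (3 : ℤ) ^ n = y at *
  subst hD
  interval_cases a
  · exact absurd (hr'.dvd_of_dvd_pow (n := 2) ((dvd_sub h3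
      (h2.mul_right ((y + 1) * (y ^ 3 - 3)))).trans (dvd_of_eq (by ring)))) odd
  · exact absurd ((Nat.prime_dvd_prime_iff_eq hr Nat.prime_three).1
      (Int.natCast_dvd_natCast.1 ((dvd_sub h3 (h2.mul_right
        (y ^ 4 + y ^ 3 - y ^ 2 - 2 * y - 2))).trans (dvd_of_eq (by push_cast; ring))))) r3
  · exact absurd ((dvd_sub h3 (h2.mul_right (y ^ 4 - y ^ 2 - y))).trans (dvd_of_eq (by ring)))
      hr'.not_dvd_one
  · simp

variable {G : Type u} [Group G]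

/-- Convolution. -/
def cv [Fintype G] (f g : G → ℂ) : G → ℂ := fun x => ∑ z, f z * g (z⁻¹ * x)

theorem cv_trace [Fintype G] {f : G → ℂ} {κ : ℂ} (h : cv f f = κ • f) :
    ∃ a : ℕ, Nat.card G * f 1 = a * κ := by
  classical
  let M : Matrix G G ℂ := Matrix.of fun x y => f (x⁻¹ * y)
  have hM : M * M = κ • M := by
    ext x y
    have := congrFun h (x⁻¹ * y)
    rw [cv, ← Equiv.sum_comp (Equiv.mulLeft x⁻¹)] at this
    simpa [M, Matrix.mul_apply, mul_assoc] using this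
  have ht : M.trace = Nat.card G * f 1 := by simp [M, Matrix.trace]
  rw [← ht]
  by_cases k0 : κ = 0
  · refine ⟨0, ?_⟩
    rw [(Matrix.isNilpotent_trace_of_isNilpotent ⟨2, by rw [sq, hM, k0, zero_smul]⟩).eq_zero]
    simp
  have he : IsIdempotentElem (Matrix.toLin' (κ⁻¹ • M)) := by
    rw [IsIdempotentElem, Module.End.mul_eq_comp, ← Matrix.toLin'_mul, smul_mul_smul_comm, hM,
      smul_smul, inv_mul_cancel_right₀ k0]
  have := (LinearMap.IsIdempotentElem.isProj_range _ he).trace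
  rw [Matrix.trace_toLin'_eq, Matrix.trace_smul, smul_eq_mul, inv_mul_eq_iff_eq_mul₀ k0] at this
  exact ⟨_, this.trans (mul_comm _ _)⟩

theorem hecke_num [Fintype G] {e ω : G → ℂ} {β Q : ℕ} {c : ℂ} (hG : Nat.card G = (Q + 1) * β)
    (Q0 : Q ≠ 0) (e1 : e 1 = 1) (w1 : ω 1 = 0) (h1 : cv e e = (β : ℂ) • e)
    (h2 : cv e ω = (β : ℂ) • ω) (h3 : cv ω e = (β : ℂ) • ω)
    (h4 : cv ω ω = (β : ℂ) • ((Q : ℂ) • e + c • ω)) :
    ∃ a b : ℕ, a ≠ 0 ∧ b ≠ 0 ∧ c ^ 2 * (a * b) = Q * (a - b) ^ 2 := by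
  have β0 : (β : ℂ) ≠ 0 := Nat.cast_ne_zero.2 fun e => by simp [e] at hG
  have key : ∀ θ τ : ℂ, θ + τ = c → θ * τ = -Q → ∃ a : ℕ, -(Q + 1) * τ = a * (θ - τ) :=
    fun θ τ s p => by
      obtain ⟨a, ha⟩ := cv_trace (f := ω - τ • e) (κ := β * (θ - τ)) (funext fun x => by
        have a1 := congrFun h1 x
        have a2 := congrFun h2 x
        have a3 := congrFun h3 x
        have a4 := congrFun h4 x
        simp only [cv, Pi.smul_apply, Pi.add_apply, Pi.sub_apply, smul_eq_mul] at *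
        have : ∀ z, (ω z - τ * e z) * (ω (z⁻¹ * x) - τ * e (z⁻¹ * x)) = ω z * ω (z⁻¹ * x) -
            τ * (ω z * e (z⁻¹ * x)) - τ * (e z * ω (z⁻¹ * x)) + τ ^ 2 * (e z * e (z⁻¹ * x)) :=
          fun z => by ring
        simp only [this, Finset.sum_add_distrib, Finset.sum_sub_distrib, ← Finset.mul_sum, a1, a2,
          a3, a4]
        linear_combination (β * e x) * p - (β * ω x) * s)
      refine ⟨a, mul_left_cancel₀ β0 ?_⟩
      simp only [hG, Pi.sub_apply, Pi.smul_apply, e1, w1, smul_eq_mul] at ha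
      push_cast at ha
      linear_combination ha
  obtain ⟨d, hd⟩ := IsAlgClosed.exists_eq_mul_self (c ^ 2 + 4 * Q)
  have s : (c + d) / 2 + (c - d) / 2 = c := by ring
  have p : (c + d) / 2 * ((c - d) / 2) = -Q := by linear_combination hd / 4
  generalize (c + d) / 2 = θ at s p
  generalize (c - d) / 2 = τ at s p
  obtain ⟨a, ha⟩ := key θ τ s p
  obtain ⟨b, hb⟩ := key τ θ (by rw [← s, add_comm]) (by rw [← p, mul_comm])
  have Q1 : (-(Q + 1) : ℂ) ≠ 0 := by exact_mod_cast (by omega : (-(Q + 1) : ℤ) ≠ 0)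
  have p0 : θ * τ ≠ 0 := by rw [p]; exact_mod_cast (by omega : (-Q : ℤ) ≠ 0)
  have a0 := mul_ne_zero Q1 (right_ne_zero_of_mul p0)
  have b0 := mul_ne_zero Q1 (left_ne_zero_of_mul p0)
  rw [ha] at a0
  rw [hb] at b0
  have h5 : a * θ + b * τ = 0 :=
    mul_left_cancel₀ (right_ne_zero_of_mul a0) (by linear_combination τ * hb - θ * ha)
  exact ⟨a, b, Nat.cast_ne_zero.1 (left_ne_zero_of_mul a0), Nat.cast_ne_zero.1 (left_ne_zero_of_mul b0),
    by rw [← s]; linear_combination (b * θ + a * τ) * h5 - (a - b) ^ 2 * p⟩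

theorem exists_sum_eq [Finite G] {T : Subgroup G} {X : Set G} {γ : G → ℂ}
    (hX : ∀ a ∈ T, ∀ x ∈ X, a * x * a⁻¹ ∈ X) (free : ∀ a ∈ T, ∀ x ∈ X, a * x * a⁻¹ = x → a = 1)
    (hγ : ∀ a ∈ T, ∀ x, γ (a * x * a⁻¹) = γ x) (int : ∀ x ∈ X, IsIntegral ℤ (γ x)) :
    ∃ z, IsIntegral ℤ z ∧ ∑ x ∈ fs X, γ x = 𝐨(T) * z := by
  classical
  letI : MulAction T G := MulAction.compHom G (MulAut.conj.comp T.subtype)
  have key : ∀ v, ∃ m : ℕ, ((fs X).filter fun x => γ x = v).card = 𝐨(T) * m := fun v => by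
    rw [← Set.ncard_coe_finset]
    refine H9.dvd_ncard_of_invariant (G := T) _ (fun g x hx => ?_) fun x hx => ?_
    · simp only [Finset.coe_filter, mem_fs, Set.mem_setOf_eq] at hx ⊢
      exact ⟨hX g g.2 x hx.1, (hγ g g.2 x).trans hx.2⟩
    · simp only [Finset.coe_filter, mem_fs, Set.mem_setOf_eq] at hx
      rw [show MulAction.stabilizer T x = ⊥ from
        eq_bot_iff.2 fun g hg => Subtype.ext (free g g.2 x hx.1 hg), index_bot]
  choose m hm using key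
  refine ⟨∑ v ∈ (fs X).image γ, m v * v, IsIntegral.sum _ fun v hv => ?_, ?_⟩
  · obtain ⟨x, hx, rfl⟩ := Finset.mem_image.1 hv
    exact (isIntegral_natCast _).mul (int x (mem_fs.1 hx))
  · rw [Finset.mul_sum]
    refine (Finset.sum_comp id γ).trans (Finset.sum_congr rfl fun v _ => ?_)
    rw [hm, nsmul_eq_mul, Nat.cast_mul, mul_assoc, id]

/-- A split BN-pair of rank one. -/
structure BN (U H : Subgroup G) (w : G) : Prop where
  ww : w * w = 1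
  HU : H ≤ 𝐍(U)
  wH : w ∈ 𝐍(H)
  nw : w ∉ U ⊔ H
  ti : ∀ u ∈ U, u ≠ 1 → ∀ g, g⁻¹ * u * g ∈ U ⊔ H → g ∈ U ⊔ H
  index : (U ⊔ H).index = 𝐨(U) + 1

namespace BN

variable [Finite G] {U H : Subgroup G} {w : G} (h : BN U H w)
include h

theorem not_mem {u b : G} (hu : u ∈ U) (hb : b ∈ U ⊔ H) : u * w * b ∉ U ⊔ H := fun a =>
  h.nw ((mul_mem_cancel_left (mem_sup_left hu)).1 ((mul_mem_cancel_right hb).1 a))

theorem bij : Set.BijOn (fun p : G × G => p.1 * w * p.2) ((U : Set G) ×ˢ ((U ⊔ H : Subgroup G) : Set G))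
    ((U ⊔ H : Subgroup G) : Set G)ᶜ := by
  have inj : Set.InjOn (fun p : G × G => p.1 * w * p.2)
      ((U : Set G) ×ˢ ((U ⊔ H : Subgroup G) : Set G)) := fun a ha b hb e => by
    replace e : a.1 * w * a.2 = b.1 * w * b.2 := e
    have e1 : a.1 = b.1 := by
      by_contra hne
      refine h.nw (h.ti _ (mul_mem (inv_mem hb.1) ha.1) (fun e => hne (inv_mul_eq_one.1 e).symm) w ?_)
      rw [show w⁻¹ * (b.1⁻¹ * a.1) * w = w⁻¹ * b.1⁻¹ * (a.1 * w * a.2) * a.2⁻¹ by group, e]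
      simpa [mul_assoc] using mul_mem hb.2 (inv_mem ha.2)
    exact Prod.ext e1 (by rwa [e1, mul_right_inj] at e)
  have mp : Set.MapsTo (fun p : G × G => p.1 * w * p.2)
      ((U : Set G) ×ˢ ((U ⊔ H : Subgroup G) : Set G)) ((U ⊔ H : Subgroup G) : Set G)ᶜ :=
    fun p hp => h.not_mem hp.1 hp.2
  refine ⟨mp, inj, (Set.eq_of_subset_of_ncard_le mp.image_subset ?_).ge⟩
  have h1 := (U ⊔ H).card_mul_index
  have h2 := Set.ncard_add_ncard_compl ((U ⊔ H : Subgroup G) : Set G)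
  rw [inj.ncard_image, Set.ncard_prod]
  rw [← h1, h.index] at h2
  change 𝐨((U ⊔ H : Subgroup G)) + _ = _ at h2
  change _ ≤ 𝐨(U) * 𝐨((U ⊔ H : Subgroup G))
  nlinarith

theorem bruhat {g : G} (hg : g ∉ U ⊔ H) : ∃ u ∈ U, ∃ b ∈ U ⊔ H, g = u * w * b := by
  obtain ⟨p, hp, e⟩ := h.bij.2.2 hg
  exact ⟨p.1, hp.1, p.2, hp.2, e.symm⟩

theorem sum [Fintype G] (F : G → ℂ) : ∑ g, F g = ∑ b ∈ fs ((U ⊔ H : Subgroup G) : Set G), F b +
    ∑ u ∈ fs (U : Set G), ∑ b ∈ fs ((U ⊔ H : Subgroup G) : Set G), F (u * w * b) := by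
  rw [← sum_fs_top, Subgroup.coe_top,
    sum_fs_diff (A := ((U ⊔ H : Subgroup G) : Set G)) (Set.subset_univ _),
    ← Finset.sum_product', ← Set.compl_eq_univ_diff, ← sum_fs_bij _ h.bij]
  congr 2
  ext p
  simp

variable {μ : G → ℂ} (hμ : IsLin (U ⊔ H) μ) (hU : ∀ u ∈ U, μ u = 1)
  (hw : ∀ a ∈ H, μ (w * a * w⁻¹) = μ a)
include hμ hU hw

theorem exists_omega : ∃ ω : G → ℂ, (∀ b ∈ U ⊔ H, ω b = 0) ∧ ω w = 1 ∧
    (∀ b ∈ U ⊔ H, ∀ g, ω (g * b) = ω g * μ b) ∧ ∀ b ∈ U ⊔ H, ∀ g, ω (b * g) = μ b * ω g := by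
  classical
  let ω : G → ℂ := fun g => if hg : g ∈ U ⊔ H then 0 else μ (h.bij.2.2 hg).choose.2
  have h0 : ∀ b ∈ U ⊔ H, ω b = 0 := fun b hb => dif_pos hb
  have h1 : ∀ u ∈ U, ∀ b ∈ U ⊔ H, ω (u * w * b) = μ b := fun u hu b hb => by
    have := (h.bij.2.2 (h.not_mem hu hb)).choose_spec
    exact (dif_neg (h.not_mem hu hb)).trans (congrArg (fun p : G × G => μ p.2)
      (h.bij.2.1 this.1 (Set.mk_mem_prod hu hb) this.2))
  refine ⟨ω, h0, by simpa [hμ.2.1] using h1 1 (one_mem _) 1 (one_mem _), fun b hb g => ?_,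
    fun b hb g => ?_⟩ <;> by_cases hg : g ∈ U ⊔ H
  · rw [h0 _ hg, h0 _ (mul_mem hg hb), zero_mul]
  · obtain ⟨u, hu, c, hc, rfl⟩ := h.bruhat hg
    rw [mul_assoc, h1 u hu _ (mul_mem hc hb), h1 u hu c hc, hμ.2.2 c hc b hb]
  · rw [h0 _ hg, h0 _ (mul_mem hb hg), mul_zero]
  · obtain ⟨u, hu, c, hc, rfl⟩ := h.bruhat hg
    obtain ⟨v, hv, a, ha, e⟩ := (mem_sup_of_norm h.HU).1 (mul_mem hb (mem_sup_left hu))
    have ha' := (mem_normalizer_iff.1 (inv_mem h.wH) a).1 ha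
    have e1 : μ b = μ a := by
      rw [← mul_one (μ b), ← hU u hu, ← hμ.2.2 b hb u (mem_sup_left hu), ← e,
        hμ.2.2 v (mem_sup_left hv) a (mem_sup_right ha), hU v hv, one_mul]
    rw [h1 u hu c hc, e1, show b * (u * w * c) = b * u * w * c by group, ← e,
      show v * a * w * c = v * w * (w⁻¹ * a * w⁻¹⁻¹ * c) by group,
      h1 v hv _ (mul_mem (mem_sup_right ha') hc), hμ.2.2 _ (mem_sup_right ha') c hc, ← hw _ ha']
    congr 2
    group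

theorem hecke (U1 : U ≠ ⊥) : ∃ γ : G → ℂ, (∀ u ∈ U, u ≠ 1 → ∃ b ∈ U ⊔ H, γ u = μ b) ∧
    (∀ a ∈ H, ∀ u, γ (a * u * a⁻¹) = γ u) ∧
    (∃ a b : ℕ, a ≠ 0 ∧ b ≠ 0 ∧ (∑ u ∈ fs (sharp U), γ u) ^ 2 * (a * b) = 𝐨(U) * (a - b) ^ 2) ∧
    ((∀ u ∈ U, u ≠ 1 → γ u = 1) → ∃ f : G →* ℂ, ∀ b ∈ U ⊔ H, f b = μ b) := by
  letI := Fintype.ofFinite G
  obtain ⟨ω, h0, h1, hr, hl⟩ := h.exists_omega hμ hU hw
  have mr : ∀ b ∈ U ⊔ H, ∀ g, μ (g * b) = μ g * μ b := fun b hb g => by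
    by_cases hg : g ∈ U ⊔ H
    · exact hμ.2.2 g hg b hb
    · rw [hμ.1 g hg, hμ.1 _ (mt (mul_mem_cancel_right hb).1 hg), zero_mul]
  have ml : ∀ b ∈ U ⊔ H, ∀ g, μ (b * g) = μ b * μ g := fun b hb g => by
    by_cases hg : g ∈ U ⊔ H
    · exact hμ.2.2 b hb g hg
    · rw [hμ.1 g hg, hμ.1 _ (mt (mul_mem_cancel_left hb).1 hg), mul_zero]
  have ext : ∀ f : G → ℂ, (∀ b ∈ U ⊔ H, ∀ g, f (g * b) = f g * μ b) →
      (∀ b ∈ U ⊔ H, ∀ g, f (b * g) = μ b * f g) → f = f 1 • μ + f w • ω := fun f fr fl => by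
    funext g
    simp only [Pi.add_apply, Pi.smul_apply, smul_eq_mul]
    by_cases hg : g ∈ U ⊔ H
    · rw [h0 g hg, ← fr g hg, one_mul, mul_zero, add_zero]
    · rw [hμ.1 g hg]
      obtain ⟨u, hu, c, hc, rfl⟩ := h.bruhat hg
      rw [fr c hc, hr c hc, fl u (mem_sup_left hu), hl u (mem_sup_left hu), h1]
      ring
  have cvl : ∀ f : G → ℂ, (∀ b ∈ U ⊔ H, ∀ g, f (b * g) = μ b * f g) →
      cv μ f = (𝐨((U ⊔ H : Subgroup G)) : ℂ) • f := fun f fl => funext fun x => by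
    rw [cv, ← sum_fs_top, Subgroup.coe_top,
      ← sum_fs_subset (A := ((U ⊔ H : Subgroup G) : Set G)) (Set.subset_univ _)
      fun z _ hz => by rw [hμ.1 z hz, zero_mul], sum_fs_congr (g := fun _ => f x) fun z hz => by
        rw [fl _ (inv_mem hz), ← mul_assoc, hμ.mul_inv hz, one_mul], sum_fs_const, nsmul_eq_mul]
    rfl
  have wi : w⁻¹ = w := inv_eq_of_mul_eq_one_right h.ww
  have cvw : ∀ f : G → ℂ, (∀ b ∈ U ⊔ H, ∀ g, f (b * g) = μ b * f g) → ∀ x, cv ω f x =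
      𝐨((U ⊔ H : Subgroup G)) * ∑ u ∈ fs (U : Set G), f (w * u * x) := fun f fl x => by
    rw [cv, h.sum, Finset.sum_eq_zero fun b hb => by rw [h0 b (mem_fs.1 hb), zero_mul], zero_add,
      ← sum_fs_inv U fun u => f (w * u * x), Finset.mul_sum]
    refine sum_fs_congr fun u hu => ?_
    rw [← nsmul_eq_mul, ← sum_fs_const]
    refine sum_fs_congr fun b hb => ?_
    rw [hr b hb, hl u (mem_sup_left hu), hU u hu, h1, show (u * w * b)⁻¹ * x = b⁻¹ * (w⁻¹ * u⁻¹ * x) by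
      group, fl _ (inv_mem hb), one_mul, one_mul, ← mul_assoc, hμ.mul_inv hb, one_mul, wi]
  have nb : ∀ u ∈ U, u ≠ 1 → w * u * w ∉ U ⊔ H := fun u hu u1 a =>
    h.nw (h.ti u hu u1 w (by rwa [wi]))
  have wH : ∀ a ∈ H, w * a * w ∈ H ∧ μ (w * a * w) = μ a := fun a ha => by
    simpa [wi] using And.intro ((mem_normalizer_iff.1 h.wH a).1 ha) (hw a ha)
  refine ⟨fun u => ω (w * u * w), fun u hu u1 => ?_, fun a ha u => ?_, ?_, fun hγ => ?_⟩
  · obtain ⟨v, hv, b, hb, e⟩ := h.bruhat (nb u hu u1)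
    exact ⟨b, hb, by simp only [e, hr b hb, hl v (mem_sup_left hv), hU v hv, h1, one_mul]⟩
  · have e : w * (a * u * a⁻¹) * w = w * a * w * (w * u * w) * (w * a⁻¹ * w) := by
      simp only [mul_assoc, ← mul_assoc w w, h.ww, one_mul]
    simp only [e, hr _ (mem_sup_right (wH _ (inv_mem ha)).1), hl _ (mem_sup_right (wH _ ha).1),
      (wH _ ha).2, (wH _ (inv_mem ha)).2]
    linear_combination ω (w * u * w) * hμ.mul_inv (mem_sup_right ha)
  · have cr : ∀ f : G → ℂ, (∀ b ∈ U ⊔ H, ∀ g, f (g * b) = f g * μ b) → ∀ b ∈ U ⊔ H, ∀ g,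
        cv ω f (g * b) = cv ω f g * μ b := fun f fr b hb g => by
      simp only [cv, Finset.sum_mul, ← mul_assoc, fr b hb]
    have cl : ∀ f : G → ℂ, ∀ b ∈ U ⊔ H, ∀ g, cv ω f (b * g) = μ b * cv ω f g := fun f b hb g => by
      rw [cv, ← Equiv.sum_comp (Equiv.mulLeft b)]
      simp [cv, Finset.mul_sum, mul_assoc, hl b hb]
    refine hecke_num (e := μ) (ω := ω) (β := 𝐨((U ⊔ H : Subgroup G)))
      (by rw [← h.index, index_mul_card]) Nat.card_pos.ne' hμ.2.1 (h0 1 (one_mem _))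
      (cvl μ ml) (cvl ω hl) ?_ ?_
    · rw [ext _ (cr μ mr) (cl μ), cvw μ ml, cvw μ ml, sum_fs_sharp U fun u => μ (w * u * w),
        Finset.sum_eq_zero fun u hu => hμ.1 _ (by simpa using h.not_mem (one_mem _) (mem_sup_left (mem_fs.1 hu))),
        Finset.sum_eq_zero fun u hu => hμ.1 _ (nb u (mem_fs.1 hu).1 (mem_fs.1 hu).2)]
      simp [h.ww, hμ.2.1]
    · rw [ext _ (cr ω hr) (cl ω), cvw ω hl, cvw ω hl, sum_fs_sharp U fun u => ω (w * u * w),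
        sum_fs_congr (g := fun _ => 1) fun u hu => by
          rw [mul_one, hr u (mem_sup_left hu), h1, hU u hu, one_mul], sum_fs_const]
      simp [h.ww, h0 1 (one_mem _), smul_smul]
  · have fr : ∀ b ∈ U ⊔ H, ∀ g, (μ + ω) (g * b) = (μ + ω) g * μ b := fun b hb g => by
      simp only [Pi.add_apply, mr b hb, hr b hb, add_mul]
    have fl : ∀ b ∈ U ⊔ H, ∀ g, (μ + ω) (b * g) = μ b * (μ + ω) g := fun b hb g => by
      simp only [Pi.add_apply, ml b hb, hl b hb, mul_add]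
    have fb : ∀ b ∈ U ⊔ H, (μ + ω) b = μ b := fun b hb => by simp [h0 b hb]
    have fw : (μ + ω) w = 1 := by simp [hμ.1 w h.nw, h1]
    refine ⟨⟨⟨μ + ω, by rw [fb 1 (one_mem _), hμ.2.1]⟩, fun x y => ?_⟩, fb⟩
    by_cases hx : x ∈ U ⊔ H
    · simp only [fl x hx, fb x hx]
    by_cases hy : y ∈ U ⊔ H
    · simp only [fr y hy, fb y hy]
    obtain ⟨u, hu, b, hb, rfl⟩ := h.bruhat hx
    obtain ⟨u', hu', b', hb', rfl⟩ := h.bruhat hy
    obtain ⟨v, hv, a, ha, e⟩ := (mem_sup_of_norm h.HU).1 (mul_mem hb (mem_sup_left hu'))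
    have e1 : μ b = μ a := by
      rw [← mul_one (μ b), ← hU u' hu', ← mr u' (mem_sup_left hu'), ← e,
        mr a (mem_sup_right ha), hU v hv, one_mul]
    have e2 : (μ + ω) (w * v * w) = 1 := by
      by_cases v1 : v = 1
      · rw [v1, mul_one, h.ww, fb 1 (one_mem _), hμ.2.1]
      · rw [Pi.add_apply, hμ.1 _ (nb v hv v1), zero_add]; exact hγ v hv v1
    have e3 : u * w * b * (u' * w * b') = u * (w * v * w) * (w * a * w) * b' := by
      rw [show u * w * b * (u' * w * b') = u * w * (b * u') * w * b' by group, ← e]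
      simp only [mul_assoc, ← mul_assoc w w, h.ww, one_mul]
    simp only [e3, fr b hb, fr b' hb', fr _ (mem_sup_right (wH a ha).1), fl u (mem_sup_left hu),
      fl u' (mem_sup_left hu'), hU u hu, hU u' hu', e2, fw, (wH a ha).2, e1, one_mul]

theorem lin_eq_one [IsSimpleGroup G] {T : Subgroup G} {n r : ℕ} (hT : T ≤ H)
    (free : ∀ a ∈ T, a ≠ 1 → U ⊓ 𝐂[a] = ⊥) (cU : 𝐨(U) = (3 ^ n) ^ 3) (cT : 3 ^ n = 2 * 𝐨(T) + 1)
    (n0 : n ≠ 0) (hr : r.Prime) (r2 : Odd r) (r3 : r ≠ 3) (hd : (r : ℤ) ∣ (3 ^ n) ^ 2 - 3 ^ n + 1)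
    (hμr : ∀ b ∈ U ⊔ H, μ b ^ r = 1) : ∀ b ∈ U ⊔ H, μ b = 1 := by
  have U1 : U ≠ ⊥ := fun e => by
    rw [e, card_bot, ← pow_mul, eq_comm, Nat.pow_eq_one] at cU
    omega
  obtain ⟨γ, h1, h2, ⟨a, b, a0, b0, h3⟩, h4⟩ := h.hecke hμ hU hw U1
  haveI : NeZero r := ⟨hr.ne_zero⟩
  have hε := Complex.isPrimitiveRoot_exp r hr.ne_zero
  generalize Complex.exp _ = ε at hε
  have εi := hε.isIntegral hr.pos
  have h5 : ∀ u ∈ sharp U, γ u ^ r = 1 := fun u hu => by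
    obtain ⟨b, hb, e⟩ := h1 u hu.1 hu.2
    rw [e, hμr b hb]
  have h6 : ∀ u ∈ sharp U, IsIntegral ℤ (γ u) ∧ ∃ y, IsIntegral ℤ y ∧ 1 - γ u = (1 - ε) * y :=
    fun u hu => by
      obtain ⟨j, -, e⟩ := hε.eq_pow_of_pow_eq_one (h5 u hu)
      exact e ▸ ⟨εi.pow j, _, IsIntegral.sum _ fun i _ => εi.pow i, (mul_neg_geom_sum ε j).symm⟩
  obtain ⟨z, hz, ez⟩ := exists_sum_eq (T := T) (X := sharp U) (γ := γ)
    (fun a ha x hx => ⟨(mem_normalizer_iff.1 (h.HU (hT ha)) x).1 hx.1, by simpa using hx.2⟩)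
    (fun a ha x hx e => by
      by_contra a1
      exact hx.2 (mem_bot.1 (free a ha a1 ▸ mem_inf.2
        ⟨hx.1, mem_cent1_comm.1 (mem_cent1_iff_conj.2 e)⟩)))
    (fun a ha => h2 a (hT ha)) fun x hx => (h6 x hx).1
  have ab : (a * b : ℂ) ≠ 0 := by exact_mod_cast mul_ne_zero a0 b0
  obtain ⟨D, hD⟩ := H6.dvd_of_isIntegral_div (a := 𝐨(U) * (a - b) ^ 2) (b := 𝐨(T) ^ 2 * (a * b))
    (mul_ne_zero (pow_ne_zero 2 Nat.card_pos.ne') (mul_ne_zero a0 b0)) (by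
      convert hz.pow 2
      push_cast
      rw [← h3, ez, div_eq_iff (mul_ne_zero (pow_ne_zero 2 (card_ne_zero_C T)) ab)]
      ring)
  have h7 : (∑ u ∈ fs (sharp U), γ u) ^ 2 = (𝐨(T) ^ 2 * D : ℤ) := mul_right_cancel₀ ab (by
    have := congrArg (Int.cast (R := ℂ)) hD
    push_cast at this ⊢
    rw [h3, this]; ring)
  obtain ⟨m, hm, em⟩ := num1 (N := 3 * n) (D := 𝐨(T) ^ 2 * D) a0 b0 (by
    rw [cU] at hD
    push_cast at hD
    rw [mul_comm 3 n, pow_mul, hD]; ring)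
  have cS : ((fs (sharp U)).card : ℂ) = (3 ^ n) ^ 3 - 1 := by
    rw [card_fs, ncard_sharp, Nat.cast_sub Nat.card_pos, cU]; simp
  choose! y hy ey using fun u hu => (h6 u hu).2
  have h8 : (3 ^ n) ^ 3 - 1 - ∑ u ∈ fs (sharp U), γ u = (1 - ε) * ∑ u ∈ fs (sharp U), y u := by
    rw [Finset.mul_sum, ← sum_fs_congr ey, Finset.sum_sub_distrib, ← cS]; simp
  have h9 := num2 cT n0 hm em (dvd_mul_right _ _) hr r3 hd (dvd_of_mod_prim hr hε
    (z := (∑ u ∈ fs (sharp U), y u) * (((3 ^ n) ^ 3 - 1 : ℤ) + ∑ u ∈ fs (sharp U), γ u))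
    ((IsIntegral.sum _ fun u hu => hy u (mem_fs.1 hu)).mul ((isIntegral_intCast _).add
      (IsIntegral.sum _ fun u hu => (h6 u (mem_fs.1 hu)).1))) (by
        rw [Int.cast_sub, ← h7, ← mul_assoc, ← h8]; push_cast; ring))
  have key : ∀ s : ℂ, ‖s‖ = 1 → s * ∑ u ∈ fs (sharp U), γ u = (3 ^ n) ^ 3 - 1 →
      ∀ u ∈ sharp U, s * γ u = 1 := fun s hs e u hu => by
    have a1 : ∀ u ∈ sharp U, ‖s * γ u‖ = 1 := fun u hu => by
      rw [norm_mul, hs, one_mul, Complex.norm_eq_one_of_pow_eq_one (h5 u hu) hr.ne_zero]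
    have a2 := (Finset.sum_eq_zero_iff_of_nonneg (f := fun u => 1 - (s * γ u).re) fun u hu =>
      sub_nonneg.2 (a1 u (mem_fs.1 hu) ▸ Complex.re_le_norm _)).1 (by
        rw [Finset.sum_sub_distrib, ← Complex.re_sum, ← Finset.mul_sum, e, ← cS]; simp) u
        (mem_fs.2 hu)
    have a3 := Complex.sq_norm (s * γ u)
    rw [a1 u hu, Complex.normSq_apply] at a3
    exact Complex.ext (sub_eq_zero.1 a2).symm (by simp only [Complex.one_im]; nlinarith)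
  rw [h9] at h7
  push_cast at h7
  obtain ⟨u, hu, u1⟩ := U.bot_or_exists_ne_one.resolve_left U1
  rcases sq_eq_sq_iff_eq_or_eq_neg.1 h7 with e | e
  · obtain ⟨f, hf⟩ := h4 fun u hu u1 => by simpa using key 1 (by simp) (by simpa using e) u ⟨hu, u1⟩
    have := (f.normal_ker.eq_bot_or_eq_top).resolve_left fun e => u1 (mem_bot.1 (e ▸
      MonoidHom.mem_ker.2 ((hf u (mem_sup_left hu)).trans (hU u hu))))
    exact fun b hb => (hf b hb).symm.trans (MonoidHom.mem_ker.1 (this ▸ mem_top b))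
  · have a1 := key (-1) (by simp) (by simp [e]) u ⟨hu, u1⟩
    have a2 := h5 u ⟨hu, u1⟩
    rw [show γ u = -1 by linear_combination -a1, r2.neg_one_pow] at a2
    norm_num at a2

end BN

end Cfsg.Agent.P7.J6
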