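/-
Ward's argument: the group is doubly transitive on the Sylow 3-subgroups and `Φ = 1`.
-/
import Cfsg.Agent.P7.J6A
import Cfsg.Agent.P7.J5B
import Cfsg.Agent.P7.Z0
import Cfsg.Agent.P7.L2Main

set_option autoImplicit false
set_option linter.style.haveILetI false

namespace Cfsg.Agent.P7

open Subgroup Cfsg Cfsg.Agent Cfsg.Agent.FT

universe u

namespace J6

variable {G : Type u} [Group G] [Finite G]

theorem exists_conj_coset {U : Subgroup G} {a u : G} (ha : a ∈ 𝐍(U)) (hu : u ∈ U)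
    (c1 : (orderOf a).Coprime 𝐨(U)) (c2 : (orderOf (u * a)).Coprime 𝐨(U)) :
    ∃ v ∈ U, v * a * v⁻¹ = u * a := by
  rw [← Nat.card_zpowers] at c1 c2
  obtain ⟨v, hv, e⟩ := H1.exists_conj_le_of_le_sup (zpowers_le.2 ha) c1 (Or.inl inferInstance)
    (zpowers_le.2 (mul_mem (mem_sup_right hu) (mem_sup_left (mem_zpowers a)))) c2
  have h1 : v * (u * a) * v⁻¹ * a⁻¹ ∈ zpowers a ⊓ U :=
    mem_inf.2 ⟨mul_mem (e (conj_mem_conj (mem_zpowers _) v)) (inv_mem (mem_zpowers a)), by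
      simpa [mul_assoc] using mul_mem (mul_mem hv hu) (Z.nConj ha (inv_mem hv))⟩
  rw [inf_eq_bot_of_coprime c1, mem_bot, mul_inv_eq_one] at h1
  exact ⟨v⁻¹, inv_mem hv, by nth_rewrite 1 [← h1]; group⟩

theorem sum_coset {p : ℕ} (hp : p.Prime) {U : Subgroup G} (hU : IsPGroup p U) {a : G}
    (ha : a ∈ 𝐍(U)) (c1 : ¬ p ∣ orderOf a) {ξ : G → ℂ} (hξ : ξ ∈ CF ⊤)
    (h0 : ∀ g, p ∣ orderOf g → ξ g = 0) :
    𝐨((U ⊓ 𝐂[a] : Subgroup G)) * ∑ u ∈ fs (U : Set G), ξ (u * a) = 𝐨(U) * ξ a := by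
  classical
  obtain ⟨n, hn⟩ := exists_card_eq_pow hp hU
  have cop : ∀ g : G, ¬ p ∣ orderOf g → (orderOf g).Coprime 𝐨(U) := fun g hg =>
    hn ▸ (hp.coprime_iff_not_dvd.2 hg).symm.pow_right n
  rw [← nsmul_eq_mul 𝐨(U), ← sum_fs_const, ← Finset.sum_fiberwise_of_maps_to (t := fs (U : Set G))
    (f := fun _ => ξ a) (g := fun v => v * a * v⁻¹ * a⁻¹) fun v hv => mem_fs.2 (by
      simpa [mul_assoc] using mul_mem (mem_fs.1 hv) (Z.nConj ha (inv_mem (mem_fs.1 hv)))),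
    Finset.mul_sum]
  refine sum_fs_congr fun u hu => ?_
  by_cases h1 : p ∣ orderOf (u * a)
  · rw [h0 _ h1, mul_zero, Finset.sum_eq_zero fun v hv => ?_]
    rw [← CF_conj hξ (mem_top v), ← h0 _ h1, ← (Finset.mem_filter.1 hv).2, inv_mul_cancel_right]
  obtain ⟨v, hv, e⟩ := exists_conj_coset ha hu (cop _ c1) (cop _ h1)
  rw [← e, CF_conj hξ (mem_top v), ← nsmul_eq_mul, ← sum_fs_const]
  refine Finset.sum_nbij' (fun c => v * c) (fun c => v⁻¹ * c) (fun c hc => ?_) (fun c hc => ?_)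
    (by simp) (by simp) fun _ _ => rfl
  · have hc := mem_fs.1 hc
    refine Finset.mem_filter.2 ⟨mem_fs.2 (mul_mem hv hc.1), ?_⟩
    rw [mul_inv_eq_iff_eq_mul, ← e, ← mem_cent1_iff_conj.1 hc.2]
    nth_rewrite 1 [mem_cent1_iff_conj.1 hc.2]
    group
  · obtain ⟨h2, h3⟩ := Finset.mem_filter.1 hc
    refine mem_fs.2 (mem_inf.2 ⟨mul_mem (inv_mem hv) (mem_fs.1 h2), mem_cent1_iff_conj.2 ?_⟩)
    rw [mul_inv_eq_iff_eq_mul, ← e] at h3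
    calc _ = v⁻¹ * (c * a * c⁻¹) * v := by group
      _ = a := by rw [h3]; group

theorem sum_sup {U A : Subgroup G} (hn : A ≤ 𝐍(U)) (hd : U ⊓ A = ⊥) (F : G → ℂ) :
    ∑ x ∈ fs ((U ⊔ A : Subgroup G) : Set G), F x =
      ∑ a ∈ fs (A : Set G), ∑ u ∈ fs (U : Set G), F (u * a) := by
  rw [← Finset.sum_product']
  refine (Finset.sum_nbij (fun p : G × G => p.2 * p.1) (fun p hp => ?_) (fun p hp q hq e => ?_)
    (fun x hx => ?_) fun _ _ => rfl).symm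
  · rw [Finset.mem_product, mem_fs, mem_fs] at hp
    exact mem_fs.2 (mul_mem (mem_sup_left hp.2) (mem_sup_right hp.1))
  · simp only [Finset.coe_product, coe_fs, Set.mem_prod, SetLike.mem_coe] at hp hq
    replace e : p.2 * p.1 = q.2 * q.1 := e
    have e' : q.2⁻¹ * p.2 = q.1 * p.1⁻¹ := by rw [inv_mul_eq_iff_eq_mul, ← mul_assoc, ← e]; simp
    have h2 : q.2⁻¹ * p.2 ∈ U ⊓ A :=
      mem_inf.2 ⟨mul_mem (inv_mem hq.2) hp.2, e' ▸ mul_mem hq.1 (inv_mem hp.1)⟩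
    rw [hd, mem_bot, inv_mul_eq_one] at h2
    exact Prod.ext (by rwa [h2, mul_right_inj] at e) h2.symm
  · rw [coe_fs] at hx
    obtain ⟨a, ha, b, hb, rfl⟩ := (mem_sup_of_norm hn).1 hx
    exact ⟨(b, a), by simp [ha, hb], rfl⟩

theorem ind_eq {B : Subgroup G} {ξ : G → ℂ} (hξ : ξ ∈ Irr ⊤) (h1 : ξ ≠ cf1 ⊤)
    (hi : B.index = dg ξ + 1) (h2 : ip B (cf1 B) ξ ≠ 0) : ind ⊤ B (cf1 B) = cf1 ⊤ + ξ := by
  have a1 := (isChar_cf1 B).ind le_top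
  have a2 := a1.sub_constt (mem_constt.2 ⟨cf1_mem_Irr ⊤, by
    rw [ip_ind_left le_top _ (cf1_mem_CF _), ← ip_res_right, res_cf1 le_top,
      ip_irr_self (cf1_mem_Irr B)]
    exact one_ne_zero⟩)
  refine sub_eq_iff_eq_add'.1 (a2.eq_of_constt_of_dg (mem_constt.2 ⟨hξ, ?_⟩) (dg_eq_of ?_).le)
  · rwa [ip_sub_left, ip_irr_of_ne (cf1_mem_Irr ⊤) hξ h1.symm, sub_zero,
      ip_ind_left le_top _ (irr_mem_CF hξ)]
  · rw [Pi.sub_apply, ind_one le_top, relIndex_top_right, hi, cf1_of_mem (one_mem _),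
      cf1_of_mem (one_mem _)]
    simp

theorem mem_of_ind_eq_one {B : Subgroup G} {u g : G} (hu : u ∈ B) (h : ind ⊤ B (cf1 B) u = 1)
    (hg : g⁻¹ * u * g ∈ B) : g ∈ B := by
  classical
  by_contra hn
  rw [ind_of_mem _ _ (mem_top u), res_cf1 le_rfl, inv_mul_eq_one₀ (card_ne_zero_C B), Subgroup.coe_top,
    sum_fs_diff (A := B) (Set.subset_univ _), sum_fs_congr (A := B) (f := fun x => cf1 B (x⁻¹ * u * x))
      (g := fun _ => 1) fun x (hx : x ∈ B) => cf1_of_mem (mul_mem (mul_mem (inv_mem hx) hu) hx), sum_fs_const, nsmul_one, left_eq_add,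
    sum_fs_congr (g := fun x => ((if x⁻¹ * u * x ∈ B then 1 else 0 : ℕ) : ℂ)) fun x _ => by
      split_ifs with a
      exacts [(cf1_of_mem a).trans Nat.cast_one.symm, (cf1_of_notMem a).trans Nat.cast_zero.symm],
    ← Nat.cast_sum, Nat.cast_eq_zero, Finset.sum_eq_zero_iff] at h
  simpa [hg] using h g (mem_fs.2 ⟨trivial, hn⟩)

theorem card_eq_of_sylow {p n m : ℕ} (hp : p.Prime) {U : Subgroup G} (hU : IsPGroup p U)
    (hi : ¬ p ∣ U.index) (hG : Nat.card G = p ^ n * m) (hm : ¬ p ∣ m) : 𝐨(U) = p ^ n := by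
  obtain ⟨j, hj⟩ := exists_card_eq_pow hp hU
  have h1 := U.card_mul_index
  rw [hG] at h1
  exact Nat.dvd_antisymm
    ((hj ▸ (hp.coprime_iff_not_dvd.2 hm).pow_left j).dvd_of_dvd_mul_right (Dvd.intro _ h1))
    (((hp.coprime_iff_not_dvd.2 hi).pow_left n).dvd_of_dvd_mul_right (Dvd.intro _ h1.symm))

variable {t s s0 : G} {L : Subgroup G} {q : ℕ}

theorem exists_lin (F : Fr 𝐂[t] L t q s s0) {r : ℕ} (hr : r.Prime) (hd : r ∣ 𝐨(Phi 𝐂[t] s s0)) :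
    ∃ μ, IsLin 𝐂[t] μ ∧ (∀ g ∈ 𝐂[t], μ g ^ r = 1) ∧ ∃ φ ∈ Phi 𝐂[t] s s0, μ φ ≠ 1 := by
  obtain ⟨φ, hφ⟩ := isCyclic_iff_zpowers.1 F.cycF
  have hφ' : φ ∈ Phi 𝐂[t] s s0 := hφ ▸ mem_zpowers φ
  have h1 : ⁅𝐂[t], 𝐂[t]⁆ ≤ L ⊔ zpowers t ⊔ zpowers (φ ^ r) :=
    (Z.der_le F).trans (le_sup_left.trans le_sup_left)
  have h2 : L ⊔ zpowers t ≤ 𝐂[t] := sup_le (Z.LC F) (zpowers_le.2 (self_mem_cent1 t))
  have h3 : zpowers (φ ^ r) ≤ Phi 𝐂[t] s s0 := zpowers_le.2 (pow_mem hφ' r)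
  have h4 := sup_le h2 (h3.trans (Z.phiC F))
  obtain ⟨μ, hμ, h5⟩ := exists_irrKer_notMem_cfKer ⟨h4, le_norm_of_der_le h1 h4⟩ (x := φ) fun a => by
    obtain ⟨a, ha, b, hb, e⟩ := (mem_sup_of_norm ((h3.trans (Z.phiC F)).trans
      (le_norm_of_der_le ((Z.der_le F).trans le_sup_left) h2))).1 a
    rw [F.disj a (eq_mul_inv_of_mul_eq e ▸ mul_mem hφ' (inv_mem (h3 hb))) ha, one_mul] at e
    rw [e, mem_zpowers_pow_iff, ← Nat.card_zpowers, hφ] at hb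
    exact hr.ne_one (Nat.Coprime.eq_one_of_dvd hb hd)
  have hl := isLin_of_mem_irrKer h1 hμ
  have hk : ∀ a ∈ L ⊔ zpowers t ⊔ zpowers (φ ^ r), μ a = 1 := fun a ha =>
    hl.mem_cfKer_iff.1 ((mem_irrKer.1 hμ).2 ha)
  refine ⟨μ, hl, fun g hg => ?_, φ, hφ', mt hl.mem_cfKer_iff.2 h5⟩
  obtain ⟨a, ha, ψ, hψ, rfl⟩ : ∃ a ∈ L ⊔ zpowers t, ∃ ψ ∈ Phi 𝐂[t] s s0, g = a * ψ := by
    obtain ⟨a, ha, ψ, hψ, e | e⟩ := F.dec g hg
    exacts [⟨a, mem_sup_left ha, ψ, hψ, e⟩,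
      ⟨_, mul_mem (mem_sup_right (mem_zpowers t)) (mem_sup_left ha), ψ, hψ, e⟩]
  rw [hl.2.2 a (h2 ha) ψ (Z.phiC F hψ), hk a (mem_sup_left ha), one_mul, ← hl.pow_apply (Z.phiC F hψ)]
  obtain ⟨j, rfl⟩ := mem_zpowers_iff.1 (hφ ▸ hψ)
  exact hk _ (mem_sup_right (mem_zpowers_iff.2 ⟨j, by
    rw [← zpow_natCast, ← zpow_natCast, ← zpow_mul, ← zpow_mul, mul_comm]⟩))

end J6

open J6 in
/-- Ward's theorem. -/
theorem j6 {G : Type u} [Group G] [Finite G] [IsSimpleGroup G] {t s s0 : G} {L : Subgroup G} {q : ℕ}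
    (h : JRF t L q) (F : Fr 𝐂[t] L t q s s0) (q5 : 5 < q) (hp : F.p = 3) (he : q + 1 = 4 * F.k)
    (hi : (𝐂[t]).index + q ^ 3 = q ^ 4 + q ^ 2) {ξ : G → ℂ} (hξ : ξ ∈ Irr ⊤) (dξ : dg ξ = q ^ 3)
    (vξ : ∀ y ∈ F.T ⊔ Phi 𝐂[t] s s0, ξ (y * t) = 𝐨((F.P ⊓ 𝐂[y] : Subgroup G)))
    (hφ : (𝐨(Phi 𝐂[t] s s0)).Coprime 𝐨(L))
    (hr : ∀ r, r.Prime → r ∣ 𝐨(Phi 𝐂[t] s s0) → r = 3 ∨ r ∣ q ^ 2 - q + 1) {U : Subgroup G}
    (pU : IsPGroup F.p U) (iU : ¬ F.p ∣ U.index) (UP : U ⊓ 𝐂[t] = F.P)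
    (UT : ∀ w ∈ F.T, w ≠ 1 → U ⊓ 𝐂[w] = ⊥) (nU : zpowers t ⊔ F.T ⊔ Phi 𝐂[t] s s0 ≤ 𝐍(U)) :
    Ree t L U q := by
  have p3 := Nat.prime_three
  have hq := F.hq
  have ep := F.ep
  have hΦC := Z.phiC F
  have hTC := F.TL.trans (Z.LC F)
  have n0 : F.n ≠ 0 := F.oddn.pos.ne'
  rw [hp] at hq pU iU
  have q3 : 3 ∣ q := hq ▸ dvd_pow_self 3 n0
  obtain ⟨hl, hH⟩ : q = 2 * F.l + 1 ∧ F.H = F.T := (F.eps.resolve_left (by omega)).2
  have φ3 : ¬ 3 ∣ 𝐨(Phi 𝐂[t] s s0) := fun a =>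
    p3.ne_one (Nat.eq_one_of_dvd_coprimes hφ a (F.cardL ▸ q3.mul_left _))
  have cY : 𝐨((F.T ⊔ Phi 𝐂[t] s s0 : Subgroup G)) = F.l * 𝐨(Phi 𝐂[t] s s0) := by
    rw [sup_comm, H1.card_sup_of_inf_eq_bot F.FT
      (eq_bot_iff.2 fun φ a => F.disj φ a.1 (mem_sup_left (F.TL a.2))), F.cardT, mul_comm]
  have oY : Odd 𝐨((F.T ⊔ Phi 𝐂[t] s s0 : Subgroup G)) := cY ▸ ep.oddl.mul F.odd_phi
  have YC := sup_le hTC hΦC
  have YH : F.T ⊔ Phi 𝐂[t] s s0 ≤ zpowers t ⊔ F.T ⊔ Phi 𝐂[t] s s0 := sup_le_sup_right le_sup_right _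
  have tH : t ∈ zpowers t ⊔ F.T ⊔ Phi 𝐂[t] s s0 := mem_sup_left (mem_sup_left (mem_zpowers t))
  have HC : zpowers t ⊔ F.T ⊔ Phi 𝐂[t] s s0 ≤ 𝐂[t] :=
    sup_le (sup_le (zpowers_le.2 (self_mem_cent1 t)) hTC) hΦC
  have half : J5.Half (zpowers t ⊔ F.T ⊔ Phi 𝐂[t] s s0) (F.T ⊔ Phi 𝐂[t] s s0) t :=
    ⟨h.tt, YH, tH, fun a => h.t1 (P5.eq_one_of_odd oY a h.tt), HC, fun g hg => by
      rw [sup_assoc, sup_comm] at hg
      obtain ⟨y, hy, a, ha, rfl⟩ := (mem_sup_of_norm (zpowers_le.2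
        (cent_le_norm _ (mem_cent_iff_cent1.2 YC)))).1 hg
      rcases (mem_zpowers_invol h.tt).1 ha with rfl | rfl
      · exact Or.inl (by rwa [mul_one])
      · exact Or.inr (by rwa [mul_assoc, h.tt, mul_one])⟩
  have s0H : s0 ∈ 𝐍((zpowers t ⊔ F.T ⊔ Phi 𝐂[t] s s0 : Subgroup G)) :=
    Z.nSup (Z.nSup (Z.nZp (Z.LC F (Z.s0L F))) (mem_norm_of_conj_le (by
      rintro _ ⟨w, hw, rfl⟩
      exact (congrArg (· ∈ F.T) (F.invT w hw)).mpr (inv_mem hw))))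
      (cent_le_norm _ (mem_cent_iff_cent1.2 fun φ a => (Z.phi_le F a).2.2))
  have φH : Phi 𝐂[t] s s0 ≤ zpowers t ⊔ F.T ⊔ Phi 𝐂[t] s s0 := le_sup_right
  have TH : F.T ≤ zpowers t ⊔ F.T ⊔ Phi 𝐂[t] s s0 := le_sup_left.trans YH
  have cC := F.card
  rw [h.card_sup, F.cardL, ← he] at cC
  generalize zpowers t ⊔ F.T ⊔ Phi 𝐂[t] s s0 = H at *
  have cH := half.card
  rw [cY] at cH
  have H3 : ¬ 3 ∣ 𝐨(H) := by
    rw [cH, p3.dvd_mul, p3.dvd_mul]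
    omega
  have cG : Nat.card G = q ^ 3 * ((q ^ 3 + 1) * 𝐨(H)) := by
    rw [← (𝐂[t]).card_mul_index, cC, cH]
    zify at hi hl ⊢
    rw [eq_sub_of_add_eq hi, hl]
    ring
  have G3 : ¬ 3 ∣ (q ^ 3 + 1) * 𝐨(H) := by
    rw [p3.dvd_mul, Nat.dvd_add_right (q3.pow (by norm_num))]
    omega
  have cU : 𝐨(U) = q ^ 3 :=
    (card_eq_of_sylow p3 pU iU (by rw [cG, hq, ← pow_mul]) G3).trans (by rw [pow_mul, ← hq])
  have cop : 𝐨(U).Coprime 𝐨(H) := by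
    rw [cU, hq, ← pow_mul]; exact (p3.coprime_iff_not_dvd.2 H3).pow_left _
  have disj := inf_eq_bot_of_coprime cop
  have cB : 𝐨((U ⊔ H : Subgroup G)) = q ^ 3 * 𝐨(H) := by
    rw [sup_comm, H1.card_sup_of_inf_eq_bot nU (inf_comm U H ▸ disj), cU, mul_comm]
  have iB : (U ⊔ H).index = q ^ 3 + 1 :=
    Nat.eq_of_mul_eq_mul_left Nat.card_pos ((U ⊔ H).card_mul_index.trans (by rw [cG, cB]; ring))
  have van : ∀ g, 3 ∣ orderOf g → ξ g = 0 := fun g => J5.vanish_of_defect_zero p3 hξ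
    ⟨_, by rw [card_top, cG, dξ], (p3.coprime_iff_not_dvd.2 G3).symm⟩
  have hπ := ind_eq hξ (fun e => by
    rw [e, (isLin_cf1 ⊤).dg, eq_comm, Nat.pow_eq_one] at dξ; omega) (dξ ▸ iB) fun e => by
    obtain ⟨m, hm⟩ := ((irr_isChar hξ).res (K := U ⊔ (F.T ⊔ Phi 𝐂[t] s s0)) le_top).ip_nat (isChar_cf1 _)
    rw [ip_res_left, ip_cf1_right, inv_mul_eq_iff_eq_mul₀ (card_ne_zero_C _),
      sum_sup (YH.trans nU) (eq_bot_iff.2 (disj ▸ inf_le_inf_left U YH))] at hm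
    rw [ip_eq_zero_comm, ip_cf1_right, mul_eq_zero, sum_sup nU disj, half.sum, Finset.sum_add_distrib,
      hm, sum_fs_congr (g := fun _ => (𝐨(U) : ℂ)) fun y hy => ?_, sum_fs_const, nsmul_eq_mul] at e
    · refine e.elim (inv_ne_zero (card_ne_zero_C _)) fun e => ?_
      norm_cast at e
      exact absurd (Nat.eq_zero_of_add_eq_zero_left e) (mul_ne_zero (card_ne_zero _) (card_ne_zero _))
    have hyt := mul_mem (YH hy) tH
    have a1 := sum_coset p3 pU (nU hyt) (fun a => H3 (a.trans (orderOf_dvd_card_of_mem hyt)))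
      (irr_mem_CF hξ) van
    have a2 : 𝐂[y * t] = 𝐂[t] ⊓ 𝐂[y] := by
      have a3 : 𝐂[y * t] ≤ 𝐂[t] := by
        nth_rewrite 2 [← P5.mul_pow_odd oY h.tt (mem_cent1.1 (YC hy))
          (orderOf_dvd_iff_pow_eq_one.1 (orderOf_dvd_card_of_mem hy))]
        exact cent1_le_cent1_pow _ _
      exact le_antisymm (le_inf a3 fun g hg => mem_cent1_comm.1 ((mul_mem_cancel_right
        (mem_cent1_comm.1 (a3 hg))).1 (mem_cent1_comm.1 hg))) fun g hg =>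
          mem_cent1_comm.1 (mul_mem (mem_cent1_comm.1 hg.2) (mem_cent1_comm.1 hg.1))
    rw [a2, ← inf_assoc, UP, vξ y hy, mul_comm] at a1
    exact mul_right_cancel₀ (card_ne_zero_C _) a1
  have ti : ∀ u ∈ U, u ≠ 1 → ∀ g, g⁻¹ * u * g ∈ U ⊔ H → g ∈ U ⊔ H := fun u hu u1 g =>
    mem_of_ind_eq_one (mem_sup_left hu) (by
      rw [hπ, Pi.add_apply, cf1_of_mem (mem_top u), van u, add_zero]
      rw [← Nat.card_zpowers]
      exact prime_dvd_card_of_isPGroup p3 (pU.to_le (zpowers_le.2 hu)) (zpowers_ne_bot.2 u1))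
  have BN' : U ⊔ H ≤ 𝐍(U) := sup_le le_normalizer nU
  have bn : BN U H s0 := ⟨F.v4.ss, nU, s0H, fun a => by
    have a1 := F.opp
    rw [conj_eq_of_mem_norm (UP ▸ mem_norm_inf (BN' a) (le_normalizer (Z.LC F (Z.s0L F)))), hH] at a1
    have a2 := FT.card_dvd_of_le (a1 ▸ le_inf (le_inf F.PL le_normalizer) le_normalizer)
    rw [F.cardP, F.cardT] at a2
    have := Nat.le_of_dvd ep.oddl.pos a2
    omega, ti, cU ▸ iB⟩
  have Φ1 : Phi 𝐂[t] s s0 = ⊥ := by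
    by_contra hne
    obtain ⟨r, pr, hd⟩ := exists_prime_dvd_card hne
    obtain ⟨ν, hν, h1, φ, hφ', h2⟩ := exists_lin F pr hd
    obtain ⟨μ, hμ, e⟩ := SdProd.exists_irrKer_res ⟨rfl, nU, disj⟩ (hν.res HC).mem_Irr
    have e' : ∀ a ∈ H, μ a = ν a := fun a ha => by
      rw [← res_of_mem μ ha, e, res_of_mem ν ha]
    have hl' := (irr_isChar (mem_irrKer.1 hμ).1).isLin ((e' 1 (one_mem _)).trans hν.2.1)
    have hU : ∀ u ∈ U, μ u = 1 := fun u hu => hl'.mem_cfKer_iff.1 ((mem_irrKer.1 hμ).2 hu)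
    have r3 : r ≠ 3 := fun e => φ3 (e ▸ hd)
    refine h2 ((e' φ (φH hφ')).symm.trans (bn.lin_eq_one hl' hU (fun a ha => by
      rw [e' _ (Z.nConj s0H ha), e' a ha, CF_conj hν.mem_CF (Z.LC F (Z.s0L F))]) TH UT (hq ▸ cU)
      (by rw [← hq, F.cardT]; exact hl) n0 pr (F.odd_phi.of_dvd_nat hd) r3 ?_ (fun b hb => ?_) φ
      (mem_sup_right (φH hφ'))))
    · have := Int.natCast_dvd_natCast.2 ((hr r pr hd).resolve_left r3)
      rw [Nat.cast_add, Nat.cast_sub (Nat.le_self_pow two_ne_zero q), hq] at this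
      exact_mod_cast this
    · obtain ⟨u, hu, a, ha, rfl⟩ := (mem_sup_of_norm nU).1 hb
      rw [hl'.2.2 u (mem_sup_left hu) a (mem_sup_right ha), hU u hu, one_mul, e' a ha, h1 a (HC ha)]
  rw [Φ1, card_bot, mul_one, show 2 * F.l = q - 1 by omega] at cH
  obtain ⟨u, hu, u1⟩ := U.bot_or_exists_ne_one.resolve_left fun e => by
    rw [e, card_bot, eq_comm, Nat.pow_eq_one] at cU; omega
  refine ⟨⟨h, le_antisymm (fun g hg => ?_) (sup_le (zpowers_le.2 (self_mem_cent1 t)) h.normal.1)⟩,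
    ⟨_, hq⟩, ?_, by rw [cG, cH, mul_assoc], cU, ?_, nU tH, fun u hu u1 g hg => BN' (ti u hu u1 g ?_)⟩
  · obtain ⟨a, ha, φ, hφ, e⟩ := F.dec g hg
    rw [Φ1, mem_bot] at hφ
    rw [hφ, mul_one, mul_one] at e
    rcases e with rfl | rfl
    · exact mem_sup_right ha
    · exact mul_mem (mem_sup_left (mem_zpowers _)) (mem_sup_right ha)
  · obtain ⟨m, hm⟩ := F.oddn
    rw [hq, hm] at q5 ⊢
    exact Nat.pow_le_pow_right (n := 3) (i := 3) (by norm_num) (by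
      rcases m with _ | m <;> simp at q5 ⊢ <;> omega)
  · rw [le_antisymm (fun g hg => ti u hu u1 g (mem_sup_left (Z.nConj' hg hu))) BN', cB, cH]
  · rw [mul_assoc, mem_cent1.1 hg, inv_mul_cancel_left]
    exact mem_sup_left hu

end Cfsg.Agent.P7
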