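/-
Section K: no proper subgroup controls the fusion of an involution with nonsolvable centralizer.
-/
import Cfsg.Agent.P7.K1
import Cfsg.Agent.P8.Num
import Cfsg.Agent.H8.InvNilp

set_option autoImplicit false
set_option linter.unusedSectionVars false

namespace Cfsg.Agent.P7

open Subgroup Cfsg Cfsg.Agent Cfsg.Agent.FT
open Cfsg.Agent.H2 (pPrimeCoreOf layerOf)
open Cfsg.Agent.P5 (V4 Tri LT)
open Cfsg.Agent.P6 (Inv Od Qt pr)
open scoped commutatorElement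

universe u

variable {G : Type u} [Group G]

/-- Involutions with nonsolvable centralizer are isolated in the proper overgroups of it. -/
def NoT (G : Type u) [Group G] : Prop :=
  ∀ (t : G) (H : Subgroup G), t * t = 1 → ¬ Group.IsSolvable 𝐂[t] → H ≠ ⊤ → 𝐂[t] ≤ H → Zs H t

namespace KO

theorem ree_num {m r d : ℕ} (hm : 2 ≤ m) (hr : r.Prime) (h2 : r ≠ 2) (h3 : r ≠ 3) (hrm : ¬ r ∣ m)
    (h : r ^ d ∣ (3 * m ^ 2) ^ 3 * ((3 * m ^ 2) ^ 3 + 1) * (3 * m ^ 2 - 1)) :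
    r ^ d < 2 * (3 * m ^ 2) := by
  obtain ⟨k, rfl⟩ := Nat.exists_eq_add_of_le' hm
  have n2 : ¬ r ∣ 2 := fun k => h2 ((Nat.prime_dvd_prime_iff_eq hr Nat.prime_two).1 k)
  have n3 : ¬ r ∣ 3 := fun k => h3 ((Nat.prime_dvd_prime_iff_eq hr Nat.prime_three).1 k)
  have nq : ¬ r ∣ 3 * (k + 2) ^ 2 := fun h =>
    (hr.dvd_mul.1 h).elim n3 fun h => hrm (hr.dvd_of_dvd_pow h)
  have c : ∀ {x}, ¬ r ∣ x → (r ^ d).Coprime x := fun h => (hr.coprime_iff_not_dvd.2 h).pow_left d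
  rw [show (3 * (k + 2) ^ 2) ^ 3 + 1 = (3 * k ^ 2 + 12 * k + 13) *
      ((3 * k ^ 2 + 15 * k + 19) * (3 * k ^ 2 + 9 * k + 7)) by ring,
    show 3 * (k + 2) ^ 2 - 1 = 3 * k ^ 2 + 12 * k + 11 by
      rw [show 3 * (k + 2) ^ 2 = 3 * k ^ 2 + 12 * k + 11 + 1 by ring, Nat.add_sub_cancel],
    mul_assoc] at h
  have h1 := (c fun k => nq (hr.dvd_of_dvd_pow k)).dvd_of_dvd_mul_left h
  have lt : ∀ {x}, r ^ d ∣ x → 0 < x → x ≤ 3 * k ^ 2 + 15 * k + 19 →
      r ^ d < 2 * (3 * (k + 2) ^ 2) := fun h1 h2 h3 => by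
    have := Nat.le_of_dvd h2 h1
    nlinarith
  by_cases hA : r ∣ 3 * k ^ 2 + 12 * k + 11
  · refine lt ((c fun hh => ?_).dvd_of_dvd_mul_left h1) (by omega) (by omega)
    rcases hr.dvd_mul.1 hh with hh | hh
    · exact n2 ((Nat.dvd_add_right hA).1 hh)
    · exact hr.not_dvd_one ((Nat.dvd_add_right (hA.mul_right (3 * (k + 2) ^ 2))).1
        (by convert hh using 1; ring))
  have h4 := (c hA).dvd_of_dvd_mul_right h1
  by_cases hB : r ∣ 3 * k ^ 2 + 12 * k + 13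
  · refine lt ((c fun hh => ?_).dvd_of_dvd_mul_right h4) (by omega) (by omega)
    have := hB.mul_right (3 * k ^ 2 + 12 * k + 13)
    rw [show (3 * k ^ 2 + 12 * k + 13) * (3 * k ^ 2 + 12 * k + 13) = (3 * k ^ 2 + 15 * k + 19) *
      (3 * k ^ 2 + 9 * k + 7) + 3 * (3 * (k + 2) ^ 2) by ring] at this
    exact (hr.dvd_mul.1 ((Nat.dvd_add_right hh).1 this)).elim n3 nq
  have h5 := (c hB).dvd_of_dvd_mul_left h4
  by_cases hC : r ∣ 3 * k ^ 2 + 9 * k + 7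
  · refine lt ((c fun hh => ?_).dvd_of_dvd_mul_left h5) (by omega) (by omega)
    rcases hr.dvd_mul.1 ((Nat.dvd_add_right hC).1 (show r ∣ _ + 2 * (3 * (k + 2)) by
      convert hh using 1; ring)) with h | h
    exacts [n2 h, (hr.dvd_mul.1 h).elim n3 hrm]
  · exact lt ((c hC).dvd_of_dvd_mul_right h5) (by omega) le_rfl

theorem lt_cent {L A : Subgroup G} {a b g : G} [Finite G] (h : LT L A a b) (hg : g ∈ L)
    (ga : g ∈ 𝐂[a]) (gb : g ∈ 𝐂[b]) : g ∈ V2 a b := by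
  have v := h.hyp.v4
  have key : ∀ w ∈ A, w ∈ 𝐂[b] → w = 1 := fun w hw hc => P5.eq_one_of_odd h.hyp.odd hw (by
    have := h.inv w hw
    rw [(P5.Mx.mem_cent1.1 hc).symm.eq, mul_inv_cancel_right] at this
    exact mul_eq_one_iff_eq_inv.2 this)
  have ab : a ∈ 𝐂[b] := P5.Mx.mem_cent1.2 v.comm
  have bb := self_mem_cent1 b
  have ma : a ∈ V2 a b := P5.V4.t_mem
  have mb : b ∈ V2 a b := P5.V4.s_mem
  rcases h.hyp.cover g ⟨hg, ga⟩ with k | k | k | k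
  · exact key _ k gb ▸ one_mem _
  · exact (mul_mem_cancel_right ma).1 (key _ k (mul_mem gb ab) ▸ one_mem _)
  · exact (mul_mem_cancel_left mb).1 (key _ k (mul_mem bb gb) ▸ one_mem _)
  · exact (mul_mem_cancel_left mb).1 ((mul_mem_cancel_right ma).1
      (key _ k (mul_mem (mul_mem bb gb) ab) ▸ one_mem _))

theorem comm_le_of_cover {X Y : Subgroup G} {c : G} (cX : c ∈ X) (hz : X ≤ 𝐂[c])
    (h : ∀ g ∈ X, g ∈ Y ∨ g * c ∈ Y) : ⁅X, X⁆ ≤ Y := by
  have h1 : ∀ a ∈ X, ∀ b ∈ X, ⁅a * c, b⁆ = ⁅a, b⁆ := fun a _ b hb => by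
    rw [commutatorElement_def, commutatorElement_def, mul_assoc a c,
      ← (P5.Mx.mem_cent1.1 (hz hb)).eq]
    group
  have h2 : ∀ a ∈ X, ∀ b ∈ X, ⁅a, b * c⁆ = ⁅a, b⁆ := fun a ha b hb => by
    rw [← commutatorElement_inv, h1 b hb a ha, commutatorElement_inv]
  have m : ∀ a ∈ Y, ∀ b ∈ Y, ⁅a, b⁆ ∈ Y := fun a ha b hb =>
    mul_mem (mul_mem (mul_mem ha hb) (inv_mem ha)) (inv_mem hb)
  refine Subgroup.commutator_le.2 fun a ha b hb => ?_
  rcases h a ha with k | k <;> rcases h b hb with l | l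
  · exact m _ k _ l
  · exact h2 a ha b hb ▸ m _ k _ l
  · exact h1 a ha b hb ▸ m _ k _ l
  · exact h1 a ha b hb ▸ h2 _ (mul_mem ha cX) b hb ▸ m _ k _ l

theorem le_sup_of_cover {X Y : Subgroup G} {c : G} (h : ∀ g ∈ X, g ∈ Y ∨ g * c ∈ Y) :
    X ≤ zpowers c ⊔ Y := fun g hg => (h g hg).elim mem_sup_right fun k =>
  (mul_mem_cancel_right (mem_sup_left (mem_zpowers c))).1 (mem_sup_right k)

variable [Finite G]

theorem eight_dvd (e : E8 G) {t : G} (ht : Inv t) (ns : ¬ Group.IsSolvable 𝐂[t]) :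
    8 ∣ Nat.card G := by
  obtain ⟨Y, h1, h2, -, h3⟩ := split e ht (self_mem_cent1 t) le_rfl
  have h4 := four_dvd fun k : Group.IsSolvable Y => ns (H1.isSolvable_of_le
    (le_sup_of_cover h3) (H2.isSolvable_sup_of_le_normalizer
      (zpowers_le.2 (h1.2 (self_mem_cent1 t))) (P6.Inv.solv t) k))
  exact Dvd.dvd.trans (by rw [card_sup_zpowers ht h1.1 h2]; exact Nat.mul_dvd_mul_right h4 2)
    (card_subgroup_dvd_card (Y ⊔ zpowers t))

theorem jrf_ns {t : G} {L : Subgroup G} {q : ℕ} (h : JRF t L q) : ¬ Group.IsSolvable 𝐂[t] :=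
  fun k => isL2_ns h.l2 (H1.isSolvable_of_le h.normal.1 k)

theorem jr_comm {t : G} {L : Subgroup G} {q : ℕ} (h : JR t L q) : ⁅𝐂[t], 𝐂[t]⁆ = L :=
  le_antisymm (comm_le_of_cover (self_mem_cent1 t) le_rfl (jr_cover h))
    ((H2.QS.commutator_eq (isL2_qs h.l2)).ge.trans (commutator_mono h.normal.1 h.normal.1))

theorem jr_card {t : G} {L : Subgroup G} {q : ℕ} (h : JR t L q) :
    𝐨(𝐂[t]) = q * (q - 1) * (q + 1) := by
  rw [h.exact, sup_comm, card_sup_zpowers (P6.inv_of_orderOf h.inv) h.normal.1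
    (jrf_not_mem h.toJRF), mul_comm, isL2_card h.l2]

theorem jr_centS {t : G} {L S : Subgroup G} {q : ℕ} (h : JR t L q) (hS : S8 S) (ht : t ∈ S)
    {c : G} (hc : c ∈ 𝐂(S)) : c * c = 1 := by
  obtain ⟨a, ha, b, hb, v⟩ := exists_v4_inf hS ((hS.le_cent1 ht).trans h.normal.2) (isL2_ns h.l2)
  obtain ⟨A, hA⟩ := exists_LT (isL2_qs h.l2) (isL2_not_eight h.l2) v ha.2 hb.2
  have key : ∀ g ∈ L, g ∈ 𝐂(S) → g * g = 1 := fun g hg hc =>
    v.sq (lt_cent hA hg (hS.cent_le ha.1 hc) (hS.cent_le hb.1 hc))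
  rcases jr_cover h c (hS.cent_le ht hc) with k | k
  · exact key c k hc
  · have := key _ k (mul_mem hc (hS.le_cent ht))
    rwa [mul_assoc, ← mul_assoc t, ← (P5.Mx.mem_cent1.1 (hS.cent_le ht hc)).eq, mul_assoc c t,
      hS.sq t ht, mul_one] at this

theorem aut_sq (hN : NoT G) {t : G} {L : Subgroup G} {q : ℕ} (h : JR t L q) (φ : G →* G)
    (hφ : ∀ c ∈ 𝐂[t], φ c = c) (y : G) : φ (φ y) = y := by
  have it := P6.inv_of_orderOf h.inv
  obtain ⟨S, hS, h1⟩ := h.e8.exists_s8 (eight_dvd h.e8 it (jrf_ns h.toJRF)) it.isPGroup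
  have tS := h1 (mem_zpowers t)
  have h2 : 𝐍(S) ≤ (φ.comp φ).eqLocus (MonoidHom.id G) := fun g hg => by
    have h3 : g⁻¹ * φ g ∈ 𝐂(S) := mem_centralizer_iff.2 fun s hs => by
      have := hφ _ (hS.le_cent1 tS (hS.conj_mem hg hs))
      rw [map_mul, map_mul, map_inv, hφ s (hS.le_cent1 tS hs)] at this
      calc s * (g⁻¹ * φ g) = g⁻¹ * (g * s * g⁻¹) * φ g := by group
        _ = _ := by rw [← this]; group
    have h4 := hφ _ (hS.cent_le tS h3)
    show φ (φ g) = g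
    calc φ (φ g) = φ g * φ (g⁻¹ * φ g) := by rw [← map_mul, mul_inv_cancel_left]
      _ = g * (g⁻¹ * φ g * (g⁻¹ * φ g)) := by rw [h4]; group
      _ = g := by rw [jr_centS h hS tS h3, mul_one]
  by_contra hy
  have z := hN t ((φ.comp φ).eqLocus (MonoidHom.id G)) it.sq (jrf_ns h.toJRF)
    (fun k => hy (k.ge (mem_top y))) fun c hc => show φ (φ c) = c by rw [hφ c hc, hφ c hc]
  obtain ⟨b, hb, b1, tb⟩ := hS.exists_ne tS
  obtain ⟨g, rfl⟩ := isConj_iff.1 (h.conj b (⟨b1, hS.sq b hb⟩ : Inv b).orderOf_eq)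
  obtain ⟨k, hk, e⟩ := hS.fusion le_top tS (mem_top g) hb
  exact tb ((mem_cent1_iff_conj.1 (hS.norm_le_of_zs tS z ⟨h2 hk.2, hk.2⟩)).symm.trans e)

theorem jr_eight {t : G} {L : Subgroup G} {q : ℕ} (h : JRF t L q) : 8 ∣ Nat.card G :=
  eight_dvd h.e8 (P6.inv_of_orderOf h.inv) (jrf_ns h)

theorem map_cent1 (Y : Subgroup G) (t : Y) : (𝐂[t]).map Y.subtype = Y ⊓ 𝐂[(t : G)] := by
  rw [← top_inf_eq 𝐂[t], map_inf_cent1 Y.subtype_injective, ← MonoidHom.range_eq_map,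
    range_subtype]
  rfl

theorem ext (e : E8 G) {Y : Subgroup G} [Y.Normal] (hC : 𝐂(Y) = ⊥) (hN : NoT Y) {t : Y}
    {L : Subgroup Y} {q : ℕ} (h : JR t L q) : JRF (t : G) (L.map Y.subtype) q := by
  have h8 := odd_index e (jr_eight h.toJRF)
  have it := P6.inv_of_orderOf h.inv
  have n : 𝐂[(t : G)] ≤ 𝐍(Y ⊓ 𝐂[(t : G)]) :=
    H1.le_normalizer_inf (le_top.trans (normalizer_eq_top Y).ge) le_normalizer
  have tL : zpowers (t : G) ≤ 𝐂(L.map Y.subtype) := P5.Mx.zpowers_le_cent_iff.2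
    ((map_mono h.normal.1).trans ((map_cent1 Y t).le.trans inf_le_right))
  refine ⟨e, by rw [orderOf_coe, h.inv], fun a ha => ?_, isL2_map Y.subtype_injective h.l2,
    ⟨(map_mono h.normal.1).trans ((map_cent1 Y t).le.trans inf_le_right), ?_⟩,
    le_antisymm (fun f hf => ?_) (le_inf (zpowers_le.2 (self_mem_cent1 _)) tL)⟩
  · have aY := mem_of_odd_index h8 (P6.inv_of_orderOf ha).sq
    exact Y.subtype.map_isConj (h.conj ⟨a, aY⟩ (by rw [← orderOf_coe]; exact ha))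
  · rw [← jr_comm h, Subgroup.map_commutator, map_cent1]
    exact H1.le_normalizer_commutator n n
  have h1 : Y ⊓ 𝐂[(t : G)] ≤ 𝐂[f] := by
    rw [← map_cent1, h.exact, Subgroup.map_sup, MonoidHom.map_zpowers]
    exact sup_le (zpowers_le.2 (P5.Mx.mem_cent1.2 (P5.Mx.mem_cent1.1 hf.1).symm))
      (P5.Mx.zpowers_le_cent_iff.1 (zpowers_le.2 hf.2))
  have h2 : f * f ∈ 𝐂(Y) := mem_centralizer_iff.2 fun y hy => by
    have := congrArg Subtype.val (aut_sq hN h (MulAut.conjNormal f).toMonoidHom (fun c hc =>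
      Subtype.ext (mem_cent1_iff_conj.1 (P5.Mx.mem_cent1.2 (P5.Mx.mem_cent1.1 (h1
        ((map_cent1 Y t).le (mem_map_of_mem _ hc)))).symm))) ⟨y, hy⟩)
    have h3 : f * (f * y * f⁻¹) * f⁻¹ = y := this
    calc y * (f * f) = f * (f * y * f⁻¹) * f⁻¹ * (f * f) := by rw [h3]
      _ = _ := by group
  rw [hC, mem_bot] at h2
  have fY := mem_of_odd_index h8 h2
  have h3 : (⟨f, fY⟩ : Y) ∈ zpowers t := h.cent.le ⟨P5.Mx.mem_cent1.2 (Subtype.ext
    (P5.Mx.mem_cent1.1 hf.1).eq), mem_centralizer_iff.2 fun l hl =>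
      Subtype.ext (hf.2 l (mem_map_of_mem _ hl))⟩
  simpa using mem_map_of_mem Y.subtype h3

theorem exists_core {D : Subgroup G} (hs : Group.IsSolvable D) {E : Subgroup G} (hE : E ≤ D)
    {p : ℕ} (hp : p.Prime) (hP : IsPGroup p E) (h1 : ¬ E ≤ pCoreOf p D) :
    ∃ r : ℕ, r.Prime ∧ ¬ E ≤ 𝐂(pCoreOf r D) := by
  by_contra hcon
  push Not at hcon
  have h2 := (le_inf hE (P5.Mx.le_cent_fittingOf hcon)).trans (cent_fittingOf_le hs)
  exact h1 (pCoreOf_fittingOf hp D ▸ (isSyl_pCoreOf_of_isNilpotent hp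
    (H2.isNilpotent_fittingOf D)).le_of_normal hp (pCoreOf_normal p _).2 hP h2)

theorem j1_false [IsSimpleGroup G] (hG : Nat.card G = 175560) {D : Subgroup G} (ho : Odd 𝐨(D))
    (h : 1463 ∣ 𝐨(D)) : False := by
  have hD := Nat.le_of_dvd Nat.card_pos h
  obtain ⟨r, hr, h1⟩ : ∃ r : ℕ, r.Prime ∧ pCoreOf r D ≠ ⊥ := by
    by_contra hcon
    push Not at hcon
    have h2 := P5.Mx.fittingOf_le_of (W := ⊥) fun r hr => (hcon r hr).le
    have := (le_inf le_rfl fun x _ => mem_centralizer_iff.2 fun y hy => by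
      rw [mem_bot.1 (h2 hy), one_mul, mul_one]).trans
        ((cent_fittingOf_le (P5.Mx.isSolvable_of_odd ho)).trans h2)
    rw [le_bot_iff.1 this, card_bot] at hD
    omega
  haveI := Fact.mk hr
  have hR := H2.isPGroup_pCoreOf r D
  have h2 : r ∣ 𝐨(pCoreOf r D) :=
    (hR.card_eq_or_dvd).resolve_left fun k => h1 (card_eq_one.1 k)
  have key : ¬ r * r ∣ 175560 → 1463 * Nat.card (Sylow r G) ≤ 175560 := fun hh => by
    obtain ⟨P, hP⟩ := IsSyl.exists_sylow_top hr (⟨le_top, hR, fun k => hh (by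
      rw [relIndex_top_right] at k
      rw [← hG, ← (pCoreOf r D).card_mul_index]
      exact Nat.mul_dvd_mul h2 k)⟩ : IsSyl r (pCoreOf r D) ⊤)
    rw [← hG, ← P8.card_normalizer_sylow P, hP]
    exact Nat.mul_le_mul_right _ (hD.trans (card_le_of_le (pCoreOf_normal r D).2))
  have h3 := (h2.trans (Subgroup.card_dvd_of_le (H2.pCoreOf_le r D)))
  have h4 := h3.trans (hG ▸ card_subgroup_dvd_card D)
  obtain ⟨s3, s5, s7, s11, s19, -⟩ := P8.sylow_counts hG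
  have p : ∀ s, s.Prime → (r ∣ s ↔ r = s) := fun s hs => Nat.prime_dvd_prime_iff_eq hr hs
  rw [show 175560 = 2 * 2 * 2 * (3 * (5 * (7 * (11 * 19)))) by norm_num] at h4
  simp only [hr.dvd_mul, p 2 (by norm_num), p 3 (by norm_num), p 5 (by norm_num),
    p 7 (by norm_num), p 11 (by norm_num), p 19 (by norm_num), or_self] at h4
  rcases h4 with rfl | rfl | rfl | rfl | rfl | rfl
  · exact Nat.not_even_iff_odd.2 ho (even_iff_two_dvd.2 h3)
  all_goals have := key (by norm_num); omega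

theorem ree_eq {t : G} {L U : Subgroup G} {q : ℕ} (h : Ree t L U q) {P : Subgroup G}
    (hP : IsSyl 3 P ⊤) : 𝐨(𝐍(P)) = q ^ 3 * (q - 1) ∧ ∀ u ∈ P, u ≠ 1 → 𝐂[u] ≤ 𝐍(P) := by
  obtain ⟨n, hn⟩ := h.pow
  have hU : IsPGroup 3 U := IsPGroup.of_card (n := n * 3) (by rw [h.cardU, hn, pow_mul])
  have h3 : 3 ∣ q := hn ▸ dvd_pow_self 3 fun k => by have := h.big; simp [hn, k] at this
  have hq := h.big
  have h1 : IsSyl 3 U ⊤ := ⟨le_top, hU, by
    have := U.card_mul_index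
    rw [h.cardU, h.card, mul_assoc] at this
    rw [relIndex_top_right, Nat.eq_of_mul_eq_mul_left (by positivity) this, Nat.prime_three.dvd_mul]
    rintro (k | k)
    · exact absurd ((Nat.dvd_add_right (Dvd.dvd.pow h3 three_ne_zero)).1 k) (by decide)
    · omega⟩
  obtain ⟨g, -, rfl⟩ := hP.exists_conj_eq Nat.prime_three h1
  refine ⟨by rw [norm_conj, card_conj, h.cardB], fun u hu u1 => ?_⟩
  obtain ⟨v, hv, rfl⟩ := mem_conj'.1 hu
  rw [cent1_conj, norm_conj]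
  exact conj_mono (h.ti v hv fun k => u1 (by simp [k])) g

theorem ree_ti {t : G} {L U : Subgroup G} {q : ℕ} (h : Ree t L U q) {P Q : Subgroup G}
    (hP : IsSyl 3 P ⊤) (hQ : IsSyl 3 Q ⊤) {u : G} (u1 : u ≠ 1) (h1 : u ∈ P) (h2 : u ∈ Q) :
    P = Q := by
  haveI := Fact.mk Nat.prime_three
  have key : ∀ X : Subgroup G, IsPGroup 3 X → X ≤ 𝐍(Q) → X ≤ Q := fun X hX hn =>
    hQ.le_of_norm Nat.prime_three hX le_top hn
  obtain ⟨z, hz, z1⟩ := (bot_or_exists_ne_one _).resolve_left (center_ne_bot hP.pgrp.isNilpotent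
    fun k => u1 (mem_bot.1 (k ▸ h1)))
  have zQ := key _ (hP.pgrp.to_le (zpowers_le.2 hz.1)) (zpowers_le.2 ((ree_eq h hQ).2 u h2 u1
    (P5.Mx.mem_cent1.2 (hz.2 u h1).symm))) (mem_zpowers z)
  exact (hP.eq_of_le Nat.prime_three (key P hP.pgrp ((P5.Mx.zpowers_le_cent_iff.1
    (zpowers_le.2 hz.2)).trans ((ree_eq h hQ).2 z zQ z1))) le_top hQ.pgrp).symm

theorem ree_false {t : G} {L U : Subgroup G} {q : ℕ} (h : Ree t L U q) {n j : ℕ} (hn : q = 3 ^ n)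
    (on : Odd n) (j0 : 0 < j) (hj : j ≤ n) {D : Subgroup G} (ho : Odd 𝐨(D))
    (hd : q ^ 2 * (q * (q - 1) + 1) ∣ 𝐨(D) * j) : False := by
  have p3 := Nat.prime_three
  have hq := h.big
  have hnq : 2 * n < q := by
    rw [hn]
    clear hn on hj
    induction n with
    | zero => simp
    | succ n ih => rw [pow_succ]; omega
  obtain ⟨E, hE⟩ := exists_isSyl p3 D
  obtain ⟨P, hP, hEP⟩ := exists_isSyl_ge p3 hE.pgrp le_top
  have hqE : q ^ 2 ≤ 𝐨(E) * j := by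
    refine Nat.le_of_dvd (Nat.mul_pos Nat.card_pos j0) (Nat.Coprime.dvd_of_dvd_mul_left
      (show (q ^ 2).Coprime (E.relIndex D) by
        rw [hn]; exact ((p3.coprime_iff_not_dvd.2 hE.ndvd).pow_left n).pow_left 2) ?_)
    rw [← mul_assoc, mul_comm _ 𝐨(E), H1.card_mul_relIndex hE.le]
    exact (dvd_mul_right _ _).trans hd
  by_cases h0 : pCoreOf 3 D = ⊥
  swap
  · obtain ⟨u, hu, u1⟩ := (bot_or_exists_ne_one _).resolve_left h0
    have h1 : D ≤ 𝐍(P) := fun d hd => conj_eq_self_iff.1 (ree_ti h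
      (hP.conj_of_mem_norm (le_normalizer (mem_top d))) hP u1 (conj_mono ((hE.pCoreOf_le p3).trans hEP) d
        ((conj_eq_of_mem_norm ((pCoreOf_normal 3 D).2 hd)).ge hu)) (hEP (hE.pCoreOf_le p3 hu)))
    have h2 := ((dvd_mul_left _ _).trans hd).trans
      (Nat.mul_dvd_mul_right ((ree_eq h hP).1 ▸ Subgroup.card_dvd_of_le h1) j)
    have h3 : (q * (q - 1) + 1).Coprime (q ^ 3 * (q - 1)) :=
      Nat.Coprime.mul_right (Nat.Coprime.pow_right 3 (by simp)) (by simp)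
    have := Nat.le_of_dvd j0 (h3.dvd_of_dvd_mul_left h2)
    have := Nat.le_mul_of_pos_right q (show 0 < q - 1 by omega)
    omega
  obtain ⟨r, hr, h2⟩ := exists_core (P5.Mx.isSolvable_of_odd ho) hE.le p3 hE.pgrp fun k => by
    rw [h0, le_bot_iff] at k
    rw [k, card_bot, pow_two] at hqE
    have := Nat.le_mul_self q
    omega
  haveI := Fact.mk hr
  have hR := H2.isPGroup_pCoreOf r D
  have r1 : pCoreOf r D ≠ ⊥ := fun k => h2 fun x _ => mem_centralizer_iff.2 fun y hy => by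
    rw [mem_bot.1 (k.le hy), one_mul, mul_one]
  have r3 : r ≠ 3 := fun k => r1 (by rw [k, h0])
  have r2 : r ≠ 2 := fun k => Nat.not_even_iff_odd.2 (P6.odd_of_le (H2.pCoreOf_le r D) ho)
    (even_iff_two_dvd.2 (Dvd.dvd.trans (by rw [k])
      (hR.card_eq_or_dvd.resolve_left fun k => r1 (card_eq_one.1 k))))
  obtain ⟨v, hv, h3⟩ : ∃ v ∈ pCoreOf r D, ¬ E ≤ 𝐂[v] := by
    by_contra hcon
    push Not at hcon
    exact h2 fun x hx => mem_centralizer_iff.2 fun v hv => (P5.Mx.mem_cent1.1 (hcon v hv hx)).symm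
  have n := hE.le.trans (pCoreOf_normal r D).2
  have h4 : ∀ e ∈ E, e ∈ 𝐂[v] → e = 1 := fun e he hc => by
    by_contra e1
    have vN := (ree_eq h hP).2 e (hEP he) e1 (P5.Mx.mem_cent1.2 (P5.Mx.mem_cent1.1 hc).symm)
    refine h3 (P5.Mx.comm_eq_bot_iff.1 (eq_bot_iff.2 ?_))
    rw [← H1.inf_eq_bot_of_coprime' (P5.Mx.coprime_of_primes p3 hr r3.symm hP.pgrp hR)]
    exact le_inf ((commutator_mono hEP le_rfl).trans
      (H1.commutator_le_of_le_normalizer (zpowers_le.2 vN))) ((commutator_mono le_rfl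
        (zpowers_le.2 hv)).trans ((commutator_comm E _).trans_le
          (H1.commutator_le_of_le_normalizer n)))
  have h5 : 𝐨(E) ≤ 𝐨(pCoreOf r D) := Nat.card_le_card_of_injective
    (fun e : E => (⟨e * v * (e : G)⁻¹, H1.conj_mem_of_le_normalizer n e.2 hv⟩ : pCoreOf r D))
    fun a b hab => by
      have k : (a : G) * v * (a : G)⁻¹ = b * v * (b : G)⁻¹ := congrArg Subtype.val hab
      refine Subtype.ext (inv_mul_eq_one.1 (h4 _ (mul_mem (inv_mem a.2) b.2)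
        (mem_cent1_iff_conj.2 ?_)))
      calc _ = (a : G)⁻¹ * (b * v * (b : G)⁻¹) * a := by group
        _ = v := by rw [← k]; group
  obtain ⟨d, hd'⟩ := IsPGroup.iff_card.1 hR
  obtain ⟨k, rfl⟩ := on
  have hm : q = 3 * (3 ^ k) ^ 2 := by rw [hn]; ring
  have h6 := ree_num (d := d) (m := 3 ^ k) (by
    by_contra hk
    have : 3 ^ k ≤ 1 := by omega
    have := Nat.pow_le_pow_left this 2
    omega) hr r2 r3
    (fun k => r3 ((Nat.prime_dvd_prime_iff_eq hr p3).1 (hr.dvd_of_dvd_pow k)))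
    (by rw [← hm, ← h.card, ← hd']; exact card_subgroup_dvd_card _)
  rw [← hm, ← hd'] at h6
  have h7 := hqE.trans (Nat.mul_le_mul (h5.trans h6.le) hj)
  rw [pow_two, mul_comm 2 q, mul_assoc] at h7
  have := Nat.le_of_mul_le_mul_left h7 (by omega)
  omega

theorem index_dvd (hA : L2Api.{u}) (e : E8 G) {Y : Subgroup G} [Y.Normal] (hC : 𝐂(Y) = ⊥)
    (hN : NoT Y) {t : Y} {L : Subgroup Y} {q : ℕ} (h : JR t L q) :
    ∃ p n, p.Prime ∧ Odd n ∧ q = p ^ n ∧ Y.index ∣ n := by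
  have h1 := ext e hC hN h
  have it := P6.inv_of_orderOf h1.inv
  obtain ⟨s, hs, s0, hs0, v⟩ := exists_v4 e (isL2_ns h1.l2)
  obtain ⟨F⟩ := hA G _ _ t q s s0 ⟨h1.l2, h1.normal, it.sq, h1.cent, Nat.not_even_iff_odd.1
    fun k => odd_index e (Y := L.map Y.subtype ⊔ zpowers (t : G)) (by
      rw [card_sup_zpowers it h1.normal.1 (jrf_not_mem h1)]
      exact Nat.mul_dvd_mul_right (four_dvd (isL2_ns h1.l2)) 2) ((even_iff_two_dvd.1 k).trans
      (relIndex_dvd_index_of_le (sup_le h1.normal.1 (zpowers_le.2 (self_mem_cent1 _)))))⟩ v hs hs0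
  refine ⟨F.p, F.n, F.hp, F.oddn, F.hq, Dvd.dvd.trans ?_ F.dvd⟩
  have h2 : Y ⊔ Phi 𝐂[(t : G)] s s0 = ⊤ := eq_top_iff.2 fun g _ => by
    obtain ⟨y, hy⟩ := isConj_iff.1 (h.conj ⟨g * t * g⁻¹, Normal.conj_mem ‹_› _ t.2 g⟩
      (by rw [← orderOf_coe]; exact (it.conj g).orderOf_eq))
    have h3 : (y : G) * t * (y : G)⁻¹ = g * t * g⁻¹ := congrArg Subtype.val hy
    obtain ⟨a, ha, φ, hφ, k⟩ := F.dec ((y : G)⁻¹ * g) (mem_cent1_iff_conj.2 (by
      calc _ = (y : G)⁻¹ * (g * t * g⁻¹) * y := by group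
        _ = _ := by rw [← h3]; group))
    refine (mul_mem_cancel_left (mem_sup_left (inv_mem y.2))).1 ?_
    have aY := map_subtype_le L ha
    rcases k with k | k <;> rw [k]
    · exact mul_mem (mem_sup_left aY) (mem_sup_right hφ)
    · exact mul_mem (mem_sup_left (mul_mem t.2 aY)) (mem_sup_right hφ)
  rw [← relIndex_top_right, ← h2, relIndex_sup_left]
  exact relIndex_dvd_card _ _

theorem card_dvd_of_trans {Y D : Subgroup G} [Y.Normal] {t : Y}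
    (hD : ∀ g : G, ∃ d ∈ D, d * t * d⁻¹ = g * t * g⁻¹)
    (hY : ∀ g : G, ∃ y : Y, y * t * y⁻¹ = ⟨g * t * g⁻¹, Normal.conj_mem ‹_› _ t.2 g⟩) :
    ∃ j, j ∣ Y.index ∧ 𝐂[t].index ∣ 𝐨(D.subgroupOf Y) * j := by
  refine ⟨Y.relIndex D, relIndex_dvd_index_of_normal Y D, ?_⟩
  have h1 : 𝐂[(t : G)].relIndex D = 𝐂[(t : G)].relIndex Y := by
    rw [← P6.ncard_class, ← P6.ncard_class]
    congr 1
    refine Set.ext fun c => ⟨fun ⟨d, _, k⟩ => ?_, fun ⟨y, _, k⟩ => k ▸ hD y⟩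
    obtain ⟨y, hy⟩ := hY d
    exact ⟨y, y.2, (congrArg Subtype.val hy).trans k⟩
  have h2 : 𝐂[t].index = 𝐂[(t : G)].relIndex Y := by
    rw [relIndex]
    congr 1
    exact Subgroup.ext fun y => by
      simp only [mem_subgroupOf, mem_centralizer_singleton_iff, Subtype.ext_iff, coe_mul]
  rw [h2, ← h1, ← card_map_of_injective Y.subtype_injective, subgroupOf_map_subtype, inf_comm,
    H1.card_inf_mul_relIndex]
  exact relIndex_dvd_card _ _

theorem no_trans (hA : L2Api.{u}) {n : ℕ} (hI : Ind3.{u} n) (hn : Nat.card G < n) (e : E8 G)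
    (hO : Od (⊤ : Subgroup G) = ⊥) (ih : ∀ Y : Subgroup G, IsSimpleGroup Y → NoT Y)
    {D : Subgroup G} (ho : Odd 𝐨(D)) (hD : ∀ a b : G, Inv a → Inv b → ∃ d ∈ D, d * a * d⁻¹ = b)
    {t : G} (it : Inv t) : Group.IsSolvable 𝐂[t] := by
  by_contra ns
  have odd : ∀ Y : Subgroup G, [Y.Normal] → ¬ 2 ∣ Y.index →
      ¬ Group.IsSolvable (Y ⊓ 𝐂[t] : Subgroup G) := fun Y _ h1 h2 => ns (by
    haveI : ((Y ⊓ 𝐂[t]).subgroupOf 𝐂[t]).Normal := by
      rw [inf_subgroupOf_right]; infer_instance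
    refine H8.isSolvable_of_bar' le_rfl h2 (P5.Mx.isSolvable_of_odd ?_)
    rw [H1.card_bar le_rfl, inf_relIndex_right]
    exact Nat.not_even_iff_odd.1 fun k =>
      h1 ((even_iff_two_dvd.1 k).trans (relIndex_dvd_index_of_normal Y _)))
  rcases struct8 hI hn e hO with ⟨S, _, h1, h2⟩ | ⟨L, c, q, hc, h⟩ | ⟨Y, _, hs, h8, hC, hB⟩
  · exact odd S h2 (H1.isSolvable_of_le inf_le_left (H1.isSolvable_of_isPGroup h1))
  · have c1 : c ≠ 1 := fun k => lm_one (k ▸ h) (eight_dvd e it ns)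
    obtain ⟨a, -, b, -, v⟩ := exists_v4 e ns
    have key : ∀ a : G, P6.Inv a → a = c := fun a ha => by
      obtain ⟨d, -, rfl⟩ := hD c a ⟨c1, h.tt⟩ ha
      rw [mem_center_iff.1 hc d, mul_inv_cancel_right]
    exact v.ts ((key a ⟨v.t1, v.tt⟩).trans (key b ⟨v.s1, v.ss⟩).symm)
  have hi := odd_index e h8
  have key : ∀ (s : Y) (L : Subgroup Y) (q : ℕ), JR s L q → ∃ p n j : ℕ, p.Prime ∧ Odd n ∧
      q = p ^ n ∧ j ∣ n ∧ 𝐂[s].index ∣ 𝐨(D.subgroupOf Y) * j := fun s L q h => by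
    obtain ⟨p, n, h1, h2, h3, h4⟩ := index_dvd hA e hC (ih Y hs) h
    have is : Inv (s : G) := P6.inv_of_orderOf (by rw [orderOf_coe, h.inv])
    obtain ⟨j, h5, h6⟩ := card_dvd_of_trans (fun g => hD _ _ is (is.conj g)) fun g =>
      isConj_iff.1 (h.conj _ (by rw [← orderOf_coe]; exact (is.conj g).orderOf_eq))
    exact ⟨p, n, j, h1, h2, h3, h5.trans h4, h6⟩
  have ho' : Odd 𝐨(D.subgroupOf Y) :=
    ho.of_dvd_nat (card_comap_dvd_of_injective _ _ Y.subtype_injective)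
  rcases hB with ⟨h, -⟩ | ⟨s, L, h, hY⟩ | ⟨s, L, U, q, h⟩
  · have tY := mem_of_odd_index hi it.sq
    refine odd Y hi (H1.isSolvable_of_isMulCommutative ⟨⟨fun a b => Subtype.ext
      (Cfsg.Agent.L.commute_of_sq_eq_one (fun x hx => ?_) a.2 b.2)⟩⟩)
    exact congrArg Subtype.val (h ⟨t, tY⟩ ⟨x, hx.1⟩ (fun k => it.ne (congrArg Subtype.val k))
      (Subtype.ext it.sq) (Subtype.ext (P5.Mx.mem_cent1.1 hx.2).symm.eq))
  · obtain ⟨p, n, j, h1, -, h3, h4, h5⟩ := key s L 5 h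
    rw [((Nat.Prime.pow_eq_iff Nat.prime_five).1 h3.symm).2, Nat.dvd_one] at h4
    have := 𝐂[s].card_mul_index
    rw [jr_card h, hY] at this
    exact j1_false hY ho' (by rwa [show 𝐂[s].index = 1463 by omega, h4, mul_one] at h5)
  · obtain ⟨p, n, j, h1, h2, h3, h4, h5⟩ := key s L q h.toJR
    obtain ⟨m, hm⟩ := h.pow
    have hq := h.big
    have n0 := h2.pos
    obtain rfl : p = 3 := (Nat.prime_dvd_prime_iff_eq h1 Nat.prime_three).1
      (h1.dvd_of_dvd_pow (hm ▸ h3 ▸ dvd_pow_self p n0.ne'))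
    refine ree_false h h3 h2 (Nat.pos_of_dvd_of_pos h4 n0) (Nat.le_of_dvd n0 h4) ho' ?_
    have := 𝐂[s].card_mul_index
    rw [jr_card h.toJR, h.card] at this
    obtain ⟨k, rfl⟩ : ∃ k, q = k + 1 := ⟨q - 1, by omega⟩
    rw [Nat.add_sub_cancel] at this ⊢
    rwa [Nat.eq_of_mul_eq_mul_left (show 0 < (k + 1) * k * (k + 1 + 1) by
      have : 0 < k := by omega
      positivity) (this.trans (by ring) : _ = _ * ((k + 1) ^ 2 * ((k + 1) * k + 1)))] at h5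

theorem exists_x {S : Subgroup G} (hS : S8 S) {a : G} (ha : a ∈ S)
    (ns : ¬ Group.IsSolvable 𝐂[a]) : ∃ x ∈ 𝐂[a], x ∈ 𝐍(S) ∧ x ∉ 𝐂(S) := by
  by_contra hcon
  push Not at hcon
  exact ns (hS.solv_of_nc (hS.le_cent1 ha) fun x hx => hcon x hx.1 hx.2)

theorem trans_of_not_le {S H : Subgroup G} (hS : S8 S) {t : G} (ht : t ∈ S) (t1 : t ≠ 1)
    (ns : ¬ Group.IsSolvable 𝐂[t]) (hC : 𝐂[t] ≤ H) (h : ¬ H ⊓ 𝐍(S) ≤ 𝐂[t]) {a b : G}
    (ha : a ∈ S) (hb : b ∈ S) (a1 : a ≠ 1) (b1 : b ≠ 1) : ∃ g ∈ H ⊓ 𝐍(S), g * a * g⁻¹ = b := by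
  obtain ⟨x, h1, h2, h3⟩ := exists_x hS ht ns
  refine hS.trans (le_inf ((hS.le_cent1 ht).trans hC) le_normalizer) inf_le_right
    (fun c hc c1 k => ?_) ha hb a1 b1
  rcases eq_or_ne t c with rfl | tc
  · exact h k
  · exact h3 (hS.cent_of_line (hS.v4 ht hc t1 c1 tc) ht hc h2 h1 (k ⟨hC h1, h2⟩))

theorem noT_aux (hA : L2Api.{u}) (n : ℕ) : ∀ (G : Type u) [Group G] [Finite G], Nat.card G = n →
    IsSimpleGroup G → E8 G → Ind3.{u} n → NoT G := by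
  induction n using Nat.strong_induction_on with
  | _ n ih =>
  intro G _ _ hn _ e hI t H tt ns hH hC
  have it : Inv t := ⟨fun k => hH (eq_top_iff.2 (cent1_one.ge.trans (k ▸ hC))), tt⟩
  obtain ⟨S, hS, h1⟩ := e.exists_s8 (eight_dvd e it ns) it.isPGroup
  have tS := h1 (mem_zpowers t)
  have SH := (hS.le_cent1 tS).trans hC
  by_contra hz
  have tr := fun a ha a1 => trans_of_not_le hS tS it.ne ns hC
    (fun k => hz (hS.zs SH tS k)) (a := a) ha tS a1 it.ne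
  have se := P6.se_quot (hS.isSyl le_top) SH fun s hs is g hg => by
    obtain ⟨k, hk, e1⟩ := tr s hs is.ne
    obtain ⟨l, hl, e2⟩ := tr _ hg (is.conj g).ne
    refine (H.mul_mem_cancel_left hl.1).1 ((H.mul_mem_cancel_right (H.inv_mem hk.1)).1
      (hC (mem_cent1_iff_conj.2 ?_)))
    calc _ = l * (g * (k⁻¹ * t * k) * g⁻¹) * l⁻¹ := by group
      _ = l * (g * s * g⁻¹) * l⁻¹ := by rw [← e1]; group
      _ = t := e2
  haveI := P6.nontrivial_quot hH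
  obtain ⟨β, hβ⟩ := exists_ne ((1 : G) : G ⧸ H)
  have st : MulAction.stabilizer G ((1 : G) : G ⧸ H) = H := by rw [P6.stab_mk, conj_one]
  have lt : 𝐨(H) < n := (H1.card_lt_of_lt hH.lt_top).trans_eq (by rw [card_top, hn])
  have tH := SH tS
  refine ns (H8.isSolvable_of_bar' (N := Od H) hC (P5.Mx.isSolvable_of_odd (P6.odd_Od H)) ?_)
  rw [← inf_of_le_right hC, bar_cent tH tt]
  refine no_trans hA hI (card_bar_lt lt) (e8_bar e H) (Od_bar H) (fun Y hY => ih _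
    ((card_le_card_group Y).trans_lt (card_bar_lt lt)) Y rfl hY ((e8_bar e H).sub Y)
    (hI.mono ((card_le_card_group Y).trans (card_bar_lt lt).le)))
    (odd_bar (se.odd_St2 hβ.symm)) (fun a b ha hb => ?_) (it.pr tH)
  obtain ⟨a, aH, ia, rfl⟩ := P6.exists_inv_lift ha
  obtain ⟨b, bH, ib, rfl⟩ := P6.exists_inv_lift hb
  obtain ⟨c, ic, hc⟩ := P6.all_quot it tH β
  obtain ⟨d, hd, k⟩ := se.exists_conj_St2 (N := ⊤) ia ib (st.ge aH) (st.ge bH) hβ.symm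
    (mem_top _) (mem_top _) ⟨c, mem_top c, ic, hc⟩
  refine ⟨pr H ⟨d, st.le hd.2.1⟩, H1.qmk_mem_bar hd.2, ?_⟩
  rw [← map_inv, ← map_mul, ← map_mul]
  exact congrArg _ (Subtype.ext k)

end KO

variable [Finite G]

/-- In a proper overgroup of its nonsolvable centralizer an involution is isolated. -/
theorem noT (hA : L2Api.{u}) [hs : IsSimpleGroup G] (e : E8 G) (hI : Ind3.{u} (Nat.card G)) {t : G}
    (tt : t * t = 1) (ns : ¬ Group.IsSolvable 𝐂[t]) {H : Subgroup G} (hH : H ≠ ⊤)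
    (hC : 𝐂[t] ≤ H) : ∀ g ∈ H, ⁅t, g⁆ ∈ pPrimeCoreOf 2 H :=
  KO.noT_aux hA _ G rfl hs e hI t H tt ns hH hC

theorem JR.ext (hA : L2Api.{u}) {n : ℕ} (hI : Ind3.{u} n) (hn : Nat.card G < n) (e : E8 G)
    {Y : Subgroup G} [Y.Normal] (hs : IsSimpleGroup Y) (hC : 𝐂(Y) = ⊥) {t : Y} {L : Subgroup Y}
    {q : ℕ} (h : JR t L q) : JRF (t : G) (L.map Y.subtype) q :=
  KO.ext e hC (KO.noT_aux hA _ Y rfl hs (e.sub Y)
    (hI.mono ((card_le_card_group Y).trans hn.le))) h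

end Cfsg.Agent.P7
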