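/-
Section O: the setting, eigenvectors, and the case of a nontrivial layer in `C(t)`.
-/
import Cfsg.Agent.P7.K2

set_option autoImplicit false
set_option linter.unusedSectionVars false

namespace Cfsg.Agent.P7

open Subgroup Cfsg Cfsg.Agent Cfsg.Agent.FT
open Cfsg.Agent.H2 (pPrimeCoreOf layerOf)
open Cfsg.Agent.P5 (V4 Tri LT)
open Cfsg.Agent.P6 (Inv Od Qt pr)
open scoped commutatorElement

universe u

variable {G : Type u} [Group G]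

/-- The element `e` of odd order is centralized by `b`, `c` and inverted by `t`. -/
structure WtO (S : Subgroup G) (e b c t : G) : Prop where
  s8 : S8 S
  ne : e ≠ 1
  odd : Odd (orderOf e)
  hb : b ∈ S
  hc : c ∈ S
  ht : t ∈ S
  v : V4 b c
  cb : e ∈ 𝐂[b]
  cc : e ∈ 𝐂[c]
  inv : t * e * t = e⁻¹

/-- The setting of section O. -/
structure OH (S : Subgroup G) : Prop where
  s8 : S8 S
  ind : Ind3.{u} (Nat.card G)
  noT : NoT G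
  ns : ∀ a ∈ S, a ≠ 1 → ¬ Group.IsSolvable 𝐂[a]
  trans : ∀ a ∈ S, ∀ b ∈ S, a ≠ 1 → b ≠ 1 → ∃ g ∈ 𝐍(S), g * a * g⁻¹ = b

namespace KO

theorem mc {g t : G} : g ∈ 𝐂[t] ↔ Commute g t := P5.Mx.mem_cent1

theorem v4_mul {a c : G} (v : V4 a c) : V4 a (a * c) :=
  ⟨v.t1, v.ts1, v.ts_ne_t.symm, v.tt, v.tsts, (Commute.refl a).mul_right v.comm⟩

theorem cent_symm {a b : G} (h : a ∈ 𝐂[b]) : b ∈ 𝐂[a] := mc.2 (mc.1 h).symm

theorem comm_of_inv {f s : G} (ss : s * s = 1) (h : s * f * s = f⁻¹) : ⁅f, s⁆ = f * f := by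
  rw [commutatorElement_def, ← h, inv_eq_of_mul_eq_one_right ss]
  calc _ = f * (s * s) * f * (s * s) := by group
    _ = _ := by rw [ss, mul_one, mul_one]

theorem mem_comm_of_inv {U : Subgroup G} {f s : G} (hf : f ∈ U) (ho : Odd (orderOf f))
    (ss : s * s = 1) (h : s * f * s = f⁻¹) : f ∈ ⁅U, zpowers s⁆ :=
  P6.mem_of_sq_mem ho (comm_of_inv ss h ▸ commutator_mem_commutator hf (mem_zpowers s))

theorem mem_of_inv {L : Subgroup G} {f s : G} (hf : f ∈ 𝐍(L)) (hs : s ∈ L) (ho : Odd (orderOf f))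
    (ss : s * s = 1) (h : s * f * s = f⁻¹) : f ∈ L :=
  (commutator_mono le_rfl (zpowers_le.2 hs)).trans ((commutator_comm _ L).trans_le
    (H1.commutator_le_of_le_normalizer (zpowers_le.2 hf)))
    (mem_comm_of_inv (mem_zpowers f) ho ss h)

theorem eq_one_of_inv {f s : G} (ho : Odd (orderOf f)) (ss : s * s = 1) (h : s * f * s = f⁻¹)
    (hc : f ∈ 𝐂[s]) : f = 1 :=
  P6.eq_one_of_eq_inv ho (by rw [← h, ← (mc.1 hc).eq, mul_assoc, ss, mul_one])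

theorem le_cent_of_perfect {L A : Subgroup G} (hL : ⁅L, L⁆ = L) (h : ⁅L, A⁆ ≤ 𝐂(L)) : A ≤ 𝐂(L) := by
  have h1 := commutator_eq_bot_iff_le_centralizer.2 h
  exact H1.commutator_eq_bot_iff_le_centralizer'.1 (hL ▸ commutator_commutator_eq_bot_of_rotate h1
    (by rwa [commutator_comm A]))

theorem exists_coatom [Finite G] {X : Subgroup G} (h : X ≠ ⊤) : ∃ M, IsCoatom M ∧ X ≤ M :=
  (eq_top_or_exists_le_coatom X).resolve_left h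

variable [Finite G]

theorem le_cent1_of_comm {D : Subgroup G} {t : G} (tt : t * t = 1) (ho : Odd 𝐨(D)) (hn : t ∈ 𝐍(D))
    (h : ⁅D, zpowers t⁆ ≤ 𝐂[t]) : D ≤ 𝐂[t] :=
  P5.Mx.comm_eq_bot_iff.1 (H1.commutator_eq_bot_of_commutator_commutator_eq_bot (zpowers_le.2 hn)
    (P5.Mx.coprime_zpowers tt ho) (P5.Mx.comm_eq_bot_iff.2 h))

theorem layer_le_cent {X N : Subgroup G} (hN : N ⊲ X) (hs : Group.IsSolvable N) :
    layerOf X ≤ 𝐂(N) :=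
  H2.layerOf_le_centralizer_of_isSolvable (H2.SnIn.of_normal hN.1 hN.2) hs

theorem layer_le_cent_Od (X : Subgroup G) : Od X ≤ 𝐂(layerOf X) :=
  le_centralizer_iff.1 (layer_le_cent (P6.Od_normal X) (P5.Mx.isSolvable_of_odd (P6.odd_Od X)))

theorem zs_layer {X : Subgroup G} {c : G} (h : Zs X c) (hc : c ∈ X) : layerOf X ≤ 𝐂[c] :=
  P5.Mx.zpowers_le_cent_iff.1 (le_cent_of_perfect (H2.commutator_layerOf X)
    ((h.comm_le hc (H2.layerOf_le X)).trans (layer_le_cent_Od X)))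

theorem V2_le_of_mem {a b c d : G} (v : V4 a b) (w : V4 c d) (hc : c ∈ V2 a b) (hd : d ∈ V2 a b) :
    V2 a b ≤ V2 c d :=
  (H1.eq_of_le_of_card_le (P5.V4.le_iff.2 ⟨hc, hd⟩) (by rw [v.card, w.card])).ge

theorem cent_of_tri {K A : Subgroup G} {a b x f : G} (h : LT K A a b) (hx : x ∈ K) (tri : Tri x a b)
    (hf : f ∈ 𝐍(K)) (ho : Odd (orderOf f)) (fa : f ∈ 𝐂[a]) (fb : f ∈ 𝐂[b]) : f ∈ 𝐂[x] := by
  have v := h.hyp.v4
  have fV := V4.le_cent_iff.2 ⟨fa, fb⟩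
  have h1 := V4.le_cent_iff.1 (mul_mem (H1.conj_mem_of_le_normalizer'
    (H1.le_normalizer_centralizer (le_refl 𝐍(V2 a b))) (tri.mem_norm v) fV) (inv_mem fV))
  have h2 := lt_cent h (by
    rw [mul_assoc, mul_assoc, ← mul_assoc f]
    exact mul_mem (inv_mem hx) (H1.conj_mem_of_le_normalizer le_rfl hf hx)) h1.1 h1.2
  refine P6.mem_of_sq_mem ho (mem_cent1_iff_conj.2 ?_)
  have h3 : f * (x⁻¹ * f * x * f⁻¹) * f⁻¹ = x⁻¹ * f * x * f⁻¹ := by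
    rw [← mem_centralizer_iff.1 fV _ h2, mul_inv_cancel_right]
  calc _ = f * x * f⁻¹ * (f * (x⁻¹ * f * x * f⁻¹) * f⁻¹) := by group
    _ = x * ((x⁻¹ * f * x * f⁻¹) * (x⁻¹ * f * x * f⁻¹)) := by rw [h3]; group
    _ = x := by rw [v.sq h2, mul_one]

theorem norm_of_tri {S : Subgroup G} (hS : S8 S) {a b c x : G} (v : V4 a b) (ha : a ∈ S)
    (hb : b ∈ S) (hc : c ∈ S) (c1 : c ∉ V2 a b) (tri : Tri x a b) (hx : x ∈ 𝐂[c]) : x ∈ 𝐍(S) := by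
  rw [le_antisymm (hS.le_of_mem v ha hb hc c1 (X := V2 a b ⊔ zpowers c)
    (mem_sup_left P5.V4.t_mem) (mem_sup_left P5.V4.s_mem) (mem_sup_right (mem_zpowers c)))
    (sup_le (P5.V4.le_iff.2 ⟨ha, hb⟩) (zpowers_le.2 hc))]
  exact H1.le_normalizer_sup (zpowers_le.2 (tri.mem_norm v))
    (zpowers_le.2 (P5.Mx.cent1_le_norm_zpowers c hx)) (mem_zpowers x)

theorem exists_v4_with {a b c : G} {S : Subgroup G} (hS : S8 S) (ha : a ∈ S) (a1 : a ≠ 1)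
    (hb : b ∈ S) (hc : c ∈ S) (v : V4 b c) : V4 a b ∨ V4 a c := by
  rcases eq_or_ne a b with rfl | ab
  · exact Or.inr v
  · exact Or.inl (hS.v4 ha hb a1 v.t1 ab)

theorem eq_of_fitting [IsSimpleGroup G] (e : E8 G) {M₁ M₂ : Subgroup G} (h₁ : IsCoatom M₁)
    (h₂ : IsCoatom M₂) (e₁ : layerOf M₁ = ⊥) (e₂ : layerOf M₂ = ⊥) (k₁ : fittingOf M₁ ≤ M₂)
    (k₂ : fittingOf M₂ ≤ M₁) : M₁ = M₂ := by
  by_contra hne
  have hP : ∀ A : Subgroup G, A ≠ ⊥ → A ≤ M₁ ⊓ M₂ →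
      (M₁ ≤ 𝐍(A) → M₂ ⊓ 𝐍(A) = M₁ ⊓ M₂) ∧ (M₂ ≤ 𝐍(A) → M₁ ⊓ 𝐍(A) = M₁ ⊓ M₂) :=
    fun A a b => ⟨fun c => by rw [P5.Mx.norm_eq h₁ a (b.trans inf_le_left) c, inf_comm],
      fun c => by rw [P5.Mx.norm_eq h₂ a (b.trans inf_le_right) c]⟩
  obtain ⟨p, hp, c1, c2, c3⟩ := S3752.result M₁ M₂ hne hP (by rwa [← H2.fstarOf, H2.fstarOf_eq, e₁,
    bot_sup_eq]) (by rwa [← H2.fstarOf, H2.fstarOf_eq, e₂, bot_sup_eq])
  haveI := Fact.mk hp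
  have key : ∀ (M : Subgroup G) (S : Sylow 2 M), IsMulCommutative (S : Subgroup M) := fun M S =>
    (e.sub M).comm_two _ S.isPGroup'
  rcases S3753.result M₁ M₂ hne hP c1 c2 c3 with ⟨S, hS⟩ | ⟨S, hS⟩
  exacts [hS (key _ S), hS (key _ S)]

theorem eq_of_two [IsSimpleGroup G] (e : E8 G) {M R : Subgroup G} (hM : IsCoatom M)
    (hR : IsCoatom R) (eM : layerOf M = ⊥) (eR : layerOf R = ⊥) (h2 : P5.Mx.Two M)
    (hF : fittingOf R ≤ M) (hZ : P5.Mx.ZF M ≤ R) : R = M := by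
  have key : ∀ r : ℕ, r.Prime → pCoreOf r M ≠ ⊥ → pCoreOf r R ≠ ⊥ := by
    intro r hr h1 h0
    haveI := Fact.mk hr
    have hZR : P5.Mx.Zr r M ≤ R := (P5.Mx.Zr_le_ZF hr M).trans hZ
    have a1 := H2.fittingOf_le_sup hr R
    rw [h0, bot_sup_eq] at a1
    have a2 : P5.Mx.Zr r M ≤ 𝐂(fittingOf R) := P5.Mx.le_cent_of_le le_rfl a1
      (hZR.trans (pPrimeCoreOf_normal r R).2) (hF.trans (P5.Mx.le_norm_Zr r M))
      (H1.coprime_card_of_isPGroup (P5.Mx.isPGroup_Zr r M)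
        (H2.coprime_card_pPrimeCoreOf r R)).symm
    exact P5.Mx.Zr_ne_bot hr h1 (eq_bot_iff.2 (h0 ▸ H2.le_pCoreOf_of_le_fittingOf
      (P5.Mx.isPGroup_Zr r M)
      ((le_inf hZR a2).trans (H2.inf_centralizer_fittingOf_le_of_layerOf_eq_bot eR))))
  refine eq_of_fitting e hR hM eR eM hF (P5.Mx.fittingOf_le_of fun r hr => ?_)
  by_cases h0 : pCoreOf r M = ⊥
  · exact h0 ▸ bot_le
  obtain ⟨q, hq, hne, hq1⟩ := h2 r hr
  exact P5.Mx.pCoreOf_le_of_two hr hq hne hR (H2.isPGroup_pCoreOf r R) (key r hr h0)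
    (H2.pCoreOf_le r R) (H2.le_normalizer_pCoreOf r R) ((H2.pCoreOf_le_fittingOf hr R).trans hF)
    (H2.isPGroup_pCoreOf q R) (key q hq hq1) (H2.pCoreOf_le q R) (H2.le_normalizer_pCoreOf q R)
    ((H2.pCoreOf_le_fittingOf hq R).trans hF)

/-- The `P × Q` lemma for an involution. -/
theorem pxq {p : ℕ} (hp : p.Prime) (p2 : p ≠ 2) {P Q : Subgroup G} {j : G} (hP : IsPGroup p P)
    (hQ : IsPGroup p Q) (hn : P ≤ 𝐍(Q)) (hj : j ∈ 𝐍(Q)) (jj : j * j = 1) (hc : P ≤ 𝐂[j])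
    (h : Q ⊓ 𝐂(P) ≤ 𝐂[j]) : Q ≤ 𝐂[j] :=
  haveI := Fact.mk hp
  P5.Mx.zpowers_le_cent_iff.1 (H1.pxq_lemma hP hQ hn (zpowers_le.2 hj)
    (hc.trans (P5.Mx.cent_zpowers j).ge) (P5.Mx.coprime_zpowers jj (P6.odd_of_isPGroup hp p2 hQ))
    (h.trans (P5.Mx.cent_zpowers j).ge))

end KO

open KO

variable [Finite G] {S : Subgroup G}

namespace WtO

variable {e b c t : G} (h : WtO S e b c t)
include h

theorem le : V2 b c ≤ 𝐂[e] := P5.V4.le_iff.2 ⟨cent_symm h.cb, cent_symm h.cc⟩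

theorem not_mem : t ∉ V2 b c := fun k =>
  h.ne (eq_one_of_inv h.odd (h.s8.sq t h.ht) h.inv (cent_symm (h.le k)))

theorem cases {s : G} (hs : s ∈ S) : s ∈ V2 b c ∨ s * e * s = e⁻¹ := by
  refine or_iff_not_imp_left.2 fun k => ?_
  have h1 := h.s8.mul_mem_of_not_mem (P5.V4.le_iff.2 ⟨h.hb, h.hc⟩) h.v.card h.ht hs h.not_mem k
  have h2 := mem_cent1_iff_conj.1 (inv_mem (h.le h1))
  have i := fun x hx => inv_eq_of_mul_eq_one_right (h.s8.sq x hx)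
  rw [inv_inv, mul_inv_rev, i s hs, i t h.ht] at h2
  calc s * e * s = t * t * s * e * s * (t * t) := by rw [h.s8.sq t h.ht, one_mul, mul_one]
    _ = t * (t * s * e * (s * t)) * t := by group
    _ = _ := by rw [h2, h.inv]

theorem mem {s : G} (hs : s ∈ S) (hc : e ∈ 𝐂[s]) : s ∈ V2 b c :=
  (h.cases hs).resolve_right fun k => h.ne (eq_one_of_inv h.odd (h.s8.sq s hs) k hc)

theorem norm : S ≤ 𝐍(zpowers e) := fun s hs => by
  rcases h.cases hs with k | k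
  · exact P5.Mx.cent1_le_norm_zpowers e (h.le k)
  · rw [← conj_eq_self_iff, ← zpowers_conj, inv_eq_of_mul_eq_one_right (h.s8.sq s hs), k,
      zpowers_inv]

end WtO

theorem S8.exists_wt (hS : S8 S) {U : Subgroup G} (ho : Odd 𝐨(U)) (hn : S ≤ 𝐍(U)) {t : G}
    (ht : t ∈ S) (h : ¬ U ≤ 𝐂[t]) : ∃ e ∈ U, ∃ b c, WtO S e b c t := by
  have t1 : t ≠ 1 := fun k => h (le_top.trans (k ▸ KO.cent1_one.ge))
  have n : ∀ w ∈ S, S ≤ 𝐍(𝐂[w]) := fun w hw => (hS.le_cent1 hw).trans le_normalizer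
  have key : ∀ {W : Subgroup G} {a b : G}, Odd 𝐨(W) → S ≤ 𝐍(W) → a ∈ S → b ∈ S → V4 a b →
      ¬ W ≤ 𝐂[t] → ∃ w ∈ V2 a b, w ≠ 1 ∧ ¬ W ⊓ 𝐂[w] ≤ 𝐂[t] := fun ho hn ha hb v h => by
    by_contra hcon
    push Not at hcon
    exact h (V4.le_of_cent v ho (hn ha) (hn hb) (hcon _ P5.V4.t_mem v.t1)
      (hcon _ P5.V4.s_mem v.s1) (hcon _ (mul_mem P5.V4.t_mem P5.V4.s_mem) v.ts1))
  obtain ⟨a, ha, a1, ta⟩ := hS.exists_ne ht
  have v := hS.v4 ht ha t1 a1 ta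
  obtain ⟨b, hb, b1, h1⟩ := key ho hn ht ha v h
  have bS := P5.V4.le_iff.2 ⟨ht, ha⟩ hb
  obtain ⟨d, hd, d1⟩ := hS.exists_not_mem_V2 v
  have v' := hS.v4 ht hd t1 (fun k => d1 (k ▸ one_mem _)) fun k => d1 (k ▸ P5.V4.t_mem)
  have n1 := H1.le_normalizer_inf hn (n b bS)
  obtain ⟨c, hc, c1, h2⟩ := key (P6.odd_of_le inf_le_left ho) n1 ht hd v' h1
  have cS := P5.V4.le_iff.2 ⟨ht, hd⟩ hc
  obtain ⟨e, he, e1, hi⟩ := P6.exists_inverted (hS.sq t ht) (H1.le_normalizer_inf n1 (n c cS) ht)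
    fun k => h2 (P5.Mx.zpowers_le_cent_iff.1 (zpowers_le.2 k))
  refine ⟨e, he.1.1, b, c, hS, e1, P6.odd_orderOf_of_mem ho he.1.1, bS, cS, ht,
    hS.v4 bS cS b1 c1 fun k => ?_, he.1.2, he.2, hi⟩
  rcases v'.mem_iff.1 hc with l | l | l | l
  · exact c1 l
  · exact h2 (l ▸ inf_le_right)
  · exact d1 (l ▸ k ▸ hb)
  · exact d1 ((mul_mem_cancel_left P5.V4.t_mem).1 (l ▸ k ▸ hb))

namespace OH

variable [IsSimpleGroup G] (h : OH S)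
include h

theorem lt {H : Subgroup G} (hH : H ≠ ⊤) : 𝐨(H) < Nat.card G :=
  (H1.card_lt_of_lt hH.lt_top).trans_eq card_top

theorem zs {a : G} (ha : a ∈ S) (a1 : a ≠ 1) {H : Subgroup G} (hH : H ≠ ⊤) (hC : 𝐂[a] ≤ H) :
    Zs H a := h.noT a H (h.s8.sq a ha) (h.ns a ha a1) hH hC

theorem norm_le {a : G} (ha : a ∈ S) (a1 : a ≠ 1) {H : Subgroup G} (hH : H ≠ ⊤) (hC : 𝐂[a] ≤ H) :
    H ⊓ 𝐍(S) ≤ 𝐂[a] := h.s8.norm_le_of_zs ha (h.zs ha a1 hH hC)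

theorem inf_le {a c : G} (ha : a ∈ S) (hc : c ∈ S) (v : V4 a c) {H K : Subgroup G} (hH : H ≠ ⊤)
    (hK : K ≠ ⊤) (h1 : 𝐂[a] ≤ H) (h2 : 𝐂[c] ≤ K) : H ⊓ K ⊓ 𝐍(S) ≤ 𝐂(S) := fun _ hg =>
  h.s8.cent_of_line v ha hc hg.2 (h.norm_le ha v.t1 hH h1 ⟨hg.1.1, hg.2⟩)
    (h.norm_le hc v.s1 hK h2 ⟨hg.1.2, hg.2⟩)

theorem solv_inf {a c : G} (ha : a ∈ S) (hc : c ∈ S) (v : V4 a c) {H K : Subgroup G} (hH : H ≠ ⊤)
    (hK : K ≠ ⊤) (h1 : 𝐂[a] ≤ H) (h2 : 𝐂[c] ≤ K) : Group.IsSolvable (H ⊓ K : Subgroup G) :=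
  h.s8.solv_of_nc (le_inf ((h.s8.le_cent1 ha).trans h1) ((h.s8.le_cent1 hc).trans h2))
    (h.inf_le ha hc v hH hK h1 h2)

theorem not_le {a c : G} (ha : a ∈ S) (hc : c ∈ S) (v : V4 a c) {H : Subgroup G} (hH : H ≠ ⊤)
    (h1 : 𝐂[a] ≤ H) : ¬ 𝐂[c] ≤ H := fun h2 =>
  h.ns a ha v.t1 (H1.isSolvable_of_le (le_inf h1 h1) (h.solv_inf ha hc v hH hH h1 h2))

theorem not_norm_le {a : G} (ha : a ∈ S) (a1 : a ≠ 1) {H : Subgroup G} (hH : H ≠ ⊤)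
    (hC : 𝐂[a] ≤ H) : ¬ 𝐍(S) ≤ H := fun k => by
  obtain ⟨b, hb, b1, ab⟩ := h.s8.exists_ne ha
  obtain ⟨g, hg, e⟩ := h.trans a ha b hb a1 b1
  exact ab ((mem_cent1_iff_conj.1 (h.norm_le ha a1 hH hC ⟨k hg, hg⟩)).symm.trans e)

theorem ne_top_of_solv {X : Subgroup G} (hX : Group.IsSolvable X) : X ≠ ⊤ := fun k => by
  obtain ⟨a, ha, a1, -⟩ := h.s8.exists_ne (one_mem S)
  exact h.ns a ha a1 (H1.isSolvable_of_le (k ▸ le_top) hX)

theorem norm_ne_top {X : Subgroup G} (h1 : X ≠ ⊥) (hX : Group.IsSolvable X) : 𝐍(X) ≠ ⊤ :=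
  P5.Mx.norm_ne_top h1 (h.ne_top_of_solv hX)

theorem cent_ne_top {a : G} (a1 : a ≠ 1) : 𝐂[a] ≠ ⊤ := fun k =>
  h.norm_ne_top (zpowers_ne_bot.2 a1) (P6.Inv.solv a)
    (eq_top_iff.2 (k.ge.trans (P5.Mx.cent1_le_norm_zpowers a)))

theorem tri_all {a c : G} (ha : a ∈ S) (hc : c ∈ S) (v : V4 a c) : ∃ y ∈ 𝐍(S), Tri y a c := by
  obtain ⟨x, h1, h2, h3⟩ := exists_x h.s8 ha (h.ns a ha v.t1)
  obtain ⟨b, hb, d, hd, w, tri⟩ : ∃ b ∈ S, ∃ d ∈ S, V4 b d ∧ Tri x b d := by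
    have o := h.s8.orbit ha hc v h2 h1 h3
    have m := h.s8.conj_mem h2 hc
    rcases o.2 with k | k
    · exact ⟨_, hc, _, m, h.s8.v4 hc m v.s1 (fun l => o.1 (l ▸ one_mem _))
        fun l => o.1 (l ▸ P5.V4.s_mem), k⟩
    · refine ⟨_, mul_mem ha hc, _, mul_mem ha m, h.s8.v4 (mul_mem ha hc) (mul_mem ha m) v.ts1
        (fun l => o.1 ?_) fun l => o.1 (mul_left_cancel l ▸ P5.V4.s_mem), k⟩
      exact (mul_mem_cancel_left P5.V4.t_mem).1 (l ▸ one_mem _)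
  obtain ⟨g, hg, e⟩ := h.trans b hb a ha w.t1 v.t1
  have w' := V4.cj w g
  have t' := Tri.cj tri g
  rw [e] at w' t'
  obtain ⟨y, hy, k⟩ := h.s8.exists_line ha (h.s8.conj_mem hg hd) hc w' v h2 h1 h3
  have yN := zpowers_le.2 h2 hy
  have t'' := Tri.cj t' y
  have n := mul_mem (mul_mem yN (mul_mem (mul_mem hg h2) (inv_mem hg))) (inv_mem yN)
  rw [mem_cent1_iff_conj.1 (zpowers_le.2 h1 hy)] at t''
  rcases k with k | k <;> rw [k] at t''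
  · exact ⟨_, n, t''⟩
  · have := Tri.sq t'' (v4_mul v)
    rw [← mul_assoc a a, v.tt, one_mul] at this
    exact ⟨_, mul_mem n n, this⟩

theorem isConj {t : G} (ht : t ∈ S) (t1 : t ≠ 1) {a : G} (ha : Inv a) : IsConj t a := by
  obtain ⟨g, -, hg⟩ := (h.s8.isSyl le_top).exists_conj_le Nat.prime_two ha.isPGroup le_top
  obtain ⟨k, -, e⟩ := h.trans t ht _ (hg (conj_mem_conj (mem_zpowers a) g)) t1 (ha.conj g).ne
  exact (isConj_iff.2 ⟨k, e⟩).trans (isConj_iff.2 ⟨g, rfl⟩).symm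

theorem jrf {t : G} (ht : t ∈ S) (t1 : t ≠ 1) (hE : layerOf 𝐂[t] ≠ ⊥) : ∃ L q, JRF t L q := by
  have e := h.s8.e8
  have it : Inv t := ⟨t1, h.s8.sq t ht⟩
  have qs := qs_layer e hE
  have hz := H2.layerOf_le 𝐂[t]
  have hn := H2.le_normalizer_layerOf 𝐂[t]
  generalize layerOf 𝐂[t] = K at qs hz hn
  have tK := not_mem_of_perfect e it (H2.QS.commutator_eq qs) hz
  obtain ⟨a, ha, b, hb, v⟩ := exists_v4_inf h.s8 ((h.s8.le_cent1 ht).trans hn)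
    (H2.QS.not_isSolvable qs)
  obtain ⟨A, hA⟩ := exists_LT qs (not_eight e it hz tK) v ha.2 hb.2
  obtain ⟨q, hq⟩ := isL2_of hA.isL2
  have tV : t ∉ V2 a b := fun k => tK (P5.V4.le_iff.2 ⟨ha.2, hb.2⟩ k)
  have tC : zpowers t ≤ 𝐂[t] ⊓ 𝐂(K) :=
    le_inf (zpowers_le.2 (self_mem_cent1 t)) (P5.Mx.zpowers_le_cent_iff.2 hz)
  refine ⟨K, q, e, it.orderOf_eq, fun a ha => h.isConj ht t1 (P6.inv_of_orderOf ha), hq,
    ⟨hz, hn⟩, le_antisymm ?_ tC⟩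
  have h0 : Od (𝐂[t] ⊓ 𝐂(K)) = ⊥ := by
    by_contra h0
    obtain ⟨x, hx, tri⟩ := hA.tri
    have xN := norm_of_tri h.s8 v ha.1 hb.1 ht tV tri (hz hx)
    have h1 : Od 𝐂(S) ≤ 𝐂[x] := fun f hf => by
      have := (P6.Od_normal _).1 hf
      exact cent_of_tri hA hx tri (hn (h.s8.cent_le ht this))
        (P6.odd_orderOf_of_mem (P6.odd_Od _) hf) (h.s8.cent_le ha.1 this) (h.s8.cent_le hb.1 this)
    have h2 : Od (𝐂[t] ⊓ 𝐂(K)) ≤ Od 𝐂(S) := h.s8.le_Od h.s8.le_cent inf_le_left (fun f hf => by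
      have := (P6.Od_normal _).1 hf
      exact h.s8.mem_cent v ha.1 hb.1 ht tV (mc.2 (this.2 a ha.2).symm)
        (mc.2 (this.2 b hb.2).symm) this.1) (P6.odd_Od _)
    obtain ⟨g, hg, k⟩ := h.trans t ht a ha.1 t1 v.t1
    have h3 : Od 𝐂(S) ≤ 𝐂[g * x * g⁻¹] := by
      rw [cent1_conj, ← conj_eq_of_mem_norm (P6.norm_le_norm_Od _
        (H1.normalizer_le_normalizer_centralizer S hg))]
      exact conj_mono h1 g
    have n := mul_mem (mul_mem hg xN) (inv_mem hg)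
    have h4 := h.s8.cent_of_line (h.s8.v4 ht ha.1 t1 v.t1 fun l => tK (l ▸ ha.2)) ht ha.1 n
      (h.norm_le ht t1 (h.norm_ne_top h0 (P5.Mx.isSolvable_of_odd (P6.odd_Od _)))
        ((H1.le_normalizer_inf le_normalizer (H1.le_normalizer_centralizer hn)).trans
          (P6.norm_le_norm_Od _)) ⟨centralizer_le_normalizer _ (zpowers_le.1
            (P5.Mx.zpowers_le_cent_iff.2 (h2.trans h3))), n⟩)
      (by rw [← k, cent1_conj]; exact conj_mem_conj (hz hx) g)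
    have h5 := H1.conj_mem_of_le_normalizer' (H1.normalizer_le_normalizer_centralizer S) hg h4
    exact tri.not_commute v (mc.1 (h.s8.cent_le ha.1 (by simpa [mul_assoc] using h5)))
  have := P5.Mx.le_sup_of_burnside tC it.isPGroup (fun k => dvd_of_cent e
    (inf_le_right : 𝐂[t] ⊓ 𝐂(K) ≤ _) (P6.odd_of_le (le_inf inf_le_right (inf_le_left.trans inf_le_right))
      (odd_center e (H2.QS.commutator_eq qs))) (Nat.mul_dvd_mul (show 4 ∣ _ by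
        rw [← H1.card_mul_relIndex tC, it.card_zpowers]; exact Nat.mul_dvd_mul_left 2 k)
        (four_dvd (H2.QS.not_isSolvable qs))))
    (inf_le_left.trans (inf_le_left.trans (P5.Mx.cent_zpowers t).ge))
  rwa [show pPrimeCoreOf 2 _ = ⊥ from h0, bot_sup_eq] at this

theorem layer_eq_bot {a : G} (ha : a ∈ S) (a1 : a ≠ 1) (hE : layerOf 𝐂[a] = ⊥) {M : Subgroup G}
    (hM : M ≠ ⊤) (hC : 𝐂[a] ≤ M) : layerOf M = ⊥ := by
  by_contra h0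
  obtain ⟨K, hK⟩ := H2.exists_compIn_of_layerOf_ne_bot h0
  exact H2.QS.ne_bot hK.2 (eq_bot_iff.2 (hE ▸ (hK.mono (hK.le_layerOf.trans
    (zs_layer (h.zs ha a1 hM hC) (hC (self_mem_cent1 a)))) hC).le_layerOf))

end OH

theorem exists_OH [IsSimpleGroup G] (e : E8 G) (hI : Ind3.{u} (Nat.card G)) (hN : NoT G) {t : G}
    (it : Inv t) (ns : ¬ Group.IsSolvable 𝐂[t]) : ∃ S : Subgroup G, OH S ∧ t ∈ S := by
  obtain ⟨S, hS, h1⟩ := e.exists_s8 (eight_dvd e it ns) it.isPGroup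
  have tS := h1 (mem_zpowers t)
  have nt : ∀ X : Subgroup G, X ≠ ⊥ → Group.IsSolvable X → 𝐍(X) ≠ ⊤ := fun X h1 h2 =>
    P5.Mx.norm_ne_top h1 fun k => ns (H1.isSolvable_of_le (k ▸ le_top) h2)
  have tr := fun a ha b hb => trans_of_not_le hS tS it.ne ns le_top (a := a) (b := b) (fun k => by
    have h0 : Od (⊤ : Subgroup G) = ⊥ := by
      by_contra h0
      exact nt _ h0 (P5.Mx.isSolvable_of_odd (P6.odd_Od _)) (eq_top_iff.2 (P6.Od_normal ⊤).2)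
    exact nt _ (zpowers_ne_bot.2 it.ne) (P6.Inv.solv t) (eq_top_iff.2 fun g _ =>
      P5.Mx.cent1_le_norm_zpowers t (mc.2 (commutatorElement_eq_one_iff_commute.1
        (mem_bot.1 (h0.le (hS.zs le_top tS k g (mem_top g))))).symm))) ha hb
  refine ⟨S, ⟨hS, hI, hN, fun a ha a1 => ?_, fun a ha b hb a1 b1 =>
    (tr a ha b hb a1 b1).imp fun g hg => ⟨hg.1.2, hg.2⟩⟩, tS⟩
  obtain ⟨g, -, rfl⟩ := tr t tS a ha it.ne a1
  rwa [cent1_conj, isSolvable_map_iff (conj_injective g)]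

end Cfsg.Agent.P7
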