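/-
Section O: the centralizer of an involution is not a maximal subgroup.
-/
import Cfsg.Agent.P7.O0

set_option autoImplicit false
set_option linter.unusedSectionVars false

namespace Cfsg.Agent.P7

open Subgroup Cfsg Cfsg.Agent Cfsg.Agent.FT
open Cfsg.Agent.H2 (pPrimeCoreOf layerOf)
open Cfsg.Agent.P5 (V4 Tri LT)
open Cfsg.Agent.P6 (Inv Od Qt pr)
open scoped commutatorElement

universe u

variable {G : Type u} [Group G] [Finite G] {S : Subgroup G}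

/-- The setting of section O when the centralizers of involutions have trivial layer. -/
structure OL (S : Subgroup G) : Prop extends OH S where
  lay : ∀ a ∈ S, a ≠ 1 → layerOf 𝐂[a] = ⊥

namespace KO

theorem solv_of_le_norm (hS : S8 S) {X : Subgroup G} (h1 : S ≤ X) (h2 : X ≤ 𝐍(S)) :
    Group.IsSolvable X := by
  haveI := H1.normal_subgroupOf_of_le h2
  refine H8.isSolvable_of_bar' le_rfl hS.solv (P5.Mx.isSolvable_of_odd ?_)
  rw [H1.card_bar le_rfl]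
  exact Nat.not_even_iff_odd.1 fun k => (hS.isSyl h1).ndvd (even_iff_two_dvd.1 k)

theorem inv_of_cent {W : Subgroup G} {t : G} (ho : Odd 𝐨(W)) (tt : t * t = 1) (hn : t ∈ 𝐍(W))
    (h : W ⊓ 𝐂[t] = ⊥) : ∀ a ∈ W, t * a * t = a⁻¹ := fun a ha => by
  obtain ⟨b, hb, c, -, h1, h2, rfl⟩ := P5.Mx.exists_cent_mul_inv ho tt hn ha
  rwa [mem_bot.1 (h.le ⟨hb, mc.2 h1⟩), one_mul]

theorem comm_le_of_mem {U N : Subgroup G} {t : G} (hn : U ≤ 𝐍(N)) (ht : t ∈ N) :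
    ⁅U, zpowers t⁆ ≤ N := (commutator_mono le_rfl (zpowers_le.2 ht)).trans
  ((commutator_comm U N).trans_le (H1.commutator_le_of_le_normalizer hn))

theorem core_two_le (hS : S8 S) {X : Subgroup G} (h : S ≤ X) : pCoreOf 2 X ≤ S :=
  hS.le_of_two (H2.isPGroup_pCoreOf 2 X) (h.trans (pCoreOf_normal 2 X).2)

theorem tri_false (hS : S8 S) {t s c x y : G} (v : V4 t s) (ht : t ∈ S) (hs : s ∈ S) (hc : c ∈ S)
    (c1 : c ∉ V2 t s) (hx : x ∈ 𝐍(S)) (xc : x ∈ 𝐂[c]) (t1 : Tri x t s) (hy : y ∈ 𝐍(S))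
    (ys : y ∈ 𝐂[s]) (t2 : Tri y t c) : False := by
  have inv : ∀ {a b : G}, x * a * x⁻¹ = b → x⁻¹ * b * x = a := fun h => by rw [← h]; group
  obtain ⟨φ, hφ⟩ : ∃ φ : G →* G, ∀ v, φ v = x⁻¹ * (y * v * y⁻¹) * x :=
    ⟨(MulAut.conj (x⁻¹ * y)).toMonoidHom, fun v => by simp [mul_assoc]⟩
  have e1 : φ t = c := by rw [hφ, t2.1, inv (mem_cent1_iff_conj.1 xc)]
  have e2 : φ s = t := by rw [hφ, mem_cent1_iff_conj.1 ys, inv t1.1]
  have e3 : φ c = t * s * c := by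
    rw [hφ, t2.2]
    calc _ = x⁻¹ * t * x * (x⁻¹ * c * x) := by group
      _ = _ := by rw [inv (t1.third v), inv (mem_cent1_iff_conj.1 xc)]
  have n := mul_mem (inv_mem hx) hy
  have key : ∀ v, φ (φ v) = v → x⁻¹ * y * (x⁻¹ * y) ∈ 𝐂[v] := fun v h =>
    mem_cent1_iff_conj.2 (Eq.trans (by rw [hφ, hφ]; group) h)
  have h1 := hS.mem_cent_of_sq n (hS.cent_of_line (hS.v4 (mul_mem ht hs) (mul_mem hs hc) v.ts1
    (fun k => c1 (by rw [eq_inv_of_mul_eq_one_right k]; exact inv_mem P5.V4.s_mem))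
    fun k => c1 ((mul_mem_cancel_left P5.V4.s_mem).1 (k ▸ mul_mem P5.V4.t_mem P5.V4.s_mem)))
    (mul_mem ht hs) (mul_mem hs hc) (mul_mem n n) (key _ (by
      rw [map_mul, e1, e2, map_mul, e1, e3, mul_assoc, hS.sq c hc, mul_one])) (key _ (by
      rw [map_mul, e2, e3, ← mul_assoc, ← mul_assoc, v.tt, one_mul, map_mul, e2, e3, ← mul_assoc,
        ← mul_assoc, v.tt, one_mul])))
  have h2 := mem_cent1_iff_conj.1 (hS.cent_le ht h1)
  have h3 : c = t := by rw [← e1, hφ]; exact Eq.trans (by group) h2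
  exact c1 (h3 ▸ P5.V4.t_mem)

end KO

open KO

namespace OL

variable [IsSimpleGroup G] (h : OL S)
include h

theorem exists_prime {t : G} (ht : t ∈ S) (t1 : t ≠ 1) :
    ∃ p : ℕ, p.Prime ∧ p ≠ 2 ∧ ¬ pCoreOf p 𝐂[t] ≤ 𝐂(S) := by
  by_contra hcon
  push Not at hcon
  have h1 := h.s8.le_cent1 ht
  have h2 := H2.le_pCoreOf_of_le_fittingOf h.s8.isPGroup ((le_inf h1
    (P5.Mx.le_cent_fittingOf fun r hr => le_centralizer_iff.1 (by
      rcases eq_or_ne r 2 with rfl | r2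
      exacts [(core_two_le h.s8 h1).trans h.s8.le_cent, hcon r hr r2]))).trans
    (H2.inf_centralizer_fittingOf_le_of_layerOf_eq_bot (h.lay t ht t1)))
  exact h.ns t ht t1 (solv_of_le_norm h.s8 h1
    (le_antisymm (core_two_le h.s8 h1) h2 ▸ (pCoreOf_normal 2 _).2))

theorem not_cent {t : G} (ht : t ∈ S) (t1 : t ≠ 1) {p : ℕ} (hp : p.Prime)
    (h0 : ¬ pCoreOf p 𝐂[t] ≤ 𝐂(S)) {a b : G} (ha : a ∈ S) (hb : b ∈ S) (v : V4 a b) :
    ¬ pCoreOf p 𝐂[a] ≤ 𝐂[b] := fun k => h0 <| by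
  obtain ⟨x, h1, h2, h3⟩ := exists_x h.s8 ha (h.ns a ha v.t1)
  have h4 : pCoreOf p 𝐂[a] ≤ 𝐂(S) := fun f hf => h.s8.mem_cent v ha hb (h.s8.conj_mem h2 hb)
    (h.s8.orbit ha hb v h2 h1 h3).1 (H2.pCoreOf_le p _ hf) (k hf) (by
      rw [cent1_conj]
      exact conj_mono k x ((conj_eq_of_mem_norm ((pCoreOf_normal p _).2 h1)).ge hf))
  obtain ⟨g, hg, rfl⟩ := h.trans a ha t ht v.t1 t1
  rw [cent1_conj, pCoreOf_conj _ _ hp]
  exact conj_le_of_mem_norm h4 (H1.normalizer_le_normalizer_centralizer S hg)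

theorem step {p : ℕ} (hp : p.Prime) (p2 : p ≠ 2) {e t s s0 : G} (w : WtO S e t s s0)
    (hM : IsCoatom 𝐂[t]) (he : e ∈ pCoreOf p 𝐂[t])
    (nc : ∀ {a b : G}, a ∈ S → b ∈ S → V4 a b → ¬ pCoreOf p 𝐂[a] ≤ 𝐂[b]) :
    ∃ c ∈ S, c ∉ V2 t s ∧ (∃ x ∈ 𝐍(S), x ∈ 𝐂[c] ∧ Tri x t s) ∧
      ∀ f ∈ 𝐂[e], Odd (orderOf f) → s * f * s = f⁻¹ → f ∈ 𝐂[c] := by
  have v := w.v
  have it : Inv t := ⟨v.t1, v.tt⟩
  have eP := (H2.isPGroup_pCoreOf p _).to_le (zpowers_le.2 he)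
  obtain ⟨M, cM, hN⟩ := exists_coatom (h.norm_ne_top (zpowers_ne_bot.2 w.ne) (P6.Inv.solv e))
  have SM := w.norm.trans hN
  have CM := (P5.Mx.cent1_le_norm_zpowers e).trans hN
  have eF := zpowers_le.2 (H2.pCoreOf_le_fittingOf hp _ he)
  have c2 : pCoreOf 2 𝐂[t] ≠ ⊥ := fun k => v.t1 (mem_bot.1 (k.le (le_pCoreOf
    ⟨zpowers_le.2 (self_mem_cent1 t), P5.Mx.cent1_le_norm_zpowers t⟩ it.isPGroup (mem_zpowers t))))
  have a1 : ∀ r : ℕ, r.Prime → pCoreOf r 𝐂[t] ≠ ⊥ → pCoreOf r M ≤ 𝐂[t] := fun r hr =>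
    P5.Mx.Two.pCoreOf_le (fun r _ => by
      rcases eq_or_ne r 2 with rfl | r2
      exacts [⟨p, hp, p2, fun k => w.ne (mem_bot.1 (k.le he))⟩, ⟨2, Nat.prime_two, r2.symm, c2⟩])
      hM ((P5.Mx.ZF_le_cent eF).trans ((P5.Mx.cent_zpowers e).le.trans CM)) hr
  have a2 : ∀ U ≤ M, ⁅U, zpowers t⁆ ≤ 𝐂(fittingOf M) := fun U hU =>
    P5.Mx.le_cent_fittingOf fun r hr => by
      have n := (pCoreOf_normal r M).2
      by_cases h0 : pCoreOf r 𝐂[t] = ⊥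
      · exact P5.Mx.comm_le_cent_of_inverts v.tt (n (SM w.hb)) (inv_of_cent
          (P6.odd_of_isPGroup hr (fun k => c2 (k ▸ h0)) (H2.isPGroup_pCoreOf r M)) v.tt
          (n (SM w.hb)) (P5.bender_i (H2.inf_centralizer_fittingOf_le_of_layerOf_eq_bot
            (h.lay t w.hb v.t1)) eF (sup_le (le_normalizer.trans hN) (inf_le_right.trans
              ((P5.Mx.cent_zpowers e).le.trans CM))) hr h0)) (hU.trans n)
      · exact comm_le_of_mem (H1.le_normalizer_centralizer (hU.trans n))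
          (zpowers_le.1 (P5.Mx.zpowers_le_cent_iff.2 (a1 r hr h0)))
  have nD : ∀ a, M ⊓ 𝐂[a] ≤ 𝐍(pCoreOf p 𝐂[a] ⊓ M) := fun a => H1.le_normalizer_inf
    (inf_le_right.trans (pCoreOf_normal p _).2) (inf_le_left.trans le_normalizer)
  have pD : ∀ a, IsPGroup p (pCoreOf p 𝐂[a] ⊓ M : Subgroup G) := fun a =>
    (H2.isPGroup_pCoreOf p _).to_le inf_le_left
  have oD := fun a => P6.odd_of_isPGroup hp p2 (pD a)
  have a3 : ∀ a ∈ S, V4 a t → e ∈ 𝐂[a] → ¬ ⁅pCoreOf p 𝐂[a] ⊓ M, zpowers t⁆ ≤ fittingOf M :=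
    fun a ha va ea k => by
      have tN := nD a ⟨SM w.hb, h.s8.le_cent1 ha w.hb⟩
      exact nc ha w.hb va (pxq hp p2 eP (H2.isPGroup_pCoreOf p _)
        (zpowers_le.2 ((pCoreOf_normal p _).2 ea)) ((pCoreOf_normal p _).2 (h.s8.le_cent1 ha w.hb))
        v.tt (zpowers_le.2 w.cb) ((inf_le_inf_left _ ((P5.Mx.cent_zpowers e).le.trans CM)).trans
          (le_cent1_of_comm v.tt (oD a) tN ((H2.le_pCoreOf_of_le_fittingOf ((pD a).to_le
            (H1.commutator_le_of_le_normalizer (zpowers_le.2 tN))) k).trans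
            (a1 p hp fun k => w.ne (mem_bot.1 (k.le he)))))))
  have a4 : ∀ a ∈ S, V4 a t → e ∈ 𝐂[a] → ¬ ⁅pCoreOf p 𝐂[a] ⊓ M, zpowers t⁆ ≤ Od M :=
    fun a ha va ea k => a3 a ha va ea (((le_inf k ((a2 _ inf_le_right).trans (centralizer_le
      (fittingOf_le_of_normal (P6.Od_normal M))))).trans
      (cent_fittingOf_le (P5.Mx.isSolvable_of_odd (P6.odd_Od M)))).trans
      (fittingOf_le_of_normal (P6.Od_normal M)))
  have hE : layerOf M ≠ ⊥ := fun k => a3 s w.hc v.swap w.cc ((le_inf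
    ((comm_le_of_mem (inf_le_right.trans le_normalizer) (SM w.hb))) (a2 _ inf_le_right)).trans
    (H2.inf_centralizer_fittingOf_le_of_layerOf_eq_bot k))
  obtain ⟨-, c, hc, c1, z⟩ := k3 h.ind h.s8 SM (h.lt cM.1) w.hc v.s1 w.hb inf_le_right (oD s)
    (nD s) (a4 s w.hc v.swap w.cc)
  have cV : c ∉ V2 t s := fun k => by
    have key : ∀ a ∈ S, V4 a t → e ∈ 𝐂[a] → ¬ Zs M a := fun a ha va ea z => a4 a ha va ea
      ((H1.commutator_le_of_le_normalizer (zpowers_le.2 (nD a ⟨SM w.hb, h.s8.le_cent1 ha w.hb⟩))).trans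
        (z.le_Od va.tt inf_le_right (oD a) (nD a)))
    rcases v.mem_iff.1 k with rfl | rfl | rfl | rfl
    · exact c1 rfl
    · exact a4 s w.hc v.swap w.cc (z.comm_le (SM hc) inf_le_right)
    · exact key c hc v.swap w.cc z
    · exact key _ hc (v4_mul v).swap (cent_symm (w.le k)) z
  have qs := qs_layer h.s8.e8 hE
  have hL := zs_layer z (SM hc)
  have nL := H2.le_normalizer_layerOf M
  have ic : Inv c := ⟨c1, h.s8.sq c hc⟩
  have eL : layerOf M ≤ 𝐂[e] := P5.Mx.zpowers_le_cent_iff.1 (zpowers_le.2 (mem_of_inv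
    (H1.le_normalizer_centralizer nL (CM (self_mem_cent1 e)))
    (zpowers_le.1 (P5.Mx.zpowers_le_cent_iff.2 hL)) w.odd ic.sq ((w.cases hc).resolve_left cV)))
  obtain ⟨a, ha, b, hb, v'⟩ := exists_v4_inf h.s8 (SM.trans nL) (H2.QS.not_isSolvable qs)
  have hV := P5.V4.le_iff.1 ((V2_le_of_mem v v' (w.mem ha.1 (cent_symm (eL ha.2)))
    (w.mem hb.1 (cent_symm (eL hb.2)))).trans (P5.V4.le_iff.2 ⟨ha.2, hb.2⟩))
  obtain ⟨A, hA⟩ := exists_LT qs (not_eight h.s8.e8 ic hL (not_mem_of_perfect h.s8.e8 ic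
    (H2.QS.commutator_eq qs) hL)) v hV.1 hV.2
  obtain ⟨x, hx, tri⟩ := hA.tri
  exact ⟨c, hc, cV, ⟨x, norm_of_tri h.s8 v w.hb w.hc hc cV tri (hL hx), hL hx, tri⟩,
    fun f hf ho hi => hL (mem_of_inv (nL (CM hf)) hV.2 ho v.ss hi)⟩

theorem not_coatom {t : G} (ht : t ∈ S) (t1 : t ≠ 1) : ¬ IsCoatom 𝐂[t] := fun hM => by
  obtain ⟨p, hp, p2, h0⟩ := h.exists_prime ht t1
  have nc := fun {a b} => h.not_cent ht t1 hp h0 (a := a) (b := b)
  have hQ := H2.isPGroup_pCoreOf p 𝐂[t]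
  have oQ := P6.odd_of_isPGroup hp p2 hQ
  have nQ := (pCoreOf_normal p 𝐂[t])
  have SQ := (h.s8.le_cent1 ht).trans nQ.2
  obtain ⟨s0, hs0, s1, ts⟩ := h.s8.exists_ne ht
  obtain ⟨e, he, b, d, w0⟩ := h.s8.exists_wt oQ SQ hs0 (nc ht hs0 (h.s8.v4 ht hs0 t1 s1 ts))
  obtain ⟨s, w⟩ : ∃ s, WtO S e t s s0 := by
    rcases exists_v4_with h.s8 ht t1 w0.hb w0.hc w0.v with v | v
    · exact ⟨b, { w0 with hb := ht, hc := w0.hb, v := v, cb := nQ.1 he, cc := w0.cb }⟩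
    · exact ⟨d, { w0 with hb := ht, v := v, cb := nQ.1 he }⟩
  have v := w.v
  obtain ⟨c, hc, cV, ⟨x, hx, xc, t1⟩, h1⟩ := h.step hp p2 w hM he nc
  obtain ⟨f, hf, f1, hi⟩ := P6.exists_inverted v.ss (X := pCoreOf p 𝐂[t] ⊓ 𝐂(zpowers e))
    (H1.le_normalizer_inf SQ (H1.le_normalizer_centralizer w.norm) w.hc) fun k =>
      nc ht w.hc v (pxq hp p2 (hQ.to_le (zpowers_le.2 he)) hQ
        (zpowers_le.2 (le_normalizer he)) (SQ w.hc) v.ss (zpowers_le.2 w.cc)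
        (P5.Mx.zpowers_le_cent_iff.1 (zpowers_le.2 k)))
  have fe := (P5.Mx.cent_zpowers e).le hf.2
  have fo := P6.odd_orderOf_of_mem oQ hf.1
  have v' := h.s8.v4 ht hc v.t1 (fun k => cV (k ▸ one_mem _)) fun k => cV (k ▸ P5.V4.t_mem)
  obtain ⟨c', hc', cV', ⟨y, hy, yc, t2⟩, h2⟩ := h.step hp p2
    ⟨h.s8, f1, fo, ht, hc, w.hc, v', nQ.1 hf.1, h1 f fe fo hi, hi⟩ hM hf.1 nc
  rcases v.mem_iff.1 (w.mem hc' (h2 e (cent_symm fe) w.odd ((w.cases hc).resolve_left cV))) with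
    rfl | rfl | rfl | rfl
  · exact cV' (one_mem _)
  · exact cV' P5.V4.t_mem
  · exact tri_false h.s8 v ht w.hc hc cV hx xc t1 hy yc t2
  · exact tri_false h.s8 (v4_mul v) ht hc' hc (fun k => cV (P5.V4.le_iff.2 ⟨P5.V4.t_mem,
      mul_mem P5.V4.t_mem P5.V4.s_mem⟩ k)) (mul_mem hx hx) (mul_mem xc xc) (Tri.sq t1 v) hy yc t2

end OL

end Cfsg.Agent.P7
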