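/-
Section O: the maximal subgroups containing the centralizer of an involution have characteristic `p`.
-/
import Cfsg.Agent.P7.O1

set_option autoImplicit false
set_option linter.unusedSectionVars false

namespace Cfsg.Agent.P7

open Subgroup Cfsg Cfsg.Agent Cfsg.Agent.FT
open Cfsg.Agent.H2 (pPrimeCoreOf layerOf)
open Cfsg.Agent.P5 (V4 Tri LT)
open Cfsg.Agent.P6 (Inv Od Qt pr)
open scoped commutatorElement
open KO

universe u

variable {G : Type u} [Group G] [Finite G] {S : Subgroup G}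

/-- An equivariant choice of maximal subgroups `M a` containing `C(a)`. -/
structure OM (S : Subgroup G) (p : ℕ) (M : G → Subgroup G) : Prop extends OL S where
  hp : p.Prime
  p2 : p ≠ 2
  co : ∀ a ∈ S, a ≠ 1 → IsCoatom (M a)
  le : ∀ a ∈ S, a ≠ 1 → 𝐂[a] ≤ M a
  cj : ∀ a ∈ S, a ≠ 1 → ∀ g, M (g * a * g⁻¹) = M a ^ᵍ g
  ne : ∀ a ∈ S, a ≠ 1 → ¬ pCoreOf p (M a) ≤ 𝐂[a]
  nq : ∀ a ∈ S, a ≠ 1 → 𝐍(⁅pCoreOf p (M a), zpowers a⁆) ≤ M a

variable [IsSimpleGroup G]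

theorem OL.exists_max (h : OL S) {t : G} (ht : t ∈ S) (t1 : t ≠ 1) : ∃ (p : ℕ) (M : Subgroup G),
    p.Prime ∧ p ≠ 2 ∧ IsCoatom M ∧ 𝐂[t] ≤ M ∧ ¬ pCoreOf p M ≤ 𝐂[t] ∧
      𝐍(⁅pCoreOf p M, zpowers t⁆) ≤ M := by
  have tt := h.s8.sq t ht
  obtain ⟨Q, ⟨p, M, hp, p2, cM, hC, h1, rfl⟩, hm⟩ := Set.exists_max_image {Q : Subgroup G |
      ∃ (p : ℕ) (M : Subgroup G), p.Prime ∧ p ≠ 2 ∧ IsCoatom M ∧ 𝐂[t] ≤ M ∧
        ¬ pCoreOf p M ≤ 𝐂[t] ∧ ⁅pCoreOf p M, zpowers t⁆ = Q} (fun Q => 𝐨(Q)) (Set.toFinite _) (by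
    obtain ⟨M, cM, hC⟩ := exists_coatom (h.cent_ne_top t1)
    by_contra hcon
    refine h.not_coatom ht t1 (le_antisymm hC (((h.zs ht t1 cM.1 hC).le_sup tt).trans
      (sup_le ?_ inf_le_right)) ▸ cM)
    have n := P6.Od_normal M
    refine P5.Mx.zpowers_le_cent_iff.1 (coprime_cent_fitting (zpowers_le.2 (n.2 (hC
      (self_mem_cent1 t)))) (P5.Mx.coprime_zpowers tt (P6.odd_Od M)) (P5.Mx.isSolvable_of_odd
      (P6.odd_Od M)) (P5.Mx.le_cent_fittingOf fun r hr => P5.Mx.zpowers_le_cent_iff.2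
        ((le_pCoreOf ⟨(H2.pCoreOf_le r _).trans n.1, n.2.trans
          (H2.normalizer_le_normalizer_pCoreOf r _)⟩ (H2.isPGroup_pCoreOf r _)).trans ?_)))
    rcases eq_or_ne r 2 with rfl | r2
    · exact (core_two_le h.s8 ((h.s8.le_cent1 ht).trans hC)).trans (h.s8.le_cent1 ht)
    · exact by_contra fun k => hcon ⟨_, r, M, hr, r2, cM, hC, k, rfl⟩)
  haveI := Fact.mk hp
  have hQ := H2.isPGroup_pCoreOf p M
  have tN := zpowers_le.2 ((pCoreOf_normal p M).2 (hC (self_mem_cent1 t)))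
  have pQ := hQ.to_le (H1.commutator_le_of_le_normalizer tN)
  have n := H1.le_normalizer_commutator (hC.trans (pCoreOf_normal p M).2)
    (P5.Mx.cent1_le_norm_zpowers t)
  have h0 : ⁅pCoreOf p M, zpowers t⁆ ≠ ⊥ := fun k => h1 (P5.Mx.comm_eq_bot_iff.1 k)
  obtain ⟨R, cR, hR⟩ := exists_coatom (h.norm_ne_top h0 (H1.isSolvable_of_isPGroup pQ))
  have e := H1.commutator_commutator_eq tN
    (P5.Mx.coprime_zpowers tt (P6.odd_of_isPGroup hp p2 hQ))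
  have h2 : ⁅pCoreOf p M, zpowers t⁆ ≤ ⁅pCoreOf p R, zpowers t⁆ := e.ge.trans (commutator_mono
    (e.ge.trans (k1p h.ind h.s8.e8 (h.lt cR.1) (hR (n (self_mem_cent1 t))) tt
      (le_normalizer.trans hR) hp p2 pQ (inf_le_right.trans n))) le_rfl)
  have h3 : ¬ pCoreOf p R ≤ 𝐂[t] := fun k =>
    h0 (eq_bot_iff.2 (h2.trans (P5.Mx.comm_eq_bot_iff.2 k).le))
  exact ⟨p, R, hp, p2, cR, n.trans hR, h3, H1.eq_of_le_of_card_le h2
    (hm _ ⟨p, R, hp, p2, cR, n.trans hR, h3, rfl⟩) ▸ hR⟩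

theorem OL.exists_OM (h : OL S) : ∃ p M, OM S p M := by
  classical
  obtain ⟨t, ht, t1, -⟩ := h.s8.exists_ne (one_mem S)
  obtain ⟨p, M, hp, p2, cM, hC, h1, h2⟩ := h.exists_max ht t1
  obtain ⟨F, hF⟩ : ∃ F : G → Subgroup G, ∀ g, F (g * t * g⁻¹) = M ^ᵍ g := by
    refine ⟨fun a => if k : ∃ g, g * t * g⁻¹ = a then M ^ᵍ k.choose else ⊤, fun g => ?_⟩
    have k : ∃ x, x * t * x⁻¹ = g * t * g⁻¹ := ⟨g, rfl⟩
    refine (dif_pos k).trans ?_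
    have hk := k.choose_spec
    generalize k.choose = x at hk
    rw [conj_eq_iff, conj_conj, eq_comm]
    refine conj_eq_of_mem (hC (mem_cent1_iff_conj.2 ?_))
    calc _ = x⁻¹ * (g * t * g⁻¹) * x := by group
      _ = t := by rw [← hk]; group
  have key : ∀ {P : G → Prop}, (∀ g, P (g * t * g⁻¹)) → ∀ a ∈ S, a ≠ 1 → P a :=
    fun hP a ha a1 => by
      obtain ⟨g, -, rfl⟩ := h.trans t ht a ha t1 a1
      exact hP g
  refine ⟨p, F, h, hp, p2, key fun g => ?_, key fun g => ?_, key fun g x => ?_, key fun g => ?_,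
    key fun g => ?_⟩
  · exact hF g ▸ isCoatom_conj cM g
  · rw [hF, cent1_conj]
    exact conj_mono hC g
  · rw [hF, conj_conj, ← hF]
    congr 1
    group
  · rwa [hF, cent1_conj, pCoreOf_conj _ _ hp, conj_le_conj_iff]
  · rwa [hF, pCoreOf_conj _ _ hp, zpowers_conj, ← conj_comm, norm_conj, conj_le_conj_iff]

namespace OM

variable {p : ℕ} {M : G → Subgroup G} (h : OM S p M)
include h

theorem sle {a : G} (ha : a ∈ S) (a1 : a ≠ 1) : S ≤ M a := (h.s8.le_cent1 ha).trans (h.le a ha a1)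

theorem lay' {a : G} (ha : a ∈ S) (a1 : a ≠ 1) : layerOf (M a) = ⊥ :=
  h.layer_eq_bot ha a1 (h.lay a ha a1) (h.co a ha a1).1 (h.le a ha a1)

theorem odd {X : Subgroup G} (hX : IsPGroup p X) : Odd 𝐨(X) := P6.odd_of_isPGroup h.hp h.p2 hX

theorem solv {X : Subgroup G} (hX : IsPGroup p X) : Group.IsSolvable X :=
  P5.Mx.isSolvable_of_odd (h.odd hX)

theorem core_ne {a : G} (ha : a ∈ S) (a1 : a ≠ 1) : pCoreOf p (M a) ≠ ⊥ :=
  fun k => h.ne a ha a1 (k ▸ bot_le)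

theorem nD {a : G} (X : Subgroup G) : M a ⊓ X ≤ 𝐍(pCoreOf p (M a) ⊓ X) := H1.le_normalizer_inf
  (inf_le_left.trans (pCoreOf_normal p _).2) (inf_le_right.trans le_normalizer)

theorem k2 {a : G} (ha : a ∈ S) (a1 : a ≠ 1) {X : Subgroup G} (hX : X ≠ ⊤) (aX : a ∈ X) :
    ⁅pCoreOf p (M a) ⊓ X, zpowers a⁆ ≤ pCoreOf p X :=
  k1p h.ind h.s8.e8 (h.lt hX) aX (h.s8.sq a ha) inf_le_right h.hp h.p2
    ((H2.isPGroup_pCoreOf p _).to_le inf_le_left)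
    ((le_inf (inf_le_right.trans (h.le a ha a1)) inf_le_left).trans (h.nD X))

theorem core_eq_bot {a c : G} (ha : a ∈ S) (a1 : a ≠ 1) (hc : c ∈ S) (c1 : c ≠ 1) {r : ℕ}
    (hr : r.Prime) : pCoreOf r (M c) = ⊥ ↔ pCoreOf r (M a) = ⊥ := by
  obtain ⟨g, -, rfl⟩ := h.trans a ha c hc a1 c1
  rw [h.cj a ha a1, pCoreOf_conj _ _ hr, conj_eq_bot_iff]

theorem mem_core {e b c t : G} (w : WtO S e b c t) (he : e ∈ pCoreOf p (M t)) {X : Subgroup G}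
    (hX : X ≠ ⊤) (tX : t ∈ X) (eX : e ∈ X) : e ∈ pCoreOf p X :=
  h.k2 w.ht (fun k => w.not_mem (k ▸ one_mem _)) hX tX
    (mem_comm_of_inv ⟨he, eX⟩ w.odd (h.s8.sq t w.ht) w.inv)

theorem exists_wt {t : G} (ht : t ∈ S) (t1 : t ≠ 1) : ∃ e ∈ pCoreOf p (M t), ∃ b c, WtO S e b c t ∧
    ∀ s ∈ V2 b c, s ≠ 1 → e ∈ pCoreOf p (M s) := by
  obtain ⟨e, he, b, c, w⟩ := h.s8.exists_wt (h.odd (H2.isPGroup_pCoreOf p _))
    ((h.sle ht t1).trans (pCoreOf_normal p _).2) ht (h.ne t ht t1)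
  refine ⟨e, he, b, c, w, fun s hs s1 => ?_⟩
  have sS := P5.V4.le_iff.2 ⟨w.hb, w.hc⟩ hs
  exact h.mem_core w he (h.co s sS s1).1 (h.sle sS s1 ht) (h.le s sS s1 (cent_symm (w.le hs)))

theorem not_two {t : G} (ht : t ∈ S) (t1 : t ≠ 1) : ¬ P5.Mx.Two (M t) := fun two => by
  obtain ⟨e, he, b, c, w, hw⟩ := h.exists_wt ht t1
  have v := w.v
  obtain ⟨R, cR, hN⟩ := exists_coatom (h.norm_ne_top (zpowers_ne_bot.2 w.ne) (P6.Inv.solv e))
  have SR := w.norm.trans hN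
  have CR := (P5.Mx.cent_zpowers e).le.trans ((P5.Mx.cent1_le_norm_zpowers e).trans hN)
  have eF := fun a (ha : e ∈ pCoreOf p (M a)) => zpowers_le.2 (H2.pCoreOf_le_fittingOf h.hp _ ha)
  have VS := P5.V4.le_iff.2 ⟨w.hb, w.hc⟩
  have hE : layerOf R = ⊥ := by
    by_contra hE
    have h1 := H2.layerOf_le_centralizer_fittingOf R |>.trans
      (centralizer_le (H2.pCoreOf_le_fittingOf h.hp R))
    have h2 : layerOf R ≤ 𝐂[e] := fun x hx => mc.2 (h1 hx e (h.mem_core w he cR.1 (SR ht)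
      (hN (le_normalizer (mem_zpowers e))))).symm
    obtain ⟨a, ha, d, hd, v'⟩ := exists_v4_inf h.s8 (SR.trans (H2.le_normalizer_layerOf R))
      (H2.QS.not_isSolvable (qs_layer h.s8.e8 hE))
    have bL := P5.V4.le_iff.2 ⟨ha.2, hd.2⟩ (V2_le_of_mem v v' (w.mem ha.1 (cent_symm (h2 ha.2)))
      (w.mem hd.1 (cent_symm (h2 hd.2))) P5.V4.t_mem)
    have eb := hw b P5.V4.t_mem v.t1
    have hQ := H2.isPGroup_pCoreOf p (M b)
    have bM := h.sle w.hb v.t1 w.hb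
    exact h.ne b w.hb v.t1 (pxq h.hp h.p2 (hQ.to_le (zpowers_le.2 eb)) hQ
      (zpowers_le.2 (le_normalizer eb)) ((pCoreOf_normal p _).2 bM) v.tt (zpowers_le.2 w.cb)
      ((inf_le_inf_left _ CR).trans (le_cent1_of_comm v.tt (h.odd (hQ.to_le inf_le_left))
        (h.nD R ⟨bM, SR w.hb⟩) ((h.k2 w.hb v.t1 cR.1 (SR w.hb)).trans
          (P5.Mx.zpowers_le_cent_iff.1 (zpowers_le.2 (h1 bL)))))))
  have key : ∀ a ∈ S, a ≠ 1 → e ∈ pCoreOf p (M a) → R = M a := fun a ha a1 ea => by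
    have two' : P5.Mx.Two (M a) := fun r hr => (two r hr).imp fun q hq =>
      ⟨hq.1, hq.2.1, fun k => hq.2.2 ((h.core_eq_bot ht t1 ha a1 hq.1).1 k)⟩
    have hZ := (P5.Mx.ZF_le_cent (eF a ea)).trans CR
    refine eq_of_two h.s8.e8 (h.co a ha a1) cR (h.lay' ha a1) hE two'
      (P5.Mx.fittingOf_le_of fun r hr => ?_) hZ
    by_cases h0 : pCoreOf r (M a) = ⊥
    swap
    · exact two'.pCoreOf_le (h.co a ha a1) hZ hr h0
    rcases eq_or_ne r 2 with rfl | r2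
    · exact (core_two_le h.s8 SR).trans (h.sle ha a1)
    have n := SR.trans (pCoreOf_normal r R).2
    have k : ∀ s ∈ V2 b c, s ≠ 1 → pCoreOf r R ⊓ 𝐂[s] ≤ M a := fun s hs s1 =>
      (inf_le_inf_left _ (h.le s (VS hs) s1)).trans ((P5.bender_i
        (H2.inf_centralizer_fittingOf_le_of_layerOf_eq_bot (h.lay' (VS hs) s1)) (eF s (hw s hs s1))
        (sup_le (le_normalizer.trans hN) (inf_le_right.trans CR)) hr
        ((h.core_eq_bot ha a1 (VS hs) s1 hr).2 h0)).le.trans bot_le)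
    exact V4.le_of_cent v (P6.odd_of_isPGroup hr r2 (H2.isPGroup_pCoreOf r R)) (n w.hb) (n w.hc)
      (k _ P5.V4.t_mem v.t1) (k _ P5.V4.s_mem v.s1)
      (k _ (mul_mem P5.V4.t_mem P5.V4.s_mem) v.ts1)
  exact h.not_le ht w.hb (h.s8.v4 ht w.hb t1 v.t1 fun k => w.not_mem (k ▸ P5.V4.t_mem)) cR.1
    (key t ht t1 he ▸ h.le t ht t1) (key b w.hb v.t1 (hw b P5.V4.t_mem v.t1) ▸ h.le b w.hb v.t1)

theorem fit {a : G} (ha : a ∈ S) (a1 : a ≠ 1) {r : ℕ} (hr : r.Prime) (rp : r ≠ p) :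
    pCoreOf r (M a) = ⊥ := by
  have := h.not_two ha a1
  simp only [P5.Mx.Two, not_forall, not_exists, not_and, not_not] at this
  obtain ⟨q, -, hq⟩ := this
  exact hq r hr fun k => h.core_ne ha a1 (hq p h.hp (k ▸ rp.symm))

end OM

end Cfsg.Agent.P7
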