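/-
Section O: uniqueness results for the maximal subgroups of characteristic `p`.
-/
import Cfsg.Agent.P7.O2
import Cfsg.Agent.H2.Puig

set_option autoImplicit false
set_option linter.unusedSectionVars false

namespace Cfsg.Agent.P7

open Subgroup Cfsg Cfsg.Agent Cfsg.Agent.FT
open Cfsg.Agent.H2 (pPrimeCoreOf layerOf zl)
open Cfsg.Agent.P5 (V4 Tri LT)
open Cfsg.Agent.P6 (Inv Od Qt pr)
open scoped commutatorElement

universe u

variable {G : Type u} [Group G] [Finite G] {S : Subgroup G} {p : ℕ}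

/-- The subgroup `X` has characteristic `p`. -/
def CpO (p : ℕ) (X : Subgroup G) : Prop := X ⊓ 𝐂(pCoreOf p X) ≤ pCoreOf p X

/-- `R` is a maximal `S`-invariant `p`-subgroup of `X`. -/
structure MxP (S : Subgroup G) (p : ℕ) (X R : Subgroup G) : Prop where
  le : R ≤ X
  pg : IsPGroup p R
  inv : S ≤ 𝐍(R)
  max : ∀ R', R ≤ R' → R' ≤ X → IsPGroup p R' → S ≤ 𝐍(R') → R' = R

namespace KO

theorem cp_of {X : Subgroup G} (hp : p.Prime) (hE : layerOf X = ⊥)
    (h : ∀ r : ℕ, r.Prime → r ≠ p → pCoreOf r X = ⊥) : CpO p X := by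
  have h1 : fittingOf X ≤ pCoreOf p X := P5.Mx.fittingOf_le_of fun r hr => by
    rcases eq_or_ne r p with rfl | k
    exacts [le_rfl, h r hr k ▸ bot_le]
  exact ((inf_le_inf_left X (centralizer_le h1)).trans
    (H2.inf_centralizer_fittingOf_le_of_layerOf_eq_bot hE)).trans h1

theorem cp_sub {X : Subgroup G} (h : CpO p X) : 𝐂(pCore p X) ≤ pCore p X := fun x hx =>
  (mem_map_iff_mem X.subtype_injective).1 (h ⟨x.2, mem_centralizer_iff.2 fun _ ⟨y, hy, e⟩ =>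
    e ▸ congrArg Subtype.val (hx y hy)⟩)

theorem zl_sub {X P : Subgroup G} (h : P ≤ X) : (zl (P.subgroupOf X)).map X.subtype = zl P := by
  rw [← H2.zl_map (H2.ker_inf_eq_bot_of_injective X.subtype_injective _),
    subgroupOf_map_subtype, inf_of_le_left h]

theorem zl_norm (e : E8 G) (hp : p.Prime) (p2 : p ≠ 2) {X P : Subgroup G} (h : CpO p X)
    (hP : IsSyl p P X) : X ≤ 𝐍(zl P) := by
  haveI := Fact.mk hp
  haveI : (zl (P.subgroupOf X)).Normal :=
    (H2.pStab_of_abelian_sylow_two p2 (e.sub X).comm_two).zl_normal (cp_sub h)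
      (hP.pgrp.comap_subtype (K := X)) hP.ndvd
  exact zl_sub hP.le ▸ H2.le_normalizer_map_subtype _

theorem zl_dich (e : E8 G) (hp : p.Prime) (p2 : p ≠ 2) {X P : Subgroup G} (h : CpO p X)
    (hP : IsPGroup p P) (hX : P ≤ X) (hQ : pCoreOf p X ≤ P) : ∃ C N : Subgroup G, C ⊲ X ∧
      C ≤ 𝐂(zl P) ∧ N ⊲ X ∧ H2.puig P ≤ N ∧ (Group.IsSolvable C → Group.IsSolvable N) := by
  haveI := Fact.mk hp
  have hst := H2.pStab_of_abelian_sylow_two p2 (e.sub X).comm_two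
  have hT : pCore p X ≤ P.subgroupOf X := fun x hx => hQ (mem_map_of_mem _ hx)
  haveI : Group.IsNilpotent (P.subgroupOf X) := (hP.comap_subtype (K := X)).isNilpotent
  have h1 := hst.puigLow_le (cp_sub h) hT
  haveI : (zl (pCore p X)).Normal := H2.normal_of_top_le_normalizer
    ((normalizer_eq_top _).ge.trans (H2.normalizer_le_normalizer_zl _))
  have hZ : zl (P.subgroupOf X) ≤ zl (pCore p X) := le_inf (le_trans (le_inf (H2.zl_le _)
    (inf_le_right.trans (centralizer_le (H2.puigLow_le_puig _))))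
    (H2.inf_centralizer_puigLow_le.trans (h1.trans (H2.puigLow_le_puig _))))
    (inf_le_right.trans (centralizer_le (H2.puigStep_mono hT h1)))
  have hL : H2.puig (P.subgroupOf X) ≤ _ := hst.puigStep_le_comap
    ((L.isPGroup_pCore p).to_le (H2.zl_le (pCore p X))) (H2.le_puigLow ((H2.zl_le _).trans hT)
      inferInstance (le_top.trans (normalizer_eq_top _).ge))
  refine ⟨(𝐂(zl (pCore p X))).map X.subtype, _, ⟨map_subtype_le _, H2.le_normalizer_map_subtype _⟩,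
    ?_, ⟨map_subtype_le _, H2.le_normalizer_map_subtype _⟩, le_trans ?_ (map_mono hL),
    fun hs => ?_⟩
  · rw [← zl_sub hX, map_le_cent_iff X.subtype_injective]
    exact centralizer_le hZ
  · rw [← H2.puig_map (H2.ker_inf_eq_bot_of_injective X.subtype_injective _),
      subgroupOf_map_subtype, inf_of_le_left hX]
  · rw [isSolvable_map_iff X.subtype_injective] at hs ⊢
    haveI := H1.isSolvable_of_isPGroup (L.isPGroup_pCore (G := X ⧸ 𝐂(zl (pCore p X))) p)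
    exact L.isSolvable_comap_mk' _ _

theorem syl_top [IsSimpleGroup G] (e : E8 G) (hp : p.Prime) (p2 : p ≠ 2) {X P : Subgroup G}
    (hX : IsCoatom X) (h : CpO p X) (h0 : pCoreOf p X ≠ ⊥) (hP : IsSyl p P X) :
    IsSyl p P ⊤ ∧ 𝐍(zl P) = X := by
  haveI := Fact.mk hp
  haveI := hP.pgrp.isNilpotent
  have h1 := P5.Mx.norm_eq hX (H2.zl_ne_bot fun k => h0 (eq_bot_iff.2 (k ▸ hP.pCoreOf_le hp)))
    ((H2.zl_le P).trans hP.le) (zl_norm e hp p2 h hP)
  exact ⟨IsSyl.of_norm hp (hP.of_le (le_inf le_top le_normalizer)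
    (inf_le_right.trans (h1 ▸ H2.normalizer_le_normalizer_zl P))), h1⟩

theorem exists_mx {X U : Subgroup G} (h1 : U ≤ X) (h2 : IsPGroup p U) (h3 : S ≤ 𝐍(U)) :
    ∃ R, MxP S p X R ∧ U ≤ R := by
  obtain ⟨R, ⟨a, b, c, d⟩, hm⟩ := Set.exists_max_image
    {R : Subgroup G | U ≤ R ∧ R ≤ X ∧ IsPGroup p R ∧ S ≤ 𝐍(R)} (fun R => 𝐨(R)) (Set.toFinite _)
    ⟨U, le_rfl, h1, h2, h3⟩
  exact ⟨R, ⟨b, c, d, fun R' e f g h =>
    (H1.eq_of_le_of_card_le e (hm R' ⟨a.trans e, f, g, h⟩)).symm⟩, a⟩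

theorem mx_of_norm (hp : p.Prime) {X R : Subgroup G} (h1 : R ≤ X) (h2 : IsPGroup p R)
    (h3 : S ≤ 𝐍(R))
    (h : ∀ R', R ≤ R' → R' ≤ X → R' ≤ 𝐍(R) → IsPGroup p R' → S ≤ 𝐍(R') → R' = R) :
    MxP S p X R := by
  haveI := Fact.mk hp
  refine ⟨h1, h2, h3, fun R' a b c d => by_contra fun k => ?_⟩
  obtain ⟨x, hx, h4, h5⟩ := H1.exists_mem_normalizer_of_lt c.isNilpotent (lt_of_le_of_ne a (Ne.symm k))
  exact h5 ((h (R' ⊓ 𝐍(R)) (le_inf a le_normalizer) (inf_le_left.trans b) inf_le_right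
    (c.to_le inf_le_left) (H1.le_normalizer_inf d (H1.le_normalizer_normalizer h3))).le ⟨hx, h4⟩)

end KO

open KO

namespace MxP

variable {X R : Subgroup G} (h : MxP S p X R)
include h

theorem le_of_norm {U : Subgroup G} (h1 : U ≤ X) (h2 : IsPGroup p U) (h3 : S ≤ 𝐍(U))
    (h4 : R ≤ 𝐍(U)) : U ≤ R :=
  le_sup_right.trans (h.max _ le_sup_left (sup_le h.le h1) (h.pg.to_sup_of_normal_right' h2 h4)
    (H1.le_normalizer_sup h.inv h3)).le

theorem isSyl (hS : S8 S) (hp : p.Prime) {H : Subgroup G} (h1 : R ≤ H) (h2 : H ≤ X)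
    (ho : Odd 𝐨(H)) (hn : S ≤ 𝐍(H)) : IsSyl p R H := by
  obtain ⟨P, hP, a, b⟩ := exists_invariant_isSyl hp hn (hS.coprime ho) (Or.inl hS.solv) h.pg h1 h.inv
  exact h.max P a (hP.le.trans h2) hP.pgrp b ▸ hP

theorem core_le (hX : S ≤ X) : pCoreOf p X ≤ R :=
  h.le_of_norm (H2.pCoreOf_le p X) (H2.isPGroup_pCoreOf p X) (hX.trans (pCoreOf_normal p X).2)
    (h.le.trans (pCoreOf_normal p X).2)

theorem isSyl_sup (hS : S8 S) (hp : p.Prime) (p2 : p ≠ 2) (hX : S ≤ X) :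
    IsSyl p R (R ⊔ Od X) :=
  h.isSyl hS hp le_sup_left (sup_le h.le (P6.Od_normal X).1) (P5.Mx.odd_sup
    (h.le.trans (P6.Od_normal X).2) (P6.odd_of_isPGroup hp p2 h.pg) (P6.odd_Od X))
    (H1.le_normalizer_sup h.inv (hX.trans (P6.Od_normal X).2))

theorem Od_le (hS : S8 S) (hp : p.Prime) (p2 : p ≠ 2) (hX : S ≤ X) (hc : CpO p X) :
    Od X ≤ 𝐍(zl R) := by
  have h1 := sup_le h.le (P6.Od_normal X).1
  have h2 : pCoreOf p X ≤ pCoreOf p (R ⊔ Od X) := le_pCoreOf ⟨(h.core_le hX).trans le_sup_left,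
    h1.trans (pCoreOf_normal p X).2⟩ (H2.isPGroup_pCoreOf p X)
  exact le_sup_right.trans (zl_norm hS.e8 hp p2
    (((inf_le_inf h1 (centralizer_le h2)).trans hc).trans h2) (h.isSyl_sup hS hp p2 hX))

end MxP

namespace OM

variable [IsSimpleGroup G] {M : G → Subgroup G} (h : OM S p M)
include h

theorem cp {a : G} (ha : a ∈ S) (a1 : a ≠ 1) : CpO p (M a) :=
  cp_of h.hp (h.lay' ha a1) fun _ hr => h.fit ha a1 hr

theorem exists_le {a : G} (ha : a ∈ S) (a1 : a ≠ 1) {X : Subgroup G} (hX : X ≠ ⊤)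
    (h1 : pCoreOf p (M a) ≤ X) (h2 : S ≤ X) : ∃ c ∈ S, c ≠ 1 ∧ X ≤ M c := by
  obtain ⟨R, cR, hR⟩ := exists_coatom hX
  have QR := h1.trans hR
  have SR := h2.trans hR
  have aa := h.s8.sq a ha
  have hC := (centralizer_le_normalizer _).trans (h.nq a ha a1)
  have hF : fittingOf (M a) ≤ R := P5.Mx.fittingOf_le_of fun r hr => by
    rcases eq_or_ne r p with rfl | k
    exacts [QR, h.fit ha a1 hr k ▸ bot_le]
  have h3 := (commutator_mono (le_inf le_rfl QR) le_rfl).trans (h.k2 ha a1 cR.1 (SR ha))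
  have cp : CpO p R := by
    refine cp_of h.hp (by_contra fun hE => ?_) fun r hr rp => ?_
    · have h4 : layerOf R ≤ M a := ((H2.layerOf_le_centralizer_fittingOf R).trans (centralizer_le
        (h3.trans (H2.pCoreOf_le_fittingOf h.hp R)))).trans hC
      have n := h4.trans (pCoreOf_normal p _).2
      have h5 := le_cent_of_perfect (H2.commutator_layerOf R) ((le_inf
        (H1.commutator_le_of_le_normalizer (QR.trans (H2.le_normalizer_layerOf R)))
        ((commutator_comm _ _).trans_le (H1.commutator_le_of_le_normalizer n))).trans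
        (le_centralizer_iff.1 (H2.layerOf_le_centralizer_of_isSolvable ((H2.SnIn.of_normal
          inf_le_left (H1.le_normalizer_inf le_normalizer n)).trans (H2.snIn_layerOf R))
          (h.solv ((H2.isPGroup_pCoreOf p _).to_le inf_le_right)))))
      exact H2.QS.not_isSolvable (qs_layer h.s8.e8 hE) (h.solv ((H2.isPGroup_pCoreOf p _).to_le
        ((le_inf h4 (le_centralizer_iff.1 h5)).trans (h.cp ha a1))))
    · have h4 := P5.bender_i (H2.inf_centralizer_fittingOf_le_of_layerOf_eq_bot (h.lay' ha a1))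
        le_rfl (sup_le hF (inf_le_left.trans hF)) hr (h.fit ha a1 hr rp)
      rw [← h4, left_eq_inf]
      rcases eq_or_ne r 2 with rfl | r2
      · exact (core_two_le h.s8 SR).trans (h.sle ha a1)
      have n := (pCoreOf_normal r R).2
      exact (le_centralizer_iff.1 (P5.Mx.comm_le_cent_of_inverts aa (n (SR ha)) (inv_of_cent
        (P6.odd_of_isPGroup hr r2 (H2.isPGroup_pCoreOf r R)) aa (n (SR ha)) (eq_bot_iff.2
          (h4 ▸ inf_le_inf_left _ (h.le a ha a1)))) (QR.trans n))).trans hC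
  obtain ⟨P, hP⟩ := exists_isSyl h.hp R
  obtain ⟨P', hP'⟩ := exists_isSyl h.hp (M a)
  obtain ⟨s1, e1⟩ := syl_top h.s8.e8 h.hp h.p2 cR cp (fun k => h.ne a ha a1
    (P5.Mx.comm_eq_bot_iff.1 (eq_bot_iff.2 (k ▸ h3)))) hP
  obtain ⟨s2, e2⟩ := syl_top h.s8.e8 h.hp h.p2 (h.co a ha a1) (h.cp ha a1) (h.core_ne ha a1) hP'
  obtain ⟨g, -, rfl⟩ := s1.exists_conj_eq h.hp s2
  have e3 : R = M a ^ᵍ g := by
    rw [← e1, ← e2, ← norm_conj,
      H2.zl_map (H2.ker_inf_eq_bot_of_injective (conj_injective g) _)]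
  have ia : Inv a := ⟨a1, aa⟩
  obtain ⟨k, hk, e4⟩ := (h.s8.isSyl SR).exists_conj_le Nat.prime_two (ia.conj g).isPGroup
    (zpowers_le.2 (e3 ▸ conj_mem_conj (h.sle ha a1 ha) g))
  refine ⟨_, e4 (conj_mem_conj (mem_zpowers _) k), ((ia.conj g).conj k).ne, hR.trans_eq ?_⟩
  rw [show k * (g * a * g⁻¹) * k⁻¹ = k * g * a * (k * g)⁻¹ by group, h.cj a ha a1, ← conj_conj,
    ← e3, conj_eq_of_mem hk]

theorem Od_le_mul {a c : G} (ha : a ∈ S) (hc : c ∈ S) (v : V4 a c) (h1 : Od (M a) ≤ M c) :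
    Od (M a) ≤ M (a * c) := by
  obtain ⟨y, -, tri⟩ := h.tri_all ha hc v
  have h2 : Od (M c) ≤ M (a * c) := by
    rw [← tri.2, h.cj c hc v.s1]
    refine le_trans (le_of_eq ?_) (conj_mono h1 y)
    rw [← P6.Od_conj, ← h.cj a ha v.t1, tri.1]
  have n := (P6.Od_normal (M a)).2
  have VS := P5.V4.le_iff.2 ⟨ha, hc⟩
  have m := mul_mem ha hc
  have SM := (h.sle m v.ts1).trans le_normalizer
  rw [← H1.commutator_sup_centralizer ((VS.trans (h.sle ha v.t1)).trans n)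
    (H1.coprime_of_le (h.s8.coprime (P6.odd_Od _)) VS le_rfl)
    (Or.inr (P5.Mx.isSolvable_of_odd (P6.odd_Od _)))]
  refine sup_le ((commutator_mono le_rfl (P5.V4.le_iff.2 ⟨mem_sup_left (mem_zpowers a),
    mem_sup_right (mem_zpowers c)⟩)).trans (H1.commutator_sup_le (zpowers_le.2 (SM ha))
    (zpowers_le.2 (SM hc)) (le_trans ?_ h2) (le_trans ?_ h2))) (inf_le_right.trans (le_trans
      (fun g hg => mc.2 (hg _ (mul_mem P5.V4.t_mem P5.V4.s_mem)).symm) (h.le _ m v.ts1)))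
  · exact k1 h.ind h.s8.e8 (h.lt (h.co c hc v.s1).1) (h.sle hc v.s1 ha) v.tt h1 (P6.odd_Od _)
      (inf_le_right.trans ((h.le a ha v.t1).trans n))
  · exact (h.zs hc v.s1 (h.co c hc v.s1).1 (h.le c hc v.s1)).comm_le (h.sle hc v.s1 hc) h1

theorem core_le_Od (X : Subgroup G) : pCoreOf p X ≤ Od X :=
  P6.le_Od (pCoreOf_normal p X) (h.odd (H2.isPGroup_pCoreOf p X))

theorem not_Od_le {a c : G} (ha : a ∈ S) (hc : c ∈ S) (v : V4 a c) : ¬ Od (M a) ≤ M c := by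
  intro h1
  obtain ⟨x, x1, x2, x3⟩ := exists_x h.s8 ha (h.ns a ha v.t1)
  have h2 : ∀ w ∈ S, w ≠ 1 → Od (M a) ≤ M w := fun w hw w1 => by
    rcases eq_or_ne a w with rfl | aw
    · exact (P6.Od_normal _).1
    have v' := h.s8.v4 ha hw v.t1 w1 aw
    obtain ⟨y, hy, k⟩ := h.s8.exists_line ha hc hw v v' x2 x1 x3
    have h3 : Od (M a) ≤ M (y * c * y⁻¹) := by
      rw [h.cj c hc v.s1, ← conj_eq_of_mem_norm ((P6.Od_normal _).2
        (h.le a ha v.t1 (zpowers_le.2 x1 hy)))]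
      exact conj_mono h1 y
    rcases k with k | k <;> rw [k] at h3
    · exact h3
    · have := h.Od_le_mul ha (mul_mem ha hw) (v4_mul v') h3
      rwa [← mul_assoc, v.tt, one_mul] at this
  have h3 : 𝐍(S) ≤ 𝐍((⨅ w ∈ S, ⨅ _ : w ≠ 1, M w : Subgroup G)) := fun g hg =>
    mem_norm_of_conj_le (le_iInf₂ fun w hw => le_iInf fun w1 => by
      have w' := ((⟨w1, h.s8.sq w hw⟩ : P6.Inv w).conj g⁻¹).ne
      have := h.cj _ (h.s8.conj_mem (inv_mem hg) hw) w' g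
      rw [show g * (g⁻¹ * w * g⁻¹⁻¹) * g⁻¹ = w by group] at this
      exact this ▸ conj_mono ((iInf₂_le _ (h.s8.conj_mem (inv_mem hg) hw)).trans (iInf_le _ w')) g)
  have h4 : S ≤ ⨅ w ∈ S, ⨅ _ : w ≠ 1, M w := le_iInf₂ fun w hw => le_iInf fun w1 => h.sle hw w1
  obtain ⟨w, hw, w1, h5⟩ := h.exists_le ha v.t1 (P5.Mx.norm_ne_top
    (fun k => v.t1 (mem_bot.1 (k.le (h4 ha)))) fun k => (h.co a ha v.t1).1 (eq_top_iff.2
      (k.ge.trans ((iInf₂_le a ha).trans (iInf_le _ v.t1))))) (((h.core_le_Od _).trans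
      (le_iInf₂ fun w hw => le_iInf (h2 w hw))).trans le_normalizer) (h4.trans le_normalizer)
  exact h.not_norm_le hw w1 (h.co w hw w1).1 (h.le w hw w1) (h3.trans h5)

theorem norm_zl_le {a : G} (ha : a ∈ S) (a1 : a ≠ 1) {R : Subgroup G} (hR : MxP S p (M a) R) :
    Od (M a) ≤ 𝐍(zl R) ∧ 𝐍(zl R) ≤ M a := by
  haveI := Fact.mk h.hp
  haveI := hR.pg.isNilpotent
  have h1 := hR.Od_le h.s8 h.hp h.p2 (h.sle ha a1) (h.cp ha a1)
  obtain ⟨c, hc, c1, h2⟩ := h.exists_le ha a1 (h.norm_ne_top (H2.zl_ne_bot fun k => h.core_ne ha a1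
    (eq_bot_iff.2 (k ▸ hR.core_le (h.sle ha a1)))) (h.solv (hR.pg.to_le (H2.zl_le R))))
    ((h.core_le_Od _).trans h1) (hR.inv.trans (H2.normalizer_le_normalizer_zl R))
  rcases eq_or_ne a c with rfl | ac
  · exact ⟨h1, h2⟩
  · exact absurd (h1.trans h2) (h.not_Od_le ha hc (h.s8.v4 ha hc a1 c1 ac))

theorem not_mx_le {a c : G} (ha : a ∈ S) (hc : c ∈ S) (v : V4 a c) {R : Subgroup G}
    (hR : MxP S p (M a) R) : ¬ R ≤ M c := fun k =>
  have h1 := (h.norm_zl_le ha v.t1 hR).2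
  h.not_Od_le hc ha v.swap ((h.norm_zl_le hc v.s1 (mx_of_norm h.hp k hR.pg hR.inv
    fun R' a _ c d e => hR.max R' a (c.trans ((H2.normalizer_le_normalizer_zl R).trans h1))
      d e)).1.trans h1)

theorem norm_le_of_mx {a : G} (ha : a ∈ S) (a1 : a ≠ 1) {R Y : Subgroup G} (hR : MxP S p (M a) R)
    (h0 : Y ≠ ⊥) (hY : Group.IsSolvable Y) (h1 : R ≤ 𝐍(Y)) (h2 : S ≤ 𝐍(Y)) : 𝐍(Y) ≤ M a := by
  obtain ⟨c, hc, c1, h3⟩ := h.exists_le ha a1 (h.norm_ne_top h0 hY)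
    ((hR.core_le (h.sle ha a1)).trans h1) h2
  rcases eq_or_ne a c with rfl | ac
  · exact h3
  · exact absurd (h1.trans h3) (h.not_mx_le ha hc (h.s8.v4 ha hc a1 c1 ac) hR)

end OM

end Cfsg.Agent.P7
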