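/-
Section O: an averaging argument for a Frobenius group with complement of order `2p`.
-/
import Cfsg.Agent.P7.O3

set_option autoImplicit false
set_option linter.unusedSectionVars false

namespace Cfsg.Agent.P7.KO

open Subgroup Cfsg Cfsg.Agent Cfsg.Agent.FT
open scoped commutatorElement

universe u

theorem sum_conj {H R : Type*} [Group H] [Ring R] (ρ : H →* R) {B : Subgroup H} [Fintype B]
    (h0 : ∑ b : B, ρ b = 0) {g : H} (hg : ∀ b ∈ B, g * b * g⁻¹ ∈ B)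
    (hc : ∀ b ∈ B, g * b * g⁻¹ = b → b = 1) : ∑ b : B, ρ b * ρ g * ρ (b : H)⁻¹ = 0 := by
  have hf : Function.Bijective fun b : B =>
      (⟨b * (g * (b : H)⁻¹ * g⁻¹), mul_mem b.2 (hg _ (inv_mem b.2))⟩ : B) :=
    Finite.injective_iff_bijective.1 fun b c e => by
      have k : (b : H) * (g * (b : H)⁻¹ * g⁻¹) = c * (g * (c : H)⁻¹ * g⁻¹) := congrArg Subtype.val e
      refine Subtype.ext (inv_mul_eq_one.1 (hc _ (mul_mem (inv_mem b.2) c.2) ?_))
      calc _ = (b : H)⁻¹ * (b * (g * (b : H)⁻¹ * g⁻¹)) * (g * c * g⁻¹) := by group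
        _ = _ := by rw [k]; group
  rw [← hf.sum_comp fun b : B => ρ b] at h0
  rw [← zero_mul (ρ g), ← h0, Finset.sum_mul]
  exact Finset.sum_congr rfl fun b _ => by simp only [← map_mul]; congr 1; group

theorem card_eq_zero {H R : Type*} [Group H] [Ring R] (ρ : H →* R) {B : Subgroup H} [Fintype B]
    {a z : H} (h : ∀ g ∈ [a, z, z * a, z * z, z * z * a], ∑ b : B, ρ b * ρ g * ρ (b : H)⁻¹ = 0)
    (ξ : (ρ z - 1) * ((ρ z - 1) * (1 + ρ a)) = 0) : (Fintype.card B : R) = 0 := by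
  have h1 : ∀ b : B, ρ b * ((ρ z - 1) * ((ρ z - 1) * (1 + ρ a))) * ρ (b : H)⁻¹ = 1 +
      (ρ b * ρ a * ρ (b : H)⁻¹ - 2 * (ρ b * ρ z * ρ (b : H)⁻¹) - 2 * (ρ b * ρ (z * a) * ρ (b : H)⁻¹)
        + ρ b * ρ (z * z) * ρ (b : H)⁻¹ + ρ b * ρ (z * z * a) * ρ (b : H)⁻¹) := fun b => by
    have e : ρ b * ρ (b : H)⁻¹ = 1 := by rw [← map_mul, mul_inv_cancel, map_one]
    simp only [map_mul]
    noncomm_ring [e]
  have h2 := Finset.sum_congr (rfl : (Finset.univ : Finset B) = _) fun b _ => h1 b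
  simp only [ξ, mul_zero, zero_mul, Finset.sum_const_zero, Finset.sum_add_distrib,
    Finset.sum_sub_distrib, ← Finset.mul_sum, h a (by simp), h z (by simp), h (z * a) (by simp),
    h (z * z) (by simp), h (z * z * a) (by simp)] at h2
  simpa using h2.symm

variable {G : Type u} [Group G] [Finite G]

theorem avg_aux {K B : Subgroup G} {a z : G} (oK : Odd 𝐨(K)) (hK : ⁅K, B⁆ = K) (hB : B ≤ 𝐍(K))
    (cop : 𝐨(B).Coprime 𝐨(K)) (aa : a * a = 1) (aK : a ∈ 𝐍(K)) (zK : z ∈ 𝐍(K))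
    (hg : ∀ g ∈ [a, z, z * a, z * z, z * z * a],
      ∀ b ∈ B, g * b * g⁻¹ ∈ B ∧ (g * b * g⁻¹ = b → b = 1))
    (h : ∀ x ∈ K, Commute x a → ⁅z, ⁅z, x⁆⁆ = 1) : K = ⊥ := by
  classical
  obtain ⟨o, ho⟩ : ∃ o : K → Additive (Abelianization K),
    ∀ x, o x = Additive.ofMul (Abelianization.of x) := ⟨_, fun _ => rfl⟩
  have om : ∀ x y, o (x * y) = o x + o y := fun x y => by simp only [ho, map_mul, ofMul_mul]
  have oi : ∀ x, o x⁻¹ = -o x := fun x => by simp only [ho, map_inv, ofMul_inv]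
  have o1 : o 1 = 0 := by simp only [ho, map_one, ofMul_one]
  have ext : ∀ f : AddMonoid.End (Additive (Abelianization K)), (∀ x, f (o x) = 0) → f = 0 :=
    fun f hf => AddMonoidHom.ext fun v => by
      obtain ⟨x, hx⟩ := QuotientGroup.mk_surjective v.toMul
      exact (show o x = v from (ho x).trans (congrArg Additive.ofMul hx)) ▸ hf x
  obtain ⟨ρ, hρ⟩ : ∃ ρ : 𝐍(K) →* AddMonoid.End (Additive (Abelianization K)),
      ∀ g x, ρ g (o x) = o (K.normalizerMonoidHom g x) := by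
    refine ⟨⟨⟨fun g => MonoidHom.toAdditive (Abelianization.map
      (K.normalizerMonoidHom g).toMonoidHom), ?_⟩, fun g k => ?_⟩, fun g x => by rw [ho, ho]; rfl⟩
    · refine sub_eq_zero.1 (ext _ fun x => sub_eq_zero.2 ?_)
      rw [map_one, ho]
      rfl
    · refine sub_eq_zero.1 (ext _ fun x => sub_eq_zero.2 ?_)
      rw [ho]
      exact congrArg (fun f : MulAut K => Additive.ofMul (Abelianization.of (f x)))
        (map_mul K.normalizerMonoidHom g k)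
  have cj : ∀ (g : 𝐍(K)) (x : K), (K.normalizerMonoidHom g x : G) = g * x * (g : G)⁻¹ :=
    fun _ _ => rfl
  have ma : ∀ (f g : AddMonoid.End (Additive (Abelianization K))) v, (f * g) v = f (g v) :=
    fun _ _ _ => rfl
  haveI := Fintype.ofFinite (B.subgroupOf 𝐍(K))
  have h0 : ∑ b : B.subgroupOf 𝐍(K), ρ b = 0 := by
    generalize hT : ∑ b : B.subgroupOf 𝐍(K), ρ b = T
    have h1 : ∀ c ∈ B.subgroupOf 𝐍(K), T * ρ c = T := fun c hc => by
      rw [← hT, Finset.sum_mul, ← (Group.mulRight_bijective (⟨c, hc⟩ : B.subgroupOf 𝐍(K))).sum_comp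
        fun b : B.subgroupOf 𝐍(K) => ρ b]
      exact Finset.sum_congr rfl fun b _ => (map_mul ρ _ _).symm
    let W : Subgroup K :=
      { carrier := {x | T (o x) = 0}
        mul_mem' := fun {x y} hx hy => by
          rw [Set.mem_ofPred_eq] at hx hy ⊢
          rw [om, map_add, hx, hy, add_zero]
        one_mem' := by rw [Set.mem_ofPred_eq, o1, map_zero]
        inv_mem' := fun {x} hx => by
          rw [Set.mem_ofPred_eq] at hx ⊢
          rw [oi, map_neg, hx, neg_zero] }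
    have h2 : K ≤ W.map K.subtype := hK.ge.trans (Subgroup.commutator_le.2 fun x hx b hb =>
      ⟨⟨x, hx⟩ * (K.normalizerMonoidHom ⟨b, hB hb⟩ ⟨x, hx⟩)⁻¹, by
        show T (o _) = 0
        rw [om, oi, map_add, map_neg, ← hρ, ← ma, h1 _ hb, add_neg_cancel], by
        rw [coe_subtype, coe_mul, coe_inv, cj, commutatorElement_def]
        group⟩)
    exact ext T fun x => (mem_map_iff_mem K.subtype_injective).1 (h2 x.2)
  have h3 := card_eq_zero ρ (B := B.subgroupOf 𝐍(K)) (a := ⟨a, aK⟩) (z := ⟨z, zK⟩)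
    (fun g hg' => by
      have := hg g (by
        simp only [List.mem_cons, List.not_mem_nil, or_false] at hg' ⊢
        rcases hg' with rfl | rfl | rfl | rfl | rfl <;> simp)
      exact sum_conj ρ h0 (fun b hb => (this b hb).1) fun b hb e =>
        Subtype.ext ((this b hb).2 (congrArg Subtype.val e))) (ext _ fun x => by
      obtain ⟨c, hc, y, hy, e1, e2, e3⟩ := P5.Mx.exists_cent_mul_inv oK aa aK x.2
      have k1 : ∀ w : K, (ρ ⟨z, zK⟩ - 1) (o w) = o (K.normalizerMonoidHom ⟨z, zK⟩ w * w⁻¹) :=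
        fun w => by rw [om, oi, ← hρ, ← sub_eq_add_neg]; rfl
      have k2 : (1 + ρ ⟨a, aK⟩) (o x) = o ⟨c, hc⟩ + o ⟨c, hc⟩ := by
        show o x + ρ _ (o x) = _
        rw [hρ, show K.normalizerMonoidHom ⟨a, aK⟩ x = ⟨c, hc⟩ * (⟨y, hy⟩ : K)⁻¹ from Subtype.ext (by
          rw [cj, e3, ← conj_mul, ← e1.eq, mul_inv_cancel_right, inv_eq_of_mul_eq_one_right aa, e2]
          rfl), show x = ⟨c, hc⟩ * ⟨y, hy⟩ from Subtype.ext e3, om, om, oi]
        abel
      have k3 : (ρ ⟨z, zK⟩ - 1) ((ρ ⟨z, zK⟩ - 1) (o ⟨c, hc⟩)) = 0 := by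
        rw [k1, k1, ← o1]
        exact congrArg o (Subtype.ext (h c hc e1))
      rw [ma, ma, k2, map_add, map_add, k3, add_zero])
  refine by_contra fun k => (H1.commutator_lt_of_isSolvable (P5.Mx.isSolvable_of_odd oK) k).not_ge
    fun x hx => ?_
  have h4 : Abelianization.of (⟨x, hx⟩ : K) ^ 𝐨(B) = 1 := by
    have := DFunLike.congr_fun h3 (o ⟨x, hx⟩)
    rw [AddMonoid.End.natCast_apply, ← Nat.card_eq_fintype_card,
      Nat.card_congr (subgroupOfEquivOfLe hB).toEquiv, ho] at this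
    exact this
  have h5 : Abelianization.of (⟨x, hx⟩ : K) ^ 𝐨(K) = 1 := by rw [← map_pow, pow_card_eq_one', map_one]
  have h6 : (⟨x, hx⟩ : K) ∈ commutator K := Abelianization.ker_of K ▸ (pow_one _).symm.trans
    (cop ▸ (pow_gcd_eq_one.2 ⟨h4, h5⟩))
  exact map_subtype_commutator K ▸ mem_map_of_mem K.subtype h6

theorem avg {Q B : Subgroup G} {a z : G} (oQ : Odd 𝐨(Q)) (oB : Odd 𝐨(B)) (hB : B ≤ 𝐍(Q))
    (cop : 𝐨(B).Coprime 𝐨(Q)) (aa : a * a = 1) (aQ : a ∈ 𝐍(Q)) (zQ : z ∈ 𝐍(Q))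
    (aB : ∀ b ∈ B, a * b * a = b⁻¹) (zB : z ∈ 𝐍(B)) (az : Commute z a) (oz : Odd (orderOf z))
    (cz : B ⊓ 𝐂[z] = ⊥) (h : ∀ x ∈ Q, Commute x a → ⁅z, ⁅z, x⁆⁆ = 1) : B ≤ 𝐂(Q) := by
  have ai := inv_eq_of_mul_eq_one_right aa
  have aN : a ∈ 𝐍(B) := mem_norm_of_conj_le fun x hx => by
    obtain ⟨b, hb, rfl⟩ := mem_conj'.1 hx
    exact ai.symm ▸ (aB b hb).symm ▸ inv_mem hb
  have le := H1.commutator_le_of_le_normalizer hB
  have n : ∀ {g}, g ∈ 𝐍(Q) → g ∈ 𝐍(B) → g ∈ 𝐍(⁅Q, B⁆) := fun h1 h2 =>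
    H1.le_normalizer_commutator (zpowers_le.2 h1) (zpowers_le.2 h2) (mem_zpowers _)
  have f : ∀ b ∈ B, z * z * (z * z) ∈ 𝐂[b] → b = 1 := fun b hb k => mem_bot.1 (cz.le ⟨hb, cent_symm
    (P6.mem_of_sq_mem oz (P6.mem_of_sq_mem (by
      rw [← pow_two]; exact oz.of_dvd_nat (orderOf_pow_dvd 2)) k))⟩)
  have sq : ∀ w, Commute w a → w * a * (w * a) = w * w := fun w hw => by
    rw [mul_assoc, ← mul_assoc a, ← hw.eq, mul_assoc w a, aa, mul_one]
  refine H1.commutator_eq_bot_iff_le_centralizer'.1 (avg_aux (P6.odd_of_le le oQ)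
    (H1.commutator_commutator_eq hB cop) H1.le_normalizer_commutator_self
    (H1.coprime_of_le cop le_rfl le) aa (n aQ aN) (n zQ zB) (fun g hg b hb => ?_)
    fun x hx => h x (le hx))
  have key : ∀ g ∈ 𝐍(B), (g ∈ 𝐂[b] → b = 1) → g * b * g⁻¹ ∈ B ∧ (g * b * g⁻¹ = b → b = 1) :=
    fun g h1 h2 => ⟨H1.conj_mem_of_le_normalizer le_rfl h1 hb, fun k => h2 (mem_cent1_iff_conj.2 k)⟩
  simp only [List.mem_cons, List.not_mem_nil, or_false] at hg
  rcases hg with rfl | rfl | rfl | rfl | rfl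
  · exact key _ aN fun k => eq_one_of_inv (P6.odd_orderOf_of_mem oB hb) aa (aB b hb) (cent_symm k)
  · exact key _ zB fun k => f b hb (mul_mem (mul_mem k k) (mul_mem k k))
  · refine key _ (mul_mem zB aN) fun k => ?_
    have := sq z az ▸ mul_mem k k
    exact f b hb (mul_mem this this)
  · exact key _ (mul_mem zB zB) fun k => f b hb (mul_mem k k)
  · exact key _ (mul_mem (mul_mem zB zB) aN) fun k => f b hb (sq _ (az.mul_left az) ▸ mul_mem k k)

end Cfsg.Agent.P7.KO
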