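/-
Section O: the extremal `p`-local subgroup, and the conclusion.
-/
import Cfsg.Agent.P7.O4
import Cfsg.Agent.P7.Final0
import Cfsg.Agent.P7.L2Main

set_option autoImplicit false
set_option linter.unusedSectionVars false

namespace Cfsg.Agent.P7

open Subgroup Cfsg Cfsg.Agent Cfsg.Agent.FT
open Cfsg.Agent.H2 (pPrimeCoreOf layerOf zl)
open Cfsg.Agent.P5 (V4 Tri LT)
open Cfsg.Agent.P6 (Inv Od Qt pr)
open scoped commutatorElement
open KO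

universe u

variable {G : Type u} [Group G] [Finite G] {S : Subgroup G} {p : ℕ} {M : G → Subgroup G}

theorem S8.exists_eig (hS : S8 S) {U : Subgroup G} (ho : Odd 𝐨(U)) (hn : S ≤ 𝐍(U)) (h0 : U ≠ ⊥) :
    ∃ z ∈ U, z ≠ 1 ∧ S ≤ 𝐍(zpowers z) ∧ (∀ s ∈ S, z ∈ 𝐂[s] ∨ s * z * s = z⁻¹) ∧
      ∃ b ∈ S, ∃ c ∈ S, V4 b c ∧ z ∈ 𝐂[b] ∧ z ∈ 𝐂[c] := by
  by_cases h : ∀ t ∈ S, U ≤ 𝐂[t]
  · obtain ⟨z, hz, z1⟩ := (bot_or_exists_ne_one U).resolve_left h0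
    obtain ⟨b, hb, b1, -⟩ := hS.exists_ne (one_mem S)
    obtain ⟨c, hc, c1, bc⟩ := hS.exists_ne hb
    exact ⟨z, hz, z1, fun s hs => P5.Mx.cent1_le_norm_zpowers z (cent_symm (h s hs hz)),
      fun s hs => Or.inl (h s hs hz), b, hb, c, hc, hS.v4 hb hc b1 c1 bc, h b hb hz, h c hc hz⟩
  push Not at h
  obtain ⟨t, ht, h⟩ := h
  obtain ⟨z, hz, b, c, w⟩ := hS.exists_wt ho hn ht h
  exact ⟨z, hz, w.ne, w.norm, fun s hs => (w.cases hs).imp_left fun k => cent_symm (w.le k),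
    b, w.hb, c, w.hc, w.v, w.cb, w.cc⟩

/-- A `p`-local subgroup `N(Y)` not contained in `M a`. -/
structure XT (S : Subgroup G) (p : ℕ) (M : G → Subgroup G) (a : G) (Y P : Subgroup G) : Prop where
  ha : a ∈ S
  a1 : a ≠ 1
  y0 : Y ≠ ⊥
  yp : IsPGroup p Y
  yM : Y ≤ M a
  yS : S ≤ 𝐍(Y)
  yN : ¬ 𝐍(Y) ≤ M a
  pp : IsPGroup p P
  pM : P ≤ M a
  pN : P ≤ 𝐍(Y)
  pS : S ≤ 𝐍(P)

/-- The extremal choice. -/
structure XE (S : Subgroup G) (p : ℕ) (M : G → Subgroup G) (a : G) (Y P : Subgroup G) : Prop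
    extends OM S p M, XT S p M a Y P where
  m1 : ∀ Y' P', XT S p M a Y' P' → P ≤ P' → P' = P
  m2 : ∀ Y', XT S p M a Y' P → Y ≤ Y' → Y' = Y

variable [IsSimpleGroup G]

theorem OM.exists_XE (h : OM S p M) : ∃ a Y P, XE S p M a Y P := by
  obtain ⟨P, ⟨a, Y, x⟩, hm⟩ := Set.exists_max_image {P : Subgroup G | ∃ a Y, XT S p M a Y P}
    (fun P => 𝐨(P)) (Set.toFinite _) (by
    obtain ⟨t, ht, t1, -⟩ := h.s8.exists_ne (one_mem S)
    obtain ⟨e, he, b, c, w, hw⟩ := h.exists_wt ht t1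
    obtain ⟨P, hP, h1⟩ := exists_mx (X := M t ⊓ M b) (zpowers_le.2 ⟨H2.pCoreOf_le p _ he,
      H2.pCoreOf_le p _ (hw b P5.V4.t_mem w.v.t1)⟩) ((H2.isPGroup_pCoreOf p _).to_le
      (zpowers_le.2 he)) w.norm
    have h0 : P ≠ ⊥ := fun k => w.ne (mem_bot.1 (k.le (h1 (mem_zpowers e))))
    have h2 := hP.le.trans inf_le_left
    have h3 := hP.le.trans inf_le_right
    by_cases k : 𝐍(P) ≤ M b
    · exact absurd h3 (h.not_mx_le ht w.hb (h.s8.v4 ht w.hb t1 w.v.t1 fun k => w.not_mem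
        (k ▸ P5.V4.t_mem)) (mx_of_norm h.hp h2 hP.pg hP.inv fun R a b c =>
        hP.max R a (le_inf b (c.trans k))))
    · exact ⟨P, b, P, w.hb, w.v.t1, h0, hP.pg, h3, hP.inv, k, hP.pg, h3, le_normalizer, hP.inv⟩)
  obtain ⟨Y, y, hm'⟩ := Set.exists_max_image {Y : Subgroup G | XT S p M a Y P}
    (fun Y => 𝐨(Y)) (Set.toFinite _) ⟨Y, x⟩
  exact ⟨a, Y, P, h, y, fun Y' P' k l => (H1.eq_of_le_of_card_le l (hm P' ⟨a, Y', k⟩)).symm,
    fun Y' k l => (H1.eq_of_le_of_card_le l (hm' Y' k)).symm⟩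

namespace XE

variable {a : G} {Y P : Subgroup G} (h : XE S p M a Y P)
include h

theorem norm_le' {Z : Subgroup G} (h0 : Z ≠ ⊥) (h1 : Z ≤ P) (h2 : 𝐍(P) ≤ 𝐍(Z)) : 𝐍(Z) ≤ M a := by
  by_contra k
  exact h.yN (h.norm_le_of_mx h.ha h.a1 (mx_of_norm h.hp h.pM h.pp h.pS fun R a b c d e =>
    h.m1 Z R ⟨h.ha, h.a1, h0, h.pp.to_le h1, h1.trans h.pM, h.pS.trans h2, k, d, b, c.trans h2, e⟩
      a) h.y0 (h.solv h.yp) h.pN h.yS)

theorem le_P : Y ≤ P := le_sup_right.trans (h.m1 Y _ { h.toXT with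
  pp := h.pp.to_sup_of_normal_right' h.yp h.pN
  pM := sup_le h.pM h.yM
  pN := sup_le h.pN le_normalizer
  pS := H1.le_normalizer_sup h.pS h.yS } le_sup_left).le

theorem P_ne : P ≠ ⊥ := fun k => h.y0 (eq_bot_iff.2 (k ▸ h.le_P))

theorem mx : MxP S p 𝐍(Y) P := mx_of_norm h.hp h.pN h.pp h.pS fun R a b c d e => h.m1 Y R
  { h.toXT with pp := d, pM := c.trans (h.norm_le' h.P_ne le_rfl le_rfl), pN := b, pS := e } a

theorem core_eq : pCoreOf p 𝐍(Y) = Y :=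
  have n := (pCoreOf_normal p 𝐍(Y)).2
  have h1 : Y ≤ pCoreOf p 𝐍(Y) := le_pCoreOf ⟨le_normalizer, le_rfl⟩ h.yp
  h.m2 _ { h.toXT with
    y0 := fun k => h.y0 (eq_bot_iff.2 (k ▸ h1))
    yp := H2.isPGroup_pCoreOf p _
    yM := (h.mx.core_le h.yS).trans h.pM
    yS := h.yS.trans n
    yN := fun k => h.yN (n.trans k)
    pN := h.pN.trans n } h1

theorem ne_top : 𝐍(Y) ≠ ⊤ := h.norm_ne_top h.y0 (h.solv h.yp)

theorem comm_le : ⁅pCoreOf p (M a) ⊓ 𝐍(Y), zpowers a⁆ ≤ Y :=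
  (h.k2 h.ha h.a1 h.ne_top (h.yS h.ha)).trans h.core_eq.le

theorem lay'' : layerOf 𝐍(Y) = ⊥ := by
  by_contra hE
  have qs := qs_layer h.s8.e8 hE
  have nL := H2.le_normalizer_layerOf 𝐍(Y)
  have hQ := H2.isPGroup_pCoreOf p (M a)
  have oD := h.odd (hQ.to_le (inf_le_left : _ ⊓ 𝐍(Y) ≤ _))
  have SM := h.sle h.ha h.a1
  have nD := (le_inf SM h.yS).trans (h.nD 𝐍(Y))
  have hY : Y ≤ 𝐂(layerOf 𝐍(Y)) :=
    le_centralizer_iff.1 (layer_le_cent ⟨le_normalizer, le_rfl⟩ (h.solv h.yp))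
  have key : ∀ j ∈ S, j ∈ layerOf 𝐍(Y) → j ≠ 1 →
      ¬ ⁅pCoreOf p (M a) ⊓ 𝐍(Y), zpowers j⁆ ≤ 𝐂(layerOf 𝐍(Y)) := fun j hj jL j1 k => by
    have c : 𝐂(layerOf 𝐍(Y)) ≤ 𝐂[j] := fun x hx => mc.2 (hx j jL).symm
    exact j1 (h.s8.eq_one (h.odd hQ) hj (h.cp h.ha h.a1 ⟨SM hj, zpowers_le.1
      (P5.Mx.zpowers_le_cent_iff.2 (pxq h.hp h.p2 h.yp hQ (h.yM.trans (pCoreOf_normal p _).2)
        ((pCoreOf_normal p _).2 (SM hj)) (h.s8.sq j hj) (hY.trans c) ((inf_le_inf_left _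
          (centralizer_le_normalizer _)).trans
          (le_cent1_of_comm (h.s8.sq j hj) oD (nD hj) (k.trans c)))))⟩))
  have aL : a ∉ layerOf 𝐍(Y) := fun k => key a h.ha k h.a1 (h.comm_le.trans hY)
  obtain ⟨b, hb, d, hd, v⟩ := exists_v4_inf h.s8 (h.yS.trans nL) (H2.QS.not_isSolvable qs)
  obtain ⟨c, hc, c1, hN⟩ : ∃ c ∈ S, c ≠ 1 ∧ 𝐍(Y) ⊓ 𝐍(S) ≤ 𝐂[c] := by
    by_contra hcon
    push Not at hcon
    obtain ⟨g, hg, e⟩ := h.s8.trans (le_inf h.yS le_normalizer) inf_le_right hcon hb.1 h.ha v.t1 h.a1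
    exact aL (e ▸ H1.conj_mem_of_le_normalizer nL hg.1 hb.2)
  have z := h.s8.zs h.yS hc hN
  have hL := zs_layer z (h.yS hc)
  rcases eq_or_ne a c with rfl | ac
  · exact key b hb.1 hb.2 v.t1 ((H1.commutator_le_of_le_normalizer (zpowers_le.2 (nD hb.1))).trans
      ((z.le_Od (h.s8.sq a hc) inf_le_right oD ((le_inf (inf_le_right.trans (h.le a hc c1))
        inf_le_left).trans (h.nD _))).trans (layer_le_cent_Od _)))
  have VL := P5.V4.le_iff.2 ⟨hb.2, hd.2⟩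
  have nC := H1.le_normalizer_centralizer nL
  refine key _ (mul_mem h.ha hc) (VL (h.s8.mul_mem_of_not_mem (P5.V4.le_iff.2 ⟨hb.1, hd.1⟩) v.card
    hc h.ha (fun k => not_mem_of_perfect h.s8.e8 ⟨c1, h.s8.sq c hc⟩ (H2.QS.commutator_eq qs) hL
      (VL k)) fun k => aL (VL k))) (h.s8.v4 h.ha hc h.a1 c1 ac).ts1 ((commutator_mono le_rfl
    (zpowers_le.2 (mul_mem (mem_sup_left (mem_zpowers a)) (mem_sup_right (mem_zpowers c))))).trans
    (H1.commutator_sup_le (zpowers_le.2 (nC (h.yS h.ha))) (zpowers_le.2 (nC (h.yS hc)))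
      (h.comm_le.trans hY) (comm_le_of_mem (inf_le_right.trans nC)
        (zpowers_le.1 (P5.Mx.zpowers_le_cent_iff.2 hL)))))

theorem core_eq_bot' {r : ℕ} (hr : r.Prime) (rp : r ≠ p) : pCoreOf r 𝐍(Y) = ⊥ := by
  haveI := Fact.mk h.hp
  have hB := H2.isPGroup_pCoreOf r 𝐍(Y)
  have nB := (pCoreOf_normal r 𝐍(Y)).2
  have hY : Y ≤ 𝐂(pCoreOf r 𝐍(Y)) := h.core_eq.ge.trans (P5.Mx.pCoreOf_le_cent h.hp hr rp.symm _)
  generalize pCoreOf r 𝐍(Y) = B at hB nB hY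
  have hQ := fun a => H2.isPGroup_pCoreOf p (M a)
  have nQ := fun a => (pCoreOf_normal p (M a)).2
  have cop := fun a => P5.Mx.coprime_of_primes hr h.hp rp hB (hQ a)
  have bot : ∀ s ∈ S, s ≠ 1 → ∀ X ≤ B, X ≤ M s → X ≤ 𝐂(pCoreOf p (M s)) → X = ⊥ :=
    fun s hs s1 X h1 h2 h3 => eq_bot_iff.2 (H1.inf_eq_bot_of_coprime' (cop s) ▸
      le_inf h1 ((le_inf h2 h3).trans (h.cp hs s1)))
  have h1 : B ⊓ M a = ⊥ := bot a h.ha h.a1 _ inf_le_left inf_le_right (H1.pxq_lemma h.yp (hQ a)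
    (h.yM.trans (nQ a)) (inf_le_right.trans (nQ a)) (hY.trans (centralizer_le inf_le_left))
    (H1.coprime_of_le (cop a) inf_le_left le_rfl) (P5.Mx.le_cent_of_le inf_le_left inf_le_left
      (inf_le_right.trans ((centralizer_le_normalizer _).trans nB)) (inf_le_right.trans (nQ a))
      (cop a).symm))
  have SB := h.yS.trans nB
  have h2 : ∀ X, X ≤ M a → B ⊓ X = ⊥ := fun X k => eq_bot_iff.2 (h1 ▸ inf_le_inf_left B k)
  rcases eq_or_ne r 2 with rfl | r2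
  · rw [← h2 S (h.sle h.ha h.a1), inf_of_le_left (h.s8.le_of_two hB SB)]
  have oB := P6.odd_of_isPGroup hr r2 hB
  have aa := h.s8.sq a h.ha
  by_contra h0
  obtain ⟨R, hR, PR⟩ := exists_mx h.pM h.pp h.pS
  obtain ⟨z, hz, z1, nz, cz, b, hb, c, hc, v, zb, zc⟩ := h.s8.exists_eig
    (h.odd (hR.pg.to_le (inf_le_left : 𝐙(R) ≤ R)))
    (H1.le_normalizer_inf hR.inv (H1.le_normalizer_centralizer hR.inv))
    (center_ne_bot hR.pg.isNilpotent fun k => h.P_ne (eq_bot_iff.2 (k ▸ PR)))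
  have oz := P6.odd_orderOf_of_mem (h.odd hR.pg) hz.1
  have zC := centralizer_le (hR.core_le (h.sle h.ha h.a1)) hz.2
  have zQ := h.cp h.ha h.a1 ⟨hR.le hz.1, zC⟩
  have zN := centralizer_le_normalizer _ (centralizer_le (h.le_P.trans PR) hz.2)
  have h3 := h2 _ ((P5.Mx.cent1_le_norm_zpowers z).trans (h.norm_le_of_mx h.ha h.a1 hR
    (zpowers_ne_bot.2 z1) (P6.Inv.solv z) ((P5.Mx.zpowers_le_cent_iff.1 (zpowers_le.2 hz.2)).trans
      (P5.Mx.cent1_le_norm_zpowers z)) nz))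
  have za : z ∈ 𝐂[a] := (cz a h.ha).resolve_right fun k => h0 (h3 ▸ (inf_of_le_left
    (P5.Mx.zpowers_le_cent_iff.1 (zpowers_le.2 (hY (h.comm_le
      (mem_comm_of_inv ⟨zQ, zN⟩ oz aa k)))))).symm)
  have h4 := h2 _ (h.le a h.ha h.a1)
  have key : ∀ s ∈ S, s ≠ 1 → z ∈ 𝐂[s] → B ⊓ 𝐂[s] ≤ ⊥ := fun s hs s1 zs => by
    have hC := h.le s hs s1
    refine (bot s hs s1 _ inf_le_left (inf_le_right.trans hC) (avg (h.odd (hQ s))
      (P6.odd_of_le inf_le_left oB) (inf_le_right.trans (hC.trans (nQ s)))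
      (H1.coprime_of_le (cop s) inf_le_left le_rfl) aa (nQ s (h.sle hs s1 h.ha)) (nQ s (hC zs))
      (fun y hy => inv_of_cent oB aa (SB h.ha) h4 y hy.1) (H1.le_normalizer_inf
        (zpowers_le.2 (nB zN)) (zpowers_le.2 (le_normalizer zs)) (mem_zpowers z)) (mc.1 za) oz
      (eq_bot_iff.2 (h3 ▸ inf_le_inf_right _ inf_le_left)) fun x _ hx => ?_)).le
    exact commutatorElement_eq_one_iff_mul_comm.2 (zC _ (H1.commutator_le_of_le_normalizer (nQ a)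
      (commutator_mem_commutator zQ (h.le a h.ha h.a1 (mc.2 hx))))).symm
  obtain ⟨w, hw, v', zw⟩ : ∃ w ∈ S, V4 a w ∧ z ∈ 𝐂[w] :=
    (exists_v4_with h.s8 h.ha h.a1 hb hc v).elim (⟨b, hb, ·, zb⟩) (⟨c, hc, ·, zc⟩)
  exact h0 (eq_bot_iff.2 (V4.le_of_cent v' oB (SB h.ha) (SB hw) h4.le (key w hw v'.s1 zw)
    (key _ (mul_mem h.ha hw) v'.ts1 (cent_symm (mul_mem (cent_symm za) (cent_symm zw))))))

theorem false : False := by
  haveI := Fact.mk h.hp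
  haveI := h.pp.isNilpotent
  have cp := cp_of h.hp h.lay'' fun _ => h.core_eq_bot'
  have h1 := h.norm_le' (H2.zl_ne_bot h.P_ne) (H2.zl_le P) (H2.normalizer_le_normalizer_zl P)
  have h2 := h.mx.Od_le h.s8 h.hp h.p2 h.yS cp
  have hC := h.le a h.ha h.a1
  have nK := P6.Od_normal 𝐍(Y)
  obtain ⟨g, hg, ga⟩ := SetLike.not_le_iff_exists.1 fun k => h.yN (((h.s8.zs h.yS h.ha k).le_sup
    (h.s8.sq a h.ha)).trans (sup_le (h2.trans h1) (inf_le_right.trans hC)))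
  rcases k4 h.ind h.s8 h.yS (h.lt h.ne_top) with k | k
  · have n : 𝐍(Y) ⊓ 𝐍(S) ≤ 𝐍(Od (𝐍(Y) ⊓ 𝐂(S)) ⊔ Od 𝐍(Y)) := H1.le_normalizer_sup
      ((H1.le_normalizer_inf (inf_le_left.trans le_normalizer) (inf_le_right.trans
        (H1.normalizer_le_normalizer_centralizer S))).trans (P6.norm_le_norm_Od _))
      (inf_le_left.trans nK.2)
    have l := (P6.Od_normal (𝐍(Y) ⊓ 𝐂(S))).1.trans inf_le_left
    have ho := P5.Mx.odd_sup (l.trans nK.2) (P6.odd_Od _) (P6.odd_Od _)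
    have nS := (le_inf h.yS le_normalizer).trans n
    have s1 := h.mx.isSyl h.s8 h.hp (by
      rw [← H1.commutator_sup_centralizer h.pS (h.s8.coprime (h.odd h.pp)) (Or.inl h.s8.solv)]
      exact sup_le ((k P h.pN (h.odd h.pp) h.pS).trans le_sup_right) ((h.s8.le_Od
        (le_inf h.yS h.s8.le_cent) (inf_le_left.trans inf_le_right) (inf_le_inf_right _ h.pN)
        (h.odd (h.pp.to_le inf_le_left))).trans le_sup_left)) (sup_le l nK.1) ho nS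
    have s2 := s1.conj_of_mem_norm (n hg)
    obtain ⟨c, hc, e⟩ := H1.invariant_sylow_conj nS (h.s8.coprime ho) (Or.inl h.s8.solv) s1.le
      s1.pgrp s1.ndvd h.pS s2.le s2.pgrp s2.ndvd
      ((conj_eq_of_mem_norm hg.2).ge.trans (conj_le_norm_iff.2 h.pS))
    exact ga (h.norm_le h.ha h.a1 (h.co a h.ha h.a1).1 hC ⟨(mul_mem_cancel_left
      (hC (h.s8.cent_le h.ha hc.2))).1 (h.norm_le' h.P_ne le_rfl le_rfl
        (conj_eq_self_iff.1 ((conj_conj P c g).symm.trans e))), hg.2⟩)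
  obtain ⟨C, N, c1, c2, n1, n2, n3⟩ := zl_dich h.s8.e8 h.hp h.p2 cp h.pp h.pN (h.mx.core_le h.yS)
  have c3 := c2.trans ((centralizer_le_normalizer _).trans h1)
  have gS := h.s8.conj_mem hg.2 h.ha
  have g1 := ((⟨h.a1, h.s8.sq a h.ha⟩ : P6.Inv a).conj g).ne
  have h3 := k N n1 (n3 (H1.isSolvable_of_le (le_inf c3 (by
    rw [h.cj a h.ha h.a1, ← conj_eq_of_mem_norm (c1.2 hg.1)]
    exact conj_mono c3 g)) (h.solv_inf h.ha gS (h.s8.v4 h.ha gS h.a1 g1 fun e =>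
      ga (mem_cent1_iff_conj.2 e.symm)) (h.co a h.ha h.a1).1 (h.co _ gS g1).1 hC (h.le _ gS g1))))
    _ n2 (h.odd (h.pp.to_le (H2.puig_le P)))
  have h4 : zl (P ⊓ Od 𝐍(Y)) = zl P :=
    congrArg H5.zOf (H2.puig_eq_of_le (le_inf (H2.puig_le P) h3) inf_le_left)
  refine h.yN (le_trans ?_ h1)
  rw [← ((h.mx.isSyl_sup h.s8 h.hp h.p2 h.yS).inf_normal h.hp ⟨le_sup_right,
    (sup_le h.pN nK.1).trans nK.2⟩).frattini h.hp nK]
  exact sup_le h2 (inf_le_right.trans (h4 ▸ H2.normalizer_le_normalizer_zl _))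

end XE

/-- The centralizer of an involution has trivial odd core. -/
theorem jrf_of_ind (hA : L2Api.{u}) (e : E8 G) (hI : Ind3.{u} (Nat.card G)) {t : G}
    (ht : orderOf t = 2) (ns : ¬ Group.IsSolvable 𝐂[t]) : ∃ L q, JRF t L q := by
  have it := P6.inv_of_orderOf ht
  obtain ⟨S, h, tS⟩ := exists_OH e hI (noT_aux hA _ G rfl inferInstance e hI) it ns
  by_contra hcon
  obtain ⟨p, M, h1⟩ := OL.exists_OM ⟨h, fun a ha a1 => by_contra fun k => by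
    obtain ⟨L, q, h1⟩ := h.jrf ha a1 k
    obtain ⟨g, -, rfl⟩ := h.trans a ha t tS a1 it.ne
    exact hcon ⟨_, q, jrf_cj h1 g⟩⟩
  obtain ⟨a, Y, P, h2⟩ := h1.exists_XE
  exact h2.false

omit [Finite G] [IsSimpleGroup G] in
theorem jrfHyp : JrfHyp.{u} := fun _ _ _ _ e hI _ _ ht ns => jrf_of_ind l2Api e hI ht ns

end Cfsg.Agent.P7
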