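/-
Janko-Ree type with field automorphisms: the centralizers of the elements of `Φ`.
-/
import Cfsg.Agent.P7.Z0
import Cfsg.Agent.H6.PiElem

set_option autoImplicit false
set_option linter.unusedSectionVars false

namespace Cfsg.Agent.P7.Z

open Subgroup Cfsg Cfsg.Agent Cfsg.Agent.FT
open Cfsg.Agent.H2 (pPrimeCoreOf)
open Cfsg.Agent.P5 (V4 Tri)
open Cfsg.Agent.P6 (Inv Od Qt pr)
open scoped commutatorElement

universe u

variable {G : Type u} [Group G] [Finite G]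

theorem relIndex_seven {S N : Subgroup G} (hS : S8 S) {t : G} (ht : t ∈ S) (t1 : t ≠ 1)
    (hN : N ≤ 𝐍(S)) (tr : ∀ b ∈ S, b ≠ 1 → ∃ g ∈ N, g * t * g⁻¹ = b) : 𝐂[t].relIndex N = 7 := by
  rw [← H6.ncard_conj_orbit, show 7 = 𝐨(S) - 1 by rw [hS.card], ← ncard_sharp]
  congr 1
  ext b
  refine ⟨?_, fun hb => tr b hb.1 hb.2⟩
  rintro ⟨g, hg, rfl⟩
  exact ⟨hS.conj_mem (hN hg) ht, by simpa using t1⟩

theorem card_cent_jr {a : G} {L : Subgroup G} {q : ℕ} (h : JR a L q) :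
    𝐨(𝐂[a]) = q * (q - 1) * (q + 1) ∧ 𝐨(𝐂[a]) = 𝐨(L) * 2 := by
  have := KO.card_sup_zpowers (P6.inv_of_orderOf h.inv) h.normal.1 (KO.jrf_not_mem h.toJRF)
  rw [sup_comm, ← h.exact] at this
  exact ⟨by rw [this, ← KO.isL2_card h.l2, mul_comm], this⟩

theorem big_facts [IsSimpleGroup G] (e : E8 G) (h8 : 8 ∣ Nat.card G) (h : Big3 G) {a : G}
    (ha : Inv a) : (∀ b : G, Inv b → IsConj a b) ∧ ((𝐨(𝐂[a]) = 8 ∧ 𝐂[a].index = 63) ∨
      (Nat.card G = 175560 ∧ 𝐨(𝐂[a]) = 120 ∧ 𝐂[a].index = 1463) ∨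
      ∃ (L : Subgroup G) (q : ℕ), JR a L q ∧ (∃ m, q = 3 ^ m) ∧
        𝐂[a].index = q ^ 2 * (q ^ 2 - q + 1)) := by
  have hi := (𝐂[a] : Subgroup G).card_mul_index
  have jc : ∀ {t : G} {L : Subgroup G} {q : ℕ}, JR t L q → ∀ b : G, Inv b → IsConj a b :=
    fun h b hb => (h.conj a ha.orderOf_eq).symm.trans (h.conj b hb.orderOf_eq)
  rcases h with ⟨h, hc⟩ | ⟨t, L, h, hc⟩ | ⟨t, L, U, q, h⟩
  · obtain ⟨S, hS, h1⟩ := e.exists_s8 h8 ha.isPGroup
    have h2 : IsPGroup 2 (𝐂[a] : Subgroup G) := fun x =>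
      ⟨1, Subtype.ext (by simpa [pow_two] using h.sq_of_mem ha.ne ha.sq x x.2)⟩
    have h3 : 𝐂[a] = S := (hS.isSyl le_top).eq_of_le Nat.prime_two
      (hS.le_cent1 (h1 (mem_zpowers a))) le_top h2
    have h4 : 𝐨(𝐂[a]) = 8 := h3 ▸ hS.card
    refine ⟨fun b hb => ?_, Or.inl ⟨h4, by rw [h4, hc] at hi; omega⟩⟩
    by_contra hn
    have h5 : ∀ u : G, u * u = 1 → u ∈ 𝐂[a] := fun u hu => by
      by_contra hu'
      exact hn (h.isConj_of_invol ha.ne ha.sq hu (fun c => hu' (mem_cent1_iff_commute.2 c))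
        hb.ne hb.sq)
    have h6 : (𝐂[a] : Subgroup G).Normal := ⟨fun x hx g => h5 _ (by
      rw [conj_mul, h.sq_of_mem ha.ne ha.sq x hx]; simp)⟩
    rcases h6.eq_bot_or_eq_top with e | e
    · rw [e, card_bot] at h4; omega
    · rw [e, card_top, hc] at h4; omega
  · obtain ⟨L', h'⟩ := KO.jr_at h ha
    have h4 := (card_cent_jr h').1
    exact ⟨jc h, Or.inr (Or.inl ⟨hc, h4, by rw [h4, hc] at hi; omega⟩)⟩
  · obtain ⟨L', h'⟩ := KO.jr_at h.toJR ha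
    refine ⟨jc h.toJR, Or.inr (Or.inr ⟨L', q, h', h.pow, ?_⟩)⟩
    rw [(card_cent_jr h').1, h.card] at hi
    obtain ⟨c, rfl⟩ : ∃ c, q = c + 2 := ⟨q - 2, by have := h.big; omega⟩
    rw [show (c + 2) ^ 2 - (c + 2) = (c + 2) * (c + 1) from Nat.sub_eq_of_eq_add (by ring)]
    rw [show c + 2 - 1 = c + 1 from rfl] at hi
    exact Nat.eq_of_mul_eq_mul_left (show 0 < (c + 2) * (c + 1) * (c + 2 + 1) by positivity)
      (hi.trans (by ring))

theorem cube_inj {a b : ℕ} (ha : 1 ≤ a) (hb : 1 ≤ b)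
    (h : a * (a - 1) * (a + 1) = b * (b - 1) * (b + 1)) : a = b := by
  obtain ⟨a, rfl⟩ := Nat.exists_eq_add_of_le' ha
  obtain ⟨b, rfl⟩ := Nat.exists_eq_add_of_le' hb
  rw [Nat.add_sub_cancel, Nat.add_sub_cancel] at h
  rcases lt_trichotomy a b with k | k | k
  · obtain ⟨c, rfl⟩ := Nat.exists_eq_add_of_lt k
    nlinarith [Nat.zero_le (a * c), Nat.zero_le (a * a * c), Nat.zero_le (a * c * c),
      Nat.zero_le (c * c * c), Nat.zero_le (c * c), Nat.zero_le (a * a)]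
  · rw [k]
  · obtain ⟨c, rfl⟩ := Nat.exists_eq_add_of_lt k
    nlinarith [Nat.zero_le (b * c), Nat.zero_le (b * b * c), Nat.zero_le (b * c * c),
      Nat.zero_le (c * c * c), Nat.zero_le (c * c), Nat.zero_le (b * b)]

variable {t s s0 : G} {L : Subgroup G} {q : ℕ} (h : JRF t L q) (F : Fr 𝐂[t] L t q s s0)

section
include F

theorem R0_le (j : G) : R0 L j ≤ L ⊓ 𝐂[j] := (P6.Od_normal _).1

theorem x_order : orderOf F.x = 3 := orderOf_eq_prime F.x3 fun e => x_not F (e ▸ one_mem _)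

theorem card_A4 : 𝐨((V2 s s0 ⊔ zpowers F.x : Subgroup G)) = 12 := by
  rw [sup_comm, H1.card_sup_of_coprime (zpowers_le.2 (F.tri.mem_norm (v4 F)))
    (by rw [Nat.card_zpowers, x_order F, (v4 F).card]; norm_num), Nat.card_zpowers, x_order F,
    (v4 F).card]

end

include h F

theorem SL : S3 t s s0 ⊓ L = V2 s s0 := by
  rw [sup_inf_of_le_left (zpowers_le.2 (cent_le_norm _ (V4.le_cent_iff.2
    ⟨mem_cent1_comm.1 (LC F (sL F)), mem_cent1_comm.1 (LC F (s0L F))⟩))) (VL F), sup_eq_left]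
  intro y hy
  rcases (inv_t h F).mem_zpowers_iff.1 hy.1 with rfl | rfl
  exacts [one_mem _, absurd hy.2 (KO.jrf_not_mem h)]

theorem sdp : SdProd (L ⊔ zpowers t) (Phi 𝐂[t] s s0) 𝐂[t] := by
  have h1 : zpowers t ≤ 𝐂[t] := zpowers_le.2 (self_mem_cent1 t)
  refine ⟨le_antisymm (sup_le (sup_le (LC F) h1) (phiC F)) fun g hg => ?_,
    (phiC F).trans (H1.le_normalizer_sup (CN F) fun g hg => nZp hg),
    eq_bot_iff.2 fun φ hφ => F.disj φ hφ.2 hφ.1⟩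
  obtain ⟨a, ha, φ, hφ, e | e⟩ := F.dec g hg
  · exact e ▸ mul_mem (mem_sup_left (mem_sup_left ha)) (mem_sup_right hφ)
  · exact e ▸ mul_mem (mem_sup_left (mul_mem (mem_sup_right (mem_zpowers t)) (mem_sup_left ha)))
      (mem_sup_right hφ)

theorem relIndex_phi : (Phi 𝐂[t] s s0).relIndex 𝐂[t] = 𝐨(L) * 2 := by
  rw [(sdp h F).relIndex_right, KO.card_sup_zpowers (inv_t h F) (LC F) (KO.jrf_not_mem h)]

theorem le_phi_of_cent {D : Subgroup G} (ho : Odd 𝐨(D)) (hD : D ≤ 𝐂(S3 t s s0)) :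
    D ≤ Phi 𝐂[t] s s0 :=
  (phi_eq F).symm ▸ (s8 h F).le_Od (s8 h F).le_cent inf_le_left hD ho

theorem le_phi {D : Subgroup G} (hD : D ≤ 𝐂[t]) (ho : Odd 𝐨(D)) (h1 : s ∈ 𝐍(D)) (h2 : s0 ∈ 𝐍(D))
    (h3 : F.x ∈ 𝐍(D)) : D ≤ Phi 𝐂[t] s s0 := by
  have v := v4 F
  have cj : ∀ j, D ≤ 𝐂[j] → D ≤ 𝐂[F.x * j * F.x⁻¹] := fun j hj => by
    rw [cent1_conj]
    exact (conj_eq_of_mem_norm h3).ge.trans (conj_mono hj _)
  have c1 : D ≤ 𝐂[s] → D ≤ 𝐂[s0] := fun k => F.tri.1 ▸ cj _ k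
  have c2 : D ≤ 𝐂[s0] → D ≤ 𝐂[s * s0] := fun k => F.tri.2 ▸ cj _ k
  have c3 : D ≤ 𝐂[s * s0] → D ≤ 𝐂[s] := fun k => by
    have := cj _ k
    rwa [F.tri.third v] at this
  have p1 : ∀ j ∈ V2 s s0, R0 L j ⊔ Phi 𝐂[t] s s0 ≤ 𝐂[j] := fun j hj =>
    sup_le ((R0_le F j).trans inf_le_right)
      ((phi_centS F).trans (cent_le_cent1 (mem_sup_left hj)))
  have k : D ≤ 𝐂[s] := by
    rcases F.vinv D hD ho h1 h2 with k | k | k
    · exact k.trans (p1 _ P5.V4.t_mem)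
    · exact c3 (c2 (k.trans (p1 _ P5.V4.s_mem)))
    · exact c3 (k.trans (p1 _ (mul_mem P5.V4.t_mem P5.V4.s_mem)))
  exact le_phi_of_cent h F ho ((centS F).symm ▸ le_inf hD (le_inf k (c1 k)))

theorem normS_cent {y : G} (hy : y ∈ Phi 𝐂[t] s s0) : 𝐍(S3 t s s0) ≤ 𝐂[y] :=
  (normS_le h F).trans (cent_le_cent1 hy)

theorem S_cent {y : G} (hy : y ∈ Phi 𝐂[t] s s0) : S3 t s s0 ≤ 𝐂[y] :=
  le_normalizer.trans (normS_cent h F hy)

theorem one_class {X : Subgroup G} (hX : 𝐍(S3 t s s0) ≤ X) {a : G} (ha : Inv a) (aX : a ∈ X) :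
    ∃ c ∈ X, c * t * c⁻¹ = a := by
  have hS := s8 h F
  obtain ⟨g, hg, e⟩ := (hS.isSyl (le_normalizer.trans hX)).exists_conj_le Nat.prime_two
    ha.isPGroup (zpowers_le.2 aX)
  obtain ⟨n, hn, e'⟩ := transS h F (tS F) (e (conj_mem_conj (mem_zpowers a) g)) (inv_t h F).ne
    (ha.conj g).ne
  refine ⟨g⁻¹ * n, mul_mem (inv_mem hg) (hX hn), ?_⟩
  calc _ = g⁻¹ * (n * t * n⁻¹) * g := by group
    _ = a := by rw [e']; group

theorem Od_le_phi {X : Subgroup G} (hX : 𝐍(S3 t s s0) ≤ X) : Od X ≤ Phi 𝐂[t] s s0 := by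
  have hS := s8 h F
  have hN := (P6.Od_normal X).2
  have hSX := le_normalizer.trans hX
  have k : Od X ⊓ 𝐂[t] ≤ Phi 𝐂[t] s s0 := le_phi h F inf_le_right
    (P6.odd_of_le inf_le_left (P6.odd_Od X))
    (nInf (hN (hSX (sS F))) (le_normalizer (LC F (sL F))))
    (nInf (hN (hSX (s0S F))) (le_normalizer (LC F (s0L F))))
    (nInf (hN (hX (xS F))) (le_normalizer (LC F F.xL)))
  have key : ∀ a ∈ S3 t s s0, a ≠ 1 → Od X ⊓ 𝐂[a] ≤ Phi 𝐂[t] s s0 := fun a ha a1 => by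
    obtain ⟨n, hn, rfl⟩ := transS h F (tS F) ha (inv_t h F).ne a1
    have := conj_mono k n
    rwa [conj_inf, conj_eq_of_mem_norm (hN (hX hn)), conj_eq_of_mem_norm (normS_phi F hn),
      ← cent1_conj] at this
  have v := v4 F
  exact V4.le_of_cent v (P6.odd_Od X) (hN (hSX (sS F))) (hN (hSX (s0S F))) (key _ (sS F) v.t1)
    (key _ (s0S F) v.s1) (key _ (mul_mem (sS F) (s0S F)) v.ts1)

theorem exists_cent {y g : G} (hy : y ∈ Phi 𝐂[t] s s0) (hg : g⁻¹ * y * g ∈ 𝐂[t]) :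
    ∃ c ∈ 𝐂[y], c⁻¹ * g ∈ 𝐂[t] := by
  obtain ⟨c, hc, e⟩ := one_class h F (normS_cent h F hy) ((inv_t h F).conj g) (by
    rw [mem_cent1_comm, cent1_conj, mem_conj]; exact hg)
  refine ⟨c, hc, mem_cent1_iff_conj.2 ?_⟩
  calc _ = c⁻¹ * (g * t * g⁻¹) * c := by group
    _ = t := by rw [← e]; group

theorem not_comm : ¬ IsMulCommutative G := fun hc =>
  x_not F (mem_cent1.2 (hc.is_comm.comm _ _))

section Simple

variable [IsSimpleGroup G]

theorem perfect : ⁅(⊤ : Subgroup G), (⊤ : Subgroup G)⁆ = ⊤ :=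
  H9.commutator_eq_top_of_simple (not_comm h F)

theorem cent_ne_top {y : G} (y1 : y ≠ 1) : 𝐂[y] ≠ ⊤ := fun e => by
  have h1 : y ∈ center G := mem_center_iff.2 fun g => (mem_cent1.1 (e.ge (mem_top g))).symm
  rcases (inferInstance : (center G).Normal).eq_bot_or_eq_top with k | k
  · exact y1 (k.le h1)
  · exact not_comm h F ⟨⟨fun a b => mem_center_iff.1 (k.ge (mem_top b)) a⟩⟩

theorem orderOf_dvd_index {y : G} (hy : y ∈ Phi 𝐂[t] s s0) : orderOf y ∣ 𝐂[t].index := by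
  refine orderOf_dvd_of_pow_eq_one (phiL F (pow_mem hy _) (der_le F
    (P6.pow_index_mem_der (perfect h F) (phiC F hy) fun k g hg => ?_)))
  obtain ⟨c, hc, e⟩ := exists_cent h F (pow_mem hy k) (g := g⁻¹) (by rwa [inv_inv])
  refine ⟨g * c, by simpa using inv_mem e, ?_⟩
  calc _ = g * (c * y ^ k * c⁻¹) * g⁻¹ := by group
    _ = _ := by rw [mem_cent1_iff_conj.1 hc]

theorem dvd_relIndex {r k : ℕ} (hr : r.Prime) {y : G} (hy : y ∈ Phi 𝐂[t] s s0) (y1 : y ≠ 1)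
    (ho : orderOf y = r ^ k) : r ∣ 𝐂[t].relIndex 𝐂[y] := by
  refine ((index_modEq hr ho (phiC F hy) fun g hg => exists_cent h F hy hg).dvd_iff dvd_rfl).1
    (Dvd.dvd.trans ?_ (orderOf_dvd_index h F hy))
  rw [ho]
  exact dvd_pow_self r fun e => y1 (by rwa [e, pow_zero, orderOf_eq_one_iff] at ho)

theorem cases0 (hI : Ind3.{u} (Nat.card G)) {y : G} (hy : y ∈ Phi 𝐂[t] s s0) (y1 : y ≠ 1) :
    ∃ q0, q0 ^ orderOf y = q ∧ 3 ≤ q0 ∧ ((q0 = 3 ∧ 𝐂[t].relIndex 𝐂[y] = 7) ∨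
      (q0 * (q0 - 1) * (q0 + 1) ∣ 240 ∧ 𝐂[t].relIndex 𝐂[y] = 1463 ∧
        ∃ Y : Subgroup (Qt 𝐂[y]), Y.Normal ∧ IsSimpleGroup Y ∧ 𝐨(Y) = 175560) ∨
      ((∃ m, q0 = 3 ^ m) ∧ 𝐂[t].relIndex 𝐂[y] = q0 ^ 2 * (q0 ^ 2 - q0 + 1))) := by
  obtain ⟨q0, k0, l0, e0, -, -, -, -, hL0⟩ := F.fix y hy
  have hS := s8 h F
  have v := v4 F
  have it := inv_t h F
  have hne := cent_ne_top h F y1
  have hN := normS_cent h F hy
  generalize 𝐂[y] = X at *
  have hSX : S3 t s s0 ≤ X := le_normalizer.trans hN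
  have hO := Od_le_phi h F hN
  have hOX := (P6.Od_normal X).1
  have tX := hSX (tS F)
  have hlt : 𝐨(X) < Nat.card G := by
    rw [← card_top (G := G)]; exact H1.card_lt_of_lt (lt_top_iff_ne_top.2 hne)
  have hSb := hS.bar hSX
  have h8 : 8 ∣ Nat.card (Qt X) := by rw [← card_top]; exact hSb.dvd le_top
  have hVL : V2 s s0 ≤ L ⊓ X := le_inf (VL F) (le_sup_left.trans hSX)
  have q3 : 3 ≤ q0 := by
    rcases hL0 with k | k
    exacts [k.1.ge, (by norm_num : 3 ≤ 5).trans k.five]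
  have cL0 : 2 * 𝐨((L ⊓ X : Subgroup G)) = q0 * (q0 - 1) * (q0 + 1) := by
    rcases hL0 with k | k
    · rw [k.2, card_A4 F, k.1]
    · exact KO.isL2_card k
  refine ⟨q0, e0, q3, ?_⟩
  obtain ⟨tb, htb⟩ : ∃ tb, tb = pr X ⟨t, tX⟩ := ⟨_, rfl⟩
  have itb : Inv tb := htb ▸ it.pr tX
  have hC : H1.bar X (Od X) (X ⊓ 𝐂[t]) = 𝐂[tb] := htb ▸ KO.bar_cent tX it.sq
  have cjb : ∀ z : Qt X, Inv z → ∃ g, g * tb * g⁻¹ = z := fun z hz => by
    obtain ⟨a, aX, ia, rfl⟩ := P6.exists_inv_lift hz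
    obtain ⟨c, hc, rfl⟩ := one_class h F hN ia aX
    exact ⟨pr X ⟨c, hc⟩, by rw [htb, ← map_inv, ← map_mul, ← map_mul]; rfl⟩
  have hi : 𝐂[t].relIndex X = 𝐂[tb].index := by
    rw [← hC, ← relIndex_top_right, ← H1.bar_top, H1.relIndex_bar hOX inf_le_left le_rfl,
      sup_of_le_left hOX, sup_of_le_left (le_inf hOX (hO.trans (phiC F))), inf_relIndex_left]
  rcases struct8 hI (KO.card_bar_lt hlt) (KO.e8_bar h.e8 X) (KO.Od_bar X) with
    ⟨S', n1, n2, n3⟩ | ⟨L', c, q', hc, hl⟩ | ⟨Y, n1, n2, n3, -, n5⟩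
  · have e1 : S' = H1.bar X (Od X) (S3 t s s0) :=
      (hSb.isSyl le_top).eq_of_le Nat.prime_two
        ((⟨le_top, n2, by rwa [relIndex_top_right]⟩ : IsSyl 2 S' ⊤).le_of_normal Nat.prime_two
          (normal_iff_top_le.1 n1) hSb.isPGroup le_top) le_top n2
    subst e1
    have k1 := H1.le_normalizer_unbar_of_normal (H1.bar X (Od X) (S3 t s s0))
    rw [H1.unbar_bar hOX hSX] at k1
    have k2 : S3 t s s0 ⊔ Od X ≤ 𝐂(S3 t s s0) := sup_le hS.le_cent (hO.trans (phi_centS F))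
    have k3 : X ≤ 𝐍(S3 t s s0) := fun g hg => mem_norm_of_conj_le
      ((hS.isSyl le_sup_left).le_of_normal Nat.prime_two (k2.trans (cent_le_norm _))
        (hS.cj g).isPGroup (conj_le_of_mem_norm le_sup_left (k1 hg)))
    refine Or.inl ⟨hL0.elim (·.1) fun k => ?_, relIndex_seven hS (tS F) it.ne k3 fun b hb b1 =>
      (transS h F (tS F) hb it.ne b1).imp fun g hg => ⟨hN hg.1, hg.2⟩⟩
    have k4 : V2 s s0 ⊲ L ⊓ X :=
      ⟨hVL, fun g hg => SL h F ▸ nInf (k3 hg.2) (le_normalizer hg.1)⟩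
    have k5 := (KO.isL2_mod k).2
    rcases KO.simple_of (KO.isL2_simple k) k4 with e | e
    · exact absurd (e.le P5.V4.t_mem) v.t1
    · rw [← e, v.card] at k5; omega
  · by_cases c1 : c = 1
    · exact absurd h8 (KO.lm_one (c1 ▸ hl))
    obtain ⟨g, e⟩ := cjb c ⟨c1, hl.tt⟩
    have e1 : tb = c := by
      calc _ = g⁻¹ * (g * tb * g⁻¹) * g := by group
        _ = c := by rw [e, mem_center_iff.1 hc]; group
    have sX := hSX (sS F)
    obtain ⟨g', e'⟩ := cjb _ (Inv.pr ⟨v.t1, v.tt⟩ sX)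
    rw [e1, mem_center_iff.1 hc, mul_inv_cancel_right, ← e1, htb, P6.pr_eq_iff] at e'
    have := hS.eq_one (P6.odd_Od X) (mul_mem (inv_mem (tS F)) (sS F)) e'
    exact absurd (inv_mul_eq_one.1 this ▸ sL F) (KO.jrf_not_mem h)
  · right
    have hYi := KO.odd_index (KO.e8_bar h.e8 X) n3
    have tY : tb ∈ Y := KO.mem_of_odd_index hYi itb.sq
    have ia : Inv (⟨tb, tY⟩ : Y) := ⟨fun e => itb.ne (congrArg Subtype.val e), Subtype.ext itb.sq⟩
    obtain ⟨b1, b2⟩ := big_facts ((KO.e8_bar h.e8 X).sub Y) n3 n5 ia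
    have hCa := H9.centralizer_coe_subgroupOf Y ⟨tb, tY⟩
    have hi2 : 𝐂[tb].index = 𝐂[(⟨tb, tY⟩ : Y)].index := by
      rw [hCa, ← relIndex_top_right, ← H6.ncard_conj_orbit]
      change _ = 𝐂[tb].relIndex Y
      rw [← H6.ncard_conj_orbit]
      congr 1
      ext b
      refine ⟨?_, fun ⟨g, _, e⟩ => ⟨g, mem_top g, e⟩⟩
      rintro ⟨g, -, rfl⟩
      have ib := itb.conj g
      obtain ⟨c, hc⟩ := isConj_iff.1 (b1 ⟨_, n1.conj_mem _ tY g⟩
        ⟨fun e => ib.ne (congrArg Subtype.val e), Subtype.ext ib.sq⟩)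
      exact ⟨c, c.2, congrArg Subtype.val hc⟩
    rw [← hi2, ← hi] at b2
    have cb : 𝐨(H1.bar X (Od X) (L ⊓ X)) = 𝐨((L ⊓ X : Subgroup G)) :=
      card_bar_of_disj inf_le_right (eq_bot_iff.2 fun φ hφ => phiL F (hO hφ.1) hφ.2.1)
    have d1 : IsL2 (L ⊓ X) q0 → 𝐨((L ⊓ X : Subgroup G)) ∣ 𝐨(𝐂[(⟨tb, tY⟩ : Y)]) := fun k => by
      have k1 : (L ⊓ X) ⊓ H1.unbar X (Od X) Y ⊲ L ⊓ X := ⟨inf_le_left, H1.le_normalizer_inf
        le_normalizer (inf_le_right.trans (H1.le_normalizer_unbar_of_normal Y))⟩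
      have sX := hSX (sS F)
      have k2 : L ⊓ X ≤ H1.unbar X (Od X) Y := by
        rcases KO.simple_of (KO.isL2_simple k) k1 with e | e
        · exact absurd (e.le ⟨⟨sL F, sX⟩, H1.mem_unbar.2 ⟨sX,
            KO.mem_of_odd_index hYi (KO.pr_sq sX v.tt)⟩⟩) v.t1
        · exact e.ge.trans inf_le_right
      rw [hCa, ← inf_subgroupOf_right _ Y, H2.card_subgroupOf_of_le inf_le_right, ← cb]
      exact Subgroup.card_dvd_of_le (le_inf (hC ▸ H1.bar_mono (le_inf inf_le_right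
        (inf_le_left.trans (LC F)))) ((H1.bar_le_iff inf_le_right).2 k2))
    rcases b2 with ⟨c1, c2⟩ | ⟨c1, c2, c3⟩ | ⟨L', q', c1, c2, c3⟩
    · have e : q0 = 3 := hL0.elim (·.1) fun k => by
        have k1 := Nat.le_of_dvd (by norm_num) (c1 ▸ d1 k)
        have k2 := KO.isL2_mod k
        omega
      exact Or.inr ⟨⟨1, e⟩, by rw [c2, e]; norm_num⟩
    · refine Or.inl ⟨?_, c3, Y, n1, n2, c1⟩
      rcases hL0 with k | k
      · rw [k.1]; norm_num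
      · rw [← cL0]; exact Nat.mul_dvd_mul_left 2 (c2 ▸ d1 k)
    · have d2 : 𝐨(L') ∣ 𝐨((L ⊓ X : Subgroup G)) := by
        rw [← cb, ← card_map_inj Y.subtype_injective, ← H2.QS.commutator_eq (KO.isL2_qs c1.l2),
          map_commutator]
        have k1 : L'.map Y.subtype ≤ H1.bar X (Od X) (X ⊓ 𝐂[t]) := by
          rw [hC, map_le_iff_le_comap]
          exact c1.normal.1.trans hCa.le
        refine Subgroup.card_dvd_of_le ((commutator_mono k1 k1).trans ?_)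
        rw [← H1.bar_commutator inf_le_left inf_le_left]
        exact H1.bar_mono (le_inf ((commutator_mono inf_le_right inf_le_right).trans (der_le F))
          ((FT.der_le _).trans inf_le_left))
      have m1 := KO.isL2_mod c1.l2
      have m2 := KO.isL2_card c1.l2
      have m3 := c1.l2.five
      have e : q0 = q' := by
        rcases hL0 with k | k
        · rw [k.2, card_A4 F] at d2
          have := Nat.le_of_dvd (by norm_num) d2
          obtain ⟨c, rfl⟩ := Nat.exists_eq_add_of_le m3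
          rw [show 5 + c - 1 = 4 + c by omega] at m2
          nlinarith [Nat.zero_le (c * c), Nat.zero_le (c * c * c)]
        · have d3 := d1 k
          rw [(card_cent_jr c1).2] at d3
          obtain ⟨j, hj⟩ := d2
          have m4 := KO.isL2_mod k
          rw [hj] at d3 m4
          have := Nat.le_of_dvd (by norm_num) (Nat.dvd_of_mul_dvd_mul_left (by omega) d3)
          refine cube_inj (by omega) (by omega) ?_
          rw [← cL0, ← m2, hj]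
          interval_cases j <;> omega
      exact Or.inr (e ▸ ⟨c2, c3⟩)

end Simple

end Cfsg.Agent.P7.Z
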