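/-
Janko-Ree type with field automorphisms: the primes dividing `|Φ|`.
-/
import Cfsg.Agent.P7.Z1

set_option autoImplicit false
set_option linter.unusedSectionVars false

namespace Cfsg.Agent.P7

open Subgroup Cfsg Cfsg.Agent Cfsg.Agent.FT
open Cfsg.Agent.P6 (Inv Od Qt pr)

universe u

namespace Z

theorem modEq_of_pow {r a q0 q : ℕ} (hr : r.Prime) (e : q0 ^ r ^ a = q) : q ≡ q0 [MOD r] := by
  haveI := Fact.mk hr
  rw [← ZMod.natCast_eq_natCast_iff, ← e, Nat.cast_pow, ZMod.pow_card_pow]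

theorem cube_modEq {r a b : ℕ} (ha : 1 ≤ a) (hb : 1 ≤ b) (h : a ≡ b [MOD r]) :
    a * (a - 1) * (a + 1) ≡ b * (b - 1) * (b + 1) [MOD r] := by
  obtain ⟨a, rfl⟩ := Nat.exists_eq_add_of_le' ha
  obtain ⟨b, rfl⟩ := Nat.exists_eq_add_of_le' hb
  rw [Nat.add_sub_cancel, Nat.add_sub_cancel]
  exact (h.mul (Nat.ModEq.add_right_cancel' 1 h)).mul (h.add_right 1)

theorem quad_eq (a : ℕ) : (a + 1) ^ 2 - (a + 1) + 1 = (a + 1) * a + 1 := by
  rw [show (a + 1) ^ 2 - (a + 1) = (a + 1) * a from Nat.sub_eq_of_eq_add (by ring)]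

theorem quad_modEq {r a b : ℕ} (ha : 1 ≤ a) (hb : 1 ≤ b) (h : a ≡ b [MOD r]) :
    a ^ 2 - a + 1 ≡ b ^ 2 - b + 1 [MOD r] := by
  obtain ⟨a, rfl⟩ := Nat.exists_eq_add_of_le' ha
  obtain ⟨b, rfl⟩ := Nat.exists_eq_add_of_le' hb
  rw [quad_eq, quad_eq]
  exact (h.mul (Nat.ModEq.add_right_cancel' 1 h)).add_right 1

theorem eq_three_of_dvd {r a m : ℕ} (hr : r.Prime) (h : r ∣ a) (e : a = 3 ^ m) : r = 3 :=
  (Nat.prime_dvd_prime_iff_eq hr Nat.prime_three).1 (hr.dvd_of_dvd_pow (e ▸ h))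

theorem eq_three_of_both {r a : ℕ} (hr : r.Prime) (ha : 1 ≤ a) (h1 : r ∣ a ^ 2 - a + 1)
    (h2 : r ∣ a * (a - 1) * (a + 1)) : r = 3 := by
  obtain ⟨a, rfl⟩ := Nat.exists_eq_add_of_le' ha
  rw [quad_eq] at h1
  rw [Nat.add_sub_cancel] at h2
  rcases hr.dvd_mul.1 h2 with k | k
  · exact absurd ((Nat.dvd_add_right k).1 h1) hr.not_dvd_one
  · refine (Nat.prime_dvd_prime_iff_eq hr Nat.prime_three).1 ?_
    have := Nat.dvd_add (Dvd.dvd.mul_left k 1) h1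
    rw [show 1 * (a + 1 + 1) + ((a + 1) * a + 1) = (a + 1 + 1) * a + 3 by ring] at this
    exact (Nat.dvd_add_right (k.mul_right a)).1 this

variable {G : Type u} [Group G] [Finite G] {t s s0 : G} {L : Subgroup G} {q : ℕ}

theorem p_eq_three (F : Fr 𝐂[t] L t q s s0) {q0 k m : ℕ} (e : q0 ^ k = q) (h3 : q0 = 3 ^ m) :
    F.p = 3 := by
  have h1 : F.p ∣ q := (dvd_pow_self _ F.oddn.pos.ne').trans F.hq.symm.dvd
  exact eq_three_of_dvd F.hp h1 (by rw [← e, h3, ← pow_mul])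

theorem dvd_cube (F : Fr 𝐂[t] L t q s s0) {r a q0 : ℕ} (hr : r.Prime) (e : q0 ^ r ^ a = q)
    (h0 : 1 ≤ q0) (h : r ∣ 𝐨(L)) : r ∣ q0 * (q0 - 1) * (q0 + 1) :=
  ((cube_modEq (by have := F.five; omega) h0 (modEq_of_pow hr e)).dvd_iff dvd_rfl).1
    (KO.isL2_card F.lm.l2 ▸ h.mul_left 2)

end Z

open Z

variable {G : Type u} [Group G] [Finite G] {t s s0 : G} {L : Subgroup G} {q : ℕ}

theorem j0 [IsSimpleGroup G] (hI : Ind3.{u} (Nat.card G)) (h : JRF t L q)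
    (F : Fr 𝐂[t] L t q s s0) :
    ∀ r, r.Prime → r ∣ 𝐨(Phi 𝐂[t] s s0) → (r = 3 ∧ F.p = 3) ∨ ¬ r ∣ 𝐨(L) := by
  intro r hr hd
  obtain ⟨y, hy, ho⟩ := exists_mem_orderOf_eq_prime hr hd
  have y1 : y ≠ 1 := fun e => hr.one_lt.ne' (by rw [← ho, e, orderOf_one])
  have d := dvd_relIndex h F hr hy y1 (ho.trans (pow_one r).symm)
  obtain ⟨q0, e, h3, k⟩ := cases0 h F hI hy y1
  rw [ho, ← pow_one r] at e
  refine or_iff_not_imp_right.2 fun hn => ?_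
  have d2 := dvd_cube F hr e (by omega) (not_not.1 hn)
  rcases k with ⟨rfl, k⟩ | ⟨k1, k2, -⟩ | ⟨⟨m, hm⟩, k⟩
  · rw [k] at d
    exact absurd (Nat.dvd_gcd d d2) (by simpa using hr.one_lt.ne')
  · rw [k2] at d
    exact absurd (Nat.dvd_gcd d (d2.trans k1)) (by simpa using hr.one_lt.ne')
  · refine ⟨?_, p_eq_three F e hm⟩
    rw [k] at d
    rcases hr.dvd_mul.1 d with d | d
    · exact eq_three_of_dvd hr (hr.dvd_of_dvd_pow d) hm
    · exact eq_three_of_both hr (by omega) d d2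

end Cfsg.Agent.P7
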