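/-
Abelian Sylow 2-subgroups, `p` odd: control of strong `p`-fusion by the normalizer of `Z(L(Q))`.
-/
import Cfsg.Agent.P7.Z0
import Cfsg.Agent.H2.Puig
import Cfsg.Agent.FT.B.helper1_Core

set_option autoImplicit false
set_option linter.unusedSectionVars false

namespace Cfsg.Agent.P7.Z

open Subgroup Cfsg Cfsg.Agent Cfsg.Agent.FT
open Cfsg.Agent.H2 (pPrimeCoreOf zl)

universe u

variable {G : Type u} [Group G] [Finite G] {p : ℕ}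

instance ppNormal (p : ℕ) (K : Subgroup G) : ((pPrimeCoreOf p K).subgroupOf K).Normal :=
  H1.normal_subgroupOf_of_le (pPrimeCoreOf_normal p K).2

theorem zl_conj (S : Subgroup G) (g : G) : zl (S ^ᵍ g) = zl S ^ᵍ g :=
  H2.zl_map (H2.ker_inf_eq_bot_of_injective (conj_injective g) S)

theorem stab_bar (hp : p.Prime) (hp2 : p ≠ 2)
    (hab : ∀ T : Subgroup G, IsPGroup 2 T → IsMulCommutative T) (K N : Subgroup G)
    [(N.subgroupOf K).Normal] : H2.PStab p (K ⧸ N.subgroupOf K) := by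
  haveI := Fact.mk hp
  refine H2.pStab_of_abelian_sylow_two hp2 fun T hT => ?_
  obtain ⟨R, -, hR, rfl⟩ := H1.exists_isPGroup_map_eq (H1.qmk K N) (Q := ⊤)
    (by rw [map_top_of_surjective _ H1.qmk_surjective]; exact le_top) hT
  haveI : IsMulCommutative R :=
    (isMulComm_map_iff K.subtype_injective).1 (hab _ (hR.map K.subtype))
  infer_instance

theorem constr_bar (hp : p.Prime) {K Y : Subgroup G} (hY : Y ⊲ K) (hP : IsPGroup p Y)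
    (hs : Group.IsSolvable 𝐂(Y)) :
    𝐂(pCore p (K ⧸ (pPrimeCoreOf p K).subgroupOf K)) ≤ pCore p _ := by
  haveI := Fact.mk hp
  have hO := pPrimeCoreOf_normal p K
  have hc := H2.coprime_card_pPrimeCoreOf p K
  have h0 : pPrimeCoreOf p (⊤ : Subgroup (K ⧸ (pPrimeCoreOf p K).subgroupOf K)) = ⊥ := by
    rw [← H1.bar_top, pPrimeCoreOf_bar hp hO.1 le_rfl hc, H1.bar_self]
  rw [← H2.pCoreOf_top]
  obtain ⟨D, hD⟩ : ∃ D, D = pCoreOf p (⊤ : Subgroup (K ⧸ (pPrimeCoreOf p K).subgroupOf K)) :=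
    ⟨_, rfl⟩
  have hn : 𝐂(D) ⊲ ⊤ := ⟨le_top, H1.le_normalizer_centralizer (hD ▸ (pCoreOf_normal p ⊤).2)⟩
  have h1 : H1.bar K (pPrimeCoreOf p K) Y ≤ D := hD ▸ le_pCoreOf
    ⟨le_top, normal_iff_top_le.1 (H1.bar_normal hY.2)⟩ (H1.isPGroup_bar hP)
  have h2 : 𝐂(H1.bar K (pPrimeCoreOf p K) Y) ≤ H1.bar K (pPrimeCoreOf p K) 𝐂(Y) := by
    have := H1.centralizer_map_mk' ((pPrimeCoreOf p K).subgroupOf K) (A := Y.subgroupOf K)
      (by rw [H2.card_subgroupOf_of_le hY.1, H2.card_subgroupOf_of_le hO.1]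
          exact (H1.coprime_card_of_isPGroup hP hc).symm)
      (Or.inl (H1.isSolvable_of_isPGroup hP.comap_subtype))
    refine this.le.trans (map_mono fun x hx => mem_cent.2 fun y hy => ?_)
    exact congrArg Subtype.val (hx ⟨y, hY.1 hy⟩ hy)
  have h3 : Group.IsSolvable 𝐂(D) :=
    H1.isSolvable_of_le ((cent_anti h1).trans h2) (H1.isSolvable_bar hs)
  have h4 : pPrimeCoreOf p 𝐂(D) = ⊥ := eq_bot_iff.2 (h0 ▸ le_pPrimeCoreOf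
    ⟨le_top, hn.2.trans (H2.normalizer_le_normalizer_pPrimeCoreOf p _)⟩
    (H2.coprime_card_pPrimeCoreOf p _))
  have h5 : pCoreOf p 𝐂(D) ≤ D := by
    conv_rhs => rw [hD]
    exact le_pCoreOf ⟨le_top, hn.2.trans (H2.normalizer_le_normalizer_pCoreOf p _)⟩
      (H2.isPGroup_pCoreOf p _)
  rw [← hD]
  exact (le_inf le_rfl (cent_anti h5)).trans ((cent_pCoreOf_le hp h3 h4).trans h5)

theorem zl_factor (hp : p.Prime) (hp2 : p ≠ 2)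
    (hab : ∀ T : Subgroup G, IsPGroup 2 T → IsMulCommutative T) {K Y S : Subgroup G} (hY : Y ⊲ K)
    (hP : IsPGroup p Y) (hs : Group.IsSolvable 𝐂(Y)) (hS : IsSyl p S K) {u : G} (hu : u ∈ K) :
    ∃ o ∈ pPrimeCoreOf p K, ∃ n ∈ K ⊓ 𝐍(zl S), u = o * n := by
  haveI := Fact.mk hp
  have hO := pPrimeCoreOf_normal p K
  have hc := H2.coprime_card_pPrimeCoreOf p K
  have hSK := H1.inf_eq_bot_of_coprime' (H1.coprime_card_of_isPGroup hS.pgrp hc).symm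
  have hS' : IsPGroup p (S.subgroupOf K) := hS.pgrp.comap_subtype
  have hk : (H1.qmk K (pPrimeCoreOf p K)).ker ⊓ S.subgroupOf K = ⊥ := by
    rw [QuotientGroup.ker_mk', eq_bot_iff]
    exact fun y hy => mem_bot.2 (Subtype.ext (mem_bot.1 (hSK ▸ mem_inf.2 ⟨hy.2, hy.1⟩)))
  have hn := (stab_bar hp hp2 hab K _).zl_normal (constr_bar hp hY hP hs)
    (hS'.map (H1.qmk K _)) (fun h => hS.ndvd (h.trans (index_map_dvd _ H1.qmk_surjective)))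
  rw [H2.zl_map hk] at hn
  have h3 := H5.normalizer_map_mk'_le ((pPrimeCoreOf p K).subgroupOf K)
    (by rwa [H2.card_subgroupOf_of_le hO.1]) (hS'.to_le (H2.zl_le _))
  rw [normalizer_eq_top] at h3
  obtain ⟨n, hn1, hn2⟩ := h3 (mem_top (H1.qmk K _ ⟨u, hu⟩))
  have hzl : (zl (S.subgroupOf K)).map K.subtype = zl S := by
    rw [← H2.zl_map (H2.ker_inf_eq_bot_of_injective K.subtype_injective _),
      subgroupOf_map_subtype, inf_of_le_left hS.le]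
  refine ⟨u * (n : G)⁻¹, ?_, n, mem_inf.2 ⟨n.2, ?_⟩, by group⟩
  · refine (H1.qmk_eq_one_iff (Y := K) (N := pPrimeCoreOf p K) (y := ⟨u, hu⟩ * n⁻¹)).1 ?_
    rw [map_mul, map_inv, ← hn2, mul_inv_cancel]
  · rw [← hzl]
    exact le_normalizer_map K.subtype (mem_map_of_mem _ hn1)

theorem exists_core (hp : p.Prime) (hp2 : p ≠ 2)
    (hab : ∀ T : Subgroup G, IsPGroup 2 T → IsMulCommutative T) {K Y S A : Subgroup G}
    (hY : Y ⊲ K) (hP : IsPGroup p Y) (hs : Group.IsSolvable 𝐂(Y)) (hS : IsSyl p S K)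
    (hA : A ⊲ S) (hc : IsMulCommutative A) :
    ∃ N : Subgroup G, N ⊲ K ∧ A ≤ N ∧ N ≤ pPrimeCoreOf p K ⊔ (S ⊓ N) := by
  haveI := Fact.mk hp
  have hO := pPrimeCoreOf_normal p K
  have hn := H1.le_normalizer_unbar_of_normal
    (pCore p (K ⧸ (pPrimeCoreOf p K).subgroupOf K))
  have hSb := hS.bar (N := pPrimeCoreOf p K) hp le_rfl
  rw [H1.bar_top] at hSb
  have h1 := hSb.pCoreOf_le hp
  rw [H2.pCoreOf_top] at h1
  refine ⟨H1.unbar K (pPrimeCoreOf p K) (pCore p _), ⟨H1.unbar_le _, hn⟩, ?_, ?_⟩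
  · refine (H1.bar_le_iff (hA.1.trans hS.le)).1 (le_trans ?_
      ((stab_bar hp hp2 hab K _).puigStep_le_pCore (constr_bar hp hY hP hs) (S := ⊤) le_rfl
        inf_le_left le_rfl))
    exact H2.le_puigStep le_top (H1.isMulCommutative_bar hc)
      (h1.trans (H1.bar_le_normalizer hA.2))
  · refine H2.le_sup_of_relIndex_pow (H1.le_unbar hO.1 _) inf_le_right ?_
      (hS.inf_normal hp ⟨H1.unbar_le _, hn⟩).ndvd
    rw [relIndex_unbar]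
    exact IsPGroup.iff_card.1 (L.isPGroup_pCore p)

/-- `Z(L(Q₁))` and `Z(L(Q₂))` are conjugate under `C(A)`. -/
def ZRel (A Q₁ Q₂ : Subgroup G) : Prop := ∃ c ∈ 𝐂(A), zl Q₁ ^ᵍ c = zl Q₂

theorem ZRel.trans {A Q₁ Q₂ Q₃ : Subgroup G} (h : ZRel A Q₁ Q₂) (k : ZRel A Q₂ Q₃) :
    ZRel A Q₁ Q₃ := by
  obtain ⟨c, hc, e⟩ := h
  obtain ⟨d, hd, f⟩ := k
  exact ⟨d * c, mul_mem hd hc, by rw [← conj_conj, e, f]⟩

theorem ZRel.symm {A Q₁ Q₂ : Subgroup G} (h : ZRel A Q₁ Q₂) : ZRel A Q₂ Q₁ := by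
  obtain ⟨c, hc, e⟩ := h
  exact ⟨c⁻¹, inv_mem hc, by rw [← e, conj_conj_inv]⟩

theorem zrel_conj {A : Subgroup G} (Q : Subgroup G) {c : G} (hc : c ∈ 𝐂(A)) :
    ZRel A Q (Q ^ᵍ c) := ⟨c, hc, (zl_conj Q c).symm⟩

theorem le_conj_of_cent {A D : Subgroup G} (h : A ≤ D) {c : G} (hc : c ∈ 𝐂(A)) : A ≤ D ^ᵍ c :=
  (conj_eq_of_mem_norm (cent_le_norm A hc)).ge.trans (conj_mono h c)

theorem syl_conj {Q : Subgroup G} (h : IsSyl p Q ⊤) (g : G) : IsSyl p (Q ^ᵍ g) ⊤ :=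
  conj_top g ▸ h.conj g

theorem zrel_all (hp : p.Prime) (hp2 : p ≠ 2)
    (hab : ∀ T : Subgroup G, IsPGroup 2 T → IsMulCommutative T) {Q : Subgroup G}
    (hQ : IsSyl p Q ⊤) (hs : Group.IsSolvable 𝐂(𝐙(Q))) (n : ℕ) :
    ∀ A : Subgroup G, A.index = n → ∀ Q₁ Q₂ : Subgroup G, IsSyl p Q₁ ⊤ → IsSyl p Q₂ ⊤ →
      A ≤ Q₁ → A ≤ Q₂ → ZRel A Q₁ Q₂ := by
  haveI := Fact.mk hp
  induction n using Nat.strong_induction_on with
  | _ n ih =>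
  rintro A rfl P₁ P₂ hP₁ hP₂ a₁ a₂
  have hA : IsPGroup p A := hP₁.pgrp.to_le a₁
  have big : ∀ B Q₁ Q₂ : Subgroup G, IsSyl p Q₁ ⊤ → IsSyl p Q₂ ⊤ → A < B → B ≤ Q₁ → B ≤ Q₂ →
      ZRel A Q₁ Q₂ := fun B Q₁ Q₂ h₁ h₂ hB b₁ b₂ => by
    obtain ⟨c, hc, e⟩ := ih _ (index_strictAnti hB) B rfl Q₁ Q₂ h₁ h₂ b₁ b₂
    exact ⟨c, cent_anti hB.le hc, e⟩
  by_cases hAs : IsSyl p A ⊤
  · rw [hAs.eq_of_le hp a₁ le_top hP₁.pgrp, hAs.eq_of_le hp a₂ le_top hP₂.pgrp]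
    exact ⟨1, one_mem _, conj_one _⟩
  have up : ∀ D Q' : Subgroup G, IsSyl p Q' ⊤ → A ≤ D → D ≤ Q' → A < Q' ⊓ 𝐍(D) :=
    fun D Q' h' h1 h2 => by
      rcases h2.eq_or_lt with e | e
      · subst e
        rw [inf_of_le_left le_normalizer]
        exact lt_of_le_of_ne h1 fun e => hAs (e ▸ h')
      · exact h1.trans_lt (lt_inf_norm_of_isNilpotent (isNilpotent_of_isPGroup hp h'.pgrp) e)
  have step : ∀ D Q' K : Subgroup G, IsSyl p Q' ⊤ → A ≤ D → D ≤ Q' → 𝐍(D) ≤ K →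
      ∃ R Q'' : Subgroup G, IsSyl p R K ∧ IsSyl p Q'' ⊤ ∧ Q' ⊓ 𝐍(D) ≤ R ∧ R ≤ Q'' ∧
        ZRel A Q' Q'' := fun D Q' K h' h1 h2 h3 => by
    obtain ⟨R, hR, k1⟩ := exists_isSyl_ge hp (h'.pgrp.to_le inf_le_left) (inf_le_right.trans h3)
    obtain ⟨Q'', h'', k2⟩ := exists_isSyl_ge hp hR.pgrp le_top
    exact ⟨R, Q'', hR, h'', k1, k2, big _ _ _ h' h'' (up D Q' h' h1 h2) inf_le_left (k1.trans k2)⟩
  by_cases hcen : ∀ B ≤ 𝐂(A), IsPGroup p B → B ≤ A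
  swap
  · obtain ⟨R₁, Q₁, r₁, q₁, k₁, l₁, z₁⟩ := step A P₁ _ hP₁ le_rfl a₁ le_rfl
    obtain ⟨R₂, Q₂, r₂, q₂, k₂, l₂, z₂⟩ := step A P₂ _ hP₂ le_rfl a₂ le_rfl
    have hM : A ⊔ 𝐂(A) ⊲ 𝐍(A) := ⟨sup_le le_normalizer (cent_le_norm A),
      H1.le_normalizer_sup le_rfl (H1.normalizer_le_normalizer_centralizer A)⟩
    have e₁ := r₁.inf_normal hp hM
    have e₂ := r₂.inf_normal hp hM
    have b₁ : A ≤ R₁ ⊓ (A ⊔ 𝐂(A)) := le_inf ((le_inf a₁ le_normalizer).trans k₁) le_sup_left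
    have b₂ : A < R₂ ⊓ (A ⊔ 𝐂(A)) := by
      refine lt_of_le_of_ne (le_inf ((le_inf a₂ le_normalizer).trans k₂) le_sup_left) fun e => ?_
      rw [← e] at e₂
      exact hcen fun B hB hB' => e₂.le_of_norm hp hB' (hB.trans le_sup_right)
        (hB.trans (cent_le_norm A))
    obtain ⟨m, hm, e⟩ := e₂.exists_conj_eq hp e₁
    obtain ⟨c, hc, a, ha, rfl⟩ := (mem_sup_of_norm' (cent_le_norm A)).1 hm
    rw [← conj_conj, conj_eq_of_mem (b₁ ha)] at e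
    exact z₁.trans ((zrel_conj Q₁ hc).trans ((big _ _ _ (syl_conj q₁ c) q₂ b₂
      (e ▸ conj_mono (inf_le_left.trans l₁) c) (inf_le_left.trans l₂)).trans z₂.symm))
  have sol : ∀ D Q' : Subgroup G, IsSyl p Q' ⊤ → A ≤ D → D ≤ Q' → Group.IsSolvable 𝐂(zl D) :=
    fun D Q' h' h1 h2 => by
      obtain ⟨g, -, rfl⟩ := h'.exists_conj_eq hp hQ
      have k1 : 𝐙(Q ^ᵍ g) ≤ zl D := le_trans (le_inf ((hcen _ (inf_le_right.trans
        (cent_anti (h1.trans h2))) (h'.pgrp.to_le inf_le_left)).trans h1)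
        (inf_le_right.trans (cent_anti h2))) (H2.zOf_le_zl D)
      refine H1.isSolvable_of_le (cent_anti k1) ?_
      rw [cent_conj, ← conj_inf, cent_conj]
      exact (isSolvable_map_iff (conj_injective g)).2 hs
  suffices key : ∀ m : ℕ, ∀ D₁ D₂ Q₁ Q₂ : Subgroup G, D₂.index = m → IsSyl p Q₁ ⊤ →
      IsSyl p Q₂ ⊤ → A ≤ D₁ → A ≤ D₂ → D₁ ≤ Q₁ → D₂ ≤ Q₂ → zl D₁ = zl D₂ → ZRel A Q₁ Q₂ from
    key _ A A P₁ P₂ rfl hP₁ hP₂ le_rfl le_rfl a₁ a₂ rfl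
  intro m
  induction m using Nat.strong_induction_on with
  | _ m ihm =>
  rintro D₁ D₂ Q₁ Q₂ rfl h₁ h₂ d₁ d₂ f₁ f₂ hz
  obtain ⟨R₁, Q₃, r₁, q₁, k₁, l₁, z₁⟩ := step D₁ Q₁ 𝐍(zl D₂) h₁ d₁ f₁
    (hz ▸ H2.normalizer_le_normalizer_zl D₁)
  obtain ⟨R₂, Q₄, r₂, q₂, k₂, l₂, z₂⟩ := step D₂ Q₂ _ h₂ d₂ f₂ (H2.normalizer_le_normalizer_zl D₂)
  have g₁ : A ≤ R₁ := d₁.trans ((le_inf f₁ le_normalizer).trans k₁)
  have g₂ : D₂ ≤ R₂ := (le_inf f₂ le_normalizer).trans k₂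
  obtain ⟨k, hk, e⟩ := r₂.exists_conj_eq hp r₁
  obtain ⟨o, ho, n, hn, rfl⟩ := zl_factor hp hp2 hab ⟨le_normalizer, le_rfl⟩
    (h₂.pgrp.to_le ((H2.zl_le _).trans f₂)) (sol D₂ Q₂ h₂ d₂ f₂) r₁ hk
  have e' : zl R₁ ^ᵍ o = zl R₂ := by
    rw [← e, zl_conj, ← conj_conj, conj_eq_of_mem_norm hn.2]
  obtain ⟨c, hc, e''⟩ := H1.exists_centralizer_conj
    ((g₁.trans r₁.le).trans (pPrimeCoreOf_normal p _).2)
    (H1.coprime_card_of_isPGroup hA (H2.coprime_card_pPrimeCoreOf p _)).symm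
    (Or.inl (H1.isSolvable_of_isPGroup hA))
    (g₁.trans (le_normalizer.trans (H2.normalizer_le_normalizer_zl R₁))) ho
    (e' ▸ (d₂.trans g₂).trans (le_normalizer.trans (H2.normalizer_le_normalizer_zl R₂)))
  have e3 : zl (R₁ ^ᵍ c) = zl R₂ := (zl_conj _ _).trans (e''.trans e')
  refine z₁.trans (ZRel.trans ?_ z₂.symm)
  rcases g₂.eq_or_lt with f | f
  · have s₂ : IsSyl p R₂ ⊤ := IsSyl.of_norm hp (r₂.of_le (le_inf le_top le_normalizer)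
      (inf_le_right.trans (f ▸ H2.normalizer_le_normalizer_zl D₂)))
    have s₁ : IsSyl p R₁ ⊤ := s₂.of_card_eq hp le_top (r₁.card_eq hp r₂)
    rw [s₁.eq_of_le hp l₁ le_top q₁.pgrp, s₂.eq_of_le hp l₂ le_top q₂.pgrp]
    exact ⟨c, hc.2, e''.trans e'⟩
  · exact (zrel_conj Q₃ hc.2).trans (ihm _ (index_strictAnti f) _ _ _ _ rfl (syl_conj q₁ c) q₂
      (le_conj_of_cent g₁ hc.2) (d₂.trans g₂) (conj_mono l₁ c) l₂ e3)

/-- The normalizer of `Z(L(Q))` controls strong fusion in `Q`. -/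
theorem zf (hp : p.Prime) (hp2 : p ≠ 2)
    (hab : ∀ T : Subgroup G, IsPGroup 2 T → IsMulCommutative T) {Q : Subgroup G}
    (hQ : IsSyl p Q ⊤) (hs : Group.IsSolvable 𝐂(𝐙(Q))) {A : Subgroup G} (hA : A ≤ Q) {g : G}
    (hg : A ^ᵍ g ≤ Q) : ∃ c ∈ 𝐂(A), ∃ n ∈ 𝐍(zl Q), g = n * c := by
  obtain ⟨c, hc, e⟩ := zrel_all hp hp2 hab hQ hs _ A rfl Q _ hQ (syl_conj hQ g⁻¹) hA
    (conj_le_iff.1 hg)
  rw [zl_conj, ← conj_eq_iff, conj_conj, conj_eq_self_iff] at e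
  exact ⟨c⁻¹, inv_mem hc, g * c, e, by group⟩

end Cfsg.Agent.P7.Z
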