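/-
A Fitting subgroup analysis for groups `O⟨t⟩` containing a subgroup `T` with small centralizers.
-/
import Cfsg.Agent.P7.ZF

set_option autoImplicit false
set_option linter.unusedSectionVars false

namespace Cfsg.Agent.P7.Z

open Subgroup Cfsg Cfsg.Agent Cfsg.Agent.FT
open Cfsg.Agent.H2 (pPrimeCoreOf)
open Cfsg.Agent.P6 (Inv Od)

universe u

variable {G : Type u} [Group G] [Finite G] {p : ℕ}

theorem le_cent_of_reg {K R M : Subgroup G} (reg : SemiReg K R) (R1 : R ≠ ⊥) (hn : R ≤ 𝐍(K))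
    (hK : K ≤ 𝐍(M)) (hR : R ≤ 𝐍(M)) (c1 : 𝐨(M).Coprime 𝐨(K)) (c2 : 𝐨(M).Coprime 𝐨(R))
    (hs : Group.IsSolvable M) (h0 : M ⊓ 𝐂(R) = ⊥) : K ≤ 𝐂(M) := by
  by_cases K1 : K = ⊥
  · exact K1 ▸ bot_le
  have := (⟨K1, R1, hn, reg⟩ : Frob K R).wielandt_fix hK hR
    ((c1.mul_right c2).coprime_dvd_right (by
      rw [sup_comm, mul_comm]; exact H1.card_sup_dvd hn)) hs
  rw [h0, show M ⊓ 𝐂(K ⊔ R) = ⊥ from eq_bot_iff.2 (h0 ▸ inf_le_inf_left _ (cent_anti le_sup_right)),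
    card_bot, one_pow, one_mul, one_mul] at this
  exact cent_comm.1 ((H1.eq_of_le_of_card_le inf_le_left this.le).ge.trans inf_le_right)

theorem fa0 (hp : p.Prime) {t : G} (tt : t * t = 1) {P T : Subgroup G}
    (hO : ∀ g, g ∈ Od (⊤ : Subgroup G) ∨ g * t ∈ Od (⊤ : Subgroup G))
    (h0 : pCoreOf p (⊤ : Subgroup G) = ⊥) (hP : IsPGroup p P) (PO : P ≤ Od ⊤) (TP : T ≤ 𝐍(P))
    (reg : SemiReg P T) (T1 : T ≠ ⊥) (CP : 𝐂[t] ≤ 𝐍(P)) (Tt : T ≤ 𝐂[t])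
    (hα : ∀ w ∈ T, w ≠ 1 → 𝐂[w] ≤ 𝐂[t])
    (hβ : ∀ K : Subgroup G, K.Normal → Odd 𝐨(K) → 𝐨(K).Coprime 𝐨(T) → ¬ p ∣ 𝐨(K) →
      K ⊓ 𝐂(T) = ⊥ ∧ K ⊓ 𝐂[t] = ⊥) :
    P = ⊥ ∧ ∃ K : Subgroup G, K.Normal ∧ Odd 𝐨(K) ∧ 𝐨(K).Coprime 𝐨(T) ∧ ¬ p ∣ 𝐨(K) ∧
      (∀ y ∈ K, t * y * t = y⁻¹) ∧ ⊤ ≤ K ⊔ 𝐂[t] := by
  haveI := Fact.mk hp
  obtain ⟨O, hOd⟩ : ∃ O, O = Od (⊤ : Subgroup G) := ⟨_, rfl⟩
  have oO : Odd 𝐨(O) := hOd ▸ P6.odd_Od _
  have nO : ⊤ ≤ 𝐍(O) := hOd ▸ (P6.Od_normal _).2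
  rw [← hOd] at hO PO
  have nF := nO.trans (H2.normalizer_le_normalizer_fittingOf O)
  have FO := (fittingOf_normal O).1
  have cF := cent_fittingOf_le (P5.Mx.isSolvable_of_odd oO)
  have pF : ¬ p ∣ 𝐨(fittingOf O) := not_dvd_card_fittingOf hp (eq_bot_iff.2 (h0 ▸ le_pCoreOf
    ⟨le_top, nO.trans (H2.normalizer_le_normalizer_pCoreOf p O)⟩ (H2.isPGroup_pCoreOf p O)))
  have nil : Group.IsNilpotent (fittingOf O) := H2.isNilpotent_fittingOf O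
  have dp := dProd_piCoreOf_of_isNilpotent nil (piOf T)
  have n1 := nF.trans (norm_le_norm_piCoreOf (piOf T) _)
  have n2 := nF.trans (norm_le_norm_piCoreOf (piOf T)ᶜ _)
  have i1 := isPi_piCoreOf (piOf T) (fittingOf O)
  have i2 := isPi_piCoreOf (piOf T)ᶜ (fittingOf O)
  generalize piCoreOf (piOf T) (fittingOf O) = F₁ at *
  generalize piCoreOf (piOf T)ᶜ (fittingOf O) = F₂ at *
  generalize fittingOf O = F at *
  have o1 := P6.odd_of_le (dp.le_left.trans FO) oO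
  have o2 := P6.odd_of_le (dp.le_right.trans FO) oO
  have c2 := coprime_iff_isPi_compl.2 i2
  have p1 : ¬ p ∣ 𝐨(F₁) := fun d => pF (d.trans (Subgroup.card_dvd_of_le dp.le_left))
  have p2 : ¬ p ∣ 𝐨(F₂) := fun d => pF (d.trans (Subgroup.card_dvd_of_le dp.le_right))
  have N2 := normal_iff_top_le.2 n2
  obtain ⟨b1, b2⟩ := hβ F₂ N2 o2 c2 p2
  have inv := L.inverts_of_fpf tt (n2 (mem_top t)) fun a ha hc =>
    mem_bot.1 (b2 ▸ mem_inf.2 ⟨ha, mem_cent1_iff_commute.2 hc⟩)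
  have c1 : F₁ ≤ 𝐂[t] := le_of_forall_isSyl_le fun r hr R hR => by
    haveI := Fact.mk hr
    by_cases R1 : R = ⊥
    · exact R1 ▸ bot_le
    obtain ⟨w, hw, ho⟩ := exists_mem_orderOf_eq_prime hr
      (mem_of_isPi_of_isPGroup hr hR.pgrp R1 (isPi_of_le hR.le i1)).2
    have w1 : w ≠ 1 := fun e => hr.one_lt.ne' (by rw [← ho, e, orderOf_one])
    have nR := n1.trans (hR.norm_le_of_isNilpotent hr (isNilpotent_of_le dp.le_left nil))
    refine P5.Mx.zpowers_le_cent_iff.1 (H1.pxq_lemma (P := zpowers w)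
      (isPGroup_of_card_prime (by rw [Nat.card_zpowers, ho])) hR.pgrp (le_top.trans nR)
      (le_top.trans nR) ?_ (P5.Mx.coprime_zpowers tt (P6.odd_of_le hR.le o1)) ?_)
    · rw [cent_zpowers]; exact zpowers_le.2 (Tt hw)
    · rw [cent_zpowers, cent_zpowers]; exact inf_le_right.trans (hα w hw w1)
  have cF' : O ⊓ (𝐂(F₁) ⊓ 𝐂(F₂)) ≤ F := by rwa [← cent_sup, dp.sup]
  have ti := L.inv_eq_self_of_mul_self tt
  refine ⟨?_, F₂, N2, o2, c2, p2, inv, fun g _ => ?_⟩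
  · have k1 : P ≤ 𝐂(F₁) := le_cent_of_norm_of_coprime (le_top.trans n1) (c1.trans CP)
      (H1.coprime_card_of_isPGroup hP (hp.coprime_iff_not_dvd.2 p1).symm)
    have k2 : P ≤ 𝐂(F₂) := le_cent_of_reg reg T1 TP (le_top.trans n2) (le_top.trans n2)
      (H1.coprime_card_of_isPGroup hP (hp.coprime_iff_not_dvd.2 p2).symm) c2
      (P5.Mx.isSolvable_of_odd o2) b1
    by_contra P1
    exact pF ((prime_dvd_card_of_isPGroup hp hP P1).trans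
      (Subgroup.card_dvd_of_le ((le_inf PO (le_inf k1 k2)).trans cF')))
  suffices key : ∀ g ∈ O, g ∈ F₂ ⊔ 𝐂[t] by
    rcases hO g with k | k
    · exact key g k
    · exact (Subgroup.mul_mem_cancel_right _ (mem_sup_right (self_mem_cent1 t))).1 (key _ k)
  intro g hg
  have t1 : t ∈ 𝐂(F₁) := H1.mem_centralizer_iff_le.2 c1
  have u0 : g * t * g⁻¹ * t ∈ O := by
    have := mul_mem hg (nConj (nO (mem_top t)) (inv_mem hg))
    rw [ti] at this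
    exact (congrArg (· ∈ O) (by group)).mp this
  have u1 : g * t * g⁻¹ * t ∈ 𝐂(F₁) :=
    mul_mem (nConj (H1.le_normalizer_centralizer n1 (mem_top g)) t1) t1
  have u2 : g * t * g⁻¹ * t ∈ 𝐂(F₂) := mem_cent.2 fun y hy => by
    have e1 := inv _ (nConj' (n2 (mem_top g)) hy)
    have e2 := inv _ (inv_mem hy)
    calc _ = g * t * (t * (g⁻¹ * y * g) * t) * g⁻¹ * t := by
          rw [show g * t * (t * (g⁻¹ * y * g) * t) * g⁻¹ * t =
            g * (t * t) * (g⁻¹ * y * g) * t * g⁻¹ * t by group, tt]; group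
      _ = g * t * g⁻¹ * t * (t * y⁻¹ * t) := by
          rw [e1, show g * t * g⁻¹ * t * (t * y⁻¹ * t) = g * t * g⁻¹ * (t * t) * y⁻¹ * t by group,
            tt]; group
      _ = _ := by rw [e2, inv_inv]
  obtain ⟨a, ha, b, hb, e⟩ := dp.mem_iff.1 (cF' ⟨u0, u1, u2⟩)
  have e1 : t * (a * b) * t = (a * b)⁻¹ := by
    rw [e, mul_assoc (t), mul_assoc _ t t, tt, mul_one, mul_inv_rev, mul_inv_rev, mul_inv_rev, ti]
    group
  have e2 : t * (a * b) * t = a * b⁻¹ := by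
    rw [← inv b hb, ← mul_assoc, mem_cent1.1 (c1 ha)]; group
  have a1 : a = 1 := L.eq_one_of_sq_of_odd o1 ha (by
    rw [e2, mul_inv_rev, ← (dp.commute (inv_mem ha) (inv_mem hb)).eq, mul_left_inj] at e1
    exact mul_eq_one_iff_eq_inv.2 e1)
  rw [a1, one_mul] at e
  obtain ⟨v, hv, rfl⟩ := L.exists_sq_eq_of_odd o2 hb
  have e3 : v⁻¹ * g ∈ 𝐂[t] := mem_cent1_iff_conj.2 (by
    calc _ = v⁻¹ * (g * t * g⁻¹ * t) * t⁻¹ * v := by group
      _ = v * (t * v * t) * t⁻¹ := by rw [← e, ti, mul_assoc v, mul_assoc _ t t, tt]; group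
      _ = t := by rw [inv v hv, ti]; group)
  exact (Subgroup.mul_mem_cancel_left _ (mem_sup_left (inv_mem hv))).1 (mem_sup_right e3)

end Cfsg.Agent.P7.Z
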