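/-
Janko-Ree type, `q ≡ 3 (mod 4)`: subgroups normalized by the split torus `T`.
-/
import Cfsg.Agent.P7.Z3
import Cfsg.Agent.P7.Z2
import Cfsg.Agent.P7.L2Main

set_option autoImplicit false
set_option linter.unusedSectionVars false

namespace Cfsg.Agent.P7.Z

open Subgroup Cfsg Cfsg.Agent Cfsg.Agent.FT
open Cfsg.Agent.H2 (pPrimeCoreOf)
open Cfsg.Agent.P6 (Inv Od)
open scoped commutatorElement

universe u

variable {G : Type u} [Group G] [Finite G]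

theorem cent_bar_le {X N : Subgroup G} [(N.subgroupOf X).Normal] (hN : N ≤ X) (x : X)
    (hc : (orderOf (x : G)).Coprime 𝐨(N)) : 𝐂[H1.qmk X N x] ≤ H1.bar X N (X ⊓ 𝐂[(x : G)]) := by
  have h1 := H1.centralizer_map_of_coprime_ker (f := H1.qmk X N) H1.qmk_surjective
    (A := zpowers x) (by
      rwa [QuotientGroup.ker_mk', H2.card_subgroupOf_of_le hN, Nat.card_zpowers, ← orderOf_coe])
    (Or.inl (H1.isSolvable_of_isMulCommutative inferInstance))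
  rw [MonoidHom.map_zpowers, cent_zpowers, cent_zpowers] at h1
  exact h1.le.trans (map_mono fun y hy =>
    ⟨y.2, mem_cent1.2 (congrArg Subtype.val (mem_cent1.1 hy))⟩)

theorem le_sup_two (e : E8 G) {X : Subgroup G} {t : G} (it : Inv t) (tX : t ∈ X)
    (h : ∀ r ∈ X, r ∈ 𝐂[t] → r * r = 1 → r ∈ zpowers t) : X ≤ Od X ⊔ zpowers t := by
  obtain ⟨R, hR, k⟩ := exists_isSyl_ge Nat.prime_two it.isPGroup (zpowers_le.2 tX)
  have e1 : R = zpowers t := le_antisymm (fun r hr => h r (hR.le hr)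
    (cent_le_cent1 (k (mem_zpowers t)) (isMulComm_iff_le_cent.1 (e.comm_two R hR.pgrp) hr))
    (e.sq_of_mem hR.pgrp hr)) k
  subst e1
  refine P5.Mx.le_sup_of_burnside hR.le hR.pgrp hR.ndvd fun g hg => ?_
  rw [cent_zpowers, mem_cent1_iff_conj]
  exact (it.mem_zpowers_iff.1 (nConj hg.2 (mem_zpowers t))).resolve_left (it.conj g).ne

variable {t s s0 : G} {L : Subgroup G} {q : ℕ} (h : JRF t L q) (F : Fr 𝐂[t] L t q s s0)

/-- The group `⟨t⟩ T Φ`. -/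
abbrev BB : Subgroup G := zpowers t ⊔ F.T ⊔ Phi 𝐂[t] s s0

section
include F

theorem p_dvd : F.p ∣ q := (dvd_pow_self _ F.oddn.pos.ne').trans F.hq.symm.dvd
theorem pP : IsPGroup F.p F.P := elemAb_isPGroup F.eaP
theorem oddP : Odd 𝐨(F.P) := P6.odd_of_isPGroup F.hp F.p2 (pP F)
theorem oddT : Odd 𝐨(F.T) := F.cardT ▸ F.toL2F.ep.oddl
theorem T_ne : F.T ≠ ⊥ := fun e => by
  have h1 := F.toL2F.ep.three_le F.five
  have h2 := F.cardT
  rw [e, card_bot] at h2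
  omega
theorem T_comm : F.T ≤ 𝐂(F.T) := isMulComm_iff_le_cent.1 (isMulComm_of_isCyclic F.cycT)
theorem cop_T {Q : Subgroup G} (hQ : IsPGroup F.p Q) : 𝐨(Q).Coprime 𝐨(F.T) := by
  haveI := Fact.mk F.hp
  exact (H1.coprime_card_of_isPGroup hQ
    (F.cardT ▸ (F.toL2F.ep.cop_ql.coprime_dvd_left (p_dvd F)).symm)).symm
theorem TC : F.T ≤ 𝐂[t] := F.TL.trans (LC F)
theorem PC : F.P ≤ 𝐂[t] := F.PL.trans (LC F)
theorem tP : t ∈ 𝐂(F.P) := H1.mem_centralizer_iff_le.2 (PC F)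
theorem tT : t ∈ 𝐂(F.T) := H1.mem_centralizer_iff_le.2 (TC F)
theorem BC : BB F ≤ 𝐂[t] := sup_le (sup_le (zpowers_le.2 (self_mem_cent1 t)) (TC F)) (phiC F)
theorem BT : BB F ≤ 𝐍(F.T) :=
  sup_le (sup_le (zpowers_le.2 (cent_le_norm _ (tT F))) le_normalizer) F.FT
theorem tB : t ∈ BB F := mem_sup_left (mem_sup_left (mem_zpowers t))
theorem TB : F.T ≤ BB F := le_sup_right.trans le_sup_left
theorem phiB : Phi 𝐂[t] s s0 ≤ BB F := le_sup_right

theorem dec' {g : G} (hg : g ∈ 𝐂[t]) :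
    ∃ a ∈ L, ∃ φ ∈ Phi 𝐂[t] s s0, ∃ c ∈ zpowers t, g = c * a * φ := by
  obtain ⟨a, ha, φ, hφ, e | e⟩ := F.dec g hg
  exacts [⟨a, ha, φ, hφ, 1, one_mem _, by rw [e, one_mul]⟩, ⟨a, ha, φ, hφ, t, mem_zpowers t, e⟩]

theorem zp_cent {c : G} (hc : c ∈ zpowers t) {a : G} (ha : a ∈ 𝐂[t]) : c ∈ 𝐂[a] :=
  zpowers_le.2 (mem_cent1_comm.1 ha) hc

theorem invol_mem {r : G} (hr : r ∈ 𝐂[t]) (rr : r * r = 1) :
    ∃ a ∈ L, ∃ c ∈ zpowers t, a * a = 1 ∧ r = c * a := by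
  obtain ⟨a, ha, φ, hφ, c, hc, rfl⟩ := dec' F hr
  have e1 := mem_cent1.1 (zp_cent F hc (LC F ha))
  have e2 := mem_cent1.1 (zp_cent F hc (phiC F hφ))
  have cc : c * c = 1 := by
    obtain ⟨k, rfl⟩ := hc
    change t ^ k * t ^ k = 1
    rw [← (Commute.refl t).mul_zpow, F.lm.tt, one_zpow]
  have e3 : a * φ * (a * φ) = 1 := by
    rw [← rr]
    calc _ = c * c * a * φ * a * φ := by rw [cc]; group
      _ = c * (c * a) * φ * a * φ := by group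
      _ = c * (a * c) * φ * a * φ := by rw [e1]
      _ = c * a * (c * φ) * a * φ := by group
      _ = _ := by rw [← e2]; group
  have e4 : φ * φ = 1 := phiL F (mul_mem hφ hφ) (by
    have := inv_mem (mul_mem ha (comm_mem_L F ha (phiC F hφ)))
    refine (congrArg (· ∈ L) ?_).mp this
    rw [inv_eq_iff_mul_eq_one, ← e3]; group)
  have e5 := Agent.L.eq_one_of_sq_of_odd (odd_phi F) hφ e4
  rw [e5, mul_one] at e3 ⊢
  exact ⟨a, ha, c, hc, e3, rfl⟩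

theorem tiP' {u g : G} (hu : u ∈ F.P) (u1 : u ≠ 1) (hg : g ∈ 𝐂[t]) (k : g * u * g⁻¹ ∈ 𝐍(F.P)) :
    g ∈ 𝐍(F.P) := by
  obtain ⟨a, ha, φ, hφ, c, hc, rfl⟩ := dec' F hg
  have c1 : c ∈ 𝐍(F.P) := zpowers_le.2 (cent_le_norm _ (tP F)) hc
  refine mul_mem (mul_mem c1 (F.tiP _ (nConj (F.FP hφ) hu) (by simpa using u1) a ha ?_)) (F.FP hφ)
  have := mul_mem (mul_mem (inv_mem c1) k) c1
  exact (congrArg (· ∈ 𝐍(F.P)) (by group)).mp this

end

variable (he : q + 1 = 4 * F.k)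

section
include he

theorem eps' : q = 2 * F.l + 1 ∧ F.H = F.T := by
  rcases F.eps with k | k
  · omega
  · exact k.2

theorem normP' : L ⊓ 𝐍(F.P) = F.P ⊔ F.T := (eps' F he).2 ▸ F.normP
theorem TP : F.T ≤ 𝐍(F.P) := le_sup_right.trans ((normP' F he).ge.trans inf_le_right)
theorem BP : BB F ≤ 𝐍(F.P) := sup_le (sup_le (zpowers_le.2 (cent_le_norm _ (tP F))) (TP F he)) F.FP
theorem oddPT : Odd 𝐨((F.P ⊔ F.T : Subgroup G)) :=
  sup_comm F.T F.P ▸ P5.Mx.odd_sup (TP F he) (oddT F) (oddP F)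

theorem faith {φ : G} (hφ : φ ∈ Phi 𝐂[t] s s0) (hc : φ ∈ 𝐂(F.T)) : φ = 1 := by
  obtain ⟨q0, k0, l0, e0, k, -, -, e1, -⟩ := F.fix φ hφ
  rw [inf_of_le_left (H1.mem_centralizer_iff_le.1 hc), F.cardT] at e1
  have e2 := (eps' F he).1
  have e3 : q0 = q := by omega
  have := F.five
  rw [e3] at e0
  exact orderOf_eq_one_iff.1 (Nat.pow_right_injective (by omega : 2 ≤ q) (e0.trans (pow_one q).symm))

theorem centT' : 𝐂[t] ⊓ 𝐂(F.T) ≤ zpowers t ⊔ F.T := fun g hg => by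
  obtain ⟨a, ha, φ, hφ, c, hc, rfl⟩ := dec' F hg.1
  have c1 : c ∈ 𝐂(F.T) := zpowers_le.2 (tT F) hc
  have k1 : a * φ ∈ 𝐂(F.T) := (Subgroup.mul_mem_cancel_left _ c1).1 (mul_assoc c a φ ▸ hg.2)
  have k2 : a ∈ 𝐍(F.T) := (Subgroup.mul_mem_cancel_right _ (F.FT hφ)).1 (cent_le_norm _ k1)
  obtain ⟨⟨w, hw⟩, w1⟩ := ne_bot_iff_exists_ne_one.1 (T_ne F)
  have w1' : w ≠ 1 := fun e => w1 (Subtype.ext e)
  rcases F.normT w hw w1' a ha (nConj k2 hw) with k | k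
  · rw [faith F he hφ ((Subgroup.mul_mem_cancel_left _ (T_comm F k)).1 k1), mul_one]
    exact mul_mem (mem_sup_left hc) (mem_sup_right k)
  · have ss := (v4 F).ss
    have si := Agent.L.inv_eq_self_of_mul_self ss
    have k3 : ∀ y ∈ F.T, φ * y * φ⁻¹ = y⁻¹ := fun y hy => by
      have e1 := mem_cent.1 k1 y hy
      have e2 := mem_cent.1 (T_comm F k) _ (nConj (F.FT hφ) hy)
      have e3 := F.invT y hy
      calc _ = (s0 * a)⁻¹ * (s0 * a * (φ * y * φ⁻¹)) := by group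
        _ = (s0 * a)⁻¹ * (s0 * (a * φ * y) * (a * φ)⁻¹ * s0⁻¹) * (s0 * a) := by group
        _ = (s0 * a)⁻¹ * (s0 * y * s0⁻¹) * (s0 * a) := by rw [← e1]; group
        _ = y⁻¹ := by rw [e3, mul_assoc, mem_cent.1 (T_comm F k) _ (inv_mem hy)]; group
    have k4 : φ = 1 := Agent.L.eq_one_of_sq_of_odd (odd_phi F) hφ (faith F he (mul_mem hφ hφ)
      (mem_cent.2 fun y hy => by
        have e1 := k3 _ (inv_mem hy)
        rw [inv_inv, ← k3 y hy] at e1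
        calc _ = φ * (φ * y * φ⁻¹) * φ⁻¹ * (φ * φ) := by rw [e1]
          _ = _ := by group))
    have k5 := k3 w hw
    rw [k4, one_mul, inv_one, mul_one] at k5
    exact absurd (Agent.L.eq_one_of_sq_of_odd (oddT F) hw (mul_eq_one_iff_eq_inv.2 k5)) w1'

theorem NP {g : G} (hg : g ∈ 𝐂[t]) (hn : g ∈ 𝐍(F.P)) : g ∈ F.P ⊔ BB F := by
  obtain ⟨a, ha, φ, hφ, c, hc, rfl⟩ := dec' F hg
  have c1 : c ∈ BB F := zpowers_le.2 (tB F) hc
  have k : a ∈ F.P ⊔ F.T := (normP' F he).le ⟨ha, (Subgroup.mul_mem_cancel_left _ (BP F he c1)).1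
    ((Subgroup.mul_mem_cancel_right _ (F.FP hφ)).1 hn)⟩
  exact mul_mem (mul_mem (mem_sup_right c1) (sup_le_sup_left (TB F) _ k))
    (mem_sup_right (phiB F hφ))

theorem two_NP {r : G} (hr : r ∈ 𝐂[t]) (hn : r ∈ 𝐍(F.P)) (rr : r * r = 1) : r ∈ zpowers t := by
  obtain ⟨a, ha, c, hc, aa, rfl⟩ := invol_mem F hr rr
  rw [Agent.L.eq_one_of_sq_of_odd (oddPT F he) ((normP' F he).le ⟨ha, (Subgroup.mul_mem_cancel_left _
    (zpowers_le.2 (cent_le_norm _ (tP F)) hc)).1 hn⟩) aa, mul_one]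
  exact hc

theorem not_real0 {z j : G} (hz : z ∈ 𝐂[t]) (hp : IsPGroup F.p (zpowers z)) (hj : j ∈ 𝐂[t])
    (jj : j * j = 1) (e : j * z * j⁻¹ = z⁻¹) : z = 1 := by
  have oz := P6.odd_of_isPGroup F.hp F.p2 hp
  have oz' : Odd (orderOf z) := by rwa [Nat.card_zpowers] at oz
  have zL : z ∈ L := P6.mem_of_sq_mem oz' (by
    have := comm_elt F hz hj
    rwa [commutatorElement_def, mul_assoc, mul_assoc, ← mul_assoc j, ← inv_inv (j * z⁻¹ * j⁻¹),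
      show (j * z⁻¹ * j⁻¹)⁻¹ = j * z * j⁻¹ by group, e, inv_inv] at this)
  by_contra z1
  obtain ⟨g, hg, k⟩ := F.part z zL
  have hp' : IsPGroup F.p (zpowers (g * z * g⁻¹)) := by
    rw [zpowers_conj]; exact hp.map _
  have d : ∀ K : Subgroup G, g * z * g⁻¹ ∈ K → F.p ∣ 𝐨(K) := fun K hK =>
    (prime_dvd_card_of_isPGroup F.hp hp' (by simpa using z1)).trans
      (Subgroup.card_dvd_of_le (zpowers_le.2 hK))
  have ep := F.toL2F.ep
  rcases k with k | k | k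
  · have d1 := (d _ k).trans (sup_comm _ (R0 L s) ▸ H1.card_sup_dvd (zpowers_le.2
      (cent_le_norm _ (H1.mem_centralizer_iff_le.2 ((R0_le F s).trans inf_le_right)))))
    rw [Inv.card_zpowers ⟨(v4 F).t1, (v4 F).tt⟩, F.cardR] at d1
    exact F.hp.one_lt.ne' (Nat.eq_one_of_dvd_coprimes ep.cop_qk (p_dvd F)
      (d1.trans (Nat.mul_dvd_mul_right (by norm_num) _)))
  · exact F.hp.one_lt.ne' (Nat.eq_one_of_dvd_coprimes ep.cop_ql (p_dvd F) (F.cardT ▸ d _ k))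
  have gC := LC F hg
  have e1 : g * j * g⁻¹ * (g * z * g⁻¹) * (g * j * g⁻¹)⁻¹ = (g * z * g⁻¹)⁻¹ := by
    calc _ = g * (j * z * j⁻¹) * g⁻¹ := by group
      _ = _ := by rw [e]; group
  have j1 := mul_mem (mul_mem gC hj) (inv_mem gC)
  have j2 := two_NP F he j1 (tiP' F k (by simpa using z1) j1 (e1 ▸ le_normalizer (inv_mem k)))
    (by rw [conj_mul, jj]; simp)
  rw [mem_cent1_iff_conj.1 (zp_cent F j2 (PC F k))] at e1
  exact z1 (by simpa using Agent.L.eq_one_of_sq_of_odd (oddP F) k (mul_eq_one_iff_eq_inv.2 e1))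

include h

theorem not_real {a z j : G} (ha : Inv a) (hz : z ∈ 𝐂[a]) (hp : IsPGroup F.p (zpowers z))
    (hj : j ∈ 𝐂[a]) (jj : j * j = 1) (e : j * z * j⁻¹ = z⁻¹) : z = 1 := by
  obtain ⟨c, rfl⟩ := isConj_iff.1 (h.conj a ha.orderOf_eq)
  rw [cent1_conj, mem_conj] at hz hj
  have := not_real0 F he hz (by
    have := hp.map (MulAut.conj c⁻¹).toMonoidHom
    rwa [← zpowers_conj, inv_inv] at this) hj (by
      calc _ = c⁻¹ * (j * j) * c := by group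
        _ = 1 := by rw [jj]; group) (by
      calc _ = c⁻¹ * (j * z * j⁻¹) * c := by group
        _ = _ := by rw [e]; group)
  calc z = c * (c⁻¹ * z * c) * c⁻¹ := by group
    _ = 1 := by rw [this]; group

variable (hα : ∀ w ∈ F.T, w ≠ 1 → 𝐂[w] ≤ 𝐂[t])
include hα

theorem regT {Q : Subgroup G} (hn : F.T ≤ 𝐍(Q)) (ho : Odd 𝐨(Q)) (hc : 𝐨(Q).Coprime 𝐨(F.T)) :
    SemiReg Q F.T := fun w hw w1 => eq_bot_iff.2 fun d hd => by
  obtain ⟨d1, d2⟩ : d ∈ Q ∧ d ∈ 𝐂[w] := hd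
  have dC := hα w hw w1 d2
  have hd0 := H1.inf_eq_bot_of_coprime' hc
  have k1 : d ∈ 𝐂(F.T) := mem_cent.2 fun y hy => by
    have k : ⁅y, d⁆ ∈ Q ⊓ F.T := ⟨(mul_mem (nConj (hn hy) d1) (inv_mem d1) : _ ∈ Q),
      (F.centT w hw w1).le ⟨comm_elt F (TC F hy) dC, by
        have := cent_le_cent1 hw (T_comm F hy)
        exact (mul_mem (mul_mem (mul_mem this d2) (inv_mem this)) (inv_mem d2) : _ ∈ 𝐂[w])⟩⟩
    exact commutatorElement_eq_one_iff_mul_comm.1 (mem_bot.1 (hd0 ▸ k))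
  have k2 := orderOf_dvd_card_of_mem (centT' F he ⟨dC, k1⟩)
  have k3 := k2.trans (H1.card_sup_dvd (zpowers_le.2 (cent_le_norm _ (tT F))))
  rw [(inv_t h F).card_zpowers] at k3
  exact orderOf_eq_one_iff.1 (Nat.eq_one_of_dvd_coprimes
    ((Nat.coprime_two_right.2 ho).mul_right hc) (orderOf_dvd_card_of_mem d1) k3)

theorem regP {Q : Subgroup G} (hn : F.T ≤ 𝐍(Q)) (hQ : IsPGroup F.p Q) : SemiReg Q F.T :=
  regT h F he hα hn (P6.odd_of_isPGroup F.hp F.p2 hQ) (cop_T F hQ)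

theorem le_P {Q : Subgroup G} (h1 : Q ≤ 𝐂[t]) (h2 : Q ≤ 𝐍(F.P)) (hn : F.T ≤ 𝐍(Q))
    (ho : Odd 𝐨(Q)) (hc : 𝐨(Q).Coprime 𝐨(F.T)) : Q ≤ F.P := by
  have e := (regT h F he hα hn ho hc).comm_eq le_rfl (T_ne F) hn
  have k : Q ≤ F.P ⊔ F.T := (le_inf (e.ge.trans ((commutator_mono h1 (TC F)).trans (der_le F)))
    h2).trans (normP' F he).le
  exact le_of_hall_normal (hall_of_sup (TP F he) (isPi_piOf _)
    (coprime_iff_isPi_compl.1 (cop_T F (pP F)))).2 (sup_le le_normalizer (TP F he)) k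
    (coprime_iff_isPi_compl.1 hc)

theorem normZ {Z : Subgroup G} (Z1 : Z ≠ ⊥) (hZ : IsPGroup F.p Z) (hn : F.P ⊔ BB F ≤ 𝐍(Z)) :
    𝐍(Z) ⊓ 𝐂[t] ≤ 𝐍(F.P) := fun g hg => by
  by_contra gP
  have hB := le_sup_right.trans hn
  have hP := le_sup_left.trans hn
  have hT := (TB F).trans hB
  obtain ⟨a, ha, φ, hφ, c, hc, rfl⟩ := dec' F hg.2
  have c1 : c ∈ BB F := zpowers_le.2 (tB F) hc
  have a1 : a ∈ 𝐍(Z) := (Subgroup.mul_mem_cancel_left _ (hB c1)).1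
    ((Subgroup.mul_mem_cancel_right _ (hB (phiB F hφ))).1 hg.1)
  obtain ⟨u, hu, w, hw, v, hv, e⟩ := F.bruhat a ha fun k =>
    gP (mul_mem (mul_mem (BP F he c1) k) (F.FP hφ))
  rw [(eps' F he).2] at hw
  have s1 : s0 ∈ 𝐍(Z) := (Subgroup.mul_mem_cancel_left _ (mul_mem (hP hu) (hT hw))).1
    ((Subgroup.mul_mem_cancel_right _ (hP hv)).1 (e ▸ a1))
  have hL : L ≤ 𝐍(Z) := fun b hb => by
    by_cases k : b ∈ 𝐍(F.P)
    · exact sup_le hP hT ((normP' F he).le ⟨hb, k⟩)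
    · obtain ⟨u, hu, w, hw, v, hv, rfl⟩ := F.bruhat b hb k
      rw [(eps' F he).2] at hw
      exact mul_mem (mul_mem (mul_mem (hP hu) (hT hw)) s1) (hP hv)
  have oZ := P6.odd_of_isPGroup F.hp F.p2 hZ
  have hD : IsPGroup F.p ↥(Z ⊓ 𝐂[t]) := hZ.to_le inf_le_left
  have oD := P6.odd_of_le (inf_le_left : Z ⊓ 𝐂[t] ≤ Z) oZ
  have nD : L ≤ 𝐍((Z ⊓ 𝐂[t] : Subgroup G)) :=
    H1.le_normalizer_inf hL ((LC F).trans le_normalizer)
  have d1 := le_phi h F inf_le_right oD (nD (sL F)) (nD (s0L F)) (nD F.xL)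
  have d2 := le_P h F he hα inf_le_right (d1.trans F.FP) (F.TL.trans nD) oD (cop_T F hD)
  have it := inv_t h F
  have inv := Agent.L.inverts_of_fpf it.sq (hB (tB F)) fun z hz hc =>
    have k : z ∈ Z ⊓ 𝐂[t] := ⟨hz, mem_cent1_iff_commute.2 hc⟩
    phiL F (d1 k) (F.PL (d2 k))
  have key : ∀ v ∈ L, Inv v → Z ⊓ 𝐂[v] ≤ ⊥ := fun v hv iv z hz =>
    not_real h F he iv hz.2 (hZ.to_le (zpowers_le.2 hz.1)) (mem_cent1_comm.1 (LC F hv)) it.sq
      (by rw [it.inv_eq]; exact inv z hz.1)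
  have v := v4 F
  exact Z1 (eq_bot_iff.2 (V4.le_of_cent v oZ (hL (sL F)) (hL (s0L F)) (key _ (sL F) ⟨v.t1, v.tt⟩)
    (key _ (s0L F) ⟨v.s1, v.ss⟩) (key _ (mul_mem (sL F) (s0L F)) ⟨v.ts1, v.tsts⟩)))

theorem fa {X : Subgroup G} (hX : F.P ⊔ BB F ≤ X) (hC : X ⊓ 𝐂[t] ≤ 𝐍(F.P)) :
    ∃ K : Subgroup G, K ⊲ X ∧ Odd 𝐨(K) ∧ 𝐨(K).Coprime 𝐨(F.T) ∧ IsSyl F.p (pCoreOf F.p X) K ∧
      (∀ y ∈ K, t * y * t * y ∈ pCoreOf F.p X) ∧ X ≤ K ⊔ BB F ∧ X ≤ Od X ⊔ zpowers t ∧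
      ∀ Q ≤ X, IsPGroup F.p Q → F.T ≤ 𝐍(Q) → Q ≤ pCoreOf F.p X := by
  haveI := Fact.mk F.hp
  have it := inv_t h F
  have hB := le_sup_right.trans hX
  have hP := le_sup_left.trans hX
  have hT := (TB F).trans hB
  have tX := hB (tB F)
  have hO := le_sup_two h.e8 it tX fun r hr rt rr => two_NP F he rt (hC ⟨hr, rt⟩) rr
  have nO := P6.Od_normal X
  have nD := pCoreOf_normal F.p X
  have pD := H2.isPGroup_pCoreOf F.p X
  obtain ⟨D, hD⟩ : ∃ D, D = pCoreOf F.p X := ⟨_, rfl⟩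
  rw [← hD] at nD pD ⊢
  haveI := H1.normal_subgroupOf_of_le nD.2
  have oD := P6.odd_of_isPGroup F.hp F.p2 pD
  have cT : 𝐨(H1.bar X D F.T) = 𝐨(F.T) :=
    card_bar_of_disj hT (H1.inf_eq_bot_of_coprime' (cop_T F pD))
  have hCt := P5.bar_cent1 nD.1 oD tX it.sq
  have bO : H1.bar X D (Od X) ≤ Od ⊤ := P6.le_Od
    ⟨le_top, normal_iff_top_le.1 (H1.bar_normal nO.2)⟩ (odd_card_bar (P6.odd_Od X))
  have un : ∀ K : Subgroup (X ⧸ D.subgroupOf X), Odd 𝐨(K) → 𝐨(K).Coprime 𝐨(H1.bar X D F.T) →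
      Odd 𝐨(H1.unbar X D K) ∧ 𝐨(H1.unbar X D K).Coprime 𝐨(F.T) := fun K k1 k2 => by
    rw [H1.card_unbar nD.1]
    exact ⟨oD.mul k1, (cop_T F pD).mul_left (cT ▸ k2)⟩
  obtain ⟨P0, Kb, n1, n2, n3, n4, n5, n6⟩ := fa0 (t := H1.qmk X D ⟨t, tX⟩) (P := H1.bar X D F.P)
    (T := H1.bar X D F.T) F.hp (by rw [← map_mul, H1.qmk_eq_one_iff]; exact (congrArg (· ∈ D) it.sq).mpr (one_mem D))
    (fun g => by
      obtain ⟨g, rfl⟩ := H1.qmk_surjective g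
      obtain ⟨o, ho, c, hc, e⟩ := (mem_sup_of_norm (zpowers_le.2 (nO.2 tX))).1 (hO g.2)
      rcases it.mem_zpowers_iff.1 hc with rfl | rfl
      · exact Or.inl (bO (H1.qmk_mem_bar (by rwa [← e, mul_one])))
      · refine Or.inr (bO ?_)
        rw [← map_mul]
        refine H1.qmk_mem_bar ?_
        change (g : G) * c ∈ _
        rwa [← e, it.mul_cancel_right])
    (by rw [← H1.bar_top, pCoreOf_bar F.hp nD.1 le_rfl pD, ← hD, H1.bar_self])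
    (H1.isPGroup_bar (pP F))
    ((H1.bar_mono (P5.Mx.le_O_of_le_sup (zpowers_le.2 tX) it.isPGroup hO hP (oddP F))).trans bO)
    (H1.bar_le_normalizer (TP F he))
    (BG15.semiReg_bar hP (TP F he) (cop_T F (pP F)).symm fun w hw w1 =>
      (regP h F he hα (TP F he) (pP F) w hw w1).le.trans bot_le)
    (fun e => T_ne F (by rwa [e, card_bot, eq_comm, card_eq_one] at cT))
    (hCt ▸ H1.bar_le_normalizer hC) (hCt ▸ H1.bar_mono (le_inf hT (TC F)))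
    (fun w hw w1 => by
      obtain ⟨w, hw', rfl⟩ := H1.mem_bar.1 hw
      clear hw
      have hw := hw'
      refine (cent_bar_le nD.1 w ((cop_T F pD).symm.coprime_dvd_left
        (orderOf_dvd_card_of_mem hw))).trans (hCt ▸ H1.bar_mono (inf_le_inf_left _ (hα w hw ?_)))
      exact fun e => w1 (by rw [show w = 1 from Subtype.ext e, map_one]))
    (fun K k0 k1 k2 k3 => by
      obtain ⟨u1, u2⟩ := un K k1 k2
      have u3 := H1.le_normalizer_unbar_of_normal K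
      have u4 := H1.unbar_le (N := D) K
      constructor
      · rw [← H1.bar_unbar K, H1.bar_inf_centralizer_bar hT u4 (hT.trans u3) u2.symm
          (Or.inr (P5.Mx.isSolvable_of_odd u1)),
          (regT h F he hα (hT.trans u3) u1 u2).cent_eq_bot le_rfl (T_ne F),
          H1.bar_eq_bot_iff bot_le]
        exact bot_le
      · have e := BG15.bar_inf_cent1 (N := D) (R := zpowers t) u4 ((zpowers_le.2 tX).trans u3)
          (P5.Mx.coprime_zpowers it.sq u1) (x := ⟨t, tX⟩) (mem_zpowers t)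
        rw [H1.bar_unbar] at e
        have e2 : H1.unbar X D K ⊓ 𝐂[t] ≤ F.P := le_P h F he hα inf_le_right
          ((inf_le_inf_right _ u4).trans hC) (H1.le_normalizer_inf (hT.trans u3)
            ((TC F).trans le_normalizer)) (P6.odd_of_le inf_le_left u1)
          (H1.coprime_of_le u2 inf_le_left le_rfl)
        refine eq_bot_iff.2 ((le_inf inf_le_left (e.le.trans (H1.bar_mono e2))).trans
          (H1.inf_eq_bot_of_coprime' (H1.coprime_card_of_isPGroup (H1.isPGroup_bar (pP F))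
            (F.hp.coprime_iff_not_dvd.2 k3).symm)).le))
  obtain ⟨u1, u2⟩ := un Kb n2 n3
  have u3 := H1.le_normalizer_unbar_of_normal Kb
  have u4 := H1.unbar_le (N := D) Kb
  have u5 := H1.le_unbar nD.1 Kb
  have u6 : IsSyl F.p D (H1.unbar X D Kb) := ⟨u5, pD, by rwa [relIndex_unbar]⟩
  have u7 : X ≤ H1.unbar X D Kb ⊔ BB F := by
    rw [← hCt, ← H1.bar_unbar Kb, ← H1.bar_sup u4 inf_le_left, ← H1.bar_top,
      H1.bar_le_bar_iff nD.1 le_rfl (sup_le u4 inf_le_left)] at n6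
    refine n6.trans (sup_le (sup_le le_sup_left fun g hg => ?_) (u5.trans le_sup_left))
    exact sup_le_sup_right (((H1.bar_eq_bot_iff hP).1 P0).trans u5) _ (NP F he hg.2 (hC hg))
  refine ⟨_, ⟨u4, u3⟩, u1, u2, u6, fun y hy => ?_, u7, hO, fun Q hQ pQ nQ => ?_⟩
  · obtain ⟨yX, hy⟩ := H1.mem_unbar.1 hy
    have := n5 _ hy
    rw [← mul_eq_one_iff_eq_inv, ← map_mul, ← map_mul, ← map_mul, H1.qmk_eq_one_iff] at this
    exact this
  · have k1 : X ≤ 𝐍((H1.unbar X D Kb ⊔ F.T : Subgroup G)) := u7.trans (sup_le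
      (le_sup_left.trans le_normalizer) (H1.le_normalizer_sup (hB.trans u3) (BT F)))
    have k2 : Q ≤ H1.unbar X D Kb ⊔ F.T :=
      ((regP h F he hα nQ pQ).comm_eq le_rfl (T_ne F) nQ).ge.trans
        ((commutator_mono le_rfl le_sup_right).trans (comm_le_right_iff.2 (hQ.trans k1)))
    refine (u6.trans F.hp le_sup_left fun d => ?_).le_of_normal F.hp
      ((sup_le u4 hT).trans nD.2) pQ k2
    rw [relIndex_sup_of_norm (hT.trans u3)] at d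
    exact F.hp.one_lt.ne' (Nat.eq_one_of_dvd_coprimes F.toL2F.ep.cop_ql (p_dvd F)
      (F.cardT ▸ d.trans (relIndex_dvd_card' _ _)))

end

end Cfsg.Agent.P7.Z
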