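/-
Janko-Ree type: the Sylow `p`-subgroups for the characteristic `p` of `L`.
-/
import Cfsg.Agent.P7.Z4

set_option autoImplicit false
set_option linter.unusedSectionVars false

namespace Cfsg.Agent.P7

open Subgroup Cfsg Cfsg.Agent Cfsg.Agent.FT
open Cfsg.Agent.H2 (pPrimeCoreOf zl)
open Cfsg.Agent.P6 (Inv Od)
open scoped commutatorElement

universe u

variable {G : Type u} [Group G] [Finite G]

namespace Z

theorem relIndex_dvd_of_le_sup {N H X : Subgroup G} (hN : N ≤ X) (hH : H ≤ X) (hn : H ≤ 𝐍(N))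
    (h : X ≤ N ⊔ H) : N.relIndex X ∣ 𝐨(H) := by
  rw [le_antisymm h (sup_le hN hH), relIndex_sup_of_norm hn]
  exact relIndex_dvd_card' _ _

theorem pow_mem_of_sup {N H : Subgroup G} (hn : H ≤ 𝐍(N)) {x : G} (hx : x ∈ H ⊔ N) :
    x ^ 𝐨(H) ∈ N := by
  have k := H1.sup_le_normalizer_of_le hn
  haveI := H1.normal_subgroupOf_of_le k
  obtain ⟨c, hc⟩ := relIndex_dvd_of_le_sup le_sup_right le_sup_left hn (sup_comm H N).le
  rw [hc, pow_mul]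
  exact pow_mem ((N.subgroupOf (H ⊔ N)).pow_index_mem ⟨x, hx⟩) c

theorem odd_cent_of_real (e : E8 G) {z t : G} (it : Inv t) (hz : t * z * t⁻¹ = z⁻¹)
    (h : ∀ a : G, Inv a → z ∈ 𝐂[a] → t ∉ 𝐂[a]) : Odd 𝐨(𝐂[z]) := by
  have h1 : t ∈ 𝐍(zpowers z) := by
    rw [← conj_eq_self_iff, ← zpowers_conj, hz, zpowers_inv]
  obtain ⟨R, hR, k⟩ := exists_isSyl_ge Nat.prime_two it.isPGroup (zpowers_le.2 h1)
  have h2 := hR.inf_normal Nat.prime_two (K := 𝐂(zpowers z))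
    ⟨cent_le_norm _, H1.normalizer_le_normalizer_centralizer _⟩
  rw [cent_zpowers] at h2
  by_contra ho
  obtain ⟨⟨a, ha⟩, a1⟩ := ne_bot_iff_exists_ne_one.1
    (h2.ne_bot Nat.prime_two (Nat.not_odd_iff_even.1 ho).two_dvd)
  exact h a ⟨fun e => a1 (Subtype.ext e), e.sq_of_mem hR.pgrp ha.1⟩ (mem_cent1_comm.1 ha.2)
    (cent_le_cent1 ha.1 (isMulComm_iff_le_cent.1 (e.comm_two R hR.pgrp) (k (mem_zpowers t))))

theorem conj_of_control {p : ℕ} (hp : p.Prime) {U X : Subgroup G} (hU : IsSyl p U X)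
    (fus : ∀ A ≤ U, ∀ g, A ^ᵍ g ≤ U → ∃ c ∈ 𝐂(A), ∃ n ∈ X, g = n * c) {y g : G}
    (hp' : IsPGroup p (zpowers y)) (hy : y ∈ X) (hg : g * y * g⁻¹ ∈ X) :
    ∃ n ∈ X, n * y * n⁻¹ = g * y * g⁻¹ := by
  obtain ⟨a, ha, k1⟩ := hU.exists_conj_le hp hp' (zpowers_le.2 hy)
  obtain ⟨b, hb, k2⟩ := hU.exists_conj_le hp (zpowers_conj y g ▸ hp'.map _) (zpowers_le.2 hg)
  obtain ⟨c, hc, n, hn, e⟩ := fus _ k1 (b * g * a⁻¹) (by
    rwa [conj_conj, inv_mul_cancel_right, ← conj_conj, ← zpowers_conj y g])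
  refine ⟨b⁻¹ * n * a, mul_mem (mul_mem (inv_mem hb) hn) ha, ?_⟩
  have e1 := mem_cent1_iff_conj.1 (cent_le_cent1 (conj_mem_conj (mem_zpowers y) a) hc)
  calc _ = b⁻¹ * n * (a * y * a⁻¹) * n⁻¹ * b := by group
    _ = b⁻¹ * (n * c) * (a * y * a⁻¹) * (n * c)⁻¹ * b := by
        conv_lhs => rw [← e1]
        group
    _ = _ := by rw [← e]; group

variable {t s s0 : G} {L : Subgroup G} {q : ℕ} (h : JRF t L q) (F : Fr 𝐂[t] L t q s s0)
  (he : q + 1 = 4 * F.k) (hα : ∀ w ∈ F.T, w ≠ 1 → 𝐂[w] ≤ 𝐂[t])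
include h he hα

theorem main4 [IsSimpleGroup G] : ¬ F.p ∣ 𝐨(Phi 𝐂[t] s s0) ∧ ∃ U E : Subgroup G,
    IsPGroup F.p U ∧ ¬ F.p ∣ U.index ∧ U ⊓ 𝐂[t] = F.P ∧ (∀ w ∈ F.T, w ≠ 1 → U ⊓ 𝐂[w] = ⊥) ∧
    E ≤ 𝐂(U) ∧ U ⊓ E = ⊥ ∧ (∀ e ∈ E, t * e * t⁻¹ = e⁻¹) ∧ Odd 𝐨(E) ∧
    (zpowers t ⊔ F.T ⊔ Phi 𝐂[t] s s0 ≤ 𝐍(U) ⊓ 𝐍(E)) ∧
    (∀ g ∈ 𝐍(U), ∃ u ∈ U, ∃ e ∈ E, ∃ a ∈ zpowers t ⊔ F.T ⊔ Phi 𝐂[t] s s0, g = u * e * a) ∧
    ∀ A ≤ U, ∀ g, A ^ᵍ g ≤ U → ∃ c ∈ 𝐂(A), ∃ n ∈ 𝐍(U), g = n * c := by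
  have hp := F.hp
  haveI := Fact.mk hp
  have it := inv_t h F
  have ep := F.toL2F.ep
  obtain ⟨U₀, PU, ⟨pU, BU⟩, hmax⟩ := Finite.exists_le_maximal
    (p := fun Q : Subgroup G => IsPGroup F.p Q ∧ BB F ≤ 𝐍(Q)) ⟨pP F, BP F he⟩
  have key : ∀ Z : Subgroup G, Z ≠ ⊥ → IsPGroup F.p Z → U₀ ≤ 𝐍(Z) → BB F ≤ 𝐍(Z) →
      pCoreOf F.p 𝐍(Z) = U₀ := fun Z Z1 pZ k1 k2 => by
    have k3 := sup_le (PU.trans k1) k2
    obtain ⟨K, -, -, -, -, -, -, -, k⟩ := fa h F he hα k3 (normZ h F he hα Z1 pZ k3)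
    have k4 := k U₀ k1 pU ((TB F).trans BU)
    exact le_antisymm (hmax ⟨H2.isPGroup_pCoreOf _ _, k2.trans (pCoreOf_normal _ _).2⟩ k4) k4
  have U1 : U₀ ≠ ⊥ := fun e => by
    have h1 := F.cardP
    have h2 := F.five
    rw [le_bot_iff.1 (PU.trans e.le), card_bot] at h1
    omega
  have hX := sup_le (PU.trans le_normalizer) BU
  have hC := normZ h F he hα U1 pU hX
  obtain ⟨K, nK, oK, cK, sK, iK, XK, XO, -⟩ := fa h F he hα hX hC
  rw [key U₀ U1 pU le_normalizer BU] at sK iK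
  have TX := (TB F).trans BU
  have tX := BU (tB F)
  have reg := regP h F he hα TX pU
  have nC := H1.normalizer_le_normalizer_centralizer U₀
  have nC2 : 𝐍(U₀) ≤ 𝐍((K ⊓ 𝐂(U₀) : Subgroup G)) := H1.le_normalizer_inf nK.2 nC
  have KC : K ≤ U₀ ⊔ K ⊓ 𝐂(U₀) := le_of_forall_exists_isSyl_le fun r hr _ => by
    by_cases e : r = F.p
    · exact ⟨U₀, e ▸ sK, le_sup_left⟩
    obtain ⟨R, hR, -, k⟩ := exists_invariant_isSyl hr (TX.trans nK.2) cK.symm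
      (Or.inr (P5.Mx.isSolvable_of_odd oK)) IsPGroup.of_bot bot_le (le_top.trans norm_bot.ge)
    exact ⟨R, hR, (le_inf hR.le (le_cent_of_reg (regT h F he hα k (P6.odd_of_le hR.le oK)
      (H1.coprime_of_le cK hR.le le_rfl)) (T_ne F) k (hR.le.trans nK.1) TX
      (coprime_card_of_isPGroup hp hr (Ne.symm e) pU hR.pgrp) (cop_T F pU)
      (H1.isSolvable_of_isPGroup pU) (reg.cent_eq_bot le_rfl (T_ne F)))).trans le_sup_right⟩
  have s2 := sK.inf_normal hp (K := K ⊓ 𝐂(U₀)) ⟨inf_le_left, nK.1.trans nC2⟩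
  have CE := P5.Mx.le_sup_of_burnside s2.le s2.pgrp s2.ndvd
    (inf_le_left.trans (inf_le_right.trans (cent_anti inf_le_left)))
  have nE := nC2.trans (H2.normalizer_le_normalizer_pPrimeCoreOf F.p _)
  have EC := (pPrimeCoreOf_normal F.p (K ⊓ 𝐂(U₀))).1
  have cE := H2.coprime_card_pPrimeCoreOf F.p (K ⊓ 𝐂(U₀))
  generalize pPrimeCoreOf F.p (K ⊓ 𝐂(U₀)) = E at *
  have UE := H1.inf_eq_bot_of_coprime' (H1.coprime_card_of_isPGroup pU cE).symm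
  have KE : K ≤ U₀ ⊔ E := KC.trans (sup_le le_sup_left
    (CE.trans (sup_le le_sup_right (inf_le_left.trans le_sup_left))))
  have nN : 𝐍(U₀) ≤ 𝐍((U₀ ⊔ 𝐂(U₀) : Subgroup G)) := H1.le_normalizer_sup le_rfl nC
  have KN : K ≤ U₀ ⊔ 𝐂(U₀) := KC.trans (sup_le_sup_left inf_le_right _)
  have TN : ∀ w ∈ F.T, w ∈ U₀ ⊔ 𝐂(U₀) → w = 1 := fun w hw k => by
    by_contra w1
    refine center_ne_bot (isNilpotent_of_isPGroup hp pU) U1 (eq_bot_iff.2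
      (reg w hw w1 ▸ le_inf inf_le_left (H1.mem_centralizer_iff_le.1 ?_)))
    exact sup_le (cent_comm.1 inf_le_right) (cent_anti inf_le_left) k
  have AB : zpowers t ⊔ F.T ≤ BB F := le_sup_left
  have AX := AB.trans BU
  have sM : IsSyl F.p U₀ (K ⊔ (zpowers t ⊔ F.T)) := sK.trans hp le_sup_left fun d => by
    have d1 := (d.trans (relIndex_dvd_of_le_sup le_sup_left le_sup_right (AX.trans nK.2)
      le_rfl)).trans (H1.card_sup_dvd (zpowers_le.2 (cent_le_norm _ (tT F))))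
    rw [it.card_zpowers, F.cardT] at d1
    rcases hp.dvd_mul.1 d1 with d | d
    · exact F.p2 ((Nat.prime_dvd_prime_iff_eq hp Nat.prime_two).1 d)
    · exact hp.one_lt.ne' (Nat.eq_one_of_dvd_coprimes ep.cop_ql (p_dvd F) d)
  have MX := sup_le nK.1 AX
  have nO := P6.Od_normal 𝐍(U₀)
  obtain ⟨U, hU', -, tU⟩ := exists_invariant_isSyl hp ((zpowers_le.2 tX).trans nO.2)
    (it.coprime (P6.odd_Od _)) (Or.inl inferInstance) IsPGroup.of_bot bot_le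
    (le_top.trans norm_bot.ge)
  have hU : IsSyl F.p U 𝐍(U₀) := hU'.trans hp nO.1 fun d => F.p2
    ((Nat.prime_dvd_prime_iff_eq hp Nat.prime_two).1 (it.card_zpowers ▸ d.trans
      (relIndex_dvd_of_le_sup nO.1 (zpowers_le.2 tX) ((zpowers_le.2 tX).trans nO.2) XO)))
  have UU : U₀ ≤ U := hU.le_of_le_norm hp pU le_normalizer hU.le
  have fac := fun g (hg : g ∈ 𝐍(U₀)) => H2.exists_mul_normalizer_zl F.p2
    (P5.Mx.isSolvable_of_le_sup (zpowers_le.2 tX) it.isPGroup XO) (fun T _ => h.e8.comm_two T)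
    hU.le hU.pgrp hU.ndvd hg
  have OC : pPrimeCoreOf F.p 𝐍(U₀) ≤ 𝐂(U₀) := le_cent_of_norm_of_coprime
    (pPrimeCoreOf_normal _ _).1 (le_normalizer.trans (pPrimeCoreOf_normal _ _).2)
    (H1.coprime_card_of_isPGroup pU (H2.coprime_card_pPrimeCoreOf _ _)).symm
  have ZU := H2.zl_le U
  have pZ := hU.pgrp.to_le ZU
  have Z0 : zl U ≤ U₀ := fun z hz => by
    obtain ⟨k, hk, b, hb, e⟩ := (mem_sup_of_norm (BU.trans nK.2)).1 (XK (hU.le (ZU hz)))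
    have hb' : b ∈ 𝐂(F.T) := mem_cent.2 fun w hw => by
      have k1 : ⁅w, b⁆ ∈ F.T := by
        have := mul_mem hw (nConj (BT F hb) (inv_mem hw))
        exact (congrArg (· ∈ F.T) (by rw [commutatorElement_def]; group)).mp this
      obtain ⟨o, ho, n, hn, e'⟩ := fac w (TX hw)
      have o1 : o ∈ zl U ⊔ (U₀ ⊔ 𝐂(U₀)) := mem_sup_right (mem_sup_right (OC ho))
      have k2 : ⁅w, b⁆ ∈ zl U ⊔ (U₀ ⊔ 𝐂(U₀)) := by
        have := mul_mem (mul_mem (mul_mem (mem_sup_right (nConj (nN (TX hw)) (KN (inv_mem hk))))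
          (mul_mem (mul_mem o1 (mem_sup_left (nConj hn.2 hz))) (inv_mem o1)))
          (mem_sup_left (inv_mem hz))) (mem_sup_right (KN hk))
        refine (congrArg (· ∈ zl U ⊔ (U₀ ⊔ 𝐂(U₀))) ?_).mp this
        rw [commutatorElement_def, ← e, e']; group
      have k3 := TN _ (pow_mem k1 _) (pow_mem_of_sup ((ZU.trans hU.le).trans nN) k2)
      exact commutatorElement_eq_one_iff_mul_comm.1 (orderOf_eq_one_iff.1
        (Nat.eq_one_of_dvd_coprimes (cop_T F pZ) (orderOf_dvd_of_pow_eq_one k3)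
          (orderOf_dvd_card_of_mem k1)))
    exact zpowers_le.1 (sM.le_of_normal hp MX (pZ.to_le (zpowers_le.2 hz)) (zpowers_le.2
      (e ▸ mul_mem (mem_sup_left hk) (mem_sup_right (centT' F he ⟨BC F hb, hb'⟩)))))
  have XZ : 𝐍(U₀) ≤ 𝐍(zl U) := fun g hg => by
    obtain ⟨o, ho, n, hn, rfl⟩ := fac g hg
    exact mul_mem (cent_le_norm _ (cent_anti Z0 (OC ho))) hn.2
  haveI := isNilpotent_of_isPGroup hp hU.pgrp
  have U2 : U ≠ ⊥ := fun e => U1 (le_bot_iff.1 (UU.trans e.le))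
  have ZX : 𝐍(zl U) ≤ 𝐍(U₀) :=
    key _ (H2.zl_ne_bot U2) pZ (le_normalizer.trans XZ) (BU.trans XZ) ▸ (pCoreOf_normal _ _).2
  have sU : IsSyl F.p U ⊤ := IsSyl.of_norm hp (hU.of_le (le_inf le_top le_normalizer)
    (inf_le_right.trans ((H2.normalizer_le_normalizer_zl U).trans ZX)))
  have CP : U₀ ⊓ 𝐂[t] ≤ F.P := le_P h F he hα inf_le_right
    ((inf_le_inf_right _ le_normalizer).trans hC) (H1.le_normalizer_inf TX
      ((TC F).trans le_normalizer)) (P6.odd_of_isPGroup hp F.p2 (pU.to_le inf_le_left))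
    (cop_T F (pU.to_le inf_le_left))
  have sol : Group.IsSolvable 𝐂(𝐙(U)) := by
    by_cases k : ∃ z ∈ 𝐙(U), z ≠ 1 ∧ Commute t z
    · obtain ⟨z, hz, z1, k⟩ := k
      have zP := CP ⟨Z0 (H2.zOf_le_zl U hz), mem_cent1_iff_commute.2 k⟩
      have k1 := mem_cent1_iff_commute.2 k.symm
      exact H1.isSolvable_of_le (cent_le_cent1 hz) (P5.Mx.isSolvable_of_le_sup (zpowers_le.2 k1)
        it.isPGroup (le_sup_two h.e8 it k1 fun r hr rt => two_NP F he rt (tiP' F zP z1 rt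
          (by rw [mem_cent1_iff_conj.1 hr]; exact le_normalizer zP))))
    · obtain ⟨⟨z, hz⟩, z1⟩ := ne_bot_iff_exists_ne_one.1 (center_ne_bot inferInstance U2)
      have e := Agent.L.inverts_of_fpf it.sq (norm_le_norm_center U (tU (mem_zpowers t)))
        (fun a ha c => by_contra fun a1 => k ⟨a, ha, a1, c⟩) z hz
      have e' : t * z * t⁻¹ = z⁻¹ := by rwa [it.inv_eq]
      exact H1.isSolvable_of_le (cent_le_cent1 hz) (P5.Mx.isSolvable_of_odd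
        (odd_cent_of_real h.e8 it e' fun a ia c1 c2 => z1 (Subtype.ext (not_real h F he ia c1
          (hU.pgrp.to_le (zpowers_le.2 hz.1)) c2 it.sq e'))))
  have fus : ∀ A ≤ U, ∀ g, A ^ᵍ g ≤ U → ∃ c ∈ 𝐂(A), ∃ n ∈ 𝐍(U₀), g = n * c := fun A hA g hg => by
    obtain ⟨c, hc, n, hn, e⟩ := zf hp F.p2 h.e8.comm_two sU sol hA hg
    exact ⟨c, hc, n, ZX hn, e⟩
  have nd : ¬ F.p ∣ 𝐨(Phi 𝐂[t] s s0) := fun d => by
    obtain ⟨y, hy, ho⟩ := exists_mem_orderOf_eq_prime hp d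
    have yX := BU (phiB F hy)
    have py : IsPGroup F.p (zpowers y) := isPGroup_of_card_prime (by rw [Nat.card_zpowers, ho])
    have k1 := P6.pow_index_mem_der (perfect h F) yX fun k g hg => conj_of_control hp hU fus
      (py.to_le (zpowers_le.2 (pow_mem (mem_zpowers y) k))) (pow_mem yX k) hg
    have n1 : K ≤ 𝐍((K ⊔ F.T : Subgroup G)) := le_sup_left.trans le_normalizer
    have n2 : BB F ≤ 𝐍((K ⊔ F.T : Subgroup G)) := H1.le_normalizer_sup (BU.trans nK.2) (BT F)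
    have BB' : BB F ≤ F.T ⊔ (Phi 𝐂[t] s s0 ⊔ zpowers t) := sup_le (sup_le
      (le_sup_right.trans le_sup_right) le_sup_left) (le_sup_left.trans le_sup_right)
    have n3 := (sup_le (phiB F) (zpowers_le.2 (tB F))).trans (BT F)
    have k2 : ⁅BB F, BB F⁆ ≤ F.T := (commutator_mono BB' BB').trans (der_sup_le le_normalizer n3
      (FT.der_le _) (comm_le_left_iff.2 n3) (isMulComm_iff_comm_eq_bot.1 (isMulComm_sup
        (isMulComm_of_isCyclic F.cycF) inferInstance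
        (cent_comm.1 ((phiC F).trans (cent_zpowers t).ge))) ▸ bot_le))
    have k3 := (commutator_mono XK XK).trans (der_sup_le n1 n2 ((FT.der_le _).trans le_sup_left)
      ((comm_le_left_iff.2 (BU.trans nK.2)).trans le_sup_left) (k2.trans le_sup_right)) k1
    have k4 : ⁅F.T, K ⊔ F.T⁆ ≤ K := comm_sup_le le_normalizer (TX.trans nK.2)
      (comm_le_right_iff.2 (TX.trans nK.2)) (comm_eq_bot_iff.2 (T_comm F) ▸ bot_le)
    have k5 := faith F he (pow_mem hy _) (mem_cent.2 fun w hw =>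
      commutatorElement_eq_one_iff_mul_comm.1 (mem_bot.1 (H1.inf_eq_bot_of_coprime' cK ▸
        mem_inf.2 ⟨k4 (commutator_mem_commutator hw k3), comm_le_left_iff.2 F.FT
          (commutator_mem_commutator hw (pow_mem hy 𝐍(U₀).index))⟩)))
    refine sU.ndvd ?_
    rw [relIndex_top_right]
    exact (ho ▸ orderOf_dvd_of_pow_eq_one k5).trans (index_dvd_of_le hU.le)
  have s0' : IsSyl F.p U₀ 𝐍(U₀) := sM.trans hp MX fun d => nd (d.trans (relIndex_dvd_of_le_sup MX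
    ((phiB F).trans BU) (H1.le_normalizer_sup (((phiB F).trans BU).trans nK.2)
      (H1.le_normalizer_sup ((phiC F).trans fun _ => nZp) F.FT)) (XK.trans (sup_assoc _ _ _).ge)))
  obtain rfl := s0'.eq_of_le hp UU hU.le hU.pgrp
  refine ⟨nd, U, E, pU, relIndex_top_right U ▸ sU.ndvd, le_antisymm CP (le_inf PU (PC F)), reg,
    EC.trans inf_le_right, UE, fun e he' => ?_, P6.odd_of_le (EC.trans inf_le_left) oK,
    le_inf BU (BU.trans nE), fun g hg => ?_, fus⟩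
  · rw [← mul_eq_one_iff_eq_inv]
    exact mem_bot.1 (UE ▸ mem_inf.2 ⟨by rw [it.inv_eq]; exact iK e (EC he').1,
      mul_mem (nConj (nE tX) he') he'⟩)
  · obtain ⟨k, hk, b, hb, rfl⟩ := (mem_sup_of_norm (BU.trans nK.2)).1 (XK hg)
    obtain ⟨u, hu, e, he', rfl⟩ := (mem_sup_of_norm ((EC.trans inf_le_left).trans nK.1)).1 (KE hk)
    exact ⟨u, hu, e, he', b, hb, rfl⟩

end Z

open Z

variable [IsSimpleGroup G] {t s s0 : G} {L : Subgroup G} {q : ℕ}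

theorem j4 (h : JRF t L q) (F : Fr 𝐂[t] L t q s s0) (hα : ∀ w ∈ F.T, w ≠ 1 → 𝐂[w] ≤ 𝐂[t])
    (he : q + 1 = 4 * F.k) : ∃ U E : Subgroup G,
    IsPGroup F.p U ∧ ¬ F.p ∣ U.index ∧ U ⊓ 𝐂[t] = F.P ∧ (∀ w ∈ F.T, w ≠ 1 → U ⊓ 𝐂[w] = ⊥) ∧
    E ≤ 𝐂(U) ∧ U ⊓ E = ⊥ ∧ (∀ e ∈ E, t * e * t⁻¹ = e⁻¹) ∧ Odd 𝐨(E) ∧
    (zpowers t ⊔ F.T ⊔ Phi 𝐂[t] s s0 ≤ 𝐍(U) ⊓ 𝐍(E)) ∧
    (∀ g ∈ 𝐍(U), ∃ u ∈ U, ∃ e ∈ E, ∃ a ∈ zpowers t ⊔ F.T ⊔ Phi 𝐂[t] s s0, g = u * e * a) ∧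
    ∀ A ≤ U, ∀ g, A ^ᵍ g ≤ U → ∃ c ∈ 𝐂(A), ∃ n ∈ 𝐍(U), g = n * c :=
  (main4 h F he hα).2

theorem j4_cop (hI : Ind3.{u} (Nat.card G)) (h : JRF t L q) (F : Fr 𝐂[t] L t q s s0)
    (hα : ∀ w ∈ F.T, w ≠ 1 → 𝐂[w] ≤ 𝐂[t]) : (𝐨(Phi 𝐂[t] s s0)).Coprime 𝐨(L) := by
  refine Nat.coprime_of_dvd fun r hr d => (j0 hI h F r hr d).resolve_left fun ⟨e1, e2⟩ => ?_
  refine (main4 h F ?_ hα).1 (by rwa [e2, ← e1])
  obtain ⟨m, hm⟩ := F.oddn
  have e3 : q % 4 = 3 := by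
    rw [F.hq, e2, hm, pow_succ, pow_mul, Nat.mul_mod, Nat.pow_mod]; norm_num
  rcases F.eps with k | k <;> omega

theorem j4_p (h : JRF t L q) (F : Fr 𝐂[t] L t q s s0) (hα : ∀ w ∈ F.T, w ≠ 1 → 𝐂[w] ≤ 𝐂[t])
    (he : q + 1 = 4 * F.k) : ¬ F.p ∣ (𝐂[t]).index ∨ q ∣ (𝐂[t]).index := by
  obtain ⟨nd, U, E, pU, iU, UC, reg, -, -, -, -, hB, -⟩ := main4 h F he hα
  have hp := F.hp
  have ep := F.toL2F.ep
  have PU : F.P ≤ U := UC.ge.trans inf_le_left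
  obtain ⟨j, hj⟩ := exists_card_eq_pow hp pU
  have d1 := Subgroup.card_dvd_of_le PU
  rw [F.cardP, hj] at d1
  obtain ⟨i, rfl⟩ := Nat.exists_eq_add_of_le
    ((Nat.pow_dvd_pow_iff_le_right hp.one_lt).1 (F.hq.symm.dvd.trans d1))
  rw [pow_add, ← F.hq] at hj
  have e1 := U.card_mul_index
  have e2 := (𝐂[t] : Subgroup G).card_mul_index
  rw [F.card, h.card_sup, F.cardL, ← e1, hj] at e2
  have e3 : 4 * F.k * F.l * 2 * 𝐨(Phi 𝐂[t] s s0) * (𝐂[t]).index = F.p ^ i * U.index :=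
    Nat.eq_of_mul_eq_mul_left (show 0 < q by have := F.five; omega) (by linarith)
  rcases i with _ | i
  · exact Or.inl fun d => iU (by
      rw [pow_zero, one_mul] at e3
      exact e3 ▸ d.mul_left _)
  right
  have d2 := SemiReg.card_dvd reg (((TB F).trans hB).trans inf_le_left)
  have e4 := (eps' F he).1
  obtain ⟨m, hm⟩ : ∃ m, F.p ^ (i + 1) = m + 1 := ⟨_, (Nat.succ_pred_eq_of_pos (pow_pos hp.pos _)).symm⟩
  have m0 : 0 < m := by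
    have : 1 < F.p ^ (i + 1) := Nat.one_lt_pow (Nat.succ_ne_zero i) hp.one_lt
    omega
  rw [F.cardT, hj, hm, show q * (m + 1) - 1 = F.l * (2 * (m + 1)) + m from
    Nat.sub_eq_of_eq_add ((congrArg (· * (m + 1)) e4).trans (by ring))] at d2
  have d3 := Nat.le_of_dvd m0 ((Nat.dvd_add_right (dvd_mul_right _ _)).1 d2)
  have d4 : q ∣ F.p ^ (i + 1) := by
    refine F.hq.dvd.trans
      (pow_dvd_pow _ (Nat.le_of_lt_succ ((Nat.pow_lt_pow_iff_right hp.one_lt).1 ?_)))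
    have : 3 ≤ F.p := by have := hp.two_le; have := F.p2; omega
    rw [pow_succ, hm, ← F.hq]
    nlinarith
  refine Nat.Coprime.dvd_of_dvd_mul_left ?_ (e3 ▸ d4.mul_right _)
  refine ((ep.cop_qk.mul_right ep.cop_ql).mul_right (Nat.coprime_two_right.2 ep.oddq)).mul_right ?_
  exact ((hp.coprime_iff_not_dvd.2 nd).pow_left _).coprime_dvd_left F.hq.dvd

end Cfsg.Agent.P7
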