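/-
Subgroups of `GL₂(r)` containing `diag(1, ζ)` in which the stabilizer of the first line is small.
-/
import Cfsg.Agent.P7.ZF

set_option autoImplicit false
set_option linter.unusedSectionVars false

namespace Cfsg.Agent.P7.Z

open Subgroup Cfsg Cfsg.Agent Cfsg.Agent.FT

variable {r : ℕ} [Fact r.Prime]

theorem gl_mul (x y : GL (Fin 2) (ZMod r)) (i j : Fin 2) :
    (x * y).val i j = x.val i 0 * y.val 0 j + x.val i 1 * y.val 1 j := by
  simp [Matrix.mul_apply, Fin.sum_univ_two]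

theorem gl_det_ne (x : GL (Fin 2) (ZMod r)) : x.val 0 0 * x.val 1 1 - x.val 0 1 * x.val 1 0 ≠ 0 := by
  rw [← Matrix.det_fin_two]
  exact x.det_ne_zero

theorem gl_eq_one {x : GL (Fin 2) (ZMod r)} (h1 : x.val 0 0 = 1) (h2 : x.val 0 1 = 0)
    (h3 : x.val 1 0 = 0) (h4 : x.val 1 1 = 1) : x = 1 := by
  ext i j
  fin_cases i <;> fin_cases j <;> simpa

theorem gl_ent {x y z w : GL (Fin 2) (ZMod r)} (e : x * y = z * w) (i j : Fin 2) :
    x.val i 0 * y.val 0 j + x.val i 1 * y.val 1 j = z.val i 0 * w.val 0 j + z.val i 1 * w.val 1 j := by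
  rw [← gl_mul, e, gl_mul]

theorem gl_pow {u : GL (Fin 2) (ZMod r)} (h1 : u.val 0 0 = 1) (h2 : u.val 0 1 = 0)
    (h4 : u.val 1 1 = 1) (j : ℕ) : (u ^ j).val 0 0 = 1 ∧ (u ^ j).val 0 1 = 0 ∧
      (u ^ j).val 1 0 = j * u.val 1 0 ∧ (u ^ j).val 1 1 = 1 := by
  induction j with
  | zero => simp
  | succ j ih =>
    obtain ⟨a, b, c, d⟩ := ih
    simp only [pow_succ, gl_mul, a, b, c, d, h1, h2, h4]
    push_cast
    refine ⟨by ring, by ring, by ring, by ring⟩

theorem g2 (h2 : (2 : ZMod r) ≠ 0) {D : Subgroup (GL (Fin 2) (ZMod r))} {e : GL (Fin 2) (ZMod r)}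
    (he : e ∈ D) (e1 : e.val 0 0 = 1) (e2 : e.val 0 1 = 0) (e3 : e.val 1 0 = 0)
    (hz : e.val 1 1 * e.val 1 1 ≠ 1) (hs1 : ∀ n ∈ D, n.val 1 0 = 0 → n.val 0 0 = 1)
    (hs2 : ∀ n ∈ D, n.val 1 0 = 0 → n.val 1 1 = 1 → n.val 0 1 = 0) :
    ∀ n ∈ D, n.val 0 1 = 0 ∧ n.val 0 0 = 1 := by
  have z1 : e.val 1 1 - 1 ≠ 0 := fun k => hz (by rw [sub_eq_zero.1 k, mul_one])
  have z0 : e.val 1 1 ≠ 0 := fun k => gl_det_ne e (by rw [k, e2]; ring)
  obtain ⟨K, hK⟩ : ∃ K, K = D ⊓ (Matrix.GeneralLinearGroup.det (n := Fin 2) (R := ZMod r)).ker :=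
    ⟨_, rfl⟩
  have mK : ∀ x ∈ K, x ∈ D ∧ x.val 0 0 * x.val 1 1 - x.val 0 1 * x.val 1 0 = 1 := fun x hx => by
    rw [hK] at hx
    exact ⟨hx.1, by rw [← Matrix.det_fin_two]; exact congrArg Units.val hx.2⟩
  have nK : D ≤ 𝐍(K) := hK ▸ H1.le_normalizer_inf le_normalizer
    (le_top.trans (normalizer_eq_top _).ge)
  have oK : Odd 𝐨(K) := Agent.L.odd_card_of_forall_sq fun a ha aa => by
    obtain ⟨aD, d⟩ := mK a ha
    have k := fun i j => gl_ent (aa.trans (mul_one 1).symm) i j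
    have k00 := k 0 0
    have k01 := k 0 1
    have k10 := k 1 0
    have k11 := k 1 1
    simp at k00 k01 k10 k11
    have t0 : a.val 0 0 + a.val 1 1 ≠ 0 := fun t => h2 (by
      linear_combination a.val 0 0 * t - k00 - d)
    have c0 : a.val 1 0 = 0 := (mul_eq_zero.1 (by linear_combination k10 :
      a.val 1 0 * (a.val 0 0 + a.val 1 1) = 0)).resolve_right t0
    have a1 := hs1 a aD c0
    have a2 : a.val 1 1 = 1 := by rw [a1, c0] at d; linear_combination d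
    exact gl_eq_one a1 (hs2 a aD c0 a2) c0 a2
  have low : ∀ n ∈ D, n.val 0 1 = 0 := by
    by_cases K1 : K = ⊥
    · intro n hn
      have k : n * e * n⁻¹ * e⁻¹ ∈ K := hK ▸ mem_inf.2
        ⟨mul_mem (mul_mem (mul_mem hn he) (inv_mem hn)) (inv_mem he), by
          rw [MonoidHom.mem_ker, map_mul, map_mul, map_mul, map_inv, map_inv, mul_inv_cancel_comm,
            mul_inv_cancel]⟩
      rw [K1, mem_bot, mul_inv_eq_one, mul_inv_eq_iff_eq_mul] at k
      have k01 := gl_ent k 0 1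
      rw [e1, e2] at k01
      exact (mul_eq_zero.1 (by linear_combination k01 : n.val 0 1 * (e.val 1 1 - 1) = 0)).resolve_right z1
    obtain ⟨U, UK, U1, nU, mU⟩ := exists_minimal_invariant nK K1
    have oU := P6.odd_of_le UK oK
    have cU : U ≤ 𝐂(U) := comm_eq_bot_iff.1 ((mU _ (FT.der_le U)
      (H1.le_normalizer_commutator nU nU)).resolve_right
        (H1.commutator_lt_of_isSolvable (P5.Mx.isSolvable_of_odd oU) U1).ne)
    have f1 : ∀ b ∈ U, b ≠ 1 → b.val 1 0 ≠ 0 ∧ b.val 0 1 = 0 ∧ b.val 0 0 * b.val 0 0 = 1 ∧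
        b.val 1 1 = b.val 0 0 := fun b hb b1 => by
      obtain ⟨bD, d⟩ := mK b (UK hb)
      have c0 : b.val 1 0 ≠ 0 := fun c0 => by
        have a1 := hs1 b bD c0
        have a2 : b.val 1 1 = 1 := by rw [a1, c0] at d; linear_combination d
        exact b1 (gl_eq_one a1 (hs2 b bD c0 a2) c0 a2)
      obtain ⟨c, hc, k⟩ : ∃ c ∈ U, c * e = e * b := ⟨_, nConj (nU he) hb, by group⟩
      have k00 := gl_ent k 0 0
      have k01 := gl_ent k 0 1
      have k10 := gl_ent k 1 0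
      have k11 := gl_ent k 1 1
      have m00 := gl_ent (cU hc b hb) 0 0
      have m10 := gl_ent (cU hc b hb) 1 0
      simp only [e1, e2, e3] at k00 k01 k10 k11
      have c11 : c.val 1 1 = b.val 1 1 := mul_right_cancel₀ z0 (by linear_combination k11)
      have b0 : b.val 0 1 = 0 := by
        have : c.val 0 1 * b.val 1 0 * (e.val 1 1 * e.val 1 1 - 1) = 0 := by
          linear_combination m00 + (b.val 1 0 * e.val 1 1) * k01 - b.val 0 1 * k10
        rw [((mul_eq_zero.1 ((mul_eq_zero.1 this).resolve_right (sub_ne_zero.2 hz))).resolve_right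
          c0)] at k01
        linear_combination -k01
      have b2 : b.val 1 1 = b.val 0 0 := by
        have : b.val 1 0 * (e.val 1 1 - 1) * (b.val 1 1 - b.val 0 0) = 0 := by
          linear_combination m10 - b.val 1 0 * k00 - (b.val 1 1 - b.val 0 0) * k10 + b.val 1 0 * c11
        exact sub_eq_zero.1 ((mul_eq_zero.1 this).resolve_left (mul_ne_zero c0 z1))
      exact ⟨c0, b0, by rw [b0, b2] at d; linear_combination d, b2⟩
    have f2 : ∀ b ∈ U, b ≠ 1 → b.val 0 0 = 1 := fun b hb b1 => by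
      obtain ⟨g, hg, rfl⟩ := Agent.L.exists_sq_eq_of_odd oU hb
      obtain ⟨-, k1, k2, -⟩ := f1 g hg fun k => b1 (by rw [k, mul_one])
      rw [gl_mul, k1, k2]; ring
    intro n hn
    obtain ⟨⟨b, hb⟩, b1⟩ := ne_bot_iff_exists_ne_one.1 U1
    have b1' : b ≠ 1 := fun k => b1 (Subtype.ext k)
    obtain ⟨c, hc, c1, k⟩ : ∃ c ∈ U, c ≠ 1 ∧ c * n = n * b :=
      ⟨_, nConj (nU hn) hb, by simpa using b1', by group⟩
    have k00 := gl_ent k 0 0
    rw [f2 c hc c1, (f1 c hc c1).2.1, f2 b hb b1'] at k00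
    exact (mul_eq_zero.1 (by linear_combination -k00 : n.val 0 1 * b.val 1 0 = 0)).resolve_right
      (f1 b hb b1').1
  refine fun n hn => ⟨low n hn, ?_⟩
  by_cases c0 : n.val 1 0 = 0
  · exact hs1 n hn c0
  obtain ⟨u, hu, k⟩ : ∃ u ∈ D, u * (n * e) = e * n :=
    ⟨e * n * e⁻¹ * n⁻¹, mul_mem (mul_mem (mul_mem he hn) (inv_mem he)) (inv_mem hn), by group⟩
  have d := gl_det_ne n
  rw [low n hn, zero_mul, sub_zero] at d
  have k00 := gl_ent k 0 0
  have k10 := gl_ent k 1 0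
  have k11 := gl_ent k 1 1
  simp only [gl_mul, e1, e2, e3, low n hn, low u hu] at k00 k10 k11
  have u0 : u.val 0 0 = 1 := mul_right_cancel₀ (left_ne_zero_of_mul d) (by linear_combination k00)
  have u1 : u.val 1 1 = 1 := mul_right_cancel₀ (mul_ne_zero (right_ne_zero_of_mul d) z0)
    (by linear_combination k11)
  have u2 : u.val 1 0 ≠ 0 := fun k => mul_ne_zero c0 z1 (by
    rw [k, u1] at k10; linear_combination -k10)
  obtain ⟨p1, p2, p3, -⟩ := gl_pow u0 (low u hu) u1 (-n.val 1 0 / (n.val 1 1 * u.val 1 0)).val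
  have := hs1 _ (mul_mem hn (pow_mem hu (-n.val 1 0 / (n.val 1 1 * u.val 1 0)).val)) (by
    have := right_ne_zero_of_mul d
    rw [gl_mul, p1, p3, ZMod.natCast_zmod_val]
    field_simp
    ring)
  rwa [gl_mul, p1, low n hn, mul_one, zero_mul, add_zero] at this

end Cfsg.Agent.P7.Z
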