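/-
An `r`-group `R` with a coprime automorphism `h` fixing exactly `⟨ψ⟩`, where `C_R(ψ)` is small.
-/
import Cfsg.Agent.P7.ZF

set_option autoImplicit false
set_option linter.unusedSectionVars false

namespace Cfsg.Agent.P7.Z

open Subgroup Cfsg Cfsg.Agent Cfsg.Agent.FT
open scoped commutatorElement

universe u

section
variable {G : Type u} [Group G] [Finite G] {r : ℕ}

theorem eq_one_of_pow_eq (hr : r.Prime) {R : Subgroup G} (hR : IsPGroup r R) {x : G} (hx : x ∈ R)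
    {a b : ℕ} (e : x ^ a = x ^ b) (h : ¬ a ≡ b [MOD r]) : x = 1 := by
  by_contra x1
  refine h ((pow_eq_pow_iff_modEq.1 e).of_dvd ?_)
  rw [← Nat.card_zpowers]
  exact prime_dvd_card_of_isPGroup hr (hR.to_le (zpowers_le.2 hx)) (by simpa using x1)

theorem conj_pow_eq {g y d : G} (e : g * y * g⁻¹ = d * y) (hc : Commute g d) (n : ℕ) :
    g ^ n * y * (g ^ n)⁻¹ = d ^ n * y := by
  induction n with
  | zero => simp
  | succ n ih =>
    calc _ = g * (g ^ n * y * (g ^ n)⁻¹) * g⁻¹ := by group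
      _ = d ^ n * (g * y * g⁻¹) := by rw [ih, ← mul_assoc, (hc.pow_right n).eq]; group
      _ = _ := by rw [e]; group

theorem commute_of_conj_eq {a b y : G} (e : a * y * a⁻¹ = b * y * b⁻¹) : Commute y (a⁻¹ * b) := by
  change y * (a⁻¹ * b) = a⁻¹ * b * y
  calc _ = a⁻¹ * (a * y * a⁻¹) * b := by group
    _ = _ := by rw [e]; group

theorem comm_pow_pow {x y : G} (h1 : Commute x ⁅x, y⁆) (h2 : Commute y ⁅x, y⁆) (m : ℕ) :
    ⁅x ^ m, y ^ m⁆ = ⁅x, y⁆ ^ (m * m) := by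
  have e : ⁅x, y ^ m⁆ = ⁅x, y⁆ ^ m := by
    rw [← commutatorElement_inv, H1.commutatorElement_pow_left_of_central
      (by rw [← commutatorElement_inv]; exact h2.inv_right), ← inv_pow, commutatorElement_inv]
  rw [H1.commutatorElement_pow_left_of_central (e ▸ h1.pow_right m), e, pow_mul]

end

theorem wlem0 {r m k : ℕ} (hr : r.Prime) (hm : ¬ m * m ≡ 1 [MOD r]) (hm0 : ¬ r ∣ m)
    (hk : ¬ r ∣ k + 1) (n : ℕ) : ∀ (G : Type u) [Group G] [Finite G] (R : Subgroup G) (ψ h : G),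
    𝐨(R) = n → IsPGroup r R → R ⊔ zpowers h = ⊤ → h ∈ 𝐍(R) → h ^ (k + 1) = 1 → ψ ∈ R →
    h * ψ * h⁻¹ = ψ → (∀ x ∈ R, x ^ m ^ (k + 1) = x) →
    (∀ g ∈ R, h * g * h⁻¹ = g → g ∈ zpowers ψ) →
    (∀ g ∈ R, Commute ψ g → (g ^ m)⁻¹ * (h * g * h⁻¹) ∈ zpowers ψ) →
    (∀ y ∈ R, ∀ g ∈ R, Commute ψ y → Commute ψ g → y ∉ zpowers ψ →
      ∃ j : ℕ, (y ^ j)⁻¹ * g ∈ zpowers ψ) →
    (∀ x ∈ R, ∀ y ∈ R, h * x * h⁻¹ = x ^ m → h * y * h⁻¹ = y ^ m → Commute x y) ∧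
      ∀ g ∈ R, ∃ x ∈ R, h * x * h⁻¹ = x ^ m ∧ x⁻¹ * g ∈ zpowers ψ := by
  induction n using Nat.strong_induction_on with
  | _ n ih =>
  rintro G _ _ R ψ h rfl hR top hN hk1 ψR hψ ex ch z1 z2
  haveI := Fact.mk hr
  by_cases R1 : R = ⊥
  · subst R1
    refine ⟨fun x hx y _ _ _ => (mem_bot.1 hx).symm ▸ Commute.one_left y, fun g hg =>
      ⟨1, one_mem _, by simp, by rw [mem_bot.1 hg]; simp⟩⟩
  have m1 : ¬ m ≡ 1 [MOD r] := fun e => hm (e.mul e)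
  have m2 : ¬ m * m ≡ m [MOD r] := fun e => m1 (Nat.ModEq.cancel_left_of_coprime
    (hr.coprime_iff_not_dvd.2 hm0) (by rwa [mul_one]))
  have cop : 𝐨(zpowers h).Coprime 𝐨(R) := H1.coprime_card_of_isPGroup hR (by
    rw [Nat.card_zpowers]
    exact ((hr.coprime_iff_not_dvd.2 hk).symm).coprime_dvd_left (orderOf_dvd_of_pow_eq_one hk1))
  have hz : ∀ d ∈ zpowers ψ, h * d * h⁻¹ = d := fun d hd =>
    mem_cent1_iff_conj.1 (cent1_le_cent1_of_mem_zpowers hd (mem_cent1_iff_conj.2 hψ))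
  obtain ⟨M, M1, MZ, hM, hc⟩ : ∃ M : Subgroup G, M ≠ ⊥ ∧ M ≤ 𝐙(R) ∧ h ∈ 𝐍(M) ∧
      (M ≤ zpowers ψ ∨ (M ⊓ zpowers ψ = ⊥ ∧ ∀ y ∈ M, h * y * h⁻¹ = y ^ m)) := by
    have k1 := norm_le_norm_center R hN
    by_cases e : 𝐙(R) ⊓ zpowers ψ = ⊥
    · refine ⟨_, center_ne_bot (isNilpotent_of_isPGroup hr hR) R1, le_rfl, k1,
        Or.inr ⟨e, fun y hy => (inv_mul_eq_one.1 (mem_bot.1 (e ▸ mem_inf.2 ⟨mul_mem
          (inv_mem (pow_mem hy m)) (nConj k1 hy), z1 y hy.1 (hy.2 ψ ψR)⟩))).symm⟩⟩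
    · exact ⟨_, e, inf_le_left, nInf k1 (nZp (mem_cent1_iff_conj.2 hψ)), Or.inl inf_le_right⟩
  have MR := MZ.trans inf_le_left
  have mc : ∀ g ∈ R, ∀ d ∈ M, Commute g d := fun g hg d hd => (MZ hd).2 g hg
  haveI : M.Normal := normal_iff_top_le.2 (top ▸ sup_le
    ((cent_comm.1 (MZ.trans inf_le_right)).trans (cent_le_norm M)) (zpowers_le.2 hM))
  obtain ⟨f, hf⟩ : ∃ f, f = QuotientGroup.mk' M := ⟨_, rfl⟩
  have f1 : ∀ x, f x = 1 ↔ x ∈ M := fun x => hf ▸ QuotientGroup.eq_one_iff x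
  have fz : ∀ x ∈ zpowers ψ, f x ∈ zpowers (f ψ) := fun x hx =>
    MonoidHom.map_zpowers f ψ ▸ mem_map_of_mem f hx
  have dl : ∀ g, Commute (f ψ) (f g) → ∃ d ∈ M, g * ψ * g⁻¹ = d * ψ := fun g e =>
    ⟨g * ψ * g⁻¹ * ψ⁻¹, (f1 _).1 (by simp only [map_mul, map_inv]; rw [← e.eq]; group), by group⟩
  have dh : ∀ g d, g * ψ * g⁻¹ = d * ψ →
      h * g * h⁻¹ * ψ * (h * g * h⁻¹)⁻¹ = h * d * h⁻¹ * ψ := fun g d e => by
    calc _ = h * g * h⁻¹ * (h * ψ * h⁻¹) * (h * g * h⁻¹)⁻¹ := by rw [hψ]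
      _ = h * (g * ψ * g⁻¹) * h⁻¹ := by group
      _ = h * d * h⁻¹ * (h * ψ * h⁻¹) := by rw [e]; group
      _ = _ := by rw [hψ]
  have cA : M ≤ zpowers ψ → ∀ g ∈ R, Commute (f ψ) (f g) → Commute ψ g := fun hA g hg e => by
    have n1 : h ∈ 𝐍((R ⊓ (𝐂[f ψ]).comap f : Subgroup G)) := nInf hN (le_normalizer_comap f
      (le_normalizer (mem_cent1_iff_conj.2 (by rw [← map_inv, ← map_mul, ← map_mul, hψ]))))
    obtain ⟨a, ha, c, hc, rfl⟩ := H1.exists_commutator_mul_centralizer (zpowers_le.2 n1)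
      (H1.coprime_of_le cop le_rfl inf_le_left) (Or.inl inferInstance)
      (mem_inf.2 ⟨hg, mem_cent1_iff_commute.2 e⟩)
    refine mem_cent1_iff_commute.1 (mul_mem (H1.commutator_zpowers_le
      (le_normalizer (mem_cent1_iff_conj.2 hψ)) (fun x hx => ?_) ha) ?_)
    · obtain ⟨d, hd, e⟩ := dl x⁻¹ (mem_cent1_iff_commute.1 (inv_mem hx).2)
      have e2 := dh _ _ e
      rw [hz d (hA hd), ← e] at e2
      have := commute_of_conj_eq e2.symm
      rw [inv_inv] at this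
      exact mem_cent1_iff_commute.2 ((congrArg (Commute ψ)
        (by rw [commutatorElement_def]; group)).mp this)
    · exact zpowers_le.2 (self_mem_cent1 ψ) (ch c hc.1.1 (mem_cent1_iff_conj.1
        (mem_cent1_comm.1 (cent_le_cent1 (mem_zpowers h) hc.2))))
  have cB : M ⊓ zpowers ψ = ⊥ → ∀ g ∈ R, Commute ψ g → f g ∈ zpowers (f ψ) := fun e g hg c => by
    obtain ⟨⟨y, hy⟩, y1⟩ := ne_bot_iff_exists_ne_one.1 M1
    obtain ⟨j, hj⟩ := z2 y (MR hy) g hg (mc ψ ψR y hy) c fun k =>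
      y1 (Subtype.ext (mem_bot.1 (e ▸ mem_inf.2 ⟨hy, k⟩)))
    have := fz _ hj
    rwa [map_mul, map_inv, (f1 _).2 (pow_mem hy j), inv_one, one_mul] at this
  obtain ⟨i1, i2⟩ := ih _ (by
      rw [hf, ← L.relIndex_eq_card_map_mk', ← H1.card_mul_relIndex MR]
      exact lt_mul_of_one_lt_left (Nat.pos_of_ne_zero index_ne_zero_of_finite)
        (one_lt_card_iff_ne_bot _ |>.2 M1))
    (G ⧸ M) (R.map f) (f ψ) (f h) rfl (hR.map f)
    (by rw [← MonoidHom.map_zpowers, ← Subgroup.map_sup, top, hf,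
      map_top_of_surjective _ (QuotientGroup.mk'_surjective M)])
    (le_normalizer_map f (mem_map_of_mem f hN)) (by rw [← map_pow, hk1, map_one])
    (mem_map_of_mem f ψR) (by rw [← map_inv, ← map_mul, ← map_mul, hψ])
    (by rintro _ ⟨x, hx, rfl⟩; rw [← map_pow, ex x hx])
    (fun g hg e => by
      have := (H1.map_inf_centralizer_map f (zpowers_le.2 hN) cop (Or.inl inferInstance)).le
        ⟨hg, by rw [MonoidHom.map_zpowers, cent_zpowers]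
                exact mem_cent1_comm.1 (mem_cent1_iff_conj.2 e)⟩
      obtain ⟨c, hc, rfl⟩ := this
      exact fz c (ch c hc.1 (mem_cent1_iff_conj.1
        (mem_cent1_comm.1 (cent_le_cent1 (mem_zpowers h) hc.2)))))
    (by
      rintro _ ⟨g, hg, rfl⟩ e
      rw [← map_pow, ← map_inv, ← map_inv, ← map_mul, ← map_mul, ← map_mul]
      rcases hc with hA | ⟨hB, hB'⟩
      · exact fz _ (z1 g hg (cA hA g hg e))
      · obtain ⟨d, hd, e⟩ := dl g e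
        have e2 := dh _ _ e
        rw [hB' d hd, ← conj_pow_eq e (mc g hg d hd)] at e2
        exact cB hB _ (mul_mem (inv_mem (pow_mem hg m)) (nConj hN hg)) (commute_of_conj_eq e2.symm))
    (by
      rintro _ ⟨y, hy, rfl⟩ _ ⟨g, hg, rfl⟩ e1 e2 k
      rcases hc with hA | ⟨hB, hB'⟩
      · obtain ⟨j, hj⟩ := z2 y hy g hg (cA hA y hy e1) (cA hA g hg e2) fun c => k (fz y c)
        exact ⟨j, by simpa using fz _ hj⟩
      · obtain ⟨d, hd, e1⟩ := dl y e1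
        obtain ⟨c, hc, e2⟩ := dl g e2
        obtain ⟨j, hj⟩ := z2 d (MR hd) c (MR hc) (mc ψ ψR d hd) (mc ψ ψR c hc) fun k' => k
          (cB hB y hy (by
            rw [mem_bot.1 (hB.le ⟨hd, k'⟩), one_mul] at e1
            exact mem_cent1_iff_commute.1 (mem_cent1_iff_conj.2 e1)))
        rw [← inv_mul_eq_one.1 (mem_bot.1 (hB.le (mem_inf.2
          ⟨mul_mem (inv_mem (pow_mem hd j)) hc, hj⟩))), ← conj_pow_eq e1 (mc y hy d hd)] at e2
        exact ⟨j, by simpa using (cB hB _ (mul_mem (inv_mem (pow_mem hy j)) hg)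
          (commute_of_conj_eq e2.symm))⟩)
  have fe : ∀ x, h * x * h⁻¹ = x ^ m → f h * f x * (f h)⁻¹ = f x ^ m := fun x e => by
    rw [← map_inv, ← map_mul, ← map_mul, e, map_pow]
  refine ⟨fun x hx y hy e1 e2 => ?_, fun g hg => ?_⟩
  · have k : ⁅x, y⁆ ∈ M := (f1 _).1 (by
      rw [map_commutatorElement]
      exact commutatorElement_eq_one_iff_commute.2
        (i1 _ (mem_map_of_mem f hx) _ (mem_map_of_mem f hy) (fe x e1) (fe y e2)))
    have k2 : h * ⁅x, y⁆ * h⁻¹ = ⁅x, y⁆ ^ (m * m) := by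
      rw [conjugate_commutatorElement, e1, e2, comm_pow_pow (mc x hx _ k) (mc y hy _ k)]
    refine commutatorElement_eq_one_iff_commute.1 ?_
    rcases hc with hA | ⟨-, hB'⟩
    · exact eq_one_of_pow_eq hr hR (MR k) (k2.symm.trans ((hz _ (hA k)).trans (pow_one _).symm)) hm
    · exact eq_one_of_pow_eq hr hR (MR k) (k2.symm.trans (hB' _ k)) m2
  obtain ⟨_, ⟨x, hx, rfl⟩, e1, e2⟩ := i2 _ (mem_map_of_mem f hg)
  obtain ⟨μ, hμ, e3⟩ : ∃ μ ∈ M, h * x * h⁻¹ = x ^ m * μ := ⟨(x ^ m)⁻¹ * (h * x * h⁻¹),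
    (f1 _).1 (by simp only [map_mul, map_inv, map_pow]; rw [e1]; group), by group⟩
  rw [← MonoidHom.map_zpowers] at e2
  obtain ⟨a, ha, e2⟩ := e2
  obtain ⟨ν, hν, e4⟩ : ∃ ν ∈ M, x⁻¹ * g = ν * a := ⟨x⁻¹ * g * a⁻¹,
    (f1 _).1 (by simp only [map_mul, map_inv]; rw [e2]; group), by group⟩
  rcases hc with hA | ⟨-, hB'⟩
  · obtain ⟨m, rfl⟩ : ∃ m', m = m' + 1 := ⟨m - 1, by
      rcases m with _ | m
      exacts [absurd (dvd_zero r) hm0, rfl]⟩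
    obtain ⟨j, hj⟩ := exists_pow_eq_self_of_coprime (x := μ) (n := m) (by
      rw [← Nat.card_zpowers]
      exact H1.coprime_card_of_isPGroup (hR.to_le (zpowers_le.2 (MR hμ)))
        (hr.coprime_iff_not_dvd.2 fun d => m1 (by
          simpa using ((Nat.modEq_zero_iff_dvd.2 d).add_right 1))).symm)
    have c := pow_mem hμ j
    refine ⟨x * μ ^ j, mul_mem hx (MR c), ?_, ?_⟩
    · rw [(mc x hx _ c).mul_pow, ← conj_mul, e3, hz _ (hA c), pow_succ (μ ^ j), ← pow_mul μ j m,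
        mul_comm j, pow_mul, hj, mul_assoc]
    · rw [mul_inv_rev, mul_assoc, e4]
      exact mul_mem (inv_mem (hA c)) (mul_mem (hA hν) ha)
  · have key : ∀ j, h ^ (j + 1) * x * (h ^ (j + 1))⁻¹ = x ^ m ^ (j + 1) * μ ^ ((j + 1) * m ^ j) := by
      intro j
      induction j with
      | zero => simpa using e3
      | succ j ihj =>
        calc _ = h * (h ^ (j + 1) * x * (h ^ (j + 1))⁻¹) * h⁻¹ := by group
          _ = (h * x * h⁻¹) ^ m ^ (j + 1) * (h * μ * h⁻¹) ^ ((j + 1) * m ^ j) := by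
            rw [ihj, conj_pow, conj_pow, conj_mul]
          _ = _ := by
            rw [e3, hB' μ hμ, (mc _ (pow_mem hx m) μ hμ).mul_pow, ← pow_mul, ← pow_mul, mul_assoc,
              ← pow_add]
            congr 2 <;> ring
    have k := key k
    rw [hk1, ex x hx, one_mul, inv_one, mul_one, left_eq_mul, ← pow_zero μ] at k
    rw [eq_one_of_pow_eq hr hR (MR hμ) k fun e => (hr.dvd_mul.1 (Nat.modEq_zero_iff_dvd.1 e)).elim
      hk fun d => hm0 (hr.dvd_of_dvd_pow d), mul_one] at e3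
    refine ⟨x * ν, mul_mem hx (MR hν), ?_, ?_⟩
    · rw [(mc x hx _ hν).mul_pow, ← conj_mul, e3, hB' ν hν]
    · rwa [mul_inv_rev, mul_assoc, e4, inv_mul_cancel_left]

theorem wlem {G : Type u} [Group G] [Finite G] {r m k : ℕ} (hr : r.Prime)
    (hm : ¬ m * m ≡ 1 [MOD r]) (hm0 : ¬ r ∣ m) (hk : ¬ r ∣ k + 1) {R : Subgroup G} {ψ h : G}
    (hR : IsPGroup r R) (hN : h ∈ 𝐍(R)) (hk1 : h ^ (k + 1) = 1) (ψR : ψ ∈ R)
    (hψ : h * ψ * h⁻¹ = ψ) (ex : ∀ x ∈ R, x ^ m ^ (k + 1) = x)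
    (ch : ∀ g ∈ R, h * g * h⁻¹ = g → g ∈ zpowers ψ)
    (z1 : ∀ g ∈ R, Commute ψ g → (g ^ m)⁻¹ * (h * g * h⁻¹) ∈ zpowers ψ)
    (z2 : ∀ y ∈ R, ∀ g ∈ R, Commute ψ y → Commute ψ g → y ∉ zpowers ψ →
      ∃ j : ℕ, (y ^ j)⁻¹ * g ∈ zpowers ψ) :
    (∀ x ∈ R, ∀ y ∈ R, h * x * h⁻¹ = x ^ m → h * y * h⁻¹ = y ^ m → Commute x y) ∧
      ∀ g ∈ R, ∃ x ∈ R, h * x * h⁻¹ = x ^ m ∧ x⁻¹ * g ∈ zpowers ψ := by
  obtain ⟨Y, hY⟩ : ∃ Y, Y = R ⊔ zpowers h := ⟨_, rfl⟩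
  have RY : R ≤ Y := hY ▸ le_sup_left
  have hY' : h ∈ Y := hY ▸ mem_sup_right (mem_zpowers h)
  have zp : ∀ a b : Y, a ∈ zpowers b ↔ (a : G) ∈ zpowers (b : G) := fun a b =>
    exists_congr fun _ => Subtype.ext_iff
  obtain ⟨i1, i2⟩ := wlem0 hr hm hm0 hk _ Y (R.subgroupOf Y) ⟨ψ, RY ψR⟩ ⟨h, hY'⟩ rfl
    hR.comap_subtype
    (map_injective Y.subtype_injective (by
      rw [Subgroup.map_sup, subgroupOf_map_subtype, inf_of_le_left RY, MonoidHom.map_zpowers,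
        ← MonoidHom.range_eq_map, range_subtype]
      exact hY.symm))
    (le_normalizer_comap Y.subtype hN) (Subtype.ext hk1) ψR (Subtype.ext hψ)
    (fun x hx => Subtype.ext (ex x hx))
    (fun g hg e => (zp _ _).2 (ch g hg (congrArg Subtype.val e)))
    (fun g hg e => (zp _ _).2 (z1 g hg (congrArg Subtype.val e)))
    (fun y hy g hg e1 e2 k => (z2 y hy g hg (congrArg Subtype.val e1) (congrArg Subtype.val e2)
      fun c => k ((zp _ _).2 c)).imp fun j hj => (zp _ _).2 hj)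
  refine ⟨fun x hx y hy e1 e2 => congrArg Subtype.val
    (i1 ⟨x, RY hx⟩ hx ⟨y, RY hy⟩ hy (Subtype.ext e1) (Subtype.ext e2)), fun g hg => ?_⟩
  obtain ⟨x, hx, e1, e2⟩ := i2 ⟨g, RY hg⟩ hg
  exact ⟨x, hx, congrArg Subtype.val e1, (zp _ _).1 e2⟩

end Cfsg.Agent.P7.Z
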