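/-
Additive functions on a subgroup with values in `ZMod r`.
-/
import Cfsg.Agent.P7.ZW
import Cfsg.Agent.P7.ZG
import Cfsg.Agent.H1.AbAct

set_option autoImplicit false
set_option linter.unusedSectionVars false

namespace Cfsg.Agent.P7.Z

open Subgroup Cfsg Cfsg.Agent Cfsg.Agent.FT MulAction
open scoped commutatorElement

universe u

variable {G : Type u} [Group G] [Finite G] {r : ℕ}

/-- `f` is additive on `R`. -/
def PH (R : Subgroup G) (f : G → ZMod r) : Prop := ∀ a ∈ R, ∀ b ∈ R, f (a * b) = f a + f b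

namespace PH

variable {R : Subgroup G} {f : G → ZMod r} (h : PH R f)
include h

theorem one : f 1 = 0 := by simpa using h 1 (one_mem _) 1 (one_mem _)

theorem inv {a : G} (ha : a ∈ R) : f a⁻¹ = -f a :=
  eq_neg_of_add_eq_zero_left (by rw [← h _ (inv_mem ha) _ ha, inv_mul_cancel, h.one])

theorem pow {a : G} (ha : a ∈ R) (n : ℕ) : f (a ^ n) = n * f a := by
  induction n with
  | zero => simpa using h.one
  | succ n ih => rw [pow_succ, h _ (pow_mem ha n) _ ha, ih]; push_cast; ring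

theorem conj {g a : G} (hg : g ∈ R) (ha : a ∈ R) : f (g * a * g⁻¹) = f a := by
  rw [h _ (mul_mem hg ha) _ (inv_mem hg), h _ hg _ ha, h.inv hg]; ring

theorem comp {n : G} (hn : n ∈ 𝐍(R)) : PH R fun a => f (n * a * n⁻¹) := fun a ha b hb => by
  simp only [← conj_mul, h _ (nConj hn ha) _ (nConj hn hb)]

theorem mono {A : Subgroup G} (hA : A ≤ R) : PH A f := fun a ha b hb => h a (hA ha) b (hA hb)

theorem smul (c : ZMod r) : PH R fun a => c * f a := fun a ha b hb => by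
  simp only [h a ha b hb, mul_add]

/-- The kernel. -/
def ker : Subgroup G where
  carrier := {a | a ∈ R ∧ f a = 0}
  mul_mem' := fun {a b} ha hb => ⟨mul_mem ha.1 hb.1, by rw [h a ha.1 b hb.1, ha.2, hb.2, add_zero]⟩
  one_mem' := ⟨one_mem _, h.one⟩
  inv_mem' := fun {a} ha => ⟨inv_mem ha.1, by rw [h.inv ha.1, ha.2, neg_zero]⟩

theorem zp {a b : G} (ha : a ∈ R) (a0 : f a = 0) (hb : b ∈ zpowers a) : f b = 0 :=
  ((zpowers_le (H := h.ker)).2 ⟨ha, a0⟩ hb).2

theorem mem_of (hr : r.Prime) {B : Subgroup G} (hB : B ≤ R) (hi : B.relIndex R = r)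
    (h0 : ∀ b ∈ B, f b = 0) {g : G} (hg : g ∈ R) (g0 : f g ≠ 0) {a : G} (ha : a ∈ R)
    (a0 : f a = 0) : a ∈ B := by
  have e := relIndex_mul_relIndex B h.ker R (fun b hb => ⟨hB hb, h0 b hb⟩) fun _ hb => hb.1
  rw [hi] at e
  rcases (Nat.dvd_prime hr).1 (Dvd.intro _ e) with k | k
  · exact relIndex_eq_one.1 k ⟨ha, a0⟩
  · rw [k] at e
    exact absurd (relIndex_eq_one.1 (mul_right_injective₀ hr.ne_zero (e.trans (mul_one r).symm))
      hg).2 g0

theorem transfer (hG : ⁅(⊤ : Subgroup G), (⊤ : Subgroup G)⁆ = ⊤) {y : G}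
    (hf : ∀ (k : ℕ) (g : G), g * y ^ k * g⁻¹ ∈ R → f (g * y ^ k * g⁻¹) = k) :
    r ∣ R.index := by
  classical
  let := Fintype.ofFinite (Quotient (orbitRel (zpowers y) (G ⧸ R)))
  let φ : R →* Multiplicative (ZMod r) := MonoidHom.mk' (fun a => Multiplicative.ofAdd (f a))
    fun a b => congrArg Multiplicative.ofAdd (h a a.2 b b.2)
  have h1 : MonoidHom.transfer φ y = 1 :=
    Abelianization.commutator_subset_ker _ (hG.ge (mem_top y))
  rw [MonoidHom.transfer_eq_prod_quotient_orbitRel_zpowers_quot, Finset.prod_congr rfl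
    (g := fun q => Multiplicative.ofAdd (1 : ZMod r) ^ Function.minimalPeriod (y • ·) q.out) ?_,
    Finset.prod_pow_eq_pow_sum, ← index_eq_sum_minimalPeriod] at h1
  · simpa [← ZMod.natCast_eq_zero_iff] using congrArg Multiplicative.toAdd h1
  intro q _
  have e := hf _ q.out.out⁻¹ (by
    simpa using QuotientGroup.out_conj_pow_minimalPeriod_mem R y q.out)
  rw [inv_inv] at e
  exact (congrArg Multiplicative.ofAdd e).trans (by rw [← ofAdd_nsmul, nsmul_one])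

end PH

theorem exists_ph (hr : r.Prime) {R B : Subgroup G} (hR : IsPGroup r R) (hB : B < R) :
    ∃ f : G → ZMod r, PH R f ∧ (∀ b ∈ B, f b = 0) ∧ ∃ g ∈ R, f g ≠ 0 := by
  classical
  haveI := Fact.mk hr
  obtain ⟨n, hn⟩ := exists_card_eq_pow hr (hR.to_le hB.le)
  obtain ⟨m, hm⟩ := exists_card_eq_pow hr hR
  have lt : n < m := (Nat.pow_lt_pow_iff_right hr.one_lt).1 (hn ▸ hm ▸ H1.card_lt_of_lt hB)
  obtain ⟨m, rfl⟩ := Nat.exists_eq_add_one_of_ne_zero (Nat.ne_zero_of_lt lt)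
  obtain ⟨K, hK, BK⟩ := Sylow.exists_subgroup_card_pow_prime_le r (m := m)
    (hm ▸ pow_dvd_pow r m.le_succ) (B.subgroupOf R)
    ((H2.card_subgroupOf_of_le hB.le).trans hn) (Nat.le_of_lt_succ lt)
  have hi : K.index = r := mul_left_cancel₀ (pow_ne_zero m hr.ne_zero) (by
    rw [← hK, card_mul_index, hm, hK, pow_succ])
  haveI := K.normal_of_index_eq_minFac_card (by rw [hi, hm, hr.pow_minFac m.succ_ne_zero])
  let e : (R ⧸ K) ≃* Multiplicative (ZMod r) := mulEquivOfPrimeCardEq hi (by simp)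
  obtain ⟨g, hg⟩ := QuotientGroup.mk_surjective (e.symm (Multiplicative.ofAdd 1))
  refine ⟨fun a => if ha : a ∈ R then (e (QuotientGroup.mk ⟨a, ha⟩)).toAdd else 0,
    fun a ha b hb => ?_, fun b hb => ?_, g, g.2, ?_⟩
  · simp only [dif_pos ha, dif_pos hb, dif_pos (mul_mem ha hb), ← toAdd_mul, ← map_mul]
    rfl
  · simp only [dif_pos (hB.le hb)]
    rw [(QuotientGroup.eq_one_iff _).2 (BK hb), map_one, toAdd_one]
  · simp [hg]

theorem cent_of_ph (hr : r.Prime) {R : Subgroup G} (hR : IsPGroup r R) {c : G} (hc : c ∈ 𝐍(R))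
    (ho : ¬ r ∣ orderOf c)
    (h : ∀ f : G → ZMod r, PH R f → ∀ g ∈ R, f (c * g * c⁻¹) = f g) : R ≤ 𝐂[c] := by
  haveI := Fact.mk hr
  by_contra hne
  obtain ⟨f, hf, h0, g, hg, g0⟩ := exists_ph hr hR (B := R ⊓ 𝐂[c])
    (inf_lt_left.2 hne)
  obtain ⟨a, ha, b, hb, rfl⟩ := H1.exists_commutator_mul_centralizer (zpowers_le.2 hc)
    (H1.coprime_card_of_isPGroup hR (by
      rw [Nat.card_zpowers]; exact (hr.coprime_iff_not_dvd.2 ho).symm)) (Or.inl inferInstance) hg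
  have k : a ∈ hf.ker := H1.commutator_zpowers_le (mem_norm_of_conj_le fun _ hx => by
      obtain ⟨x, kx, rfl⟩ := mem_conj'.1 hx
      exact ⟨nConj hc kx.1, (h f hf x kx.1).trans kx.2⟩) (fun x hx => by
      have e : ⁅x, c⁆ = x * (c * x⁻¹ * c⁻¹) := by rw [commutatorElement_def]; group
      have k := nConj hc (inv_mem hx)
      exact e ▸ ⟨mul_mem hx k, by rw [hf _ hx _ k, h f hf _ (inv_mem hx), hf.inv hx]; ring⟩) ha
  rw [cent_zpowers] at hb
  exact g0 (by rw [hf a k.1 b hb.1, k.2, h0 b hb, add_zero])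

open scoped IsMulCommutative in
theorem exists_comm (hr : r.Prime) {R P : Subgroup G} {f : G → ZMod r} (hf : PH R f) (PR : P ≤ R)
    (ab : P ≤ 𝐂(P)) (nP : R ≤ 𝐍(P)) {θ : G} (hθ : θ ∈ R) (hc : 𝐨((P ⊓ 𝐂[θ] : Subgroup G)) = r)
    {x : G} (hx : x ∈ P) (x0 : f x ≠ 0) {p : G} (hp : p ∈ P) (p0 : f p = 0) :
    ∃ u ∈ P, p * θ = u * θ * u⁻¹ := by
  haveI := isMulComm_iff_le_cent.2 ab
  let φ : MulAut P := P.normalizerMonoidHom ⟨θ, nP hθ⟩
  let δ : P →* P := H1.commEnd φ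
  have k : (δ.range.map P.subtype).relIndex P = r := by
    rw [relIndex, ← hc, subgroupOf, comap_map_eq_self_of_injective P.subtype_injective,
      index_range, ← H2.card_subgroupOf_of_le (inf_le_left : P ⊓ 𝐂[θ] ≤ P)]
    congr 3
    ext v
    rw [H1.mem_ker_commEnd, mem_subgroupOf, mem_inf, and_iff_right v.2, mem_cent1_comm,
      mem_cent1_iff_conj, Subtype.ext_iff]
    rfl
  obtain ⟨_, ⟨v, rfl⟩, e⟩ := (hf.mono PR).mem_of hr (map_subtype_le _) k (by
    rintro _ ⟨_, ⟨v, rfl⟩, rfl⟩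
    change f (θ * v * θ⁻¹ * (v : G)⁻¹) = 0
    rw [hf _ (nConj (le_normalizer hθ) (PR v.2)) _ (inv_mem (PR v.2)), hf.conj hθ (PR v.2),
      hf.inv (PR v.2), add_neg_cancel]) hx x0 hp p0
  refine ⟨v⁻¹, inv_mem v.2, ?_⟩
  change θ * v * θ⁻¹ * (v : G)⁻¹ = p at e
  rw [← e, ab (inv_mem v.2) _ (nConj (nP hθ) v.2)]
  group

end Cfsg.Agent.P7.Z
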