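/-
An `r`-element `ψ` whose centralizer has a Sylow `r`-subgroup `A` with `|A : ⟨ψ⟩| = r`.
-/
import Cfsg.Agent.P7.ZC1

set_option autoImplicit false
set_option linter.unusedSectionVars false

namespace Cfsg.Agent.P7.Z

open Subgroup Cfsg Cfsg.Agent Cfsg.Agent.FT

universe u

variable {G : Type u} [Group G] [Finite G] {r : ℕ}

/-- The basic configuration. -/
structure ZB (ψ : G) (A : Subgroup G) (μ : G → ZMod r) : Prop where
  syl : IsSyl r A 𝐂[ψ]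
  mem : ψ ∈ A
  ne : ψ ≠ 1
  idx : (zpowers ψ).relIndex A = r
  ph : PH A μ
  ker : ∀ a ∈ A, μ a = 0 ↔ a ∈ zpowers ψ
  f1 : ∀ y ∈ zpowers ψ, ∀ g : G, g * y * g⁻¹ ∈ zpowers ψ → g * y * g⁻¹ = y

/-- An `r`-group over `A` with a normalizing element acting on `A / ⟨ψ⟩` as the scalar `ζ`. -/
structure Val (ψ : G) (A : Subgroup G) (μ : G → ZMod r) (R : Subgroup G) (h : G) (ζ : ZMod r) :
    Prop where
  pg : IsPGroup r R
  le : A ≤ R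
  nm : h ∈ 𝐍(R)
  ct : h ∈ 𝐂[ψ]
  sq : ζ * ζ ≠ 1
  act : ∀ a ∈ A, μ (h * a * h⁻¹) = ζ * μ a

/-- The decomposition `R = P ⟨ψ⟩`. -/
structure Str (ψ : G) (A : Subgroup G) (μ : G → ZMod r) (R : Subgroup G) (h : G) (m : ℕ)
    (P : Subgroup G) : Prop extends Val ψ A μ R h m where
  PR : P ≤ R
  ab : P ≤ 𝐂(P)
  nP : R ≤ 𝐍(P)
  eig : ∀ x ∈ P, h * x * h⁻¹ = x ^ m
  dec : ∀ g ∈ R, ∃ x ∈ P, ∃ i : ℕ, g = x * ψ ^ i

variable [hr : Fact r.Prime] {ψ : G} {A : Subgroup G} {μ : G → ZMod r} (b : ZB ψ A μ)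
include b

theorem ZB.inf {R : Subgroup G} (hR : IsPGroup r R) (hA : A ≤ R) : R ⊓ 𝐂[ψ] = A :=
  b.syl.eq_of_le hr.out (le_inf hA b.syl.le) inf_le_right (hR.to_le inf_le_left)

theorem ZB.exists_ne : ∃ a ∈ A, μ a ≠ 0 := by
  by_contra! k
  exact hr.out.ne_one (b.idx.symm.trans (relIndex_eq_one.2 fun a ha => (b.ker a ha).1 (k a ha)))

theorem ZB.gen {y g : G} (hy : y ∈ A) (hg : g ∈ A) (y0 : y ∉ zpowers ψ) :
    ∃ j : ℕ, (y ^ j)⁻¹ * g ∈ zpowers ψ := by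
  have k : μ y ≠ 0 := fun k => y0 ((b.ker y hy).1 k)
  refine ⟨(μ g / μ y).val, (b.ker _ (mul_mem (inv_mem (pow_mem hy _)) hg)).1 ?_⟩
  rw [b.ph _ (inv_mem (pow_mem hy _)) _ hg, b.ph.inv (pow_mem hy _), b.ph.pow hy,
    ZMod.natCast_zmod_val, div_mul_cancel₀ _ k, neg_add_cancel]

theorem ZB.comm : A ≤ 𝐂(A) := fun g hg y hy => by
  have k : ∀ a ∈ A, zpowers ψ ≤ 𝐂[a] := fun a ha => zpowers_le.2 (mem_cent1_comm.1 (b.syl.le ha))
  by_cases y0 : y ∈ zpowers ψ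
  · exact (mem_cent1.1 (k g hg y0)).symm
  obtain ⟨j, hj⟩ := b.gen hy hg y0
  exact mem_cent1.1 ((mul_mem_cancel_left (inv_mem (pow_mem (self_mem_cent1 y) j))).1 (k y hy hj))

variable {R : Subgroup G} {h : G}

theorem ZB.nmA (hR : IsPGroup r R) (hA : A ≤ R) (h1 : h ∈ 𝐍(R)) (h2 : h ∈ 𝐂[ψ]) : h ∈ 𝐍(A) :=
  b.inf hR hA ▸ nInf h1 (le_normalizer h2)

theorem ZB.mem_of_pg (hR : IsPGroup r R) (hA : A ≤ R) (h1 : h ∈ 𝐍(R)) (h2 : h ∈ 𝐂[ψ])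
    (he : IsPGroup r (zpowers h)) : h ∈ A :=
  b.syl.le_of_norm hr.out he (zpowers_le.2 h2) (zpowers_le.2 (b.nmA hR hA h1 h2)) (mem_zpowers h)

theorem ZB.mem_of_pow (hR : IsPGroup r R) (hA : A ≤ R) (h1 : h ∈ 𝐍(R)) (h2 : h ∈ 𝐂[ψ]) {e : ℕ}
    (he : h ^ r ^ e = 1) : h ∈ A :=
  b.mem_of_pg hR hA h1 h2 (by
    obtain ⟨k, -, hk⟩ := (Nat.dvd_prime_pow hr.out).1 (orderOf_dvd_of_pow_eq_one he)
    exact IsPGroup.of_card ((Nat.card_zpowers h).trans hk))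

theorem ZB.act_pow {ζ : ZMod r} (v : Val ψ A μ R h ζ) (n : ℕ) :
    ∀ a ∈ A, μ (h ^ n * a * (h ^ n)⁻¹) = ζ ^ n * μ a := by
  induction n with
  | zero => simp
  | succ n ih =>
    intro a ha
    rw [pow_succ ζ, mul_assoc (ζ ^ n), ← v.act a ha, ← ih _ (nConj (b.nmA v.pg v.le v.nm v.ct) ha)]
    congr 1
    group

theorem ZB.str {ζ : ZMod r} (v : Val ψ A μ R h ζ) : ∃ h' m P, Str ψ A μ R h' m P := by
  obtain ⟨e, k, hk, ho⟩ := Nat.exists_eq_pow_mul_and_not_dvd (orderOf_pos h).ne' r hr.out.ne_one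
  obtain ⟨k, rfl⟩ := Nat.exists_eq_add_one_of_ne_zero (n := k) fun c => hk (c ▸ dvd_zero r)
  obtain ⟨N, hN⟩ := exists_card_eq_pow hr.out v.pg
  obtain ⟨m, hm⟩ : ∃ m, m = ζ.val ^ r ^ N := ⟨_, rfl⟩
  have em : (m : ZMod r) = ζ := by rw [hm, Nat.cast_pow, ZMod.natCast_zmod_val, ZMod.pow_card_pow]
  obtain ⟨g, hg⟩ : ∃ g, g = h ^ r ^ e := ⟨_, rfl⟩
  have w : Val ψ A μ R g m := ⟨v.pg, v.le, hg ▸ pow_mem v.nm _, hg ▸ pow_mem v.ct _, em ▸ v.sq,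
    fun a ha => by rw [hg, b.act_pow v _ a ha, ZMod.pow_card_pow, em]⟩
  have g1 : g ^ (k + 1) = 1 := by rw [hg, ← pow_mul, ← ho, pow_orderOf_eq_one]
  have z1 : ζ ^ (k + 1) = 1 := by
    obtain ⟨a, ha, a0⟩ := b.exists_ne
    have := b.act_pow w (k + 1) a ha
    rw [g1, one_mul, inv_one, mul_one, em] at this
    exact mul_right_cancel₀ a0 (this.symm.trans (one_mul _).symm)
  have ψR := v.le b.mem
  have gψ := mem_cent1_iff_conj.1 w.ct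
  have cA : ∀ x ∈ R, Commute ψ x → x ∈ A := fun x hx c =>
    (b.inf v.pg v.le).le ⟨hx, mem_cent1_iff_commute.2 c⟩
  have m1 : (m : ZMod r) ≠ 1 := fun c => w.sq (by rw [c, one_mul])
  obtain ⟨i1, i2⟩ := wlem hr.out (m := m) (fun c => w.sq (by
      simpa using (ZMod.natCast_eq_natCast_iff _ _ _).2 c))
    (fun c => by
      rw [← em, (ZMod.natCast_eq_zero_iff _ _).2 c] at z1
      simp at z1) hk v.pg w.nm g1 ψR gψ
    (fun x hx => by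
      have k1 : ((r : ℕ) : ℤ) ∣ ((ζ.val ^ (k + 1) : ℕ) : ℤ) - 1 := by
        rw [← ZMod.intCast_zmod_eq_zero_iff_dvd]
        simp [z1]
      have k2 := (pow_dvd_pow _ N.le_succ).trans (dvd_sub_pow_of_dvd_sub k1 N)
      have k3 : 1 ≡ m ^ (k + 1) [MOD r ^ N] := by
        rw [Nat.modEq_iff_dvd, hm, ← pow_mul, mul_comm, pow_mul]
        simpa using k2
      rw [← pow_eq_pow_iff_modEq.2 (k3.of_dvd (hN ▸ orderOf_dvd_card_of_mem hx)), pow_one])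
    (fun x hx e => by
      by_contra x0
      obtain ⟨y, hy, y0⟩ := SetLike.exists_of_lt (lt_inf_norm_of_isNilpotent
        (isNilpotent_of_isPGroup hr.out (v.pg.to_le (inf_le_left (b := 𝐂[g]))))
        (SetLike.lt_iff_le_and_exists.2 ⟨zpowers_le.2 (mem_inf.2 ⟨ψR, mem_cent1_comm.1 w.ct⟩), x,
          mem_inf.2 ⟨hx, mem_cent1_comm.1 (mem_cent1_iff_conj.2 e)⟩, x0⟩))
      have yA := cA y hy.1.1 (mem_cent1_iff_commute.1 (mem_cent1_iff_conj.2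
        (b.f1 ψ (mem_zpowers ψ) y (nConj hy.2 (mem_zpowers ψ)))))
      have := w.act y yA
      rw [mem_cent1_iff_conj.1 (mem_cent1_comm.1 hy.1.2)] at this
      exact m1 (mul_right_cancel₀ (fun c => y0 ((b.ker y yA).1 c))
        (this.symm.trans (one_mul _).symm)))
    (fun x hx c => by
      have xA := cA x hx c
      have k := nConj (b.nmA v.pg v.le w.nm w.ct) xA
      refine (b.ker _ (mul_mem (inv_mem (pow_mem xA _)) k)).1 ?_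
      rw [b.ph _ (inv_mem (pow_mem xA _)) _ k, b.ph.inv (pow_mem xA _), b.ph.pow xA, w.act x xA,
        neg_add_cancel])
    (fun y hy x hx c d y0 => b.gen (cA y hy c) (cA x hx d) y0)
  let P : Subgroup G :=
    { carrier := {x | x ∈ R ∧ g * x * g⁻¹ = x ^ m}
      mul_mem' := fun {x y} hx hy => ⟨mul_mem hx.1 hy.1, by
        rw [(i1 x hx.1 y hy.1 hx.2 hy.2).mul_pow, ← hx.2, ← hy.2, conj_mul]⟩
      one_mem' := ⟨one_mem _, by simp⟩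
      inv_mem' := fun {x} hx => ⟨inv_mem hx.1, by rw [inv_pow, ← hx.2, conj_inv]⟩ }
  have dec : ∀ x ∈ R, ∃ y ∈ P, ∃ i : ℕ, x = y * ψ ^ i := fun x hx => by
    obtain ⟨y, hy, e1, e2⟩ := i2 x hx
    obtain ⟨i, hi⟩ := mem_powers_iff_mem_zpowers.2 e2
    exact ⟨y, ⟨hy, e1⟩, i, by simp [hi]⟩
  have nψ : ψ ∈ 𝐍(P) := mem_norm_of_conj_le fun _ hx => by
    obtain ⟨x, kx, rfl⟩ := mem_conj'.1 hx
    refine ⟨nConj (le_normalizer ψR) kx.1, ?_⟩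
    rw [conj_pow, ← kx.2]
    calc _ = (g * ψ * g⁻¹) * (g * x * g⁻¹) * (g * ψ * g⁻¹)⁻¹ := by group
      _ = _ := by rw [gψ]
  refine ⟨g, m, P, w, fun _ hx => hx.1, fun x hx y hy => i1 y hy.1 x hx.1 hy.2 hx.2,
    fun x hx => ?_, fun _ hx => hx.2, dec⟩
  obtain ⟨y, hy, i, rfl⟩ := dec x hx
  exact mul_mem (le_normalizer hy) (pow_mem nψ i)

end Cfsg.Agent.P7.Z
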