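/-
The action of `N(R)` on the additive functions on `R = P ⟨ψ⟩`.
-/
import Cfsg.Agent.P7.ZC2

set_option autoImplicit false
set_option linter.unusedSectionVars false

namespace Cfsg.Agent.P7.Z

open Subgroup Cfsg Cfsg.Agent Cfsg.Agent.FT

universe u

variable {G : Type u} [Group G] [Finite G] {r : ℕ}

/-- Coordinates on `R`. -/
structure Frm (ψ : G) (R P : Subgroup G) (l ν : G → ZMod r) (x : G) : Prop where
  pl : PH R l
  pn : PH R ν
  xP : x ∈ P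
  l1 : l ψ = 1
  l0 : ∀ p ∈ P, l p = 0
  n0 : ν ψ = 0
  n1 : ν x = 1

variable [hr : Fact r.Prime] {ψ : G} {A : Subgroup G} {μ : G → ZMod r} (b : ZB ψ A μ)
  {R P : Subgroup G} {h : G} {m : ℕ} (s : Str ψ A μ R h m P)
include b s

theorem ZB.ψR : ψ ∈ R := s.le b.mem

theorem ZB.one_of {y g : G} (hy : y ∈ P) (k : g * y * g⁻¹ ∈ zpowers ψ) : y = 1 := by
  have e : g * h * g⁻¹ * (g * y * g⁻¹) * (g * h * g⁻¹)⁻¹ = (g * y * g⁻¹) ^ m := by
    rw [conj_pow, ← s.eig y hy]; group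
  have := b.f1 _ k (g * h * g⁻¹) (e ▸ pow_mem k m)
  rw [e, conj_pow, mul_left_inj, mul_right_inj] at this
  exact eq_one_of_pow_eq hr.out s.pg (s.PR hy) (this.trans (pow_one y).symm) fun c => s.sq (by
    rw [(ZMod.natCast_eq_natCast_iff _ _ _).2 c, Nat.cast_one, one_mul])

theorem ZB.card_inf : 𝐨((P ⊓ 𝐂[ψ] : Subgroup G)) = r := by
  have e : A = (P ⊓ 𝐂[ψ]) ⊔ zpowers ψ := by
    refine le_antisymm (fun a ha => ?_) (sup_le ((inf_le_inf_right _ s.PR).trans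
      (b.inf s.pg s.le).le) (zpowers_le.2 b.mem))
    obtain ⟨x, hx, i, rfl⟩ := s.dec a (s.le ha)
    exact mul_mem (mem_sup_left ⟨hx, (mul_mem_cancel_right (pow_mem (self_mem_cent1 ψ) i)).1
      (b.syl.le ha)⟩) (mem_sup_right (pow_mem (mem_zpowers ψ) i))
  have k : zpowers ψ ⊓ (P ⊓ 𝐂[ψ]) = ⊥ :=
    eq_bot_iff.2 fun y hy => b.one_of s hy.2.1 (g := 1) (by simpa using hy.1)
  rw [← b.idx]
  conv_rhs => rw [e, H1.relIndex_sup_of_le_normalizer (inf_le_right.trans fun g hg => nZp hg),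
     ← inf_relIndex_right, k, relIndex_bot_left]

theorem ZB.exists_frm : ∃ (l ν : G → ZMod r) (x : G), Frm ψ R P l ν x := by
  have ψR := b.ψR s
  obtain ⟨l, pl, l0, g, hg, g0⟩ := exists_ph hr.out s.pg (lt_of_le_of_ne s.PR fun e =>
    b.ne (b.one_of s (e ▸ ψR) (g := 1) (by simp)))
  obtain ⟨ν, pn, n0, y, hy, y0⟩ := exists_ph hr.out s.pg (B := zpowers ψ)
    (lt_of_le_of_ne (zpowers_le.2 ψR) fun e => by
      obtain ⟨a, ha, a0⟩ := b.exists_ne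
      exact a0 ((b.ker a ha).2 (e ▸ s.le ha)))
  obtain ⟨p, hp, i, rfl⟩ := s.dec g hg
  obtain ⟨x, hx, j, rfl⟩ := s.dec y hy
  rw [pl _ (s.PR hp) _ (pow_mem ψR i), l0 p hp, zero_add, pl.pow ψR] at g0
  rw [pn _ (s.PR hx) _ (pow_mem ψR j), n0 _ (pow_mem (mem_zpowers ψ) j), add_zero] at y0
  exact ⟨_, _, x, pl.smul (l ψ)⁻¹, pn.smul (ν x)⁻¹, hx, inv_mul_cancel₀ (right_ne_zero_of_mul g0),
    fun p hp => by simp only [l0 p hp, mul_zero], by simp only [n0 ψ (mem_zpowers ψ), mul_zero],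
    inv_mul_cancel₀ y0⟩

variable {l ν : G → ZMod r} {x : G} (F : Frm ψ R P l ν x)
include F

theorem ZB.coord {p : G} (hp : p ∈ P) (i : ℕ) : l (p * ψ ^ i) = i ∧ ν (p * ψ ^ i) = ν p := by
  have ψR := b.ψR s
  rw [F.pl _ (s.PR hp) _ (pow_mem ψR i), F.pn _ (s.PR hp) _ (pow_mem ψR i), F.pl.pow ψR,
    F.pn.pow ψR, F.l0 p hp, F.l1, F.n0]
  simp

theorem ZB.uniq {f : G → ZMod r} (hf : PH R f) {g : G} (hg : g ∈ R) :
    f g = f ψ * l g + f x * ν g := by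
  have ψR := b.ψR s
  have xR := s.PR F.xP
  obtain ⟨p, hp, i, rfl⟩ := s.dec g hg
  have k : ∀ {f : G → ZMod r}, PH R f → f ((x ^ (ν p).val)⁻¹ * p) = f p - ν p * f x :=
    fun {f} hf => by
      rw [hf _ (inv_mem (pow_mem xR _)) _ (s.PR hp), hf.inv (pow_mem xR _), hf.pow xR,
        ZMod.natCast_zmod_val]
      ring
  have pP := mul_mem (inv_mem (pow_mem F.xP (ν p).val)) hp
  obtain ⟨u, hu, e⟩ := exists_comm hr.out F.pn s.PR s.ab s.nP ψR (b.card_inf s) F.xP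
    (F.n1 ▸ one_ne_zero) pP (by rw [k F.pn, F.n1]; ring)
  have e2 := congrArg f e
  rw [hf _ (s.PR pP) _ ψR, k hf, hf.conj (s.PR hu) ψR] at e2
  rw [(b.coord s F hp i).1, (b.coord s F hp i).2, hf _ (s.PR hp) _ (pow_mem ψR i), hf.pow ψR]
  linear_combination e2

theorem ZB.fix {n : G} (hn : n ∈ 𝐍(R)) (h0 : ν (n * ψ * n⁻¹) = 0) (h1 : l (n * ψ * n⁻¹) ≠ 0) :
    ∃ u ∈ P, u⁻¹ * n ∈ 𝐂[ψ] := by
  have ψR := b.ψR s
  obtain ⟨p, hp, i, e⟩ := s.dec _ (nConj hn ψR)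
  rw [e, (b.coord s F hp i).2] at h0
  rw [e, (b.coord s F hp i).1, Ne, ZMod.natCast_eq_zero_iff] at h1
  have k : 𝐂[ψ ^ i] = 𝐂[ψ] := le_antisymm (cent1_le_cent1_of_mem_zpowers
    (mem_zpowers_pow_iff.2 (by
      rw [← Nat.card_zpowers]
      exact H1.coprime_card_of_isPGroup (s.pg.to_le (zpowers_le.2 ψR))
        (hr.out.coprime_iff_not_dvd.2 h1).symm))) (cent1_le_cent1_pow ψ i)
  obtain ⟨u, hu, e2⟩ := exists_comm hr.out F.pn s.PR s.ab s.nP (pow_mem ψR i)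
    (k ▸ b.card_inf s) F.xP (F.n1 ▸ one_ne_zero) hp h0
  refine ⟨u, hu, mem_cent1_iff_conj.2 (b.f1 ψ (mem_zpowers ψ) _ ?_)⟩
  rw [show u⁻¹ * n * ψ * (u⁻¹ * n)⁻¹ = u⁻¹ * (n * ψ * n⁻¹) * u by group, e, e2]
  simp [mul_assoc]

theorem ZB.invar (h2 : r ≠ 2) {n : G} (hn : n ∈ 𝐍(R)) {g : G} (hg : g ∈ R) :
    l (n * g * n⁻¹) = l g := by
  have ψR := b.ψR s
  have xR := s.PR F.xP
  have U : ∀ {f : G → ZMod r}, PH R f → ∀ {n}, n ∈ 𝐍(R) → ∀ {g}, g ∈ R →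
      f (n * g * n⁻¹) = f (n * ψ * n⁻¹) * l g + f (n * x * n⁻¹) * ν g :=
    fun hf _ hn _ hg => b.uniq s F (hf.comp hn) hg
  let M : 𝐍(R) →* Matrix (Fin 2) (Fin 2) (ZMod r) :=
    { toFun := fun n => !![l (n * ψ * (n : G)⁻¹), l (n * x * (n : G)⁻¹);
        ν (n * ψ * (n : G)⁻¹), ν (n * x * (n : G)⁻¹)]
      map_one' := by simp [F.l1, F.l0 x F.xP, F.n0, F.n1, Matrix.one_fin_two]
      map_mul' := fun n k => by
        have e : ∀ y : G, (n * k : G) * y * ((n : G) * k)⁻¹ =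
            n * (k * y * (k : G)⁻¹) * (n : G)⁻¹ := fun y => by group
        simp only [coe_mul, e, Matrix.mul_fin_two, U F.pl n.2 (nConj k.2 ψR),
          U F.pl n.2 (nConj k.2 xR), U F.pn n.2 (nConj k.2 ψR), U F.pn n.2 (nConj k.2 xR)] }
  have fx : ∀ n : 𝐍(R), ν (n * ψ * (n : G)⁻¹) = 0 → ∃ u ∈ P, u⁻¹ * n ∈ 𝐂[ψ] := fun n h0 =>
    b.fix s F n.2 h0 fun k => gl_det_ne (M.toHomUnits n) (by
      change l (n * ψ * (n : G)⁻¹) * _ - _ * ν (n * ψ * (n : G)⁻¹) = 0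
      rw [k, h0]; ring)
  have hψ := mem_cent1_iff_conj.1 s.ct
  obtain ⟨k1, k2⟩ := g2 (D := M.toHomUnits.range) (e := M.toHomUnits ⟨h, s.nm⟩)
    (fun c => h2 ((Nat.prime_dvd_prime_iff_eq hr.out Nat.prime_two).1
      ((ZMod.natCast_eq_zero_iff 2 r).1 c))) ⟨_, rfl⟩
    ((congrArg l hψ).trans F.l1)
    ((congrArg l (s.eig x F.xP)).trans (F.l0 _ (pow_mem F.xP m)))
    ((congrArg ν hψ).trans F.n0)
    (by
      change ν (h * x * h⁻¹) * ν (h * x * h⁻¹) ≠ 1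
      rw [s.eig x F.xP, F.pn.pow xR, F.n1, mul_one]
      exact s.sq)
    (by
      rintro _ ⟨n, rfl⟩ h0
      obtain ⟨u, hu, e⟩ := fx n h0
      change l (n * ψ * (n : G)⁻¹) = 1
      rw [← F.l1, ← F.pl.conj (s.PR hu) ψR]
      congr 1
      nth_rw 2 [← mem_cent1_iff_conj.1 e]
      group)
    (by
      rintro _ ⟨n, rfl⟩ h0 h1
      obtain ⟨u, hu, e⟩ := fx n h0
      obtain ⟨c, hc⟩ : ∃ c, c = u⁻¹ * (n : G) := ⟨_, rfl⟩
      have cN : c ∈ 𝐍(R) := hc ▸ mul_mem (inv_mem (le_normalizer (s.PR hu))) n.2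
      have k : ∀ {f : G → ZMod r}, PH R f → f (n * x * (n : G)⁻¹) = f (c * x * c⁻¹) := by
        intro f hf
        rw [← hf.conj (s.PR hu) (nConj cN xR), hc]
        congr 1
        group
      rw [← hc] at e
      change ν (n * x * (n : G)⁻¹) = 1 at h1
      change l (n * x * (n : G)⁻¹) = 0
      rw [k F.pn] at h1
      rw [k F.pl]
      have ind : ∀ j : ℕ, l (c ^ j * x * (c ^ j)⁻¹) = j * l (c * x * c⁻¹) ∧
          ν (c ^ j * x * (c ^ j)⁻¹) = 1 := fun j => by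
        induction j with
        | zero => simp [F.l0 x F.xP, F.n1]
        | succ j ih =>
          have y := nConj (pow_mem cN j) xR
          rw [show c ^ (j + 1) * x * (c ^ (j + 1))⁻¹ = c * (c ^ j * x * (c ^ j)⁻¹) * c⁻¹ by group,
            U F.pl cN y, U F.pn cN y, mem_cent1_iff_conj.1 e, ih.1, ih.2, F.l1, F.n0, h1]
          push_cast
          exact ⟨by ring, by ring⟩
      obtain ⟨a, j, hj, ho⟩ := Nat.exists_eq_pow_mul_and_not_dvd (orderOf_pos c).ne' r hr.out.ne_one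
      have := (ind j).1
      rw [F.pl.conj (s.le (b.mem_of_pow s.pg s.le (pow_mem cN j) (pow_mem e j) (e := a) (by
        rw [← pow_mul, mul_comm, ← ho, pow_orderOf_eq_one]))) xR, F.l0 x F.xP] at this
      exact (mul_eq_zero.1 this.symm).resolve_left (by rwa [ZMod.natCast_eq_zero_iff]))
    (M.toHomUnits ⟨n, hn⟩) ⟨_, rfl⟩
  change l (n * x * n⁻¹) = 0 at k1
  change l (n * ψ * n⁻¹) = 1 at k2
  rw [U F.pl hn hg, k1, k2]
  ring

end Cfsg.Agent.P7.Z
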