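/-
The transfer contradiction for an `r`-element `ψ` with `|A : ⟨ψ⟩| = r`.
-/
import Cfsg.Agent.P7.ZC3

set_option autoImplicit false
set_option linter.unusedSectionVars false

namespace Cfsg.Agent.P7.Z

open Subgroup Cfsg Cfsg.Agent Cfsg.Agent.FT
open Cfsg.Agent.H2 (pPrimeCoreOf zl)

universe u

variable {G : Type u} [Group G] [Finite G] {r : ℕ} [hr : Fact r.Prime]

section
variable {ψ : G} {A : Subgroup G} {μ : G → ZMod r} (b : ZB ψ A μ)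
  {R P : Subgroup G} {h : G} {m : ℕ} (s : Str ψ A μ R h m P)
  {l ν : G → ZMod r} {x : G} (F : Frm ψ R P l ν x) (h2 : r ≠ 2)
include b s F h2

theorem ZB.grow (hS : ¬ IsSyl r R ⊤) : ∃ R' h', R < R' ∧ Val ψ A μ R' h' m := by
  have ψR := b.ψR s
  have xR := s.PR F.xP
  have U : ∀ {f : G → ZMod r}, PH R f → ∀ {n}, n ∈ 𝐍(R) → ∀ {g}, g ∈ R →
      f (n * g * n⁻¹) = f (n * ψ * n⁻¹) * l g + f (n * x * n⁻¹) * ν g :=
    fun hf _ hn _ hg => b.uniq s F (hf.comp hn) hg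
  have dm : ∀ {n k}, n ∈ 𝐍(R) → k ∈ 𝐍(R) →
      ν (n * k * x * (n * k)⁻¹) = ν (n * x * n⁻¹) * ν (k * x * k⁻¹) := fun {n k} hn hk => by
    rw [show n * k * x * (n * k)⁻¹ = n * (k * x * k⁻¹) * n⁻¹ by group, U F.pn hn (nConj hk xR),
      b.invar s F h2 hk xR, F.l0 x F.xP, mul_zero, zero_add]
  have di : ∀ {n}, n ∈ 𝐍(R) → ν (n * x * n⁻¹) * ν (n⁻¹ * x * n⁻¹⁻¹) = 1 := fun hn => by
    rw [← dm hn (inv_mem hn)]
    simpa using F.n1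
  let K : Subgroup G :=
    { carrier := {n | n ∈ 𝐍(R) ∧ ν (n * x * n⁻¹) = 1}
      mul_mem' := fun {n k} hn hk => ⟨mul_mem hn.1 hk.1, by rw [dm hn.1 hk.1, hn.2, hk.2, mul_one]⟩
      one_mem' := ⟨one_mem _, by simpa using F.n1⟩
      inv_mem' := fun {n} hn => ⟨inv_mem hn.1, by rw [← di hn.1, hn.2, one_mul]⟩ }
  have hK : K ⊲ 𝐍(R) := ⟨fun _ hn => hn.1, fun g hg => mem_norm_of_conj_le fun _ hx => by
    obtain ⟨n, hn, rfl⟩ := mem_conj'.1 hx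
    exact ⟨mul_mem (mul_mem hg hn.1) (inv_mem hg), by
      rw [dm (mul_mem hg hn.1) (inv_mem hg), dm hg hn.1, hn.2, mul_one, di hg]⟩⟩
  obtain ⟨R', hR', RR⟩ := exists_isSyl_ge hr.out s.pg (le_normalizer (H := R))
  have RK : R' ≤ K := fun n hn => by
    have dp : ∀ j : ℕ, ν (n ^ j * x * (n ^ j)⁻¹) = ν (n * x * n⁻¹) ^ j := fun j => by
      induction j with
      | zero => simpa using F.n1
      | succ j ih => rw [pow_succ, dm (pow_mem (hR'.le hn) j) (hR'.le hn), ih, pow_succ]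
    obtain ⟨k, hk⟩ := hR'.pgrp ⟨n, hn⟩
    have := dp (r ^ k)
    rw [show n ^ r ^ k = 1 from congrArg Subtype.val hk, ZMod.pow_card_pow] at this
    exact ⟨hR'.le hn, by simpa [F.n1] using this.symm⟩
  have lt : R < R' := lt_of_le_of_ne RR fun e => hS (IsSyl.of_norm hr.out (by
    rw [top_inf_eq]; exact e ▸ hR'))
  have fx : ∀ {n}, n ∈ 𝐍(R) → ν (n * ψ * n⁻¹) = 0 → ∃ u ∈ P, u⁻¹ * n ∈ 𝐂[ψ] := fun hn h0 =>
    b.fix s F hn h0 (by rw [b.invar s F h2 hn ψR, F.l1]; exact one_ne_zero)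
  obtain ⟨ρ, hρ, ρR⟩ := SetLike.exists_of_lt lt
  have ρN := hR'.le hρ
  have c0 : ν (ρ * ψ * ρ⁻¹) ≠ 0 := fun k => by
    obtain ⟨u, hu, e⟩ := fx ρN k
    exact ρR ((mul_mem_cancel_left (inv_mem (s.PR hu))).1 (s.le ((b.inf hR'.pgrp (s.le.trans RR)).le
      (mem_inf.2 ⟨mul_mem (inv_mem (RR (s.PR hu))) hρ, e⟩))))
  have cj : ∀ j : ℕ, ν (ρ ^ j * ψ * (ρ ^ j)⁻¹) = j * ν (ρ * ψ * ρ⁻¹) := fun j => by
    induction j with
    | zero => simpa using F.n0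
    | succ j ih =>
      rw [show ρ ^ (j + 1) * ψ * (ρ ^ (j + 1))⁻¹ = ρ * (ρ ^ j * ψ * (ρ ^ j)⁻¹) * ρ⁻¹ by group,
        U F.pn ρN (nConj (pow_mem ρN j) ψR), ih, b.invar s F h2 (pow_mem ρN j) ψR, F.l1, (RK hρ).2]
      push_cast
      ring
  obtain ⟨n, hn, k, hk, e⟩ := (mem_sup_of_norm' (inf_le_left.trans hK.2)).1
    (((hR'.of_le RK hK.1).frattini hr.out hK).ge s.nm)
  obtain ⟨j, hj⟩ : ∃ j : ℕ, j = (-ν (k * ψ * k⁻¹) / ν (ρ * ψ * ρ⁻¹)).val := ⟨_, rfl⟩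
  have ρj := pow_mem hρ j
  obtain ⟨u, hu, cψ⟩ := fx (mul_mem (hR'.le ρj) hk.1) (by
    rw [show ρ ^ j * k * ψ * (ρ ^ j * k)⁻¹ = ρ ^ j * (k * ψ * k⁻¹) * (ρ ^ j)⁻¹ by group,
      U F.pn (hR'.le ρj) (nConj hk.1 ψR), cj, b.invar s F h2 hk.1 ψR, F.l1, (RK ρj).2, hj,
      ZMod.natCast_zmod_val, div_mul_cancel₀ _ c0]
    ring)
  have uR := RR (s.PR hu)
  obtain ⟨c, hc⟩ : ∃ c, c = u⁻¹ * (ρ ^ j * k) := ⟨_, rfl⟩
  rw [← hc] at cψ
  have cK : c ∈ K := hc ▸ mul_mem (inv_mem (RK uR)) (mul_mem (RK ρj) hk)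
  have cA : c ∈ 𝐂(A) := by
    rw [← piPt_mul_piPt_compl {r} c]
    refine mul_mem (b.comm (b.mem_of_pg s.pg s.le (piPt_mem cK.1 _) (piPt_mem cψ _)
      ((isPiElt_singleton_iff hr.out).1 (isPiElt_piPt _ _)))) (mem_cent_iff_cent1.2 (s.le.trans ?_))
    have k1 := piPt_mem cK {r}ᶜ
    refine cent_of_ph hr.out s.pg k1.1 (fun d => isPiElt_piPt _ c r hr.out d rfl)
      fun f hf g hg => ?_
    rw [U hf k1.1 hg, mem_cent1_iff_conj.1 (piPt_mem cψ _), b.uniq s F hf (nConj k1.1 xR),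
      b.invar s F h2 k1.1 xR, F.l0 x F.xP, k1.2, b.uniq s F hf hg]
    ring
  refine ⟨R', h * c⁻¹, lt, hR'.pgrp, s.le.trans RR, ?_, mul_mem s.ct (inv_mem cψ), s.sq,
    fun a ha => ?_⟩
  · rw [show h * c⁻¹ = n * ((ρ ^ j)⁻¹ * u) by rw [← e, hc]; group]
    exact mul_mem hn.2 (le_normalizer (mul_mem (inv_mem ρj) uR))
  · rw [← s.act a ha, mul_assoc h, ← inv_mem cA a ha]
    congr 1
    group

theorem ZB.fusion (hab : ∀ T : Subgroup G, IsPGroup 2 T → IsMulCommutative T) (hS : IsSyl r R ⊤)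
    (hs : Group.IsSolvable 𝐂(𝐙(R))) {g : G} (hg : g * ψ * g⁻¹ ∈ R) : l (g * ψ * g⁻¹) = 1 := by
  have ψR := b.ψR s
  obtain ⟨c, hc, n, hn, rfl⟩ := zf hr.out h2 hab hS hs (zpowers_le.2 ψR) (g := g)
    (zpowers_conj ψ g ▸ zpowers_le.2 hg)
  rw [cent_zpowers, mem_cent1_iff_conj] at hc
  rw [show n * c * ψ * (n * c)⁻¹ = n * (c * ψ * c⁻¹) * n⁻¹ by group, hc] at hg ⊢
  have RH := le_normalizer.trans (H2.normalizer_le_normalizer_zl R)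
  obtain ⟨N, hN, PN, hO⟩ := exists_core hr.out h2 hab (K := 𝐍(zl R)) ⟨le_normalizer, le_rfl⟩
    (s.pg.to_le (H2.zl_le R)) (H1.isSolvable_of_le (cent_anti (H2.zOf_le_zl R)) hs)
    (hS.of_le RH le_top) ⟨s.PR, s.nP⟩ (isMulComm_iff_le_cent.2 s.ab)
  have RM : R ≤ N ⊔ zpowers ψ := fun y hy => by
    obtain ⟨p, hp, i, rfl⟩ := s.dec y hy
    exact mul_mem (mem_sup_left (PN hp)) (mem_sup_right (pow_mem (mem_zpowers ψ) i))
  have nM : n ∈ 𝐍((N ⊔ zpowers ψ : Subgroup G)) := mem_norm_of_conj_le (by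
    rw [conj_sup, conj_eq_of_mem_norm (hN.2 hn), ← zpowers_conj]
    exact sup_le le_sup_left (zpowers_le.2 (RM hg)))
  obtain ⟨u, hu, k, hk, rfl⟩ := (mem_sup_of_norm inf_le_left).1
    (((hS.of_le RM le_top).frattini hr.out ⟨le_normalizer, le_rfl⟩).ge nM)
  have nO := RH.trans (pPrimeCoreOf_normal r 𝐍(zl R)).2
  obtain ⟨o, ho, ρ, hρ, rfl⟩ := (mem_sup_of_norm nO).1 (sup_le (hO.trans
    (sup_le_sup_left inf_le_left _)) ((zpowers_le.2 ψR).trans le_sup_right) hu)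
  have kN := mul_mem (le_normalizer hρ) hk.2
  have yR := nConj kN ψR
  rw [show o * ρ * k * ψ * (o * ρ * k)⁻¹ = o * (ρ * k * ψ * (ρ * k)⁻¹) * o⁻¹ by group] at hg ⊢
  rw [mul_inv_eq_one.1 (mem_bot.1 ((H1.inf_eq_bot_of_coprime' (H1.coprime_card_of_isPGroup s.pg
    (H2.coprime_card_pPrimeCoreOf r _))).le (mem_inf.2 ⟨(congrArg (· ∈ _) (by group)).mp
      (mul_mem ho (nConj (nO yR) (inv_mem ho))), mul_mem hg (inv_mem yR)⟩))),
    b.invar s F h2 kN ψR, F.l1]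

theorem ZB.small {y : G} (hy : y ∈ R) {n : ℕ} (e : y ^ n = 1) (k : ψ ^ n ≠ 1) : l y = 0 := by
  have ψR := b.ψR s
  obtain ⟨p, hp, i, rfl⟩ := s.dec y hy
  rw [(b.coord s F hp i).1, ZMod.natCast_eq_zero_iff]
  by_contra hi
  have key : ∀ j : ℕ, (p * ψ ^ i) ^ j * ((ψ ^ i) ^ j)⁻¹ ∈ P := fun j => by
    induction j with
    | zero => simp
    | succ j ih =>
      exact (congrArg (· ∈ P) (by simp only [pow_succ]; group)).mp
        (mul_mem ih (nConj (s.nP (pow_mem (pow_mem ψR i) j)) hp))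
  have := key n
  rw [e, one_mul, ← pow_mul, mul_comm, pow_mul, inv_mem_iff] at this
  refine k (eq_one_of_pow_eq hr.out s.pg (pow_mem ψR n) ((b.one_of s this (g := 1) (by
    simpa using pow_mem (pow_mem (mem_zpowers ψ) n) i)).trans (pow_zero _).symm) ?_)
  rwa [Nat.modEq_zero_iff_dvd]

end

theorem zc (h2 : r ≠ 2) (hab : ∀ T : Subgroup G, IsPGroup 2 T → IsMulCommutative T)
    (hG : ⁅(⊤ : Subgroup G), (⊤ : Subgroup G)⁆ = ⊤) {ψ h a : G} {A : Subgroup G}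
    (hA : IsSyl r A 𝐂[ψ]) (ψA : ψ ∈ A) (ψ1 : ψ ≠ 1) (hi : (zpowers ψ).relIndex A = r)
    (f1 : ∀ y ∈ zpowers ψ, ∀ g : G, g * y * g⁻¹ ∈ zpowers ψ → g * y * g⁻¹ = y)
    (f2 : ∀ z : G, IsPGroup r (zpowers z) → Even 𝐨(𝐂[z]) → ∃ g, g * z * g⁻¹ ∈ zpowers ψ)
    (hN : h ∈ 𝐍(A)) (hψ : h ∈ 𝐂[ψ]) (ha : a ∈ A)
    (hz : h * (h * a * h⁻¹) * h⁻¹ * a⁻¹ ∉ zpowers ψ) : False := by
  have pA := zpowers_le.2 ψA
  obtain ⟨μ, hμ, μ0, g, hg, g0⟩ := exists_ph hr.out hA.pgrp (lt_of_le_of_ne pA fun e =>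
    hr.out.ne_one (hi.symm.trans (relIndex_eq_one.2 e.ge)))
  have b : ZB ψ A μ := ⟨hA, ψA, ψ1, hi, hμ,
    fun a ha => ⟨hμ.mem_of hr.out pA hi μ0 hg g0 ha, μ0 a⟩, f1⟩
  have act : ∀ y ∈ A, μ (h * y * h⁻¹) = μ (h * g * h⁻¹) / μ g * μ y := fun y hy => by
    obtain ⟨j, hj⟩ := b.gen hg hy fun k => g0 (μ0 g k)
    have k : ∀ {f : G → ZMod r}, PH A f → f ((g ^ j)⁻¹ * y) = 0 → f y = j * f g := fun hf e => by
      rw [hf _ (inv_mem (pow_mem hg j)) _ hy, hf.inv (pow_mem hg j), hf.pow hg] at e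
      linear_combination e
    rw [k hμ (μ0 _ hj), k (hμ.comp hN) (μ0 _ (nConj (nZp hψ) hj))]
    field_simp
  have v : Val ψ A μ A h (μ (h * g * h⁻¹) / μ g) := ⟨hA.pgrp, le_rfl, hN, hψ, fun e => hz (by
    have k := nConj hN (nConj hN ha)
    rw [← b.ker _ (mul_mem k (inv_mem ha)), hμ _ k _ (inv_mem ha), act _ (nConj hN ha), act _ ha,
      ← mul_assoc, e, hμ.inv ha]
    ring), act⟩
  obtain ⟨R, -, ⟨h', ζ, v⟩, hm⟩ := Finite.exists_le_maximal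
    (p := fun R => ∃ h ζ, Val ψ A μ R h ζ) ⟨h, _, v⟩
  obtain ⟨h, m, P, s⟩ := b.str v
  obtain ⟨l, ν, x, F⟩ := b.exists_frm s
  have hS : IsSyl r R ⊤ := by
    by_contra k
    obtain ⟨R', h', lt, w⟩ := b.grow s F h2 k
    exact lt.not_ge (hm ⟨h', _, w⟩ lt.le)
  obtain ⟨z, hz, oz⟩ := exists_mem_orderOf_eq_prime hr.out (b.card_inf s).symm.dvd
  have zZ : z ∈ 𝐙(R) := ⟨s.PR hz.1, fun y hy => by
    obtain ⟨p, hp, i, rfl⟩ := s.dec y hy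
    exact (mem_cent1.1 (mul_mem (cent_le_cent1 hz.1 (s.ab hp))
      (pow_mem (mem_cent1_comm.1 hz.2) i))).symm⟩
  have hs : Group.IsSolvable 𝐂(𝐙(R)) := H1.isSolvable_of_le (cent_le_cent1 zZ)
    (P5.Mx.isSolvable_of_odd (Nat.not_even_iff_odd.1 fun e => by
      obtain ⟨g, hg⟩ := f2 z (s.pg.to_le (zpowers_le.2 zZ.1)) e
      rw [b.one_of s hz.1 hg, orderOf_one] at oz
      exact hr.out.ne_one oz.symm))
  refine hS.ndvd (relIndex_top_right (H := R) ▸ F.pl.transfer hG (y := ψ) fun k g hg => ?_)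
  have o := Nat.card_zpowers ψ ▸ prime_dvd_card_of_isPGroup hr.out (hA.pgrp.to_le pA)
    (by simpa using ψ1)
  by_cases hk : r ∣ k
  · obtain ⟨k, rfl⟩ := hk
    obtain ⟨n, hn⟩ := o
    rw [b.small s F h2 hg (n := n) (by
        rw [conj_pow, ← pow_mul, mul_right_comm, pow_mul, ← hn, pow_orderOf_eq_one]; simp)
      (pow_ne_one_of_lt_orderOf (fun c => (orderOf_pos ψ).ne' (by rw [hn, c, mul_zero]))
        (hn ▸ lt_mul_of_one_lt_left (Nat.pos_of_ne_zero fun c => (orderOf_pos ψ).ne'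
          (by rw [hn, c, mul_zero])) hr.out.one_lt))]
    simp
  · have k1 : g * ψ * g⁻¹ ∈ R := zpowers_le.2 hg (zpowers_conj _ g ▸ conj_mem_conj
      (mem_zpowers_pow_iff.2 (by
        rw [← Nat.card_zpowers]
        exact H1.coprime_card_of_isPGroup (hA.pgrp.to_le pA)
          (hr.out.coprime_iff_not_dvd.2 hk).symm)) g)
    rw [← conj_pow, F.pl.pow k1, b.fusion s F h2 hab hS hs k1, mul_one]

end Cfsg.Agent.P7.Z
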