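/-
Janko-Ree type with field automorphisms: the primes dividing `|Φ|`, part J1.
-/
import Cfsg.Agent.P7.ZC4
import Cfsg.Agent.P7.Z5
import Cfsg.Agent.P8.Num

set_option autoImplicit false
set_option linter.unusedSectionVars false

namespace Cfsg.Agent.P7

open Subgroup Cfsg Cfsg.Agent Cfsg.Agent.FT
open Cfsg.Agent.P6 (Inv Od Qt pr)

universe u

namespace Z

theorem zmod13 : ((3 : ℕ) : ZMod 13) ^ 3 = 1 ∧ (1 : ZMod 13) ≠ -1 := by decide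

theorem exists_sq_not_cent {Y : Type*} [Group Y] [Finite Y] [IsSimpleGroup Y]
    (hY : Nat.card Y = 175560) {r : ℕ} [Fact r.Prime] (h : r ∣ 1463) (S : Sylow r Y) :
    ∃ g ∈ 𝐍((S : Subgroup Y)), g * g ∉ 𝐂((S : Subgroup Y)) := by
  have key : ∀ e n c : ℕ, e.Prime → e ≠ 2 → Nat.card (Sylow r Y) = n → e * n ∣ 175560 → 0 < n →
      𝐨(𝐂((S : Subgroup Y))) ∣ c → ¬ e ∣ c →
      ∃ g ∈ 𝐍((S : Subgroup Y)), g * g ∉ 𝐂((S : Subgroup Y)) := fun e n c he e2 hn d n0 hc k => by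
    have := P8.card_normalizer_sylow S
    rw [hn, hY] at this
    obtain ⟨g, hg, ho⟩ := exists_mem_orderOf_eq_prime he
      (Nat.dvd_of_mul_dvd_mul_right n0 (this ▸ d))
    refine ⟨g, hg, fun c => k (Dvd.dvd.trans ?_ ((orderOf_dvd_card_of_mem c).trans hc))⟩
    rw [← pow_two, Nat.Coprime.orderOf_pow (by
      rw [ho]; exact (Nat.coprime_primes he Nat.prime_two).2 e2), ho]
  obtain ⟨-, -, a1, a2, a3, -, -, b1, b2, b3⟩ := P8.sylow_counts hY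
  have hr : r.Prime := Fact.out
  rcases (hr.dvd_mul (m := 7 * 11) (n := 19)).1 h with k | k
  · rcases hr.dvd_mul.1 k with k | k
    · obtain rfl := (Nat.prime_dvd_prime_iff_eq hr (by norm_num)).1 k
      exact key 3 _ _ (by norm_num) (by norm_num) a1 (by norm_num) (by norm_num) (b1 S) (by norm_num)
    · obtain rfl := (Nat.prime_dvd_prime_iff_eq hr (by norm_num)).1 k
      exact key 5 _ _ (by norm_num) (by norm_num) a2 (by norm_num) (by norm_num) (b2 S) (by norm_num)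
  · obtain rfl := (Nat.prime_dvd_prime_iff_eq hr (by norm_num)).1 k
    exact key 3 _ _ (by norm_num) (by norm_num) a3 (by norm_num) (by norm_num) (b3 S) (by norm_num)

variable {G : Type u} [Group G] [Finite G]

theorem idx_eq {r : ℕ} (hr : r.Prime) {P A X Y : Subgroup G} (hP : IsSyl r P Y) (PA : P ≤ A)
    (hA : IsSyl r A X) (h1 : r ∣ Y.relIndex X) (h2 : ¬ r ^ 2 ∣ Y.relIndex X) :
    P.relIndex A = r := by
  have PX := le_inf hP.le (PA.trans hA.le)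
  have e := (relIndex_mul_relIndex P A X PA hA.le).trans
    (relIndex_mul_relIndex P (Y ⊓ X) X PX inf_le_right).symm
  rw [inf_relIndex_right] at e
  obtain ⟨n, hn⟩ := exists_card_eq_pow hr hA.pgrp
  obtain ⟨k, -, hk⟩ := (Nat.dvd_prime_pow hr).1 (hn ▸ relIndex_dvd_card' P A)
  rw [hk] at e ⊢
  rcases k with _ | _ | k
  · rw [pow_zero, one_mul] at e
    exact absurd (e ▸ h1.mul_left _) hA.ndvd
  · exact pow_one r
  · exact absurd ((Nat.Coprime.pow_left 2 (hr.coprime_iff_not_dvd.2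
      (hP.of_le PX inf_le_left).ndvd)).dvd_of_dvd_mul_left
      (e ▸ (pow_dvd_pow r (by omega)).mul_right _)) h2

theorem eq_or_eq {r : ℕ} (hr : r.Prime) {P B A : Subgroup G} (h1 : P ≤ B) (h2 : B ≤ A)
    (h : P.relIndex A = r) : B ≤ P ∨ A ≤ B := by
  have e := relIndex_mul_relIndex P B A h1 h2
  rw [h] at e
  rcases (Nat.dvd_prime hr).1 (Dvd.intro _ e) with k | k
  · exact Or.inl (relIndex_eq_one.1 k)
  · rw [k] at e
    exact Or.inr (relIndex_eq_one.1 (mul_right_injective₀ hr.ne_zero (e.trans (mul_one r).symm)))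

theorem janko_elt {r : ℕ} [hr : Fact r.Prime] (h : r ∣ 1463) {ψ : G} {A : Subgroup G}
    (hA : IsSyl r A 𝐂[ψ]) (ψA : ψ ∈ A) (hi : (zpowers ψ).relIndex A = r)
    (hO : Od 𝐂[ψ] ≤ 𝐂(𝐂[ψ])) {Y : Subgroup (Qt 𝐂[ψ])} [Y.Normal] [IsSimpleGroup Y]
    (hY : 𝐨(Y) = 175560) :
    ∃ g ∈ 𝐍(A), g ∈ 𝐂[ψ] ∧ ∃ a ∈ A, g * (g * a * g⁻¹) * g⁻¹ * a⁻¹ ∉ zpowers ψ := by
  have hOX := (P6.Od_normal 𝐂[ψ]).1
  have hB := hA.inf_normal hr.out ⟨H1.unbar_le Y, H1.le_normalizer_unbar_of_normal Y⟩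
  obtain ⟨B, eB⟩ : ∃ B, B = A ⊓ H1.unbar 𝐂[ψ] (Od 𝐂[ψ]) Y := ⟨_, rfl⟩
  have BA : B ≤ A := eB ▸ inf_le_left
  have BX := BA.trans hA.le
  rw [← eB] at hB
  have hBb := hB.bar (N := Od 𝐂[ψ]) hr.out (H1.unbar_le Y)
  rw [H1.bar_unbar] at hBb
  obtain ⟨S, hS⟩ := hBb.exists_sylow hr.out
  obtain ⟨⟨g, gY⟩, hg, k⟩ := exists_sq_not_cent hY h S
  obtain ⟨g, rfl⟩ := H1.qmk_surjective g
  rw [hS] at hg k
  have cen : ∀ c ∈ zpowers ψ, ∀ hc : c ∈ 𝐂[ψ], ∀ y, pr 𝐂[ψ] ⟨c, hc⟩ * y = y * pr 𝐂[ψ] ⟨c, hc⟩ :=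
    fun c hc _ y => by
      obtain ⟨y, rfl⟩ := H1.qmk_surjective y
      rw [← map_mul, ← map_mul]
      exact congrArg _ (Subtype.ext (mem_cent1.1 (cent1_le_cent1_of_mem_zpowers hc y.2)))
  rw [mem_cent] at k
  push Not at k
  obtain ⟨⟨b, bY⟩, ⟨⟨a, aX⟩, ha, rfl⟩, k⟩ := k
  have gB : (g : G) ∈ 𝐍(B) := by
    have k1 : (g : G) ∈ 𝐍((B ⊔ Od 𝐂[ψ] : Subgroup G)) := by
      rw [← H1.unbar_bar hOX BX]
      refine H1.le_normalizer_unbar (zpowers_le.2 g.2) ?_ (mem_zpowers _)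
      rw [H1.bar_zpowers, zpowers_le]
      have := le_normalizer_map Y.subtype (mem_map_of_mem _ hg)
      rwa [subgroupOf_map_subtype, inf_of_le_left hBb.le] at this
    exact mem_norm_of_conj_le ((hB.of_le le_sup_left (sup_le hB.le (H1.le_unbar hOX Y))).le_of_normal
      hr.out (sup_le le_normalizer (hO.trans ((cent_anti BX).trans (cent_le_norm B))))
      (hB.conj g).pgrp (conj_le_of_mem_norm le_sup_left k1))
  refine ⟨g, ?_, g.2, a, BA ha, fun c => k ?_⟩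
  · rcases eq_or_eq hr.out (le_sup_right (a := B)) (sup_le BA (zpowers_le.2 ψA)) hi with e | e
    · exact absurd (Subtype.ext (cen a (e (mem_sup_left ha)) aX _)) k
    · rw [le_antisymm e (sup_le BA (zpowers_le.2 ψA))]
      exact nSup gB (nZp g.2)
  have cX := zpowers_le.2 (self_mem_cent1 ψ) c
  have e : pr 𝐂[ψ] ⟨_, cX⟩ = pr 𝐂[ψ] g * (pr 𝐂[ψ] g * pr 𝐂[ψ] ⟨a, aX⟩ * (pr 𝐂[ψ] g)⁻¹) *
      (pr 𝐂[ψ] g)⁻¹ * (pr 𝐂[ψ] ⟨a, aX⟩)⁻¹ := by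
    simp only [← map_inv, ← map_mul]
    rfl
  have cY : pr 𝐂[ψ] ⟨_, cX⟩ ∈ Y := e ▸ mul_mem (mul_mem (mul_mem gY
    (mul_mem (mul_mem gY bY) (inv_mem gY))) (inv_mem gY)) (inv_mem bY)
  have c1 : (⟨_, cY⟩ : Y) ∈ center Y := mem_center_iff.2 fun y => Subtype.ext (cen _ c cX y).symm
  rcases (inferInstance : (center Y).Normal).eq_bot_or_eq_top with z | z
  · have := e.symm.trans (congrArg Subtype.val (mem_bot.1 (z.le c1)))
    refine Subtype.ext ?_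
    change pr 𝐂[ψ] ⟨a, aX⟩ * (pr 𝐂[ψ] g * pr 𝐂[ψ] g) = pr 𝐂[ψ] g * pr 𝐂[ψ] g * pr 𝐂[ψ] ⟨a, aX⟩
    nth_rw 1 [← mul_inv_eq_one.1 this]
    group
  · exact absurd ⟨⟨fun a b => mem_center_iff.1 (z.ge (mem_top b)) a⟩⟩ (P8.not_comm_of_card hY)

variable {t s s0 : G} {L : Subgroup G} {q : ℕ} (h : JRF t L q) (F : Fr 𝐂[t] L t q s s0)
include h F

theorem syl_cent {r : ℕ} (hr : r.Prime) (hL : ¬ r ∣ 𝐨(L)) {P : Subgroup G}
    (hP : IsSyl r P (Phi 𝐂[t] s s0)) : IsSyl r P 𝐂[t] :=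
  hP.trans hr (phiC F) (by
    rw [relIndex_phi h F]
    refine fun d => hL ((hr.dvd_mul.1 d).elim id fun d => d.trans ?_)
    exact (v4 F).card ▸ (by norm_num : 2 ∣ 4) |>.trans (Subgroup.card_dvd_of_le (VL F)))

theorem exists_gen {r : ℕ} (hr : r.Prime) (hd : r ∣ 𝐨(Phi 𝐂[t] s s0)) :
    ∃ (ψ : G) (a : ℕ), IsSyl r (zpowers ψ) (Phi 𝐂[t] s s0) ∧ ψ ≠ 1 ∧ orderOf ψ = r ^ a := by
  obtain ⟨P, hP⟩ := exists_isSyl hr (Phi 𝐂[t] s s0)
  obtain ⟨ψ, rfl⟩ := isCyclic_iff_zpowers.1 (isCyclic_of_le hP.le F.cycF)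
  obtain ⟨a, ha⟩ := exists_card_eq_pow hr hP.pgrp
  exact ⟨ψ, a, hP, by simpa using hP.ne_bot hr hd, Nat.card_zpowers ψ ▸ ha⟩

theorem no_elt [IsSimpleGroup G] {r : ℕ} (hr : r.Prime) (hL : ¬ r ∣ 𝐨(L)) {ψ g a : G}
    (hψ : IsSyl r (zpowers ψ) (Phi 𝐂[t] s s0)) (ψ1 : ψ ≠ 1) {A : Subgroup G}
    (hA : IsSyl r A 𝐂[ψ]) (ψA : ψ ∈ A) (hi : (zpowers ψ).relIndex A = r) (hN : g ∈ 𝐍(A))
    (hg : g ∈ 𝐂[ψ]) (ha : a ∈ A) : g * (g * a * g⁻¹) * g⁻¹ * a⁻¹ ∈ zpowers ψ := by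
  haveI := Fact.mk hr
  by_contra hz
  refine zc (fun e => ?_) h.e8.comm_two (perfect h F) hA ψA ψ1 hi
    (fun y hy g k => eq_of_conj h F (hψ.le hy) (hψ.le k)) (fun z hz e => ?_) hN hg ha hz
  · exact hL (e ▸ (v4 F).card ▸ (by norm_num : 2 ∣ 4) |>.trans (Subgroup.card_dvd_of_le (VL F)))
  obtain ⟨b, hb, ob⟩ := exists_mem_orderOf_eq_prime Nat.prime_two e.two_dvd
  obtain ⟨c, rfl⟩ := isConj_iff.1 (h.conj b ob)
  rw [mem_cent1_comm, cent1_conj] at hb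
  obtain ⟨d, -, k⟩ := ((syl_cent h F hr hL hψ).conj c).exists_conj_le hr hz (zpowers_le.2 hb)
  exact ⟨c⁻¹ * d, (congrArg (· ∈ _) (by group)).mp
    (mem_conj.1 (k (conj_mem_conj (mem_zpowers z) d)))⟩

theorem no_janko [IsSimpleGroup G] {r a q0 : ℕ} (hr : r.Prime) {ψ : G}
    (hψ : IsSyl r (zpowers ψ) (Phi 𝐂[t] s s0)) (ψ1 : ψ ≠ 1) (ho : orderOf ψ = r ^ a)
    (e : q0 ^ r ^ a = q) (h3 : 3 ≤ q0) (k1 : q0 * (q0 - 1) * (q0 + 1) ∣ 240)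
    (k2 : 𝐂[t].relIndex 𝐂[ψ] = 1463) {Y : Subgroup (Qt 𝐂[ψ])} [Y.Normal] [IsSimpleGroup Y]
    (hY : 𝐨(Y) = 175560) : False := by
  haveI := Fact.mk hr
  have hy := hψ.le (mem_zpowers ψ)
  have d := dvd_relIndex h F hr hy ψ1 ho
  have d' := k2 ▸ d
  have hL : ¬ r ∣ 𝐨(L) := fun c => absurd (Nat.dvd_gcd d' ((dvd_cube F hr e (by omega) c).trans k1))
    (by simpa using hr.one_lt.ne')
  obtain ⟨A, hA, ψA⟩ := exists_isSyl_ge hr hψ.pgrp (zpowers_le.2 (self_mem_cent1 ψ))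
  have hi := idx_eq hr (syl_cent h F hr hL hψ) ψA hA d (by
    rw [k2, pow_two]
    exact fun c => hr.ne_one (Nat.isUnit_iff.1 ((by decide +kernel : Squarefree 1463) r c)))
  obtain ⟨g, hg, gψ, b, hb, k⟩ := janko_elt d' hA (zpowers_le.1 ψA) hi (cent_comm.1
    ((P6.Od_normal _).2.trans (norm_le_cent h F (Od_le_phi h F (normS_cent h F hy))))) hY
  exact k (no_elt h F hr hL hψ ψ1 hA (zpowers_le.1 ψA) hi hg gψ hb)

theorem normS_inf : 𝐍(S3 t s s0) ⊓ 𝐂[t] ≤ 𝐂(S3 t s s0) ⊔ zpowers F.x := fun g hg => by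
  have key : ∀ a ∈ L, ∀ c ∈ 𝐂(S3 t s s0), g = c * a → g ∈ 𝐂(S3 t s s0) ⊔ zpowers F.x :=
    fun a ha c hc e => by
      have k : a ∈ 𝐍(S3 t s s0) := (mul_mem_cancel_left (cent_le_norm _ hc)).1 (e ▸ hg.1)
      have := F.normV.le ⟨ha, SL h F ▸ nInf k (le_normalizer ha)⟩
      exact e ▸ mul_mem (mem_sup_left hc)
        (sup_le_sup_right (le_sup_left.trans (s8 h F).le_cent) _ this)
  obtain ⟨a, ha, φ, hφ, e⟩ := F.dec g hg.2
  have aφ := nConj (CN F (phiC F hφ)) ha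
  rcases e with e | e
  · refine key (φ⁻¹ * a * φ) (nConj' (CN F (phiC F hφ)) ha) φ (phi_centS F hφ) (e.trans ?_)
    group
  · refine key (φ⁻¹ * a * φ) (nConj' (CN F (phiC F hφ)) ha) (t * φ)
      (mul_mem ((s8 h F).le_cent (tS F)) (phi_centS F hφ)) (e.trans ?_)
    group

theorem no_seven [IsSimpleGroup G] (hL : ¬ 7 ∣ 𝐨(L)) {ψ : G} {a : ℕ}
    (hψ : IsSyl 7 (zpowers ψ) (Phi 𝐂[t] s s0)) (ψ1 : ψ ≠ 1) (ho : orderOf ψ = 7 ^ a) :
    7 ^ 2 ∣ 𝐂[t].relIndex 𝐂[ψ] := by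
  by_contra h49
  have hr : Nat.Prime 7 := by norm_num
  have hy := hψ.le (mem_zpowers ψ)
  have hS := s8 h F
  have it := inv_t h F
  have hP := syl_cent h F hr hL hψ
  have PC := hψ.le.trans (phi_centS F)
  have CN := cent_le_norm (S3 t s s0)
  have i7 := relIndex_seven hS (tS F) it.ne le_rfl fun b hb b1 => transS h F (tS F) hb it.ne b1
  obtain ⟨A, hA, ψA⟩ := exists_isSyl_ge hr hψ.pgrp (PC.trans CN)
  have hi := idx_eq hr hP ψA hA i7.symm.dvd (by rw [i7]; norm_num)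
  have AP : ¬ A ≤ zpowers ψ := fun c => hr.ne_one (hi.symm.trans (relIndex_eq_one.2 c))
  have hA' : IsSyl 7 A 𝐂[ψ] := by
    obtain ⟨B, hB, AB⟩ := exists_isSyl_ge hr hA.pgrp (hA.le.trans (normS_cent h F hy))
    rcases eq_or_eq hr ψA AB (idx_eq hr hP (ψA.trans AB) hB (dvd_relIndex h F hr hy ψ1 ho) h49)
      with e | e
    exacts [absurd e AP, le_antisymm e AB ▸ hB]
  have AN := hA.le.trans (H1.normalizer_le_normalizer_centralizer _)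
  have hK : A ⊔ 𝐂(S3 t s s0) ⊲ 𝐍(S3 t s s0) := by
    haveI := H1.normal_subgroupOf_of_le (H1.normalizer_le_normalizer_centralizer (S3 t s s0))
    have hb := hA.bar (N := 𝐂(S3 t s s0)) hr le_rfl
    have d : (H1.bar 𝐍(S3 t s s0) 𝐂(S3 t s s0) A).relIndex
        (H1.bar 𝐍(S3 t s s0) 𝐂(S3 t s s0) 𝐍(S3 t s s0)) ∣ 3 * 7 := by
      refine (relIndex_dvd_card' _ _).trans ?_
      rw [H1.card_bar le_rfl, ← relIndex_mul_relIndex _ (𝐍(S3 t s s0) ⊓ 𝐂[t]) _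
        (le_inf CN (cent_le_cent1 (tS F))) inf_le_left, inf_relIndex_left, i7]
      refine mul_dvd_mul_right ?_ 7
      rw [← x_order F, ← Nat.card_zpowers]
      exact relIndex_dvd_of_le_sup (le_inf CN (cent_le_cent1 (tS F)))
        (zpowers_le.2 ⟨xS F, LC F F.xL⟩)
        (zpowers_le.2 (H1.normalizer_le_normalizer_centralizer _ (xS F))) (normS_inf h F)
    refine ⟨sup_le hA.le CN, ?_⟩
    rw [← H1.unbar_bar CN hA.le]
    exact H1.le_normalizer_unbar le_rfl (P6.syl_normal_of_lt hr hb ((Nat.le_of_dvd three_pos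
      ((hr.coprime_iff_not_dvd.2 hb.ndvd).symm.dvd_of_dvd_mul_right d)).trans_lt (by norm_num)))
  obtain ⟨k, hk, n, hn, e⟩ := (mem_sup_of_norm (inf_le_left.trans hK.2)).1
    (((hA.of_le le_sup_left hK.1).frattini hr hK).ge (xS F))
  obtain ⟨c, hc, b, hb, rfl⟩ := (mem_sup_of_norm AN).1 (sup_comm A _ ▸ hk)
  obtain ⟨g, hg⟩ : ∃ g, g = b * n := ⟨_, rfl⟩
  have gN : g ∈ 𝐍(S3 t s s0) := hg ▸ mul_mem (hA.le hb) hn.1
  rw [mul_assoc, ← hg] at e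
  have xg : ∀ v ∈ S3 t s s0, F.x * v * F.x⁻¹ = g * v * g⁻¹ := fun v hv => by
    rw [← e, show c * g * v * (c * g)⁻¹ = c * (g * v * g⁻¹) * c⁻¹ by group, ← hc _ (nConj gN hv),
      mul_inv_cancel_right]
  have xt := mem_cent1_iff_conj.1 (LC F F.xL)
  obtain ⟨y, hy', yt⟩ := SetLike.not_le_iff_exists.1 fun c : A ≤ 𝐂[t] =>
    AP (hP.eq_of_le hr ψA c hA.pgrp).le
  have k := PC (no_elt h F hr hL hψ ψ1 hA' (zpowers_le.1 ψA) hi
    (hg ▸ mul_mem (le_normalizer hb) hn.2) (normS_cent h F hy gN) hy')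
  have vS := nConj (hA.le hy') (tS F)
  have gt : g * t * g⁻¹ = t := (xg t (tS F)).symm.trans xt
  have x2 : F.x * F.x ∈ 𝐂[y * t * y⁻¹] := mem_cent1_iff_conj.2 (by
    obtain ⟨p, hp⟩ : ∃ p, p = g * (g * y * g⁻¹) * g⁻¹ * y⁻¹ := ⟨_, rfl⟩
    rw [← hp] at k
    calc _ = F.x * (F.x * (y * t * y⁻¹) * F.x⁻¹) * F.x⁻¹ := by group
      _ = g * (g * (y * t * y⁻¹) * g⁻¹) * g⁻¹ := by rw [xg _ vS, xg _ (nConj gN vS)]
      _ = p * (y * (g * (g * t * g⁻¹) * g⁻¹) * y⁻¹) * p⁻¹ := by rw [hp]; group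
      _ = _ := by rw [gt, gt, ← k _ vS, mul_inv_cancel_right])
  have x1 : F.x = F.x * F.x * (F.x * F.x) := by
    rw [show F.x * F.x * (F.x * F.x) = F.x ^ 3 * F.x by
      simp only [pow_succ, pow_zero, one_mul, mul_assoc], F.x3, one_mul]
  exact x_not F (cent_le_cent1 (sS F) (hS.cent_of_line (hS.v4 (tS F) vS it.ne (it.conj y).ne
    fun c => yt (mem_cent1_iff_conj.2 c.symm)) (tS F) vS (xS F) (LC F F.xL) (x1 ▸ mul_mem x2 x2)))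

end Z

open Z

variable {G : Type u} [Group G] [Finite G] [IsSimpleGroup G] {t s s0 : G} {L : Subgroup G} {q : ℕ}

theorem j1 (hI : Ind3.{u} (Nat.card G)) (h : JRF t L q) (F : Fr 𝐂[t] L t q s s0) :
    ∀ r, r.Prime → r ∣ 𝐨(Phi 𝐂[t] s s0) → F.p = 3 ∧ (r = 3 ∨ r ∣ q ^ 2 - q + 1) := by
  intro r hr hd
  obtain ⟨ψ, a, hψ, ψ1, ho⟩ := exists_gen h F hr hd
  have hy := hψ.le (mem_zpowers ψ)
  have d := dvd_relIndex h F hr hy ψ1 ho
  obtain ⟨q0, e, h3, k⟩ := cases0 h F hI hy ψ1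
  rw [ho] at e
  have m := (quad_modEq (by have := F.five; omega) (by omega) (modEq_of_pow hr e)).dvd_iff dvd_rfl
  rcases k with ⟨rfl, k⟩ | ⟨k1, k2, Y, _, _, hY⟩ | ⟨⟨n, hn⟩, k⟩
  · exact ⟨p_eq_three F e (pow_one 3).symm, Or.inr (m.2 (d.trans k.dvd))⟩
  · exact (no_janko h F hr hψ ψ1 ho e h3 k1 k2 hY).elim
  · rw [k] at d
    exact ⟨p_eq_three F e hn, (hr.dvd_mul.1 d).imp
      (fun d => eq_three_of_dvd hr (hr.dvd_of_dvd_pow d) hn) m.2⟩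

theorem j1b (hI : Ind3.{u} (Nat.card G)) (h : JRF t L q) (F : Fr 𝐂[t] L t q s s0) :
    Phi 𝐂[t] s s0 = ⊥ ∨ (F.p = 3 ∧ (3 ∣ 𝐨(Phi 𝐂[t] s s0) ∨ q ≠ 3 ^ 𝐨(Phi 𝐂[t] s s0))) := by
  refine or_iff_not_imp_left.2 fun h1 => ?_
  have hr := Nat.minFac_prime (mt card_eq_one.1 h1)
  have hd := Nat.minFac_dvd 𝐨(Phi 𝐂[t] s s0)
  have hc := Nat.coprime_of_lt_minFac (n := 𝐨(Phi 𝐂[t] s s0)) (Nat.sub_ne_zero_of_lt hr.one_lt)
    (Nat.sub_one_lt hr.ne_zero)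
  have o := odd_phi F
  generalize 𝐨(Phi 𝐂[t] s s0).minFac = r at hr hd hc
  obtain ⟨k1, k2⟩ := j1 hI h F r hr hd
  refine ⟨k1, or_iff_not_imp_left.2 fun h3 hq => ?_⟩
  have r3 : r ≠ 3 := fun e => h3 (e ▸ hd)
  have cube : ∀ {n a : ℕ}, 1 ≤ a → n ∣ a ^ 2 - a + 1 → (a : ZMod n) ^ 3 = -1 := fun {n a} ha d => by
    obtain ⟨a, rfl⟩ := Nat.exists_eq_add_of_le' ha
    rw [quad_eq, ← ZMod.natCast_eq_zero_iff] at d
    push_cast at d ⊢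
    linear_combination (a + 2) * d
  have c1 := cube (by have := F.five; omega) (k2.resolve_left r3)
  haveI := Fact.mk hr
  obtain rfl : r = 7 := by
    rw [hq, Nat.cast_pow, ← pow_mul, mul_comm, pow_mul] at c1
    have z3 : ((3 : ℕ) : ZMod r) ≠ 0 := fun c => r3
      ((Nat.prime_dvd_prime_iff_eq hr Nat.prime_three).1 ((ZMod.natCast_eq_zero_iff _ _).1 c))
    have e : ((3 : ℕ) : ZMod r) ^ 6 = 1 := by
      rw [← pow_eq_one_iff_of_coprime hc]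
      exact ⟨by rw [show 6 = 3 * 2 from rfl, pow_mul, pow_right_comm, c1]; ring,
        ZMod.pow_card_sub_one_eq_one (pow_ne_zero _ z3)⟩
    have d : r ∣ 2 ^ 3 * 7 * 13 := by
      rw [← ZMod.natCast_eq_zero_iff]
      push_cast at e ⊢
      linear_combination e
    rcases hr.dvd_mul.1 d with d | d
    · rcases hr.dvd_mul.1 d with d | d
      · rw [(Nat.prime_dvd_prime_iff_eq hr Nat.prime_two).1 (hr.dvd_of_dvd_pow d)] at hd
        exact absurd (even_iff_two_dvd.2 hd) (Nat.not_even_iff_odd.2 o)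
      · exact (Nat.prime_dvd_prime_iff_eq hr (by norm_num)).1 d
    · obtain rfl := (Nat.prime_dvd_prime_iff_eq hr (by norm_num)).1 d
      have k : ((3 : ℕ) : ZMod 13) ^ 3 = 1 ∧ (1 : ZMod 13) ≠ -1 := zmod13
      exact absurd ((one_pow _).symm.trans (k.1 ▸ c1)) k.2
  obtain ⟨ψ, a, hψ, ψ1, ho⟩ := exists_gen h F hr hd
  have d := no_seven h F ((j0 hI h F 7 hr hd).resolve_left fun c => r3 c.1) hψ ψ1 ho
  obtain ⟨q0, e, q3, k⟩ := cases0 h F hI (hψ.le (mem_zpowers ψ)) ψ1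
  rcases k with ⟨-, k⟩ | ⟨-, k, -⟩ | ⟨-, k⟩ <;> rw [k] at d
  · norm_num at d
  · norm_num at d
  have e0 : q0 = 3 ^ (zpowers ψ).relIndex (Phi 𝐂[t] s s0) :=
    Nat.pow_left_injective (orderOf_pos ψ).ne' (e.trans (hq.trans (by
      simp only [← pow_mul]
      rw [← H1.card_mul_relIndex hψ.le, Nat.card_zpowers, mul_comm])))
  have c2 := cube (by omega) (Nat.Coprime.dvd_of_dvd_mul_left (by
    rw [e0]; exact ((by norm_num : Nat.Coprime 7 3).pow_right _).pow _ _) d)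
  refine hψ.ndvd (@orderOf_eq_prime (ZMod (7 ^ 2)) _ (3 ^ 6) 7 _ (by decide) (by decide) ▸
    orderOf_dvd_of_pow_eq_one ?_)
  rw [e0] at c2
  push_cast at c2
  rw [pow_right_comm, show 6 = 3 * 2 from rfl, pow_mul, c2]
  ring

end Cfsg.Agent.P7
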