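/-
Groups of Ree type: assembling part J.
-/
import Cfsg.Agent.P7.J5
import Cfsg.Agent.P7.J6B
import Cfsg.Agent.P7.ZMain
import Cfsg.Agent.P7.O5
import Cfsg.Agent.P7.Final0
import Cfsg.Agent.P7.L2Main
import Cfsg.Agent.P8.JMain

set_option autoImplicit false

namespace Cfsg.Agent.P7

open Subgroup Cfsg Cfsg.Agent Cfsg.Agent.FT

universe u

/-- Parts J2, J3. -/
def AHyp : Prop := ∀ (G : Type u) [Group G] [Finite G] (t s s0 : G) (L : Subgroup G) (q : ℕ),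
  JRF t L q → ∀ F : Fr 𝐂[t] L t q s s0, 5 < q →
    (∀ r, r.Prime → r ∣ 𝐨(Phi 𝐂[t] s s0) → (r = 3 ∧ F.p = 3) ∨ ¬ r ∣ 𝐨(L)) →
    ¬ 3 ∣ F.k ∧ (∀ w ∈ F.T, w ≠ 1 → 𝐂[w] ≤ 𝐂[t]) ∧
      (∀ r, r.Prime → r ∣ F.k → ¬ r ∣ (𝐂[t]).index) ∧
      (q = 4 * F.k + 1 → ¬ F.p ∣ (𝐂[t]).index ∨ q ∣ (𝐂[t]).index)

theorem reeHyp_of (hA : AHyp.{u}) : ReeHyp.{u} := by
  intro G _ _ _ hI t L q h q5
  obtain ⟨s, s0, ⟨F⟩⟩ := h.exists_fr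
  obtain ⟨h3, hα, hk, hp⟩ := hA G t s s0 L q h F q5 (j0 hI h F)
  have hφ := j4_cop hI h F hα
  obtain ⟨p3, he, hi, ξ, hξ, dξ, vξ⟩ := j5 h F hφ hα (hl_of F q5 h3 hφ (j1b hI h F)) h3
    (Nat.coprime_of_dvd fun r hr h1 h2 => hk r hr h2 h1)
    (F.ep.eps.elim (fun e => hp e.1) fun e => j4_p h F hα e.1)
  obtain ⟨U, E, pU, iU, UP, UT, -, -, -, -, nU, -⟩ := j4 h F hα he
  exact ⟨U, j6 h F q5 p3 he hi hξ dξ vξ hφ (fun r h1 h2 => (j1 hI h F r h1 h2).2) pU iU UP UT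
    (nU.trans inf_le_left)⟩

theorem jankoHyp : JankoHyp.{u} := fun _ _ _ _ _ _ h => P8.card_of_JR h

theorem k3_of_a (hA : AHyp.{u}) : K3.{u} :=
  k3_of l2Api l2Four jrfHyp jankoHyp (reeHyp_of hA)

end Cfsg.Agent.P7
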