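/-
Combinatorics and arithmetic for homocyclic Sylow 2-subgroups of rank two.
-/
import Mathlib

set_option autoImplicit false

namespace Cfsg.Agent.P7.R2

theorem three_sq {B : Type*} [DecidableEq B] {s : Finset B} {x : B → ℤ}
    (h : ∑ b ∈ s, x b * x b = 3) :
    ∃ Z ⊆ s, Z.card = 3 ∧ (∀ b ∈ Z, x b * x b = 1) ∧ ∀ b ∈ s \ Z, x b = 0 := by
  have h1 : ∀ b ∈ s.filter (x · ≠ 0), x b * x b = 1 := fun b hb => by
    have h2 := Finset.single_le_sum (f := fun b => x b * x b) (fun b _ => mul_self_nonneg _)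
      (Finset.mem_filter.1 hb).1
    have h3 := (Finset.mem_filter.1 hb).2
    rw [h] at h2
    have h4 : -2 < x b := by nlinarith
    have h5 : x b < 2 := by nlinarith
    have : x b = 1 ∨ x b = -1 := by omega
    rcases this with e | e <;> simp [e]
  refine ⟨_, Finset.filter_subset _ _, ?_, h1, fun b hb => by
    by_contra e
    exact (Finset.mem_sdiff.1 hb).2 (Finset.mem_filter.2 ⟨(Finset.mem_sdiff.1 hb).1, e⟩)⟩
  rw [← Finset.sum_filter_of_ne (p := (x · ≠ 0)) fun b _ e e' => e (by rw [e', mul_zero]),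
    Finset.sum_congr rfl h1, Finset.sum_const, nsmul_eq_mul, mul_one] at h
  exact_mod_cast h

theorem exists_zero {B : Type*} [DecidableEq B] {Z : Finset B} {x y : B → ℤ} (hZ : Z.card = 3)
    (hx : ∀ b ∈ Z, x b * x b = 1) (h2 : ∑ b ∈ Z, x b * y b = 2) (h3 : ∑ b ∈ Z, y b * y b ≤ 3) :
    ∃ z ∈ Z, y z = 0 ∧ ∀ b ∈ Z, b ≠ z → y b = x b := by
  have h1 : ∀ b ∈ Z, y b = 0 ∨ y b = x b := by
    have e : ∀ b ∈ Z, ∃ k : ℤ, 0 ≤ k ∧ y b * y b - x b * y b = 2 * k := fun b hb => by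
      obtain ⟨k, hk⟩ := Int.even_mul_succ_self (x b * y b - 1)
      refine ⟨k, by nlinarith [mul_self_nonneg (2 * (x b * y b) - 1)], ?_⟩
      linear_combination hk - (y b * y b) * hx b hb
    intro b hb
    have h4 := Finset.single_le_sum (f := fun b => y b * y b - x b * y b)
      (fun b hb => by obtain ⟨k, h, e⟩ := e b hb; simp only [e]; omega) hb
    obtain ⟨k, hk, e1⟩ := e b hb
    rw [Finset.sum_sub_distrib, h2, e1] at h4
    have k0 : k = 0 := by omega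
    have : y b * (y b - x b) = 0 := by linear_combination e1 + 2 * k0
    exact (mul_eq_zero.1 this).imp id sub_eq_zero.1
  have hz : ∃ z ∈ Z, y z = 0 := by
    by_contra hn
    push Not at hn
    rw [Finset.sum_congr rfl fun b hb => by rw [(h1 b hb).resolve_left (hn b hb), hx b hb]] at h2
    simp [hZ] at h2
  obtain ⟨z, hz, e⟩ := hz
  refine ⟨z, hz, e, fun b hb hbz => (h1 b hb).resolve_left fun e' => ?_⟩
  have hb' := Finset.mem_erase.2 ⟨hbz, hb⟩
  rw [← Finset.add_sum_erase _ _ hz, ← Finset.add_sum_erase _ _ hb', e, e'] at h2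
  have := Finset.sum_le_card_nsmul ((Z.erase z).erase b) (fun b => x b * y b) 1 fun c hc => by
    have hc' := Finset.mem_of_mem_erase (Finset.mem_of_mem_erase hc)
    rcases h1 c hc' with e | e <;> simp [e, hx c hc']
  rw [Finset.card_erase_of_mem hb', Finset.card_erase_of_mem hz, hZ] at this
  simp only [mul_zero, zero_add] at h2
  rw [h2] at this
  simp at this

theorem eq_of_sum {B : Type*} {s : Finset B} {x y : B → ℤ} {n : ℤ} (hx : ∑ b ∈ s, x b * x b = n)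
    (hy : ∑ b ∈ s, y b * y b = n) (h : ∑ b ∈ s, x b * y b = n) : ∀ b ∈ s, x b = y b := by
  have : ∑ b ∈ s, (x b - y b) * (x b - y b) = 0 := by
    rw [Finset.sum_congr rfl (g := fun b => x b * x b + y b * y b - 2 * (x b * y b))
      fun _ _ => by ring, Finset.sum_sub_distrib, Finset.sum_add_distrib, ← Finset.mul_sum, hx, hy, h]
    ring
  exact fun b hb => sub_eq_zero.1 (mul_self_eq_zero.1
    ((Finset.sum_eq_zero_iff_of_nonneg fun _ _ => mul_self_nonneg _).1 this b hb))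

theorem comb {B I : Type*} [DecidableEq B] {s : Finset B} {Λ : Finset I} {d : I → B → ℤ}
    {r : I → I → Prop} [DecidableRel r] {l : I} (hl : l ∈ Λ)
    (gram : ∀ μ ∈ Λ, ∀ ν ∈ Λ, ∑ b ∈ s, d μ b * d ν b = 2 + if r μ ν then 1 else 0)
    (refl : ∀ μ ∈ Λ, r μ μ) (hr : ∀ μ ∈ Λ, (Λ.filter (r μ)).card ≤ 3) (hΛ : 13 ≤ Λ.card) :
    ∃ a ∈ s, ∃ b ∈ s, ∃ c ∈ s, d l a * d l a = 1 ∧ d l b * d l b = 1 ∧ d l c * d l c = 1 ∧
      (∀ μ ∈ Λ, d μ a = d l a ∧ d μ b = d l b) ∧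
      ∀ f : B → ℂ, ∑ x ∈ s, d l x * f x = d l a * f a + d l b * f b + d l c * f c := by
  classical
  have g3 : ∀ μ ∈ Λ, ∑ b ∈ s, d μ b * d μ b = 3 := fun μ h => by
    rw [gram μ h μ h, if_pos (refl μ h)]; rfl
  have eqd : ∀ μ ∈ Λ, ∀ ν ∈ Λ, r μ ν → ∀ b ∈ s, d μ b = d ν b := fun μ h ν h' e =>
    eq_of_sum (g3 μ h) (g3 ν h') (by rw [gram μ h ν h', if_pos e]; rfl)
  obtain ⟨Z, hZs, hZ, hZ1, hZ0⟩ := three_sq (g3 l hl)
  have hex : ∀ μ, ∃ z, μ ∈ Λ.filter (¬ r l ·) →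
      z ∈ Z ∧ d μ z = 0 ∧ ∀ b ∈ Z, b ≠ z → d μ b = d l b := fun μ => by
    by_cases h : μ ∈ Λ.filter (¬ r l ·)
    · obtain ⟨h1, h2⟩ := Finset.mem_filter.1 h
      have e1 := gram l hl μ h1
      rw [if_neg h2, ← Finset.sum_sdiff hZs, Finset.sum_eq_zero fun b hb => by
        rw [hZ0 b hb, zero_mul], zero_add, add_zero] at e1
      obtain ⟨z, hz⟩ := exists_zero hZ hZ1 e1 (g3 μ h1 ▸
        Finset.sum_le_sum_of_subset_of_nonneg hZs fun _ _ _ => mul_self_nonneg _)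
      exact ⟨z, fun _ => hz⟩
    · obtain ⟨z, -⟩ := Finset.card_pos.1 (show 0 < Z.card by omega)
      exact ⟨z, fun h' => (h h').elim⟩
  choose i hi using hex
  generalize hR : Λ.filter (¬ r l ·) = R at hi
  have hRΛ : ∀ μ ∈ R, μ ∈ Λ := fun μ h => (Finset.mem_filter.1 (hR ▸ h)).1
  have hW : ∀ μ ∈ R, ∀ ν ∈ R, ∑ b ∈ s \ Z, d μ b * d ν b =
      (if r μ ν then 1 else 0) + if i μ = i ν then 0 else 1 := fun μ h ν h' => by
    have e1 := gram μ (hRΛ μ h) ν (hRΛ ν h')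
    obtain ⟨a1, a2, a3⟩ := hi μ h
    obtain ⟨b1, b2, b3⟩ := hi ν h'
    have e2 : ∑ b ∈ Z, d μ b * d ν b = ((Z.erase (i μ)).erase (i ν)).card := by
      rw [← Finset.sum_subset ((Finset.erase_subset (i ν) _).trans (Finset.erase_subset (i μ) Z))
        fun b hb hb' => by
          by_cases e : b = i ν
          · rw [e, b2, mul_zero]
          · have e' : b = i μ := by
              by_contra e'
              exact hb' (Finset.mem_erase.2 ⟨e, Finset.mem_erase.2 ⟨e', hb⟩⟩)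
            rw [e', a2, zero_mul], Finset.sum_congr rfl (g := fun _ => 1) fun b hb => by
          have k1 := Finset.mem_erase.1 hb
          have k2 := Finset.mem_erase.1 k1.2
          rw [a3 b k2.2 k2.1, b3 b k2.2 k1.1, hZ1 b k2.2]]
      simp
    rw [← Finset.sum_sdiff hZs, e2] at e1
    by_cases e : i μ = i ν
    · rw [← e, Finset.erase_idem, Finset.card_erase_of_mem a1, hZ] at e1
      rw [if_pos e]
      push_cast at e1
      linarith
    · rw [Finset.card_erase_of_mem (Finset.mem_erase.2 ⟨Ne.symm e, b1⟩),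
        Finset.card_erase_of_mem a1, hZ] at e1
      rw [if_neg e]
      push_cast at e1
      linarith
  have hW1 : ∀ μ ∈ R, ∑ b ∈ s \ Z, d μ b * d μ b = 1 := fun μ h => by
    rw [hW μ h μ h, if_pos (refl μ (hRΛ μ h)), if_pos rfl, add_zero]
  have hWe : ∀ μ ∈ R, ∀ ν ∈ R, i μ ≠ i ν → ∀ b ∈ s \ Z, d μ b = d ν b := fun μ h ν h' e =>
    eq_of_sum (hW1 μ h) (hW1 ν h') (by
      rw [hW μ h ν h', if_neg e, if_neg fun k => ?_, zero_add]
      obtain ⟨a1, a2, -⟩ := hi μ h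
      have := (hi ν h').2.2 _ a1 e
      rw [← eqd μ (hRΛ μ h) ν (hRΛ ν h') k _ (hZs a1), a2] at this
      have k2 := hZ1 _ a1
      rw [← this] at k2
      simp at k2)
  have hRc : Z.card * 3 < R.card := by
    have := Finset.card_filter_add_card_filter_not (s := Λ) (r l)
    have := hr l hl
    rw [← hR]
    omega
  obtain ⟨z, hz, hf⟩ := Finset.exists_lt_card_fiber_of_mul_lt_card_of_maps_to
    (f := i) (fun μ h => (hi μ h).1) hRc
  obtain ⟨μ, hμ⟩ := Finset.card_pos.1 (lt_of_le_of_lt (Nat.zero_le _) hf)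
  obtain ⟨hμ, eμ⟩ := Finset.mem_filter.1 hμ
  obtain ⟨ν, hν, hn⟩ := Finset.exists_mem_notMem_of_card_lt_card ((hr μ (hRΛ μ hμ)).trans_lt hf)
  obtain ⟨hν, eν⟩ := Finset.mem_filter.1 hν
  have hall : ∀ κ ∈ R, i κ = z := fun κ h => by
    by_contra e
    have e1 := hW μ hμ ν hν
    rw [if_neg fun k => hn (Finset.mem_filter.2 ⟨hRΛ ν hν, k⟩), if_pos (eμ.trans eν.symm),
      Finset.sum_congr rfl fun b hb => by
        rw [← hWe κ h μ hμ (eμ ▸ e) b hb, ← hWe κ h ν hν (eν ▸ e) b hb], hW1 κ h] at e1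
    simp at e1
  obtain ⟨a, b, hab, e⟩ := Finset.card_eq_two.1
    (show (Z.erase z).card = 2 by rw [Finset.card_erase_of_mem hz, hZ])
  have ha := Finset.mem_erase.1 (e.ge (Finset.mem_insert_self a {b}))
  have hb := Finset.mem_erase.1 (e.ge (Finset.mem_insert_of_mem (Finset.mem_singleton_self b)))
  have hd : ∀ x ∈ Z, x ≠ z → ∀ μ ∈ Λ, d μ x = d l x := fun x hx hxz κ h => by
    by_cases k : r l κ
    · exact (eqd l hl κ h k x (hZs hx)).symm
    · have k' : κ ∈ R := hR ▸ Finset.mem_filter.2 ⟨h, k⟩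
      exact (hi κ k').2.2 x hx (hall κ k' ▸ hxz)
  refine ⟨a, hZs ha.2, b, hZs hb.2, z, hZs hz, hZ1 a ha.2, hZ1 b hb.2, hZ1 z hz,
    fun κ h => ⟨hd a ha.2 ha.1 κ h, hd b hb.2 hb.1 κ h⟩, fun f => ?_⟩
  rw [← Finset.sum_sdiff hZs, Finset.sum_eq_zero fun b hb => by rw [hZ0 b hb]; simp, zero_add,
    ← Finset.sum_erase_add _ _ hz, e, Finset.sum_pair hab]

theorem num {n a b c : ℤ} (hn : 16 ≤ n) (ha : n ∣ a - 1) (hb : n ∣ b - 1) (a1 : a ≠ 1)
    (b1 : b ≠ 1) (hc : 1 + (a + b + c) = 0)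
    (h : (1 : ℂ) + ((a : ℂ)⁻¹ + (b : ℂ)⁻¹ + 9 * (c : ℂ)⁻¹) = 0) : False := by
  have h' : (1 : ℚ) + ((a : ℚ)⁻¹ + (b : ℚ)⁻¹ + 9 * (c : ℚ)⁻¹) = 0 :=
    Rat.cast_injective (α := ℂ) (by push_cast; exact h)
  have k : ∀ x : ℤ, n ∣ x → x = 0 ∨ 16 ≤ x ∨ x ≤ -16 := fun x hx => by
    by_cases e : x = 0
    · exact Or.inl e
    · have := Int.le_of_dvd (abs_pos.2 e) ((dvd_abs _ _).2 hx)
      rcases abs_cases x with e | e <;> omega
  have k2 : ∀ x : ℤ, n ∣ x - 1 → x ≠ 1 → -1 / 15 ≤ (x : ℚ)⁻¹ ∧ (x : ℚ)⁻¹ ≤ 1 / 15 :=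
    fun x hx x1 => by
      rcases k _ hx with e | e | e
      · omega
      · have e' : (15 : ℚ) ≤ x := by exact_mod_cast (by omega : (15 : ℤ) ≤ x)
        have := inv_anti₀ (by norm_num) e'
        have := inv_pos.2 (show (0 : ℚ) < x by linarith)
        constructor <;> linarith
      · have e' : (15 : ℚ) ≤ -x := by exact_mod_cast (by omega : (15 : ℤ) ≤ -x)
        have := inv_anti₀ (by norm_num) e'
        have := inv_pos.2 (show (0 : ℚ) < -x by linarith)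
        rw [inv_neg] at *
        constructor <;> linarith
  obtain ⟨p1, p2⟩ := k2 a ha a1
  obtain ⟨p3, p4⟩ := k2 b hb b1
  rcases k _ (dvd_add ha hb) with e | e | e
  · rw [show c = -3 by omega] at h'
    norm_num at h'
    linarith
  · have e' : (19 : ℚ) ≤ -c := by exact_mod_cast (by omega : (19 : ℤ) ≤ -c)
    have := inv_anti₀ (by norm_num) e'
    rw [inv_neg] at this
    linarith
  · have := inv_pos.2 (show (0 : ℚ) < c by exact_mod_cast (by omega : (0 : ℤ) < c))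
    linarith

end Cfsg.Agent.P7.R2
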