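/-
Abelian Sylow 2-subgroups of rank two: the automizer.
-/
import Cfsg.Agent.P7.R0

set_option autoImplicit false
set_option linter.unusedSectionVars false
set_option linter.style.haveILetI false

namespace Cfsg.Agent.P7

open Subgroup Cfsg Cfsg.Agent Cfsg.Agent.FT
open Cfsg.Agent.P6 (Inv Od)

universe u

namespace R2

variable {G : Type u} [Group G] [Finite G] {S : Subgroup G}

/-- The elements of order at most two. -/
def Om (h : AS S ⊤) : Subgroup G where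
  carrier := {x | x ∈ S ∧ x * x = 1}
  one_mem' := ⟨one_mem S, mul_one 1⟩
  mul_mem' := fun {a b} ha hb => ⟨mul_mem ha.1 hb.1, by
    rw [mul_assoc, ← mul_assoc b, h.comm hb.1 ha.1, mul_assoc, hb.2, mul_one, ha.2]⟩
  inv_mem' := fun {a} ha => ⟨inv_mem ha.1, by rw [← mul_inv_rev, ha.2, inv_one]⟩

theorem Om_le (h : AS S ⊤) : Om h ≤ S := fun _ hx => hx.1

theorem card_Om (h : AS S ⊤) (h2 : pRank 2 (⊤ : Subgroup G) ≤ 2) : (Om h : Set G).ncard ≤ 4 :=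
  (pRank_le_iff Nat.prime_two).1 h2 (Om h) le_top
    ⟨isMulComm_iff_le_cent.2 ((Om_le h).trans (h.le_cent (Om_le h))),
      fun a ha => by rw [pow_two]; exact ha.2⟩

theorem odd_class (h : AS S ⊤) {a : G} (ha : a ∈ S) {H : Subgroup G} (hH : S ≤ H) :
    Odd (𝐂[a].relIndex H) :=
  (Nat.not_even_iff_odd.1 fun k => (h.syl.of_le hH le_top).ndvd (even_iff_two_dvd.1 k)).of_dvd_nat
    (relIndex_dvd_of_le_left H (h.le_cent1 ha))

theorem fix_inv (h : AS S ⊤) (h2 : pRank 2 (⊤ : Subgroup G) ≤ 2) {s a : G} (hs : s ∈ S)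
    (is : Inv s) (ha : a ∈ Om h) : 𝐍(S) ⊓ 𝐂[s] ≤ 𝐂[a] := by
  rcases eq_or_ne a 1 with rfl | a1
  · exact fun g _ => mem_cent1.2 (by simp)
  rcases eq_or_ne a s with rfl | as
  · exact inf_le_right
  have h1 := odd_class h ha.1 (le_inf le_normalizer (h.le_cent1 hs))
  have h3 := Set.ncard_le_ncard (s := {c | ∃ y ∈ 𝐍(S) ⊓ 𝐂[s], y * a * y⁻¹ = c})
    (t := (Om h : Set G) \ {1, s}) (by
      rintro _ ⟨y, hy, rfl⟩
      refine ⟨⟨cjm hy.1 ha.1, sq_cj ha.2 y⟩, ?_⟩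
      rintro (e | e)
      · exact a1 (by simpa using e)
      · refine as ?_
        rw [Set.mem_singleton_iff, ← mem_cent1_iff_conj.1 hy.2] at e
        simpa using e)
  have h4 := Set.ncard_diff_add_ncard_of_subset (s := {1, s}) (t := (Om h : Set G))
    (by rintro _ (rfl | rfl); exacts [one_mem _, ⟨hs, is.sq⟩])
  rw [Set.ncard_pair is.ne.symm] at h4
  have := card_Om h h2
  rw [P6.ncard_class] at h3
  obtain ⟨k, hk⟩ := h1
  exact relIndex_eq_one.1 (by omega)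

theorem fpf (h : AS S ⊤) (h2 : pRank 2 (⊤ : Subgroup G) ≤ 2) {x : G} (hx : x ∈ S) (x1 : x ≠ 1) :
    𝐍(S) ⊓ 𝐂[x] ≤ 𝐂(S) := by
  intro n hn
  obtain ⟨s, hs, is⟩ := exists_inv_of_two (h.two.to_le (zpowers_le.2 hx))
    (zpowers_ne_bot.2 x1)
  have hns : n ∈ 𝐍(S) ⊓ 𝐂[s] := ⟨hn.1, mem_cent1.2 (by
    obtain ⟨k, rfl⟩ := hs
    exact (Commute.zpow_left (mem_cent1.1 hn.2) k).eq)⟩
  have hsS := zpowers_le.2 hx hs
  haveI := H1.normal_subgroupOf_of_le (H1.le_normalizer_centralizer (le_refl 𝐍(S)))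
  have hk : n ^ 𝐂(S).relIndex 𝐍(S) ∈ 𝐂(S) := pow_index_mem (H := 𝐂(S).subgroupOf 𝐍(S)) ⟨n, hn.1⟩
  obtain ⟨m, hm⟩ := (Nat.not_even_iff_odd.1 fun k => (h.syl.of_le le_normalizer le_top).ndvd
    (even_iff_two_dvd.1 k)).of_dvd_nat (relIndex_dvd_of_le_left 𝐍(S) h.ab)
  have key : ∀ j, ∀ y ∈ S, y ^ 2 ^ j = 1 → n ∈ 𝐂[y] := by
    intro j
    induction j with
    | zero => intro y _ e; rw [pow_zero, pow_one] at e; exact mem_cent1.2 (by simp [e])
    | succ j ih =>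
      intro y hy e
      have h1 := mem_cent1_iff_conj.1 (ih (y * y) (mul_mem hy hy) (by
        rw [← pow_two, ← pow_mul, ← pow_succ', e]))
      have hy' := cjm hns.1 hy
      have h3 := mem_cent1_iff_conj.1 (fix_inv h h2 hsS is (a := n * y * n⁻¹ * y⁻¹)
        ⟨mul_mem hy' (inv_mem hy), by
          rw [mul_assoc, ← mul_assoc y⁻¹, h.comm (inv_mem hy) hy', ← mul_assoc, ← mul_assoc,
            conj_mul, h1]; group⟩ hns)
      have h4 : n ^ 2 ∈ 𝐂[y] := mem_cent1_iff_conj.2 (by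
        have e1 : n ^ 2 * y * (n ^ 2)⁻¹ =
            n * (n * y * n⁻¹ * y⁻¹) * n⁻¹ * (n * y * n⁻¹) := by rw [pow_two]; group
        rw [e1, h3, mul_assoc _ y⁻¹, h.comm (inv_mem hy) hy', ← mul_assoc, conj_mul, h1]
        group)
      have h5 := cent_le_cent1 hy hk
      rw [hm, pow_succ, pow_mul] at h5
      exact (mul_mem_cancel_left (pow_mem h4 m)).1 h5
  intro y hy
  obtain ⟨j, hj⟩ := h.two ⟨y, hy⟩
  exact mem_cent1.1 (key j y hy (congrArg Subtype.val hj))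

theorem relIndex_cent1 (h : AS S ⊤) (h2 : pRank 2 (⊤ : Subgroup G) ≤ 2) {x : G} (hx : x ∈ S)
    (x1 : x ≠ 1) : 𝐂[x].relIndex 𝐍(S) = 𝐂(S).relIndex 𝐍(S) := by
  rw [← inf_relIndex_right, ← inf_relIndex_right 𝐂(S)]
  congr 1
  exact le_antisymm (le_inf (inf_comm 𝐂[x] _ ▸ fpf h h2 hx x1) inf_le_right)
    (inf_le_inf_right _ (cent_le_cent1 hx))

theorem three [IsSimpleGroup G] (hna : ¬ IsMulCommutative G) (h : AS S ⊤)
    (h2 : pRank 2 (⊤ : Subgroup G) ≤ 2) {t : G} (ht : t ∈ S) (it : Inv t) :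
    𝐂[t].relIndex 𝐍(S) = 3 := by
  obtain ⟨k, hk⟩ := odd_class h ht le_normalizer
  have h3 := Set.ncard_le_ncard (s := {c | ∃ y ∈ 𝐍(S), y * t * y⁻¹ = c})
    (t := (Om h : Set G) \ {1}) (by
      rintro _ ⟨y, hy, rfl⟩
      exact ⟨⟨cjm hy ht, sq_cj it.sq y⟩, (it.conj y).ne⟩)
  have h4 := Set.ncard_diff_singleton_add_one (s := (Om h : Set G)) (one_mem _)
  have := card_Om h h2
  rw [P6.ncard_class] at h3
  have h5 : 𝐂[t].relIndex 𝐍(S) ≠ 1 := fun e => by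
    rw [relIndex_cent1 h h2 ht it.ne, relIndex_eq_one] at e
    have := h.solv_of_nc (inf_le_right.trans e)
    have : Group.IsSolvable G := solvable_of_surjective (f := (⊤ : Subgroup G).subtype)
      fun g => ⟨⟨g, mem_top g⟩, rfl⟩
    exact hna ⟨⟨IsSimpleGroup.comm_iff_isSolvable.2 this⟩⟩
  omega

theorem sixteen (h : AS S ⊤) {x : G} (hx : x ∈ S) (it : Inv (x * x))
    (h3 : 𝐂[x * x].relIndex 𝐍(S) = 3) : 16 ≤ 𝐨(S) := by
  let f : S →* G := MonoidHom.mk' (fun y => y * y) fun a b => by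
    rw [coe_mul, mul_assoc, ← mul_assoc (b : G), h.comm b.2 a.2]
    group
  have e1 : (Om h).relIndex S = 𝐨(f.range) := by
    have : f.ker = (Om h).subgroupOf S := ext fun y => ⟨fun k => ⟨y.2, k⟩, fun k => k.2⟩
    rw [← index_ker, this, relIndex]
  have e2 : (insert 1 {c | ∃ y ∈ 𝐍(S), y * (x * x) * y⁻¹ = c}).ncard = 4 := by
    rw [Set.ncard_insert_of_notMem (by rintro ⟨y, _, e⟩; exact (it.conj y).ne e), P6.ncard_class,
      h3]
  have e3 : 4 ≤ 𝐨(Om h) := e2 ▸ Set.ncard_le_ncard (t := (Om h : Set G)) (by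
    rintro _ (rfl | ⟨y, hy, rfl⟩)
    exacts [one_mem _, ⟨cjm hy (mul_mem hx hx), sq_cj it.sq y⟩])
  have e4 : 4 ≤ 𝐨(f.range) := e2 ▸ Set.ncard_le_ncard (t := (f.range : Set G)) (by
    rintro _ (rfl | ⟨y, hy, rfl⟩)
    exacts [one_mem _, ⟨⟨_, cjm hy hx⟩, conj_mul⟩])
  rw [← H1.card_mul_relIndex (Om_le h), e1]
  exact Nat.mul_le_mul e3 e4

theorem relIndex_Od (h : AS S ⊤) (h2 : pRank 2 (⊤ : Subgroup G) ≤ 2) {x : G} (hx : x ∈ S)
    (x1 : x ≠ 1) : (Od 𝐂[x]).relIndex 𝐂[x] = 𝐨(S) :=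
  have h1 := h.syl.of_le (h.le_cent1 hx) le_top
  ((burnside_npc Nat.prime_two h1 (inf_comm 𝐂[x] _ ▸ fpf h h2 hx x1)).sdProd
    Nat.prime_two h1).relIndex_left

end R2

end Cfsg.Agent.P7
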