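/-
A simple group with abelian Sylow 2-subgroups of rank at most two has no element of order four.
-/
import Cfsg.Agent.P7.R2A
import Cfsg.Agent.P7.R2B
import Cfsg.Agent.H7.TwoA

set_option autoImplicit false
set_option linter.unusedSectionVars false
set_option linter.style.haveILetI false

namespace Cfsg.Agent.P7

open Subgroup Cfsg Cfsg.Agent Cfsg.Agent.FT Cfsg.Agent.P1
open Cfsg.Agent.P6 (Inv Od)
open Cfsg.Agent.H7.PCl (mult ip_eq_mult)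
open scoped ComplexConjugate

universe u

namespace R2

variable {G : Type u} [Group G] [Finite G] {S : Subgroup G}

open Classical in
theorem card_mul_K (h : AS S ⊤) (h2 : pRank 2 (⊤ : Subgroup G) ≤ 2) {x : G} (hx : x ∈ S)
    (x1 : x ≠ 1) (y : G) : (𝐨(Od 𝐂[x]) : ℂ) * ∑ χ ∈ B0 2 ⊤, χ x * conj (χ y) =
      ∑ m ∈ fs (Od 𝐂[x] : Set G), if ∃ g, g * y * g⁻¹ = m * x then (𝐨(𝐂[y]) : ℂ) else 0 := by
  obtain ⟨k, hk⟩ := h.two.exists_card_eq
  have e0 : ∀ χ ∈ Irr (⊤ : Subgroup G), ∑ m ∈ fs (Od 𝐂[x] : Set G), χ (m * x) =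
      if χ ∈ B0 2 ⊤ then 𝐨(Od 𝐂[x]) * χ x else 0 := fun χ hχ =>
    H7.Two.sum_coset_B0 Nat.prime_two (j := k) (orderOf_dvd_iff_pow_eq_one.1
      (hk ▸ S.orderOf_dvd_natCard hx)) (P6.Od_normal _) (Nat.coprime_two_right.2 (P6.odd_Od _))
      ((relIndex_Od h h2 hx x1).trans hk) hχ
  have e1 : (𝐨(Od 𝐂[x]) : ℂ) * ∑ χ ∈ B0 2 ⊤, χ x * conj (χ y) =
      ∑ χ ∈ Irr ⊤, (∑ m ∈ fs (Od 𝐂[x] : Set G), χ (m * x)) * conj (χ y) := by
    rw [← Finset.sum_subset (B0_subset 2 ⊤) fun χ hχ h => by rw [e0 χ hχ, if_neg h, zero_mul],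
      Finset.mul_sum]
    exact Finset.sum_congr rfl fun χ hχ => by rw [e0 χ (B0_subset _ _ hχ), if_pos hχ, mul_assoc]
  simp only [e1, Finset.sum_mul]
  rw [Finset.sum_comm]
  refine Finset.sum_congr rfl fun m _ => ?_
  rw [sum_irr_mul_conj (mem_top _) (mem_top _), top_inf_eq]
  simp only [mem_top, true_and]

theorem K_real (h : AS S ⊤) (h2 : pRank 2 (⊤ : Subgroup G) ≤ 2) {x : G} (hx : x ∈ S)
    (xx : x * x ≠ 1) {y s : G} (ss : s * s = 1) (hs : s * y * s⁻¹ = y⁻¹) :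
    ∑ χ ∈ B0 2 ⊤, χ x * conj (χ y) = 0 := by
  have x1 : x ≠ 1 := fun e => xx (by rw [e, mul_one])
  refine (mul_eq_zero.1 ((card_mul_K h h2 hx x1 y).trans (Finset.sum_eq_zero fun m hm =>
    if_neg ?_))).resolve_left (card_ne_zero_C _)
  rintro ⟨g, hg⟩
  have hm' : m ∈ Od 𝐂[x] := mem_fs.1 hm
  have hc : Commute m x := (mem_cent1.1 ((P6.Od_normal _).1 hm')).symm
  obtain ⟨k, hk⟩ : x ∈ zpowers (m * x) := H8.mem_of_pow_mem_of_coprime
    ((h.cop (P6.odd_Od 𝐂[x])).coprime_dvd_left (S.orderOf_dvd_natCard hx)) (by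
      have := npow_mem_zpowers (m * x) 𝐨(Od 𝐂[x])
      rwa [hc.mul_pow, orderOf_dvd_iff_pow_eq_one.1 ((Od 𝐂[x]).orderOf_dvd_natCard hm'),
        one_mul] at this)
  have h3 : g * s * g⁻¹ * x * (g * s * g⁻¹)⁻¹ = x⁻¹ := by
    have e : g * s * g⁻¹ * (m * x) * (g * s * g⁻¹)⁻¹ = (m * x)⁻¹ := by
      rw [← hg, show g * s * g⁻¹ * (g * y * g⁻¹) * (g * s * g⁻¹)⁻¹ = g * (s * y * s⁻¹) * g⁻¹ by
        group, hs]
      group
    have hk' : (m * x) ^ k = x := hk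
    rw [← hk', ← conj_zpow, e, inv_zpow, hk']
  generalize hr : g * s * g⁻¹ = r at h3
  have rr : r * r = 1 := hr ▸ sq_cj ss g
  have h4 := h.comm_two ((two_zpowers rr).to_sup_of_normal_right'
    (h.two.to_le (zpowers_le.2 hx)) (zpowers_le.2 (conj_eq_self_iff.1 (by
      rw [← zpowers_conj, h3, zpowers_inv])))) le_top
  have h5 : r * x = x * r := h4 (mem_sup_right (mem_zpowers x)) r (mem_sup_left (mem_zpowers r))
  rw [h5, mul_inv_cancel_right] at h3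
  exact xx (by nth_rewrite 1 [h3]; rw [inv_mul_cancel])

open Classical in
theorem K_S (h : AS S ⊤) (h2 : pRank 2 (⊤ : Subgroup G) ≤ 2) {u v : G} (hu : u ∈ S) (u1 : u ≠ 1)
    (hv : v ∈ S) : (𝐨(𝐂(S)) : ℂ) * ∑ χ ∈ B0 2 ⊤, χ u * conj (χ v) =
      𝐨(S) * ∑ g ∈ fs (𝐍(S) : Set G), if g * v * g⁻¹ = u then (1 : ℂ) else 0 := by
  have e1 := card_mul_K h h2 hu u1 v
  rw [Finset.sum_eq_single (1 : G) (fun m hm m1 => if_neg ?_)
    fun k => (k (mem_fs.2 (one_mem _))).elim, one_mul] at e1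
  · refine mul_left_cancel₀ (card_ne_zero_C (Od 𝐂[u])) ?_
    rw [mul_left_comm, e1]
    split_ifs with h0
    · obtain ⟨g, hg⟩ := h0
      obtain ⟨k, ⟨-, hk⟩, e⟩ := h.fusion hv (mem_top g) (hg ▸ hu)
      rw [hg] at e
      have v1 : v ≠ 1 := fun e => u1 (by rw [← hg, e]; simp)
      rw [← sum_fs_mul_left hk, ← sum_fs_subset (A := (𝐂(S) : Set G)) (cent_le_norm S),
        sum_fs_congr (g := fun _ => 1), sum_fs_const, nsmul_eq_mul, mul_one, ← mul_assoc,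
        ← relIndex_Od h h2 hu u1, ← Nat.cast_mul 𝐨(Od _),
        H1.card_mul_relIndex (P6.Od_normal _).1, ← hg, cent1_conj, card_conj, mul_comm]
      · intro x hx
        rw [if_pos]
        rw [← e, mul_assoc k x v, ← mem_centralizer_iff.1 hx v hv]
        group
      · intro x hx hx'
        refine if_neg fun e' => hx' (fpf h h2 hv v1 ⟨hx, mem_cent1_iff_conj.2 ?_⟩)
        rw [← e, mul_inv_rev, ← mul_assoc, mul_left_inj, mul_assoc, mul_assoc, mul_right_inj,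
          ← mul_assoc] at e'
        exact e'
    · rw [Finset.sum_eq_zero fun g _ => if_neg fun e => h0 ⟨g, e⟩]
      simp
  · rintro ⟨g, hg⟩
    have hm' : m ∈ Od 𝐂[u] := mem_fs.1 hm
    have hc : Commute m u := (mem_cent1.1 ((P6.Od_normal _).1 hm')).symm
    have e2 : (m * u) ^ 𝐨(S) = 1 := by
      rw [← hg, conj_pow, orderOf_dvd_iff_pow_eq_one.1 (S.orderOf_dvd_natCard hv)]
      simp
    rw [hc.mul_pow, orderOf_dvd_iff_pow_eq_one.1 (S.orderOf_dvd_natCard hu), mul_one] at e2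
    exact m1 (orderOf_eq_one_iff.1 (Nat.eq_one_of_dvd_coprimes (h.cop (P6.odd_Od 𝐂[u]))
      (orderOf_dvd_of_pow_eq_one e2) ((Od 𝐂[u]).orderOf_dvd_natCard hm')))

theorem theta (S : Subgroup G) (α : G → ℂ) (y : G) : ∑ χ ∈ B0 2 ⊤, ip S χ α * conj (χ y) =
    (𝐨(S) : ℂ)⁻¹ * ∑ u ∈ fs (S : Set G), conj (α u) * ∑ χ ∈ B0 2 ⊤, χ u * conj (χ y) := by
  simp only [ip_def, mul_assoc, ← Finset.mul_sum, Finset.sum_mul]
  rw [Finset.sum_comm]
  simp only [Finset.mul_sum]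
  exact Finset.sum_congr rfl fun _ _ => Finset.sum_congr rfl fun _ _ => by ring

theorem gram (h : AS S ⊤) (h2 : pRank 2 (⊤ : Subgroup G) ≤ 2) {α : G → ℂ} (hα : α 1 = 0)
    (β : G → ℂ) : (𝐨(𝐂(S)) : ℂ) * ∑ χ ∈ B0 2 ⊤, ip S χ α * ip S β χ =
      ∑ g ∈ fs (𝐍(S) : Set G), ip S β (cfConj g α) := by
  classical
  have key : ∀ v ∈ (S : Set G), (𝐨(𝐂(S)) : ℂ) * ∑ χ ∈ B0 2 ⊤, ip S χ α * conj (χ v) =
      ∑ g ∈ fs (𝐍(S) : Set G), conj (cfConj g α v) := fun v hv => by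
    rw [theta, mul_left_comm, Finset.mul_sum, sum_fs_congr (g := fun u => 𝐨(S) *
      ∑ g ∈ fs (𝐍(S) : Set G), if g * v * g⁻¹ = u then conj (α u) else 0) fun u hu => ?_,
      ← Finset.mul_sum, ← mul_assoc, inv_mul_cancel₀ (card_ne_zero_C S), one_mul, Finset.sum_comm,
      ← sum_fs_inv]
    · refine sum_fs_congr fun g hg => ?_
      rw [Finset.sum_ite_eq, if_pos (mem_fs.2 (cjm (inv_mem hg) hv)), inv_inv, cfConj_apply]
    · rcases eq_or_ne u 1 with rfl | u1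
      · simp [hα]
      · rw [mul_left_comm, K_S h h2 hu u1 hv, mul_left_comm, Finset.mul_sum]
        simp only [mul_ite, mul_one, mul_zero]
  have e : ∑ χ ∈ B0 2 ⊤, ip S χ α * ip S β χ = (𝐨(S) : ℂ)⁻¹ *
      ∑ v ∈ fs (S : Set G), β v * ∑ χ ∈ B0 2 ⊤, ip S χ α * conj (χ v) := by
    simp only [ip_def S β, Finset.mul_sum]
    rw [Finset.sum_comm]
    exact Finset.sum_congr rfl fun _ _ => Finset.sum_congr rfl fun _ _ => by ring
  rw [e, mul_left_comm, Finset.mul_sum, sum_fs_congr fun v hv => by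
    rw [mul_left_comm, key v hv, Finset.mul_sum], Finset.sum_comm, Finset.mul_sum]
  rfl

theorem inertia_eq (h : AS S ⊤) (h2 : pRank 2 (⊤ : Subgroup G) ≤ 2) {μ : G → ℂ} (hμ : μ ∈ Irr S)
    (h1 : μ ≠ cf1 S) : 𝐍(S) ⊓ inertia μ = 𝐂(S) := by
  refine le_antisymm (fun g hg => ?_) (le_inf (cent_le_norm S) (cent_le_inertia (mem_Irr.1 hμ).1))
  by_contra hn
  have ll := isLin_of_comm h.isMulComm hμ
  have hm : ∀ x : S, g⁻¹ * x * g ∈ S := fun x => by simpa using cjm (inv_mem hg.1) x.2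
  have hi : Function.Injective fun x : S => (⟨g⁻¹ * x * g * (x : G)⁻¹,
      mul_mem (hm x) (inv_mem x.2)⟩ : S) := fun a b e => by
    by_contra hab
    have e' : g⁻¹ * a * g * (a : G)⁻¹ = g⁻¹ * b * g * (b : G)⁻¹ := congrArg Subtype.val e
    refine hn (fpf h h2 (mul_mem (inv_mem b.2) a.2) (fun k => hab (Subtype.ext
      (inv_mul_eq_one.1 k).symm)) ⟨hg.1, mem_cent1.2 ?_⟩)
    calc (b : G)⁻¹ * a * g = g * ((g⁻¹ * b * g)⁻¹ * (g⁻¹ * a * g * (a : G)⁻¹) * a) := by group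
      _ = g * ((b : G)⁻¹ * a) := by rw [e']; group
  refine h1 ((irr_eq_cf1_iff hμ).2 fun y hy => ll.mem_cfKer_iff.2 ?_)
  obtain ⟨x, e⟩ := Finite.injective_iff_surjective.1 hi ⟨y, hy⟩
  have e' : g⁻¹ * x * g * (x : G)⁻¹ = y := congrArg Subtype.val e
  rw [← e', ll.2.2 _ (hm x) _ (inv_mem x.2), ← cfConj_apply g μ, mem_inertia.1 hg.2, ll.mul_inv x.2]

theorem sum_pair {χ : G → ℂ} (hχ : χ ∈ Irr (⊤ : Subgroup G)) {e : ℤ} (he : e * e = 1) (t : G) :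
    ∑ g ∈ fs ((⊤ : Subgroup G) : Set G), e * χ (g * t * g⁻¹ * t) =
      𝐨((⊤ : Subgroup G)) * ((e * χ t) ^ 2 * ((e * dg χ : ℤ) : ℂ)⁻¹) := by
  have h1 := sum_conj_mul hχ (mem_top t) t
  have h3 := irr_one_ne_zero hχ
  rw [irr_one_eq hχ] at h1 h3
  rw [← Finset.mul_sum]
  rcases Int.eq_one_or_neg_one_of_mul_eq_one he with rfl | rfl
  · push_cast; field_simp; linear_combination h1
  · push_cast; field_simp; linear_combination -h1

theorem main [IsSimpleGroup G] (hna : ¬ IsMulCommutative G) (h : AS S ⊤)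
    (h2 : pRank 2 (⊤ : Subgroup G) ≤ 2) {x : G} (hx : x ∈ S) (it : Inv (x * x)) : False := by
  classical
  have ht := mul_mem hx hx
  have h3 := three hna h h2 ht it
  have h16 := sixteen h hx it h3
  rw [relIndex_cent1 h h2 ht it.ne] at h3
  obtain ⟨l, hl, hxl⟩ := exists_irrKer_notMem_cfKer (K := S) (N := Om h)
    ⟨Om_le h, h.le_norm (Om_le h)⟩ (x := x) fun k => it.ne k.2
  obtain ⟨hl, hlV⟩ := mem_irrKer.1 hl
  generalize x * x = t at it ht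
  have hlin : ∀ μ ∈ Irr S, IsLin S μ := fun μ hμ => isLin_of_comm h.isMulComm hμ
  obtain ⟨Λ, hΛ⟩ : ∃ Λ, Λ = (Irr S).erase (cf1 S) := ⟨_, rfl⟩
  have mΛ : ∀ {μ}, μ ∈ Λ ↔ μ ≠ cf1 S ∧ μ ∈ Irr S := by rw [hΛ]; exact Finset.mem_erase
  have lΛ : l ∈ Λ := mΛ.2 ⟨fun e => hxl (e ▸ le_cfKer_cf1 S hx), hl⟩
  obtain ⟨d, hd⟩ : ∃ d : (G → ℂ) → (G → ℂ) → ℤ,
    ∀ μ χ, d μ χ = (mult S χ (cf1 S) : ℤ) - mult S χ μ := ⟨_, fun _ _ => rfl⟩
  have hdi : ∀ χ ∈ B0 2 ⊤, ∀ μ ∈ Λ, ip S χ (cf1 S - μ) = d μ χ := fun χ hχ μ hμ => by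
    rw [ip_sub_right, ip_eq_mult (B0_subset _ _ hχ) (mΛ.1 hμ).2,
      ip_eq_mult (B0_subset _ _ hχ) (cf1_mem_Irr S), hd]
    push_cast
    rfl
  have hip : ∀ a ∈ Λ, ∀ b ∈ Λ, ip S (cf1 S - a) (cf1 S - b) = 1 + if a = b then 1 else 0 :=
    fun a ha b hb => by
      rw [ip_sub_left, ip_sub_right, ip_sub_right, ip_irr (mΛ.1 ha).2 (mΛ.1 hb).2,
        ip_irr_of_ne (mΛ.1 ha).2 (cf1_mem_Irr S) (mΛ.1 ha).1,
        ip_irr_of_ne (cf1_mem_Irr S) (mΛ.1 hb).2 (mΛ.1 hb).1.symm, ip_irr_self (cf1_mem_Irr S)]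
      ring
  have hd1 : ∀ μ ∈ Λ, d μ (cf1 ⊤) = 1 := fun μ hμ => Int.cast_injective (α := ℂ) (by
    rw [← hdi _ (cf1_mem_B0 _ _) μ hμ, ← ip_res_left, res_cf1 le_top, ip_sub_right,
      ip_irr_self (cf1_mem_Irr S), ip_irr_of_ne (cf1_mem_Irr S) (mΛ.1 hμ).2 (mΛ.1 hμ).1.symm]
    simp)
  have hc3 : ∀ μ ∈ Λ, (cfClass 𝐍(S) μ).card = 3 := fun μ hμ => by
    rw [card_cfClass, ← inf_relIndex_left, inertia_eq h h2 (mΛ.1 hμ).2 (mΛ.1 hμ).1, h3]
  have hcΛ : ∀ μ ∈ Λ, ∀ ν ∈ cfClass 𝐍(S) μ, ν ∈ Λ := fun μ hμ ν hν =>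
    mΛ.2 ⟨fun e => (mΛ.1 hμ).1 (by
      obtain ⟨g, hg, e'⟩ := mem_cfClass.1 (mem_cfClass_comm.1 hν)
      rw [← e', e, cfConj_cf1_of_norm hg]), cfClass_subset_Irr le_rfl (mΛ.1 hμ).2 hν⟩
  obtain ⟨a, ha, b, hb, c, hc, ea, eb, ec, hab, hsum⟩ := comb (s := (B0 2 ⊤).erase (cf1 ⊤))
    (d := d) (r := fun μ ν => ν ∈ cfClass 𝐍(S) μ) lΛ (fun μ hμ ν hν => by
      have e := gram h h2 (α := cf1 S - μ) (by
        rw [Pi.sub_apply, (hlin μ (mΛ.1 hμ).2).2.1, cf1_of_mem (one_mem S), sub_self]) (cf1 S - ν)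
      rw [Finset.sum_congr rfl fun χ hχ => by rw [hdi χ hχ μ hμ, ip_comm_of_int (hdi χ hχ ν hν)],
        sum_fs_congr fun g hg => by rw [map_sub, cfConj_cf1_of_norm hg],
        sum_fs_cfConj 𝐍(S) μ fun ψ => ip S (cf1 S - ν) (cf1 S - ψ),
        inertia_eq h h2 (mΛ.1 hμ).2 (mΛ.1 hμ).1, nsmul_eq_mul, mul_right_inj' (card_ne_zero_C _),
        Finset.sum_congr rfl fun ψ hψ => hip ν hν ψ (hcΛ μ hμ ψ hψ), Finset.sum_add_distrib,
        Finset.sum_ite_eq, Finset.sum_const, hc3 μ hμ,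
        ← Finset.add_sum_erase _ _ (cf1_mem_B0 2 ⊤), hd1 μ hμ, hd1 ν hν] at e
      refine Int.cast_injective (α := ℂ) ?_
      push_cast at e ⊢
      linear_combination e)
    (fun μ _ => self_mem_cfClass _ μ)
    (fun μ hμ => hc3 μ hμ ▸ Finset.card_le_card fun ν hν => (Finset.mem_filter.1 hν).2)
    (by rw [hΛ, Finset.card_erase_of_mem (cf1_mem_Irr S), card_Irr_of_comm h.isMulComm]; omega)
  have hI : ∀ {χ}, χ ∈ (B0 2 (⊤ : Subgroup G)).erase (cf1 ⊤) → χ ∈ Irr ⊤ := fun k =>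
    B0_subset _ _ (Finset.mem_of_mem_erase k)
  have van : ∀ y s : G, s * s = 1 → s * y * s⁻¹ = y⁻¹ →
      1 + (d l a * a y + d l b * b y + d l c * c y) = 0 := fun y s ss hs => by
    have e := theta S (cf1 S - l) y⁻¹
    rw [Finset.sum_eq_zero (s := fs _) fun u hu => ?_, mul_zero, Finset.sum_congr rfl fun χ hχ => by
      rw [hdi χ hχ l lΛ, ← (irr_isChar (B0_subset _ _ hχ)).apply_inv, inv_inv],
      ← Finset.add_sum_erase _ _ (cf1_mem_B0 2 ⊤), hd1 l lΛ, hsum fun χ => χ y] at e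
    · simpa only [cf1_top_apply, Int.cast_one, mul_one] using e
    · have hu' : u ∈ S := mem_fs.1 hu
      by_cases k : u * u = 1
      · rw [Pi.sub_apply, cf1_of_mem hu', (hlin l hl).mem_cfKer_iff.1 (hlV ⟨hu', k⟩)]
        simp
      · rw [K_real h h2 hu' k ss (by rw [← conj_inv, hs]), mul_zero]
  have val : ∀ χ ∈ (B0 2 (⊤ : Subgroup G)).erase (cf1 ⊤), d l χ * d l χ = 1 →
      (∀ μ ∈ Λ, d μ χ = d l χ) → d l χ * χ t = 1 ∧ (𝐨(S) : ℤ) ∣ d l χ * dg χ - 1 ∧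
        d l χ * dg χ ≠ 1 := fun χ hχ e1 e2 => by
    have e3 : ∀ y ∈ S, χ y = d l χ + (mult S χ (cf1 S) - d l χ) *
        if y = 1 then (𝐨(S) : ℂ) else 0 := fun y hy => by
      have k1 := apply_eq_sum_irr (res_mem_CF le_top (irr_mem_CF (hI hχ)) : res S χ ∈ _) y
      have k2 := sum_irr_one_mul S y
      rw [← Finset.add_sum_erase _ _ (cf1_mem_Irr S), ← hΛ, cf1_of_mem hy] at k1 k2
      rw [res_of_mem _ hy, ip_res_left, ip_eq_mult (hI hχ) (cf1_mem_Irr S),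
        Finset.sum_congr (s₁ := Λ) rfl (g := fun μ => (mult S χ (cf1 S) - d l χ) * (μ 1 * μ y)) fun μ hμ => by
          rw [ip_res_left, ip_eq_mult (hI hχ) (mΛ.1 hμ).2, ← e2 μ hμ, hd,
            (hlin μ (mΛ.1 hμ).2).2.1]
          push_cast
          ring, ← Finset.mul_sum] at k1
      rw [cf1_of_mem (one_mem S)] at k2
      rw [k1, ← k2]
      ring
    have e1' : (d l χ : ℂ) * d l χ = 1 := by exact_mod_cast e1
    refine ⟨by rw [e3 t ht, if_neg it.ne, mul_zero, add_zero, e1'],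
      ⟨d l χ * (mult S χ (cf1 S) - d l χ), Int.cast_injective (α := ℂ) ?_⟩, fun e => ?_⟩
    · have := e3 1 (one_mem S)
      rw [if_pos rfl, irr_one_eq (hI hχ)] at this
      push_cast
      linear_combination (d l χ : ℂ) * this + e1'
    · have e4 : dg χ = 1 := by
        exact_mod_cast Int.eq_one_of_mul_eq_one_left (Nat.cast_nonneg _) e
      refine (Finset.mem_erase.1 hχ).1 ((irr_eq_cf1_iff (hI hχ)).2 (le_trans ?_
        ((irr_isChar (hI hχ)).isLin_of_dg e4).der_le_cfKer))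
      exact ((IsSimpleGroup.eq_bot_or_eq_top_of_normal _ inferInstance).resolve_left fun k =>
        hna ⟨⟨fun a b => congrArg Subtype.val ((isMulComm_iff_comm_eq_bot.2 k).is_comm.comm
          ⟨a, mem_top a⟩ ⟨b, mem_top b⟩)⟩⟩).ge
  obtain ⟨a1, a2, a3⟩ := val a ha ea fun μ hμ => (hab μ hμ).1
  obtain ⟨b1, b2, b3⟩ := val b hb eb fun μ hμ => (hab μ hμ).2
  refine num (c := d l c * dg c) (by exact_mod_cast h16) a2 b2 a3 b3
    (Int.cast_injective (α := ℂ) ?_) (mul_left_cancel₀ (card_ne_zero_C (⊤ : Subgroup G)) ?_)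
  · have := van 1 1 (mul_one 1) (by simp)
    rw [irr_one_eq (hI ha), irr_one_eq (hI hb), irr_one_eq (hI hc)] at this
    push_cast
    exact this
  · have e1 := van t 1 (mul_one 1) (by rw [it.inv_eq]; simp)
    have e2 : ∑ g ∈ fs ((⊤ : Subgroup G) : Set G), (1 + (d l a * a (g * t * g⁻¹ * t) +
        d l b * b (g * t * g⁻¹ * t) + d l c * c (g * t * g⁻¹ * t))) = 0 :=
      Finset.sum_eq_zero fun g _ => van _ t it.sq (by
        rw [mul_inv_rev, conj_inv, it.inv_eq, ← mul_assoc, it.mul_cancel_right])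
    rw [Finset.sum_add_distrib, Finset.sum_add_distrib, Finset.sum_add_distrib,
      sum_pair (hI ha) ea, sum_pair (hI hb) eb, sum_pair (hI hc) ec, a1, b1,
      show d l c * c t = -3 by linear_combination e1 - a1 - b1, sum_fs_const] at e2
    rw [mul_zero, ← e2]
    ring

end R2

/-- Brauer: no element of order four. -/
theorem r2 {G : Type u} [Group G] [Finite G] [IsSimpleGroup G] (hna : ¬ IsMulCommutative G)
    (ab : ∀ P : Subgroup G, IsPGroup 2 P → IsMulCommutative P)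
    (h2 : pRank 2 (⊤ : Subgroup G) ≤ 2) : ∀ x : G, x ^ 4 = 1 → x * x = 1 := by
  intro x h4
  by_contra hn
  obtain ⟨S, hS, hx⟩ := exists_isSyl_ge Nat.prime_two (Q := zpowers x) (M := ⊤)
    (IsPGroup.of_card (n := _) ((Nat.card_zpowers x).trans ((Nat.dvd_prime_pow Nat.prime_two).1
      (show orderOf x ∣ 2 ^ 2 from orderOf_dvd_of_pow_eq_one h4)).choose_spec.2)) le_top
  exact R2.main hna ⟨hS, isMulComm_iff_le_cent.1 (ab S hS.pgrp)⟩ h2 (hx (mem_zpowers x))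
    ⟨hn, by rw [← h4, ← pow_two, ← pow_two, ← pow_mul]⟩

end Cfsg.Agent.P7
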