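/-
Fixed points of a four-group in the commutator subgroup of a group of odd order.
-/
import Cfsg.Agent.P7.R0

set_option autoImplicit false
set_option linter.unusedSectionVars false
set_option linter.style.haveILetI false

namespace Cfsg.Agent.P7

open Subgroup Cfsg Cfsg.Agent Cfsg.Agent.FT
open Cfsg.Agent.P5 (V4)
open scoped commutatorElement Pointwise

universe u

variable {G : Type u} [Group G]

theorem V2_eq (a b : G) : V2 a b = zpowers a ⊔ zpowers b := by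
  rw [zpowers_eq_closure, zpowers_eq_closure, ← Subgroup.closure_union]; rfl

variable [Finite G]

theorem V4.cop {a b : G} (v : V4 a b) {D : Subgroup G} (ho : Odd 𝐨(D)) :
    𝐨(V2 a b).Coprime 𝐨(D) := cop_two_odd v.isPGroup ho

theorem V4.solv {a b : G} (v : V4 a b) : Group.IsSolvable (V2 a b) :=
  H1.isSolvable_of_isMulCommutative (V4.isMulComm v)

theorem V4.le_cent1 {a b e : G} (v : V4 a b) (he : e ∈ V2 a b) : V2 a b ≤ 𝐂[e] :=
  (isMulComm_iff_le_cent.1 (V4.isMulComm v)).trans (cent_le_cent1 he)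

/-- The pieces of the fixed points lie in `J`. -/
def Pcs (D E J : Subgroup G) : Prop := ∀ e ∈ E, e ≠ 1 → ⁅D ⊓ 𝐂[e], E⁆ ⊓ 𝐂(E) ≤ J

theorem Pcs.mono {D D' E J : Subgroup G} (h : Pcs D E J) (hD : D' ≤ D) : Pcs D' E J :=
  fun e he e1 => (inf_le_inf_right _ (commutator_mono (inf_le_inf_right _ hD) le_rfl)).trans
    (h e he e1)

theorem lemG_ab {a b : G} (v : V4 a b) {D J N : Subgroup G} (ho : Odd 𝐨(D))
    (hn : V2 a b ≤ 𝐍(D)) (hD : ⁅D, V2 a b⁆ = D) (hJ : Pcs D (V2 a b) J) (hN : N ⊲ D)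
    (hE : V2 a b ≤ 𝐍(N)) (hc : IsMulCommutative N) : ⁅N, D⁆ ⊓ 𝐂(V2 a b) ≤ J := by
  have hv := fun e (he : e ∈ V2 a b) => V4.le_cent1 v he
  have sv := V4.solv v
  have cv := fun (U : Subgroup G) (h : Odd 𝐨(U)) => V4.cop v h
  have sq := fun e (he : e ∈ V2 a b) => v.sq he
  have cm := V4.isMulComm v
  have nc := V4.not_isCyclic v
  generalize V2 a b = E at *
  have oN := P6.odd_of_le hN.1 ho
  have h0 := H1.commutator_le_of_le_normalizer hE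
  have hMN : ⁅N, E⁆ ⊔ (J ⊓ N ⊓ 𝐂(E)) ≤ N := sup_le h0 (inf_le_left.trans inf_le_right)
  have hcN := isMulComm_iff_le_cent.1 hc
  have key : ⁅N, D⁆ ≤ ⁅N, E⁆ ⊔ (J ⊓ N ⊓ 𝐂(E)) := by
    refine (le_centMod_iff.1 (hD.ge.trans ?_)).2
    refine H1.commutator_le_of_forall_centralizer cm nc hn (cv D ho) fun e he e1 => ?_
    have hI : ⁅D ⊓ 𝐂[e], E⁆ ≤ D ⊓ 𝐂[e] := H1.commutator_le_of_le_normalizer
      (H1.le_normalizer_inf hn ((hv e he).trans le_normalizer))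
    suffices h : ⁅N, ⁅D ⊓ 𝐂[e], E⁆⁆ ≤ ⁅N, E⁆ ⊔ (J ⊓ N ⊓ 𝐂(E)) from
      le_centMod_iff.2 ⟨comm_le_left_iff.1 ((commutator_mono hMN le_rfl).trans h), h⟩
    have ze : zpowers e ≤ E := zpowers_le.2 he
    have hnM : ∀ U ≤ N, U ≤ 𝐍((⁅N, E⁆ ⊔ (J ⊓ N ⊓ 𝐂(E)) : Subgroup G)) := fun U hU =>
      hU.trans (hcN.trans ((cent_anti hMN).trans (cent_le_norm _)))
    have h1 := H1.commutator_sup_centralizer (ze.trans hE)
      (cop_two_odd (two_zpowers (sq e he)) oN) (Or.inl (H1.isSolvable_of_le ze sv))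
    rw [cent_zpowers] at h1
    rw [commutator_comm]
    refine (commutator_mono le_rfl h1.ge).trans (comm_sup_le (hnM _
      (H1.commutator_le_of_le_normalizer (ze.trans hE))) (hnM _ inf_le_left) ?_ ?_)
    · refine (comm_le_right_iff.2 (hI.trans (H1.le_normalizer_commutator
        (inf_le_left.trans hN.2) (inf_le_right.trans (P5.Mx.cent1_le_norm_zpowers e))))).trans
        ((commutator_mono le_rfl ze).trans le_sup_left)
    · have hT : E ≤ 𝐍((⁅D ⊓ 𝐂[e], E⁆ ⊓ N : Subgroup G)) :=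
        H1.le_normalizer_inf H1.le_normalizer_commutator_self hE
      refine (le_inf (comm_le_left_iff.2 ((inf_le_inf_right _ hN.1).trans ?_))
        ((commutator_mono le_rfl inf_le_left).trans
          (comm_le_right_iff.2 (hI.trans (inf_le_left.trans hN.2))))).trans ?_
      · rw [commutator_comm]; exact H1.le_normalizer_commutator_self
      · rw [← H1.commutator_sup_centralizer hT (cv _ (P6.odd_of_le inf_le_right oN)) (Or.inl sv)]
        exact sup_le_sup (commutator_mono inf_le_right le_rfl) (le_inf (le_inf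
          ((inf_le_inf_right _ inf_le_left).trans (hJ e he e1)) (inf_le_left.trans inf_le_right))
          inf_le_right)
  intro x hx
  obtain ⟨y, hy, j, hj, rfl⟩ := (mem_sup_of_norm ((inf_le_left.trans inf_le_right).trans
    (hcN.trans ((cent_anti h0).trans (cent_le_norm _))))).1 (key hx.1)
  have : y ∈ 𝐂(E) ⊓ ⁅N, E⁆ := ⟨by simpa using (𝐂(E)).mul_mem hx.2 ((𝐂(E)).inv_mem hj.2), hy⟩
  rw [H1.centralizer_inf_commutator_eq_bot hc hE (cv N oN), mem_bot] at this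
  rw [this, one_mul]
  exact hj.1.1

theorem exists_eig {e f : G} (v : V4 e f) {Q C : Subgroup G} (ho : Odd 𝐨(Q)) (hf : f ∈ 𝐍(Q))
    (h : ¬ Q ⊓ 𝐂[e] ≤ C) : ∃ x ∈ Q, x ∉ C ∧ e ∈ 𝐍(zpowers x) ∧ f ∈ 𝐍(zpowers x) := by
  obtain ⟨c, hc, hn⟩ := SetLike.not_le_iff_exists.1 h
  obtain ⟨x, hx, y, hy, h1, h2, rfl⟩ := P5.Mx.exists_cent_mul_inv (P6.odd_of_le inf_le_left ho) v.ss
    (H1.le_normalizer_inf (zpowers_le.2 hf) (zpowers_le.2 (le_normalizer
      (mem_cent1.2 v.comm.eq))) (mem_zpowers f)) hc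
  by_cases hxC : x ∈ C
  · refine ⟨y, hy.1, fun k => hn (mul_mem hxC k), P5.Mx.cent1_le_norm_zpowers y
      (mem_cent1_comm.1 hy.2), mem_norm_of_conj_le ?_⟩
    rw [← zpowers_conj, P5.inv_eq_of_sq v.ss, h2, zpowers_inv]
  · exact ⟨x, hx.1, hxC, P5.Mx.cent1_le_norm_zpowers x (mem_cent1_comm.1 hx.2),
      P5.Mx.cent1_le_norm_zpowers x (mem_cent1.2 h1.eq)⟩

theorem exists_ab_of_nil {a b : G} (v : V4 a b) {D : Subgroup G} (ho : Odd 𝐨(D))
    (hn : V2 a b ≤ 𝐍(D)) (hnil : Group.IsNilpotent D) (hD : ¬ D ≤ 𝐂(D)) :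
    ∃ N : Subgroup G, N ⊲ D ∧ V2 a b ≤ 𝐍(N) ∧ IsMulCommutative N ∧ ¬ N ≤ 𝐂(D) := by
  obtain ⟨Q, ⟨h1, h2, h3⟩, hm⟩ := (wellFounded_lt (α := Subgroup G)).has_min
    {Q | Q ⊲ D ∧ V2 a b ≤ 𝐍(Q) ∧ ¬ Q ≤ 𝐂(D)} ⟨D, ⟨le_rfl, le_normalizer⟩, hn, hD⟩
  have h4 : ⁅Q, D⁆ ≤ 𝐂(D) := by
    by_contra k
    have hl := L.commutator_lt_of_isNilpotent h1.1 h1.2 fun e => h3 (e ▸ bot_le)
    exact hm _ ⟨⟨hl.le.trans h1.1, H1.le_normalizer_commutator_self⟩,
      H1.le_normalizer_commutator h2 hn, k⟩ hl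
  have oQ := P6.odd_of_le h1.1 ho
  have ha := h2 P5.V4.t_mem
  have hb := h2 P5.V4.s_mem
  obtain ⟨x, hx, hxC, xa, xb⟩ : ∃ x ∈ Q, x ∉ 𝐂(D) ∧ a ∈ 𝐍(zpowers x) ∧ b ∈ 𝐍(zpowers x) := by
    by_contra k
    refine h3 (V4.le_of_cent v oQ ha hb ?_ ?_ ?_) <;> by_contra k'
    · exact k (exists_eig v oQ hb k')
    · obtain ⟨x, i1, i2, i3, i4⟩ := exists_eig v.swap oQ ha k'
      exact k ⟨x, i1, i2, i4, i3⟩
    · obtain ⟨x, i1, i2, i3, i4⟩ := exists_eig v.rot.swap oQ hb k'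
      exact k ⟨x, i1, i2, by simpa [mul_assoc, v.ss] using mul_mem i3 i4, i4⟩
  have hz : zpowers x ≤ Q := zpowers_le.2 hx
  refine ⟨zpowers x ⊔ 𝐙(D), ⟨sup_le (hz.trans h1.1) inf_le_left, comm_le_right_iff.1
    (comm_sup_le (le_sup_left.trans le_normalizer) (le_sup_right.trans le_normalizer) ?_ ?_)⟩,
    H1.le_normalizer_sup (P5.V4.le_iff.2 ⟨xa, xb⟩) (hn.trans (norm_le_norm_center D)),
    isMulComm_sup (isMulComm_of_isCyclic inferInstance) (isMulComm_center D)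
      (inf_le_right.trans (cent_anti (hz.trans h1.1))), fun k => hxC (k (mem_sup_left (mem_zpowers x)))⟩
  · refine le_sup_of_le_right (le_inf ((commutator_mono le_rfl (hz.trans h1.1)).trans (der_le D)) ?_)
    rw [commutator_comm]
    exact (commutator_mono hz le_rfl).trans h4
  · exact (comm_le_right_iff.2 (center_normal D).2).trans le_sup_right

theorem lemG_aux (n : ℕ) : ∀ (G : Type u) [Group G] [Finite G] (a b : G) (D J : Subgroup G),
    𝐨(D) = n → V4 a b → Odd 𝐨(D) → V2 a b ≤ 𝐍(D) → Pcs D (V2 a b) J →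
    ⁅D, V2 a b⁆ ⊓ 𝐂(V2 a b) ≤ J := by
  induction n using Nat.strong_induction_on with
  | _ n ih =>
  intro G _ _ a b D J hc v ho hn hJ
  have h0 := H1.commutator_le_of_le_normalizer hn
  rcases h0.lt_or_eq with hl | hD
  · have := ih _ (hc ▸ H1.card_lt_of_lt hl) G a b _ J rfl v (P6.odd_of_le h0 ho)
      H1.le_normalizer_commutator_self (hJ.mono h0)
    rwa [H1.commutator_commutator_eq hn (V4.cop v ho)] at this
  rw [hD]
  have hY : D ⊔ V2 a b ≤ 𝐍(D) := sup_le le_normalizer hn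
  have stepQ : ∀ N : Subgroup G, N ⊲ D → V2 a b ≤ 𝐍(N) → N ≠ ⊥ →
      D ⊓ 𝐂(V2 a b) ≤ J ⊓ (D ⊓ 𝐂(V2 a b)) ⊔ N := fun N h1 h2 h3 => by
    haveI := H1.normal_subgroupOf_of_le (sup_le h1.2 h2)
    have oN := P6.odd_of_le h1.1 ho
    have hE : V2 a b ≤ D ⊔ V2 a b := le_sup_right
    have ne : ∀ e (he : e ∈ V2 a b), e ≠ 1 → H1.qmk (D ⊔ V2 a b) N ⟨e, hE he⟩ ≠ 1 := fun e he e1 k =>
      e1 (eq_one_of_two_odd v.isPGroup oN he (H1.qmk_eq_one_iff.1 k))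
    have v' := (v.subtype (hE P5.V4.t_mem) (hE P5.V4.s_mem)).map (H1.qmk (D ⊔ V2 a b) N)
      (ne a P5.V4.t_mem v.t1) (ne b P5.V4.s_mem v.s1) (ne _ (mul_mem P5.V4.t_mem P5.V4.s_mem) v.ts1)
    have eE : H1.bar (D ⊔ V2 a b) N (V2 a b) = V2 (H1.qmk (D ⊔ V2 a b) N ⟨a, hE P5.V4.t_mem⟩)
        (H1.qmk (D ⊔ V2 a b) N ⟨b, hE P5.V4.s_mem⟩) := by
      rw [V2_eq (H1.qmk _ N _), ← H1.bar_zpowers, ← H1.bar_zpowers, ← H1.bar_sup
        (zpowers_le.2 (hE P5.V4.t_mem)) (zpowers_le.2 (hE P5.V4.s_mem)), ← V2_eq]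
    have fx : ∀ U ≤ D, V2 a b ≤ 𝐍(U) → H1.bar (D ⊔ V2 a b) N U ⊓ 𝐂(H1.bar (D ⊔ V2 a b) N (V2 a b))
        = H1.bar (D ⊔ V2 a b) N (U ⊓ 𝐂(V2 a b)) := fun U k1 k2 =>
      H1.bar_inf_centralizer_bar hE (k1.trans le_sup_left) k2 (V4.cop v (P6.odd_of_le k1 ho))
        (Or.inl (V4.solv v))
    have := ih _ (hc ▸ card_bar_lt le_sup_left (by rwa [inf_eq_left.2 h1.1])) _ _ _
      (H1.bar (D ⊔ V2 a b) N D) (H1.bar (D ⊔ V2 a b) N (J ⊓ (D ⊓ 𝐂(V2 a b)))) rfl v'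
      (odd_card_bar ho) (eE ▸ H1.bar_le_normalizer hn) (by
        rw [← eE]
        intro z hz z1
        obtain ⟨y, hy, rfl⟩ := H1.mem_bar.1 hz
        have ze : zpowers (y : G) ≤ V2 a b := zpowers_le.2 hy
        have hI : ⁅D ⊓ 𝐂[(y : G)], V2 a b⁆ ≤ D := (commutator_mono inf_le_left le_rfl).trans h0
        rw [← cent_zpowers, ← H1.bar_zpowers, H1.bar_inf_centralizer_bar (ze.trans hE) le_sup_left
          (ze.trans hn) (cop_two_odd (v.isPGroup.to_le ze) ho)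
          (Or.inl (H1.isSolvable_of_le ze (V4.solv v))), cent_zpowers,
          ← H1.bar_commutator (inf_le_left.trans le_sup_left) hE,
          fx _ hI H1.le_normalizer_commutator_self]
        exact H1.bar_mono (le_inf (hJ y hy fun k => z1 (by
          rw [show y = 1 from Subtype.ext k, map_one])) (inf_le_inf_right _ hI)))
    rwa [← eE, ← H1.bar_commutator le_sup_left hE, hD, fx D le_rfl hn, H1.bar_le_bar_iff
      (h1.1.trans le_sup_left) (inf_le_left.trans le_sup_left)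
      (inf_le_right.trans (inf_le_left.trans le_sup_left))] at this
  have fin : ∀ N : Subgroup G, N ⊲ D → V2 a b ≤ 𝐍(N) → N ≠ ⊥ → N ⊓ 𝐂(V2 a b) ≤ J →
      D ⊓ 𝐂(V2 a b) ≤ J := fun N h1 h2 h3 h4 x hx => by
    obtain ⟨j, hj, m, hm, rfl⟩ := (H1.mem_sup_iff_of_le_normalizer
      (inf_le_right.trans (inf_le_left.trans h1.2))).1 (stepQ N h1 h2 h3 hx)
    exact mul_mem hj.1 (h4 ⟨hm, by
      simpa using (𝐂(V2 a b)).mul_mem ((𝐂(V2 a b)).inv_mem hj.2.2) hx.2⟩)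
  by_cases hA : ∃ N : Subgroup G, N ⊲ D ∧ V2 a b ≤ 𝐍(N) ∧ IsMulCommutative N ∧ ¬ N ≤ 𝐂(D)
  · obtain ⟨N, h1, h2, h3, h4⟩ := hA
    exact fin ⁅N, D⁆ ⟨(comm_le_left_iff.2 h1.2).trans h1.1, H1.le_normalizer_commutator_self⟩
      (H1.le_normalizer_commutator h2 hn) (fun k => h4 (comm_eq_bot_iff.1 k))
      (lemG_ab v ho hn hD hJ h1 h2 h3)
  by_cases hnil : Group.IsNilpotent D
  · have : D ≤ 𝐂(D) := by
      by_contra k
      exact hA (exists_ab_of_nil v ho hn hnil k)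
    have := H1.centralizer_inf_commutator_eq_bot (isMulComm_iff_le_cent.2 this) hn (V4.cop v ho)
    rw [hD, inf_comm] at this
    exact this.le.trans bot_le
  have hZ : 𝐙(D) ≠ ⊥ := fun k => by
    haveI := P5.Mx.isSolvable_of_odd ho
    have hF := fittingOf_normal D
    refine center_ne_bot (H2.isNilpotent_fittingOf D) (H2.fittingOf_ne_bot fun e => hnil
      (e ▸ inferInstance)) (eq_bot_iff.2 (k ▸ le_inf (inf_le_left.trans hF.1) ?_))
    by_contra k'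
    exact hA ⟨_, ⟨inf_le_left.trans hF.1, hF.2.trans (norm_le_norm_center _)⟩, hn.trans
      ((H2.normalizer_le_normalizer_fittingOf D).trans (norm_le_norm_center _)),
      isMulComm_center _, k'⟩
  have hZn := hn.trans (norm_le_norm_center D)
  refine fin _ (center_normal D) hZn hZ (H1.le_of_forall_isPGroup_le fun p hp Z0 hZ0 pZ _ z hz => ?_)
  haveI := Fact.mk hp
  have zz := hZ0 hz
  obtain ⟨P, hP, h1, hPn⟩ := exists_invariant_isSyl hp hn (V4.cop v ho) (Or.inl (V4.solv v)) pZ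
    (hZ0.trans (inf_le_left.trans inf_le_left))
    (cent_comm.1 (hZ0.trans inf_le_right) |>.trans (cent_le_norm _))
  have hl : P < D := lt_of_le_of_ne hP.le fun e => hnil (e ▸ hP.pgrp.isNilpotent)
  have oP := P6.odd_of_le hP.le ho
  have h2 := ih _ (hc ▸ H1.card_lt_of_lt hl) G a b P J rfl v oP hPn (hJ.mono hP.le)
  have h3 : z ∈ ⁅D, D⁆ := H1.mem_of_commutator_mem_of_abelian_section (der_le D) le_rfl hn
    (hn.trans (norm_le_norm_der D)) (V4.cop v ho) (mem_sup_left (hD.ge zz.1.1)) fun e he => by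
      rw [commutatorElement_eq_one_iff_mul_comm.2 (zz.2 e he).symm]; exact one_mem _
  have h4 := pow_mem_der hP.le h3 zz.1.2
  have h5 : ⁅P ⊓ 𝐂(V2 a b), P ⊓ 𝐂(V2 a b)⁆ ≤ J ⊓ (D ⊓ 𝐂(V2 a b)) := by
    have k := (inf_le_inf_right _ hP.le).trans (stepQ _ (center_normal D) hZn hZ)
    have k2 : 𝐙(D) ≤ 𝐂((J ⊓ (D ⊓ 𝐂(V2 a b)) : Subgroup G)) :=
      inf_le_right.trans (cent_anti (inf_le_right.trans inf_le_left))
    exact (commutator_mono k k).trans (der_sup_le le_normalizer (k2.trans (cent_le_norm _))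
      (der_le _) ((comm_eq_bot_iff.2 (cent_comm.1 k2)).le.trans bot_le)
      ((isMulComm_iff_comm_eq_bot.1 (isMulComm_center D)).le.trans bot_le))
  have h6 : P ≤ 𝐍(⁅P, V2 a b⁆) := by
    rw [commutator_comm]; exact H1.le_normalizer_commutator_self
  have h7 : ⁅P, P⁆ ≤ ⁅P, V2 a b⁆ ⊔ ⁅P ⊓ 𝐂(V2 a b), P ⊓ 𝐂(V2 a b)⁆ := by
    have k := H1.commutator_sup_centralizer hPn (V4.cop v oP) (Or.inl (V4.solv v))
    have k3 : P ⊓ 𝐂(V2 a b) ≤ 𝐍((⁅P, V2 a b⁆ ⊔ ⁅P ⊓ 𝐂(V2 a b), P ⊓ 𝐂(V2 a b)⁆ : Subgroup G)) :=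
      H1.le_normalizer_sup (inf_le_left.trans h6) (der_normal _).2
    refine (commutator_mono k.ge k.ge).trans (der_sup_le (le_sup_left.trans le_normalizer) k3
      ((der_le _).trans le_sup_left)
      ((comm_le_left_iff.2 (inf_le_left.trans h6)).trans le_sup_left) le_sup_right)
  obtain ⟨y, hy, j, hj, e⟩ := (mem_sup_of_norm ((der_le _).trans (inf_le_left.trans h6))).1 (h7 h4)
  have h8 : z ^ P.relIndex D ∈ J := e ▸ mul_mem (h2 ⟨hy, eq_mul_inv_of_mul_eq e ▸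
    (𝐂(V2 a b)).mul_mem (pow_mem zz.2 _) (inv_mem (h5 hj).2.2)⟩) (h5 hj).1
  obtain ⟨m, hm⟩ := pZ ⟨z, hz⟩
  have h9 : (P.relIndex D).Coprime (orderOf z) :=
    ((hp.coprime_iff_not_dvd.2 hP.ndvd).pow_left m).symm.coprime_dvd_right
      (orderOf_dvd_of_pow_eq_one (congrArg Subtype.val hm))
  obtain ⟨r, hr⟩ := exists_pow_eq_self_of_coprime h9
  exact hr ▸ pow_mem h8 r

theorem lemG {a b : G} (v : V4 a b) {D J : Subgroup G} (ho : Odd 𝐨(D)) (hn : V2 a b ≤ 𝐍(D))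
    (hJ : Pcs D (V2 a b) J) : ⁅D, V2 a b⁆ ⊓ 𝐂(V2 a b) ≤ J :=
  lemG_aux _ G a b D J rfl v ho hn hJ

end Cfsg.Agent.P7
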