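/-
The properties of the known simple groups with abelian Sylow 2-subgroups used in the local analysis.
-/
import Cfsg.Agent.P7.R0
import Cfsg.Agent.P7.Final0
import Cfsg.Agent.Cj.Aut

set_option autoImplicit false
set_option linter.unusedSectionVars false
set_option linter.style.haveILetI false

namespace Cfsg.Agent.P7

open Subgroup Cfsg Cfsg.Agent Cfsg.Agent.FT
open Cfsg.Agent.P5 (V4 K4)
open Cfsg.Agent.P6 (Inv Od)
open scoped commutatorElement Pointwise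

universe u

variable {G : Type u} [Group G]

/-- Centralizers of involutions are elementary. -/
def Eac (K : Subgroup G) : Prop := ∀ v ∈ K, Inv v → ∀ x ∈ K, x ∈ 𝐂[v] → x * x = 1

/-- Generation by `C(v)` and `N(V)`. -/
def Gen (K : Subgroup G) : Prop :=
  ∀ V, IsSyl 2 V K → ∀ v ∈ V, v ≠ 1 → K ≤ K ⊓ 𝐂[v] ⊔ K ⊓ 𝐍(V)

/-- `N(V)` normalizes no subgroup of odd order. -/
def NI (K : Subgroup G) : Prop :=
  ∀ V, IsSyl 2 V K → ∀ U ≤ K, Odd 𝐨(U) → K ⊓ 𝐍(V) ≤ 𝐍(U) → U = ⊥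

/-- `C(v)` normalizes no subgroup of odd order. -/
def NS (K : Subgroup G) : Prop :=
  ∀ v ∈ K, Inv v → ∀ U ≤ K, Odd 𝐨(U) → K ⊓ 𝐂[v] ≤ 𝐍(U) → U = ⊥

/-- Sylow 2-subgroups are self-centralizing. -/
def CV (K : Subgroup G) : Prop := ∀ V, IsSyl 2 V K → K ⊓ 𝐂(V) ≤ V

/-- Local balance. -/
def Bl (K : Subgroup G) : Prop :=
  ∀ v ∈ K, Inv v → ∀ D : Subgroup G, Odd 𝐨(D) → D ≤ 𝐍(K) → K ⊓ 𝐂[v] ≤ 𝐍(D) → D ≤ 𝐂(K)

/-- A good component. -/
structure Gd (K : Subgroup G) : Prop where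
  sq : ∀ x ∈ K, x ^ 4 = 1 → x * x = 1
  cj : ∀ a ∈ K, ∀ b ∈ K, Inv a → Inv b → ∃ g ∈ K, g * a * g⁻¹ = b
  d1 : Eac K ∨ Gen K
  d2 : Bl K ∨ (¬ 8 ∣ 𝐨(K) ∧ Gen K ∧ NI K)

section Map

variable {H : Type u} [Group H] {f : H →* G} (hf : Function.Injective f) {K : Subgroup H}
include hf

theorem inv_of_map {v : H} (h : Inv (f v)) : Inv v :=
  ⟨fun e => h.ne (by rw [e, map_one]), hf (by rw [map_mul, h.sq, map_one])⟩

theorem Gen.map (h : Gen K) : Gen (K.map f) := fun V hV v hv v1 => by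
  obtain ⟨V0, -, rfl⟩ := exists_eq_map_of_le_map hV.le
  obtain ⟨v0, h0, rfl⟩ := hv
  rw [← map_inf_cent1 hf, ← map_inf_norm hf, ← Subgroup.map_sup]
  exact map_mono (h V0 ((isSyl_map_iff hf).1 hV) v0 h0 fun e => v1 (by rw [e, map_one]))

theorem NI.map (h : NI K) : NI (K.map f) := fun V hV U hU ho hn => by
  obtain ⟨V0, -, rfl⟩ := exists_eq_map_of_le_map hV.le
  obtain ⟨U0, h0, rfl⟩ := exists_eq_map_of_le_map hU
  rw [← map_inf_norm hf, map_le_norm_iff hf] at hn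
  rw [h V0 ((isSyl_map_iff hf).1 hV) U0 h0 (card_map_inj hf U0 ▸ ho) hn, Subgroup.map_bot]

theorem NS.map (h : NS K) : NS (K.map f) := fun v hv iv U hU ho hn => by
  obtain ⟨v0, h1, rfl⟩ := hv
  obtain ⟨U0, h0, rfl⟩ := exists_eq_map_of_le_map hU
  rw [← map_inf_cent1 hf, map_le_norm_iff hf] at hn
  rw [h v0 h1 (inv_of_map hf iv) U0 h0 (card_map_inj hf U0 ▸ ho) hn, Subgroup.map_bot]

theorem CV.map (h : CV K) : CV (K.map f) := fun V hV => by
  obtain ⟨V0, -, rfl⟩ := exists_eq_map_of_le_map hV.le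
  rw [← map_inf_cent hf]
  exact map_mono (h V0 ((isSyl_map_iff hf).1 hV))

end Map

theorem top_map (K : Subgroup G) : (⊤ : Subgroup K).map K.subtype = K := by
  rw [← MonoidHom.range_eq_map, range_subtype]

variable [Finite G]

theorem ns_of_simple (hs : IsSimpleGroup G) (hna : ¬ IsMulCommutative G) :
    ¬ Group.IsSolvable G := fun h =>
  hna ⟨⟨IsSimpleGroup.comm_iff_isSolvable.2 h⟩⟩

theorem ns_top (hs : IsSimpleGroup G) (hna : ¬ IsMulCommutative G) :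
    ¬ Group.IsSolvable (⊤ : Subgroup G) := fun _ =>
  ns_of_simple hs hna (L.isSolvable_of_mulEquiv (topEquiv (G := G)))

theorem as_of_sq {K V : Subgroup G} (h : ∀ x ∈ K, x ^ 4 = 1 → x * x = 1) (hV : IsSyl 2 V K) :
    AS V K ∧ ∀ v ∈ V, v * v = 1 := by
  have h1 : ∀ v ∈ V, v * v = 1 := fun v hv => (hV.pgrp ⟨v, hv⟩).elim fun k hk =>
    congrArg Subtype.val (sq_of_four (G := K) (fun x e => Subtype.ext (h x x.2
      (congrArg Subtype.val e))) ⟨v, hV.le hv⟩ k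
      (Subtype.ext (show v ^ 2 ^ k = 1 from congrArg Subtype.val hk)))
  exact ⟨⟨hV, fun x hx => mem_cent.2 fun y hy => L.commute_of_sq_eq_one h1 hy hx⟩, h1⟩

theorem eac_sq (he : L.EAC G) (x : G) (h : x ^ 4 = 1) : x * x = 1 := by
  by_contra hn
  exact hn (he (x * x) x hn (by rw [← h, ← pow_two, ← pow_two, ← pow_mul])
    ((Commute.refl x).mul_left (Commute.refl x)))

theorem exists_ea2 (hs : IsSimpleGroup G) (hna : ¬ IsMulCommutative G) (he : L.EAC G) {t : G}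
    (ht : Inv t) : ∃ u n, Cj.EA2 t u n := by
  have hns := ns_top hs hna
  obtain ⟨u, hu, htu⟩ : ∃ u : G, u * u = 1 ∧ ¬ Commute t u := by
    by_contra h
    push Not at h
    have hn : (𝐂[t] : Subgroup G).Normal := ⟨fun x hx g => L.mem_cent_iff.2 (h _
      (sq_cj (he.sq_of_mem ht.ne ht.sq x hx) g))⟩
    rcases hs.eq_bot_or_eq_top_of_normal _ hn with e | e
    · exact ht.ne (mem_bot.1 (e ▸ self_mem_cent1 t))
    · exact hns (e ▸ H1.isSolvable_of_isMulCommutative (isMulComm_iff_le_cent.2 fun x hx =>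
        mem_cent.2 fun y hy => L.commute_of_sq_eq_one (he.sq_of_mem ht.ne ht.sq) hy hx))
  obtain ⟨V, hV, htV⟩ := exists_isSyl_ge Nat.prime_two ht.isPGroup le_top
  have h4 := Nat.le_of_dvd Nat.card_pos (KO.four_dvd_syl hV (KO.four_dvd hns))
  have h5 := card_le_of_le ((as_of_sq (fun x _ => eac_sq he x) hV).1.le_cent1 (htV (mem_zpowers t)))
  obtain ⟨n, h1, h2, h3, -⟩ := he.exists_galoisField ht.ne ht.sq hu htu (by omega)
  exact ⟨u, n, he, ht.ne, ht.sq, hu, htu, h1, h2, h3⟩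

theorem NS.le_cent {K : Subgroup G} (h : NS K) {v : G} (hv : v ∈ K) (iv : Inv v) {D : Subgroup G}
    (ho : Odd 𝐨(D)) (h1 : D ≤ 𝐍(K)) (h2 : K ⊓ 𝐂[v] ≤ 𝐍(D)) : D ≤ 𝐂((K ⊓ 𝐂[v] : Subgroup G)) := by
  have := h v hv iv (D ⊓ K) inf_le_right (P6.odd_of_le inf_le_left ho)
    (H1.le_normalizer_inf h2 (inf_le_left.trans le_normalizer))
  exact comm_eq_bot_iff.1 (eq_bot_iff.2 (this ▸ le_inf (comm_le_left_iff.2 h2)
    ((commutator_mono le_rfl inf_le_left).trans (comm_le_right_iff.2 h1))))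

theorem bl_of_eac {K : Subgroup G} (hs : IsSimpleGroup K) (hna : ¬ IsMulCommutative K)
    (he : L.EAC K) : Bl K := fun v hv iv D ho h1 h2 => by
  obtain ⟨u, n, E⟩ := exists_ea2 hs hna he (t := ⟨v, hv⟩) (inv_of_map K.subtype_injective iv)
  have sq : ∀ w ∈ K, Inv w → ∀ x ∈ K ⊓ 𝐂[w], x * x = 1 := fun w hw iw x hx => congrArg Subtype.val
    (he ⟨w, hw⟩ ⟨x, hx.1⟩ (fun e => iw.ne (congrArg Subtype.val e)) (Subtype.ext iw.sq)
      (Subtype.ext (mem_cent1.1 hx.2)))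
  have ns : NS K := fun w hw iw U hU oU hn => by
    have cm : IsMulCommutative (K ⊓ 𝐂[w] : Subgroup G) := isMulComm_iff_le_cent.2 fun x hx =>
      mem_cent.2 fun y hy => L.commute_of_sq_eq_one (sq w hw iw) hy hx
    have p2 : IsPGroup 2 (K ⊓ 𝐂[w] : Subgroup G) := fun y =>
      ⟨1, Subtype.ext (by simpa [pow_two] using sq w hw iw y y.2)⟩
    obtain ⟨_, m, E'⟩ := exists_ea2 hs hna he (t := ⟨w, hw⟩) (inv_of_map K.subtype_injective iw)
    refine eq_bot_iff.2 (H1.le_of_forall_centralizer_le cm (H2.not_isCyclic_of_card (p := 2)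
      ⟨cm, fun x hx => by rw [pow_two, sq w hw iw x hx]⟩ E'.two ?_) hn (cop_two_odd p2 oU)
      fun a ha a1 y hy => P5.eq_one_of_odd oU hy.1 (sq a ha.1 ⟨a1, sq w hw iw a ha⟩ y
        ⟨hU hy.1, hy.2⟩))
    rw [← E'.card, ← card_map_inj K.subtype_injective, ← top_inf_eq 𝐂[(⟨w, hw⟩ : K)],
      map_inf_cent1 K.subtype_injective, top_map]
    rfl
  have h3 := ns.le_cent hv iv ho h1 h2
  intro d hd
  obtain ⟨s, hs', e⟩ := E.exists_conj (σ := H1.conjAut h1 ⟨d, hd⟩) fun x hx => Subtype.ext (by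
    rw [H1.coe_conjAut, ← h3 hd x ⟨x.2, mem_cent1.2 (congrArg Subtype.val (mem_cent1.1 hx))⟩,
      mul_inv_cancel_right])
  have h4 : (⟨d, hd⟩ : D) * ⟨d, hd⟩ ∈ (H1.conjAut h1).ker := by
    rw [MonoidHom.mem_ker, map_mul, e, ← map_mul, he.sq_of_mem E.t1 E.tt s hs', map_one]
  obtain ⟨m, hm⟩ := ho
  have h5 : d = ((d * d) ^ m)⁻¹ := by
    rw [eq_inv_iff_mul_eq_one, ← pow_two, ← pow_mul, ← pow_succ', ← hm, P5.pow_card_of_mem hd]
  rw [h5]
  exact inv_mem (pow_mem ((H1.mem_ker_conjAut h1).1 h4) m)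

theorem bl_of_gen {K : Subgroup G} (sq : ∀ x ∈ K, x ^ 4 = 1 → x * x = 1) (h1 : Gen K) (h2 : NS K)
    (h3 : CV K) : Bl K := fun v hv iv D ho hD hn => by
  have h4 := h2.le_cent hv iv ho hD hn
  obtain ⟨V, hV, hvV⟩ := exists_isSyl_ge Nat.prime_two iv.isPGroup (zpowers_le.2 hv)
  have vV := hvV (mem_zpowers v)
  have h5 : D ≤ 𝐂(V) := h4.trans (cent_anti (le_inf hV.le ((as_of_sq sq hV).1.le_cent1 vV)))
  refine cent_comm.1 ((h1 V hV v vV iv.ne).trans (sup_le (cent_comm.1 h4) fun n hn d hd => ?_))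
  have cV : ∀ d ∈ D, ⁅n, d⁆ ∈ V := fun d hd => h3 V hV ⟨comm_mem_left (hD hd) hn.1,
    comm_mem_right (H1.normalizer_le_normalizer_centralizer V hn.2) (h5 hd)⟩
  have h6 : ∀ k : ℕ, ⁅n, d ^ k⁆ = ⁅n, d⁆ ^ k := fun k => by
    induction k with
    | zero => simp
    | succ k ih =>
      have := h5 (pow_mem hd k) _ (cV d hd)
      rw [pow_succ' ⁅n, d⁆, ← ih, pow_succ]
      calc ⁅n, d ^ k * d⁆ = ⁅n, d ^ k⁆ * (d ^ k * ⁅n, d⁆) * (d ^ k)⁻¹ := by
            simp only [commutatorElement_def]; group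
        _ = ⁅n, d ^ k⁆ * ⁅n, d⁆ := by rw [← this]; group
        _ = ⁅n, d⁆ * ⁅n, d ^ k⁆ :=
          (as_of_sq sq hV).1.comm (cV _ (pow_mem hd k)) (cV d hd)
  have h7 := h6 𝐨(D)
  rw [P5.pow_card_of_mem hd, commutatorElement_one_right] at h7
  exact (commutatorElement_eq_one_iff_mul_comm.1 (P6.eq_one_of_odd_of_mem hV.pgrp (cV d hd)
    (ho.of_dvd_nat (orderOf_dvd_of_pow_eq_one h7.symm)))).symm

theorem exists_char_comm {U : Subgroup G} (hs : Group.IsSolvable U) (h : U ≠ ⊥) :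
    ∃ Z : Subgroup G, Z ≤ U ∧ Z ≠ ⊥ ∧ Z ≤ 𝐂(Z) ∧ 𝐍(U) ≤ 𝐍(Z) :=
  ⟨𝐙(fittingOf U), inf_le_left.trans (fittingOf_normal U).1,
    center_ne_bot (H2.isNilpotent_fittingOf U) (H2.fittingOf_ne_bot h),
    isMulComm_iff_le_cent.1 (isMulComm_center _),
    (H2.normalizer_le_normalizer_fittingOf U).trans (norm_le_norm_center _)⟩

section Four

variable [hs : IsSimpleGroup G] (hna : ¬ IsMulCommutative G) (e : E8 G) (h8 : ¬ 8 ∣ Nat.card G)
include hna e h8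

theorem k4_of_syl {V : Subgroup G} (hV : IsSyl 2 V ⊤) : K4 V := by
  obtain ⟨a, ha, b, hb, v⟩ := KO.exists_v4_of_two e hV.pgrp
    (KO.four_dvd_syl hV (KO.four_dvd (ns_top hs hna)))
  have k := v.k4 h8
  have : IsSyl 2 (V2 a b) ⊤ := ⟨le_top, k.isPGroup, k.not_dvd_relIndex le_top⟩
  rwa [this.eq_of_le Nat.prime_two (P5.V4.le_iff.2 ⟨ha, hb⟩) le_top hV.pgrp]

theorem four_frame {V : Subgroup G} (hV : IsSyl 2 V ⊤) {t : G} (ht : t ∈ V) (t1 : t ≠ 1) :
    ∃ s x A, s ∈ V ∧ x ∈ 𝐍(V) ∧ P5.Tri x t s ∧ P5.LT ⊤ A t s := by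
  have k := k4_of_syl hna e h8 hV
  obtain ⟨s, hs', s1, st⟩ := k.exists_ne t
  obtain ⟨y, hy, hc⟩ := k.exists_not_cent
  obtain ⟨x, hx, tri⟩ := k.exists_tri hy hc ht hs' t1 s1 st.symm
  obtain ⟨A, hA⟩ := KO.exists_LT (K := ⊤) (H2.isQuasisimple_of_mulEquiv topEquiv.symm
    (H2.isQuasisimple_of_isSimpleGroup hna)) (by rwa [card_top]) (k.v4 ht hs' t1 s1 st.symm)
    (mem_top _) (mem_top _)
  exact ⟨s, x, A, hs', zpowers_le.2 hy hx, tri, hA⟩

theorem four_cj {a b : G} (ha : Inv a) (hb : Inv b) : ∃ g, g * a * g⁻¹ = b := by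
  obtain ⟨V, hV, h⟩ := exists_isSyl_ge Nat.prime_two ha.isPGroup le_top
  obtain ⟨s, x, A, -, -, -, hA⟩ := four_frame hna e h8 hV (h (mem_zpowers a)) ha.ne
  obtain ⟨g, -, hg⟩ := hA.hyp.conj b (mem_top _) hb.ne hb.sq
  exact ⟨g, hg⟩

theorem four_gen (he : ¬ L.EAC G) : Gen (⊤ : Subgroup G) := fun V hV t ht t1 => by
  obtain ⟨s, x, A, -, hx, tri, hA⟩ := four_frame hna e h8 hV ht t1
  have v := hA.hyp.v4
  have hA1 : A ≠ ⊥ := fun k => he fun w y w1 ww c => by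
    obtain ⟨g, -, rfl⟩ := hA.hyp.conj w (mem_top _) w1 ww
    have := hA.hyp.sq_mem (g := g⁻¹ * y * g) ⟨mem_top _, mem_cent1.2 (by
      calc t * (g⁻¹ * y * g) = g⁻¹ * (g * t * g⁻¹ * y) * g := by group
        _ = _ := by rw [c.eq]; group)⟩
    rw [k, mem_bot] at this
    simpa [mul_assoc] using sq_cj this g
  have co := P5.maximal h8 (P5.ind_all _) hA.hyp tri hA1
  rw [top_inf_eq, top_inf_eq, top_le_iff]
  exact co.2 _ (lt_of_le_of_ne le_sup_left fun k => tri.not_commute v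
    (P5.Mx.mem_cent1.1 (k.ge (mem_sup_right hx))))

theorem four_ni : NI (⊤ : Subgroup G) := fun V hV U _ ho hn => by
  by_contra hU
  obtain ⟨Z, h1, h2, h3, h4⟩ := exists_char_comm (P5.Mx.isSolvable_of_odd ho) hU
  have k := k4_of_syl hna e h8 hV
  have h5 : 𝐍(V) ≤ 𝐍(Z) := (le_inf le_top le_rfl).trans (hn.trans h4)
  have oZ := P6.odd_of_le h1 ho
  obtain ⟨t, ht, t1, h6⟩ := H1.exists_centralizer_ne_bot k.isMulCommutative k.not_isCyclic
    (le_normalizer.trans h5) (k.coprime oZ) h2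
  obtain ⟨s, x, A, -, hx, tri, hA⟩ := four_frame hna e h8 hV ht t1
  obtain ⟨y, hy, y1⟩ := (bot_or_exists_ne_one _).resolve_left h6
  have h7 : Z ≤ 𝐂[t] := fun z hz => hA.mem_cent1 (hA.hyp.le_of_odd (W := Z ⊓ 𝐂[t])
    (le_inf le_top inf_le_right) (P6.odd_of_le inf_le_left oZ) hy) y1 (mem_top z) (h3 hz y hy.1)
  have h9 : y ∈ 𝐂[s] := by
    rw [← tri.1, cent1_conj, mem_conj]
    exact h7 (by simpa using cjm (h5 (inv_mem hx)) hy.1)
  have := hA.inv y (hA.hyp.le_of_odd (le_inf le_top h7) oZ hy.1)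
  rw [mem_cent1.1 h9, mul_inv_cancel_right, eq_inv_iff_mul_eq_one] at this
  exact y1 (P5.eq_one_of_odd oZ hy.1 this)

end Four

/-- The groups of Janko-Ree type with their orders. -/
def JK (G : Type u) [Group G] : Prop :=
  (∃ (t : G) (L : Subgroup G), JR t L 5 ∧ Nat.card G = 175560) ∨
    ∃ (t : G) (L U : Subgroup G) (q : ℕ), Ree t L U q

theorem JK.jr (h : JK G) : ∃ (t : G) (L : Subgroup G) (q : ℕ), JR t L q ∧
    Nat.card G = if q = 5 then 175560 else q ^ 3 * (q ^ 3 + 1) * (q - 1) := by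
  rcases h with ⟨t, L, h, e⟩ | ⟨t, L, U, q, h⟩
  · exact ⟨t, L, 5, h, by simpa using e⟩
  · exact ⟨t, L, q, h.toJR, by rw [if_neg (by have := h.big; omega), h.card]⟩

theorem JR.card_cent {t a : G} {L : Subgroup G} {q : ℕ} (h : JR t L q) (ha : Inv a) :
    𝐨(𝐂[a]) = q * (q - 1) * (q + 1) := by
  obtain ⟨L', h'⟩ := KO.jr_at h ha
  rw [h'.exact, sup_comm, KO.card_sup_zpowers ha h'.normal.1 (KO.jrf_not_mem h'.toJRF), mul_comm,
    KO.isL2_card h'.l2]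

theorem JR.eight {t : G} {L : Subgroup G} {q : ℕ} (h : JR t L q) {a : G} (ha : Inv a) :
    8 ∣ 𝐨(𝐂[a]) := by
  rw [h.card_cent ha, ← KO.isL2_card h.l2]
  exact Nat.mul_dvd_mul_left 2 (KO.four_dvd (KO.isL2_ns h.l2))

theorem JR.cv {t : G} {L : Subgroup G} {q : ℕ} (h : JR t L q) : CV (⊤ : Subgroup G) :=
  fun V hV x hx => by
  obtain ⟨hA, sq⟩ := as_of_sq (fun x _ => h.e8.sq x) hV
  have i0 := P6.inv_of_orderOf h.inv
  obtain ⟨a, ha, ia⟩ := exists_inv_of_two hV.pgrp (hV.ne_bot Nat.prime_two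
    ((by norm_num : 2 ∣ 8).trans ((h.eight i0).trans (FT.card_dvd_of_le le_top))))
  obtain ⟨L', h'⟩ := KO.jr_at h ia
  have hn : V ≤ 𝐍(L') := (hA.le_cent1 ha).trans h'.normal.2
  obtain ⟨s, hs, r, hr, v⟩ := KO.exists_v4_of_two h.e8 (hA.isSyl_inf le_top hn).pgrp
    (KO.four_dvd_syl (hA.isSyl_inf le_top hn) (KO.four_dvd (KO.isL2_ns h'.l2)))
  obtain ⟨A, hL⟩ := KO.exists_LT (KO.isL2_qs h'.l2) (KO.isL2_not_eight h'.l2) v hs.2 hr.2
  have key : ∀ y ∈ L', y ∈ 𝐂(V) → y ∈ V := fun y hy hc => by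
    have k : ∀ z ∈ A, z ∈ 𝐂(V) → z = 1 := fun z hz hc => by
      have := hL.inv z hz
      rw [hc r hr.1, mul_inv_cancel_right, eq_inv_iff_mul_eq_one] at this
      exact P5.eq_one_of_odd hL.hyp.odd hz this
    have cs := hA.ab hs.1
    have cr := hA.ab hr.1
    rcases hL.hyp.cover y ⟨hy, cent_le_cent1 hs.1 hc⟩ with e | e | e | e
    · rw [k _ e hc]; exact one_mem _
    · rw [eq_inv_of_mul_eq_one_left (k _ e (mul_mem hc cs))]; exact inv_mem hs.1
    · rw [eq_inv_of_mul_eq_one_right (k _ e (mul_mem cr hc))]; exact inv_mem hr.1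
    · have := eq_inv_of_mul_eq_one_left (k _ e (mul_mem (mul_mem cr hc) cs))
      rw [eq_inv_mul_of_mul_eq this]; exact mul_mem (inv_mem hr.1) (inv_mem hs.1)
  rcases KO.jr_cover h' x (cent_le_cent1 ha hx.2) with e | e
  · exact key x e hx.2
  · simpa using mul_mem (key _ e (mul_mem hx.2 (hA.ab ha))) (inv_mem ha)

theorem cube_inj {q r : ℕ} (hq : 5 ≤ q) (hr : 5 ≤ r)
    (h : q * (q - 1) * (q + 1) = r * (r - 1) * (r + 1)) : q = r := by
  have key : ∀ a b : ℕ, 5 ≤ a → a < b → a * (a - 1) * (a + 1) < b * (b - 1) * (b + 1) :=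
    fun a b h1 h2 => Nat.mul_lt_mul'' (Nat.mul_lt_mul'' h2 (by omega)) (by omega)
  rcases lt_trichotomy q r with k | k | k
  · exact absurd h (key q r hq k).ne
  · exact k
  · exact absurd h (key r q hr k).ne'

theorem JK.gen (hK : K3.{u}) (h : JK G) : Gen (⊤ : Subgroup G) := fun V hV t ht t1 => by
  obtain ⟨t0, L0, q, h0, hc⟩ := h.jr
  obtain ⟨hA, sq⟩ := as_of_sq (fun x _ => h0.e8.sq x) hV
  have it : Inv t := ⟨t1, sq t ht⟩
  obtain ⟨L, h1⟩ := KO.jr_at h0 it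
  rw [top_inf_eq, top_inf_eq]
  generalize hH : 𝐂[t] ⊔ 𝐍(V) = H
  have hC : 𝐂[t] ≤ H := hH ▸ le_sup_left
  have hN : 𝐍(V) ≤ H := hH ▸ le_sup_right
  have tH := hC (self_mem_cent1 t)
  have e := h0.e8.sub H
  have hO : Od (⊤ : Subgroup H) = ⊥ := by
    have := KO.jr_ns h0 it (P6.odd_Od H) (hC.trans (P6.Od_normal H).2)
    rw [← top_map H] at this
    rw [← map_eq_bot_iff_of_injective _ H.subtype_injective, ← this]
    exact (pPrimeCoreOf_map H.subtype_injective Nat.prime_two ⊤).symm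
  have h8 : 8 ∣ Nat.card H := (h0.eight it).trans (FT.card_dvd_of_le hC)
  rcases struct8 (hK _) (Nat.lt_succ_self _) e hO with ⟨T, _, k1, k2⟩ | ⟨L', c, q', k1, k2⟩ |
    ⟨Y, _, k1, k2, -, k3⟩
  · haveI := H1.isSolvable_of_isPGroup k1
    haveI : Group.IsSolvable (H ⧸ T) := FT.feit_thompson _ (Nat.not_even_iff_odd.1 fun k =>
      k2 (even_iff_two_dvd.1 k))
    exact absurd (H1.isSolvable_of_le (h1.normal.1.trans hC)
      (Agent.L.isSolvable_of_normal_of_quotient T inferInstance inferInstance)) (KO.isL2_ns h1.l2)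
  · have c1 : c ≠ 1 := fun k => KO.lm_one (k ▸ k2) h8
    have ic : Inv (c : G) := ⟨fun k => c1 (Subtype.ext k), congrArg Subtype.val k2.tt⟩
    have cz : H ≤ 𝐂[(c : G)] := fun g hg =>
      mem_cent1.2 (congrArg Subtype.val (mem_center_iff.1 k1 ⟨g, hg⟩)).symm
    have cV : (c : G) ∈ V := hA.le_of_two ic.isPGroup le_top ((le_normalizer.trans (hN.trans cz)).trans
      (P5.Mx.cent1_le_norm_zpowers _)) (mem_zpowers _)
    have z := hA.zs cV ic.sq (inf_le_right.trans (hN.trans cz))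
    have o := KO.jr_ns h0 it (P6.odd_Od ⊤) (le_top.trans (P6.Od_normal ⊤).2)
    obtain ⟨s, hs, r, hr, v⟩ := KO.exists_v4 h0.e8 (KO.isL2_ns h0.l2)
    have all : ∀ w : G, Inv w → w = c := fun w iw => by
      obtain ⟨g, rfl⟩ := isConj_iff.1 ((h0.conj _ ic.orderOf_eq).symm.trans
        (h0.conj _ iw.orderOf_eq))
      have := z g (mem_top g)
      rw [o, mem_bot, commutatorElement_eq_one_iff_mul_comm] at this
      rw [← this, mul_inv_cancel_right]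
    exact absurd ((all s ⟨v.t1, v.tt⟩).trans (all r ⟨v.s1, v.ss⟩).symm) v.ts
  · have oi := KO.odd_index e k2
    have tY : (⟨t, tH⟩ : H) ∈ Y := KO.mem_of_odd_index oi (Subtype.ext it.sq)
    let f : Y →* G := H.subtype.comp Y.subtype
    have hf : Function.Injective f := H.subtype_injective.comp Y.subtype_injective
    have hY : H ≤ 𝐍(f.range) := fun g hg => mem_normalizer_fintype fun _ ⟨y, e⟩ =>
      e ▸ ⟨⟨_, (inferInstance : Y.Normal).conj_mem _ y.2 ⟨g, hg⟩⟩, rfl⟩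
    have inv : ∀ w ∈ H, w * w = 1 → w ∈ f.range := fun w hw ww =>
      ⟨⟨⟨w, hw⟩, KO.mem_of_odd_index oi (Subtype.ext ww)⟩, rfl⟩
    have hL : L ≤ f.range := by
      obtain ⟨s, hs, r, hr, v⟩ := KO.exists_v4 h0.e8 (KO.isL2_ns h1.l2)
      rcases KO.simple_of (KO.isL2_simple h1.l2) (N := L ⊓ f.range) ⟨inf_le_left,
        H1.le_normalizer_inf le_normalizer ((h1.normal.1.trans hC).trans hY)⟩ with k | k
      · exact absurd (mem_bot.1 (k.le ⟨hs, inv s (hC (h1.normal.1 hs)) v.tt⟩)) v.t1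
      · exact k.ge.trans inf_le_right
    have hCt : 𝐨(𝐂[(⟨⟨t, tH⟩, tY⟩ : Y)]) = q * (q - 1) * (q + 1) := by
      rw [← card_map_inj hf, ← top_inf_eq 𝐂[(⟨⟨t, tH⟩, tY⟩ : Y)], map_inf_cent1 hf,
        ← MonoidHom.range_eq_map, ← h0.card_cent it, inf_eq_right.2]
      · rfl
      · exact h1.exact.le.trans (sup_le (zpowers_le.2 (inv t tH it.sq)) hL)
    have iY : Inv (⟨⟨t, tH⟩, tY⟩ : Y) := inv_of_map hf it
    rcases k3 with ⟨k3, -⟩ | k3
    · refine absurd (H1.isSolvable_of_isMulCommutative (isMulComm_iff_le_cent.2 fun x hx =>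
        mem_cent.2 fun y hy => Agent.L.commute_of_sq_eq_one (fun z hz => ?_) hy hx))
        (KO.isL2_ns h1.l2)
      obtain ⟨z, rfl⟩ := hL hz
      rw [← map_mul, k3 _ z iY.ne iY.sq (hf (by
        rw [map_mul, map_mul]; exact mem_cent1.1 (h1.normal.1 hz))), map_one]
    · obtain ⟨t', L', q', h', hc'⟩ := JK.jr k3
      obtain rfl := cube_inj h'.l2.five h0.l2.five ((h'.card_cent iY).symm.trans hCt)
      rw [← hc] at hc'
      exact (H1.eq_of_le_of_card_le le_top (by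
        rw [card_top, ← hc']; exact Nat.card_le_card_of_injective (fun y : Y => (y : H))
          Subtype.val_injective)).ge

theorem gd_of_eac {K : Subgroup G} (hs : IsSimpleGroup K) (hna : ¬ IsMulCommutative K)
    (he : L.EAC K) : Gd K where
  sq x hx e := congrArg Subtype.val (eac_sq he ⟨x, hx⟩ (Subtype.ext e))
  cj a ha b hb ia ib := by
    obtain ⟨u, n, E⟩ := exists_ea2 hs hna he (t := ⟨a, ha⟩) (inv_of_map K.subtype_injective ia)
    have i := inv_of_map K.subtype_injective (v := ⟨b, hb⟩) ib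
    obtain ⟨g, e⟩ := isConj_iff.1 (E.isConj i.ne i.sq)
    exact ⟨g, g.2, congrArg Subtype.val e⟩
  d1 := Or.inl fun v hv iv x hx hc => congrArg Subtype.val (he ⟨v, hv⟩ ⟨x, hx⟩
    (fun e => iv.ne (congrArg Subtype.val e)) (Subtype.ext iv.sq) (Subtype.ext (mem_cent1.1 hc)))
  d2 := Or.inl (bl_of_eac hs hna he)

theorem gd_of (hK : K3.{u}) {K : Subgroup G} (hs : IsSimpleGroup K) (hna : ¬ IsMulCommutative K)
    (h : L.EAC K ∨ E8 K) : Gd K := by
  by_cases he : L.EAC K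
  · exact gd_of_eac hs hna he
  have e := h.resolve_left he
  have hf := K.subtype_injective
  have sq : ∀ x ∈ K, x ^ 4 = 1 → x * x = 1 := fun x hx k =>
    congrArg Subtype.val (e.sq ⟨x, hx⟩ (Subtype.ext k))
  by_cases h8 : 8 ∣ Nat.card K
  · have j : JK K := by
      rcases hK.known hs hna e with ⟨q, k⟩ | k | k
      · exact absurd (card_top (G := K) ▸ h8) (KO.isL2_not_eight k)
      · exact absurd k.1 he
      · exact k
    have g := top_map K ▸ (j.gen hK).map hf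
    obtain ⟨t, L, q, h0, -⟩ := j.jr
    have ns : NS (⊤ : Subgroup K) := fun v _ iv U _ ho hn =>
      KO.jr_ns h0 iv ho ((le_inf le_top le_rfl).trans hn)
    refine ⟨sq, fun a ha b hb ia ib => ?_, Or.inr g,
      Or.inl (bl_of_gen sq g (top_map K ▸ ns.map hf) (top_map K ▸ h0.cv.map hf))⟩
    obtain ⟨x, k⟩ := isConj_iff.1 ((h0.conj ⟨a, ha⟩ (inv_of_map hf (v := ⟨a, ha⟩)
      ia).orderOf_eq).symm.trans
      (h0.conj ⟨b, hb⟩ (inv_of_map hf (v := ⟨b, hb⟩) ib).orderOf_eq))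
    exact ⟨x, x.2, congrArg Subtype.val k⟩
  · have g := top_map K ▸ (four_gen hna e h8 he).map hf
    refine ⟨sq, fun a ha b hb ia ib => ?_, Or.inr g,
      Or.inr ⟨h8, g, top_map K ▸ (four_ni hna e h8).map hf⟩⟩
    obtain ⟨x, k⟩ := four_cj hna e h8 (a := ⟨a, ha⟩) (b := ⟨b, hb⟩) (inv_of_map hf ia)
      (inv_of_map hf ib)
    exact ⟨x, x.2, congrArg Subtype.val k⟩

end Cfsg.Agent.P7
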