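/-
Components modulo the odd core.
-/
import Cfsg.Agent.P7.RA

set_option autoImplicit false
set_option linter.unusedSectionVars false
set_option linter.style.haveILetI false

namespace Cfsg.Agent.P7

open Subgroup Cfsg Cfsg.Agent Cfsg.Agent.FT
open Cfsg.Agent.H2 (CompIn SnIn)
open Cfsg.Agent.P5 (V4)
open Cfsg.Agent.P6 (Inv Od Qt pr)
open scoped commutatorElement Pointwise

universe u

/-- Walter's theorem below order `n`. -/
def WInd (n : ℕ) : Prop :=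
  ∀ (K : Type u) [Group K] [Finite K], Nat.card K < n → IsSimpleGroup K → ¬ IsMulCommutative K →
    (∀ P : Subgroup K, IsPGroup 2 P → IsMulCommutative P) → L.EAC K ∨ E8 K

variable {G : Type u} [Group G] [Finite G]

/-- `K` is the preimage of a simple component of `X / O(X)`. -/
structure Cp (X K : Subgroup G) : Prop where
  od : Od X ≤ K
  sn : SnIn X K
  ns : ¬ Group.IsSolvable K
  simp : ∀ N, Od X ≤ N → N ⊲ K → N = Od X ∨ N = K

/-- The centralizer of `K` modulo `O(X)`. -/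
abbrev Zc (X K : Subgroup G) : Subgroup G := centMod K (Od X)

/-- The image in `X / O(X)`. -/
abbrev br (X U : Subgroup G) : Subgroup (Qt X) := H1.bar X (Od X) U

/-- The components of `X / O(X)` are good. -/
structure Loc (S X : Subgroup G) : Prop where
  as : AS S X
  gd : ∀ K : Subgroup (Qt X), CompIn ⊤ K → Gd K

theorem loc_of (hK : K3.{u}) {n : ℕ} (hI : WInd.{u} n) {S X : Subgroup G} (hn : 𝐨(X) < n)
    (h : AS S X) : Loc S X := ⟨h, fun K hc => by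
  have h1 := h.bar (N := Od X)
  have hs := h1.comp_simple (KO.Od_bar X) hc
  have na := H2.QS.not_isMulCommutative hc.2
  refine gd_of hK hs na (hI K ((Nat.le_of_dvd Nat.card_pos ((card_subgroup_dvd_card K).trans
    (KO.card_bar_dvd X))).trans_lt hn) hs na fun P hP => ?_)
  exact (isMulComm_map_iff K.subtype_injective).1
    (isMulComm_iff_le_cent.2 (h1.comm_two (hP.map _) le_top))⟩

theorem Od_le (X : Subgroup G) : Od X ≤ X := (P6.Od_normal X).1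

theorem le_norm_Od (X : Subgroup G) : X ≤ 𝐍(Od X) := (P6.Od_normal X).2

theorem solv_Od (X : Subgroup G) : Group.IsSolvable (Od X) :=
  P5.Mx.isSolvable_of_odd (P6.odd_Od X)

theorem subgroupOf_cent {X E : Subgroup G} (hE : E ≤ X) :
    𝐂(E.subgroupOf X) = (X ⊓ 𝐂(E)).subgroupOf X := by
  ext y
  simp only [mem_subgroupOf, mem_inf, y.2, true_and, mem_cent]
  exact ⟨fun h e he => congrArg Subtype.val (h ⟨e, hE he⟩ he), fun h e he => Subtype.ext (h e he)⟩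

theorem br_cent {X E : Subgroup G} (hE : E ≤ X) (h2 : IsPGroup 2 E) :
    𝐂(br X E) = br X (X ⊓ 𝐂(E)) := by
  rw [br, br, H1.bar, H1.bar, ← subgroupOf_cent hE]
  exact H1.centralizer_map_of_coprime_ker H1.qmk_surjective (by
    rw [QuotientGroup.ker_mk', H2.card_subgroupOf_of_le hE, H2.card_subgroupOf_of_le (Od_le X)]
    exact cop_two_odd h2 (P6.odd_Od X)) (Or.inl (H1.isSolvable_subgroupOf
      (H1.isSolvable_of_isPGroup h2) X))

theorem br_norm {X E : Subgroup G} (hE : E ≤ X) (h2 : IsPGroup 2 E) :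
    𝐍(br X E) = br X (X ⊓ 𝐍(E)) := by
  rw [br, br, H1.bar, H1.bar, inf_subgroupOf_left, subgroupOf_normalizer_eq hE]
  exact H1.normalizer_map_of_coprime_ker H1.qmk_surjective (by
    rw [QuotientGroup.ker_mk', H2.card_subgroupOf_of_le hE, H2.card_subgroupOf_of_le (Od_le X)]
    exact cop_two_odd h2 (P6.odd_Od X)) (Or.inl (H1.isSolvable_subgroupOf
      (H1.isSolvable_of_isPGroup h2) X))

theorem centMod_conj (U V : Subgroup G) (g : G) :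
    centMod (U ^ᵍ g) (V ^ᵍ g) = centMod U V ^ᵍ g := by
  have key : ∀ (U V : Subgroup G) (g : G), centMod U V ^ᵍ g ≤ centMod (U ^ᵍ g) (V ^ᵍ g) :=
    fun U V g => le_centMod_iff.2 ⟨conj_le_norm_iff.2 (le_centMod_iff.1 le_rfl).1, by
      rw [← conj_comm]; exact conj_mono (le_centMod_iff.1 le_rfl).2 g⟩
  refine le_antisymm (le_conj_iff.2 ?_) (key U V g)
  have := key (U ^ᵍ g) (V ^ᵍ g) g⁻¹
  rwa [conj_conj_inv, conj_conj_inv] at this

theorem Zc_conj (X K : Subgroup G) (g : G) : Zc (X ^ᵍ g) (K ^ᵍ g) = Zc X K ^ᵍ g := by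
  rw [Zc, P6.Od_conj, centMod_conj]

namespace Cp

variable {X K : Subgroup G} (c : Cp X K)
include c

theorem le : K ≤ X := c.sn.le

theorem cj (g : G) : Cp (X ^ᵍ g) (K ^ᵍ g) where
  od := by rw [P6.Od_conj]; exact conj_mono c.od g
  sn := c.sn.map _
  ns := by rw [isSolvable_map_iff (conj_injective g)]; exact c.ns
  simp N h1 h2 := by
    rw [P6.Od_conj] at h1 ⊢
    rw [← conj_inv_conj N g] at h1 h2 ⊢
    simpa only [conj_inj] using c.simp _ (conj_le_conj_iff.1 h1)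
      ⟨conj_le_conj_iff.1 h2.1, conj_le_norm_iff.1 h2.2⟩

theorem cj' {g : G} (hg : g ∈ 𝐍(X)) : Cp X (K ^ᵍ g) := by
  have := c.cj g
  rwa [conj_eq_of_mem_norm hg] at this

theorem le_norm_Od : K ≤ 𝐍(Od X) := c.le.trans (P7.le_norm_Od X)

theorem not_le {N : Subgroup G} (h : Group.IsSolvable N) : ¬ K ≤ N := fun k =>
  c.ns (H1.isSolvable_of_le k h)

theorem le_sup {N : Subgroup G} (h1 : N ≤ K) (h2 : K ≤ 𝐍((N ⊔ Od X : Subgroup G)))
    (h3 : ¬ N ≤ Od X) : K ≤ N ⊔ Od X :=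
  ((c.simp _ le_sup_right ⟨sup_le h1 c.od, h2⟩).resolve_left fun e =>
    h3 (le_sup_left.trans e.le)).ge

theorem solv_sup {N : Subgroup G} (h1 : N ≤ K) (h : Group.IsSolvable N) : ¬ K ≤ N ⊔ Od X :=
  c.not_le (H2.isSolvable_sup_of_le_normalizer (h1.trans c.le_norm_Od) h (solv_Od X))

theorem Od_eq : Od K = Od X := by
  refine le_antisymm ?_ (P6.le_Od ⟨c.od, c.le_norm_Od⟩ (P6.odd_Od X))
  by_contra h
  exact c.solv_sup (Od_le K) (solv_Od K) (c.le_sup (Od_le K)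
    (H1.le_normalizer_sup (P7.le_norm_Od K) c.le_norm_Od) h)

theorem norm_le : 𝐍(K) ≤ 𝐍(Od X) := c.Od_eq ▸ P6.norm_le_norm_Od K

theorem norm_Z : 𝐍(K) ≤ 𝐍(Zc X K) := norm_le_norm_centMod le_rfl c.norm_le

theorem Od_le_Z : Od X ≤ Zc X K :=
  le_centMod_iff.2 ⟨le_normalizer, comm_le_right_iff.2 c.le_norm_Od⟩

theorem Z_le_norm : Zc X K ≤ 𝐍(K) :=
  comm_le_left_iff.1 ((le_centMod_iff.1 le_rfl).2.trans c.od)

theorem comp : CompIn ⊤ (br X K) := by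
  refine ⟨?_, H2.isQuasisimple_subgroup_iff.2 ⟨?_, fun e => ?_, fun N h1 h2 => ?_⟩⟩
  · have := (c.sn.comap X.subtype).map (H1.qmk X (Od X))
    rwa [comap_subtype, subgroupOf_self, map_top_of_surjective _ H1.qmk_surjective] at this
  · rw [← H1.bar_commutator c.le c.le]
    refine le_antisymm (H1.bar_mono (der_le K)) ((H1.bar_le_bar_iff (Od_le X) c.le
      ((der_le K).trans c.le)).2 (c.le_sup (der_le K) (H1.le_normalizer_sup (der_normal K).2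
        c.le_norm_Od) fun k => c.ns (solv_of_bar c.le (solv_Od X) ?_)))
    exact H1.isSolvable_of_isMulCommutative ((H1.isMulCommutative_bar_iff c.le).2 k)
  · exact c.not_le (solv_Od X) ((H1.bar_eq_bot_iff c.le).1 e)
  · rcases c.simp _ (H1.le_unbar (Od_le X) N) (unbar_normal c.od c.le ⟨h1, h2⟩) with e | e
    · rw [← H1.bar_unbar (Y := X) (N := Od X) N, e, H1.bar_self]
      exact Or.inr bot_le
    · rw [← H1.bar_unbar (Y := X) (N := Od X) N, e]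
      exact Or.inl rfl

theorem le_Z_iff {U : Subgroup G} (hU : U ≤ X) : U ≤ Zc X K ↔ br X U ≤ 𝐂(br X K) := by
  rw [H1.bar_le_centralizer_iff hU c.le, le_centMod_iff, commutator_comm]
  exact and_iff_right (hU.trans (P7.le_norm_Od X))

theorem mem_Z_iff {x : G} (hx : x ∈ X) : x ∈ Zc X K ↔ pr X ⟨x, hx⟩ ∈ 𝐂(br X K) := by
  rw [← zpowers_le, c.le_Z_iff (zpowers_le.2 hx), ← zpowers_le, ← H1.bar_zpowers]

theorem mem_iff {x : G} (hx : x ∈ X) : pr X ⟨x, hx⟩ ∈ br X K ↔ x ∈ K := by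
  rw [H1.qmk_mem_bar_iff (Od_le X) c.le, sup_eq_left.2 c.od]

theorem inf_Z : K ⊓ Zc X K ≤ Od X := by
  by_contra h
  have := c.le_sup inf_le_left (H1.le_normalizer_sup (H1.le_normalizer_inf le_normalizer
    (le_normalizer.trans c.norm_Z)) c.le_norm_Od) h
  exact H2.QS.not_le_centralizer c.comp.2 ((c.le_Z_iff c.le).1
    (this.trans (sup_le inf_le_right c.Od_le_Z)))

theorem odd_le {D Y : Subgroup G} (hD : D ≤ K) (ho : Odd 𝐨(D)) (hY : Y ≤ K) (hn : Y ≤ 𝐍(D))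
    (h : K ≤ Y ⊔ Od X) : D ≤ Od X := by
  by_contra k
  exact c.solv_sup hD (P5.Mx.isSolvable_of_odd ho) (c.le_sup hD (h.trans (sup_le
    (H1.le_normalizer_sup hn (hY.trans c.le_norm_Od)) (le_sup_right.trans le_normalizer))) k)

theorem le_Z_of {D Y : Subgroup G} (hD : D ≤ 𝐍(K)) (hY : Y ≤ K) (h1 : ⁅D, Y⁆ ≤ Od X)
    (h : K ≤ Y ⊔ Od X) : D ≤ Zc X K := by
  have h2 : K ≤ centMod D (Od X) := h.trans (sup_le (le_centMod_iff.2 ⟨hY.trans c.le_norm_Od, h1⟩)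
    (le_centMod_iff.2 ⟨le_normalizer, comm_le_right_iff.2 (hD.trans c.norm_le)⟩))
  exact le_centMod_iff.2 ⟨hD.trans c.norm_le, commutator_comm D K ▸ (le_centMod_iff.1 h2).2⟩

theorem le_Z_of_norm {D Y : Subgroup G} (hD : D ≤ 𝐍(K)) (ho : Odd 𝐨(D)) (hY : Y ≤ K)
    (hn : Y ≤ 𝐍(D)) (h : K ≤ Y ⊔ Od X) : D ≤ Zc X K :=
  c.le_Z_of hD hY ((le_inf (comm_le_left_iff.2 hn) ((commutator_mono le_rfl hY).trans
    (comm_le_right_iff.2 hD))).trans (c.odd_le inf_le_right (P6.odd_of_le inf_le_left ho) hY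
      (H1.le_normalizer_inf hn (hY.trans le_normalizer)) h)) h

theorem cover {E : Subgroup G} (hE : E ≤ X) (h2 : IsPGroup 2 E) (hZ : E ≤ Zc X K) :
    K ≤ K ⊓ 𝐂(E) ⊔ Od X := by
  have := cent_comm.1 ((c.le_Z_iff hE).1 hZ)
  rw [br_cent hE h2, H1.bar_le_bar_iff (Od_le X) c.le inf_le_left] at this
  intro k hk
  obtain ⟨a, ha, o, ho, rfl⟩ := (H1.mem_sup_iff_of_le_normalizer
    (inf_le_left.trans (P7.le_norm_Od X))).1 (this hk)
  exact mul_mem_sup ⟨by simpa using mul_mem hk (inv_mem (c.od ho)), ha.2⟩ ho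

theorem cover1 {e : G} (he : e ∈ X) (ee : e * e = 1) (hZ : e ∈ Zc X K) :
    K ≤ K ⊓ 𝐂[e] ⊔ Od X :=
  cent_zpowers e ▸ c.cover (zpowers_le.2 he) (two_zpowers ee) (zpowers_le.2 hZ)

theorem le_Z_of_ne {K' : Subgroup G} (c' : Cp X K') (h : K ≠ K') : K ≤ Zc X K' :=
  (c'.le_Z_iff c.le).2 (c.comp.le_centralizer_of_ne c'.comp fun e =>
    h ((H1.bar_inj c.od c.le c'.od c'.le).1 e))

theorem le_norm {K' : Subgroup G} (c' : Cp X K') : K ≤ 𝐍(K') := by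
  rcases eq_or_ne K K' with rfl | h
  · exact le_normalizer
  · exact (c.le_Z_of_ne c' h).trans c'.Z_le_norm

theorem eq_of_mem {K' : Subgroup G} (c' : Cp X K') {v : G} (iv : Inv v) (h : v ∈ K) (h' : v ∈ K') :
    K = K' := by
  by_contra k
  exact iv.not_mem_of_odd (P6.odd_Od X) (c'.inf_Z ⟨h', c.le_Z_of_ne c' k h⟩)

theorem norm_of_br {U : Subgroup G} (hU : U ≤ X) (h : br X U ≤ 𝐍(br X K)) : U ≤ 𝐍(K) :=
  H1.unbar_bar_of_le (Y := X) c.od c.le ▸ H1.le_normalizer_unbar hU h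

end Cp

theorem AS.cp {S X : Subgroup G} (h : AS S X) {K : Subgroup (Qt X)} (hK : CompIn ⊤ K) :
    Cp X (H1.unbar X (Od X) K) where
  od := H1.le_unbar (Od_le X) K
  sn := by
    have := (hK.1.comap (H1.qmk X (Od X))).map X.subtype
    rwa [comap_top, top_map] at this
  ns k := H2.QS.not_isSolvable hK.2 (H1.bar_unbar (Y := X) (N := Od X) K ▸ H1.isSolvable_bar k)
  simp N h1 h2 := by
    have hN := h2.1.trans (H1.unbar_le K)
    have := bar_normal (Y := X) (N := Od X) h2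
    rw [H1.bar_unbar] at this
    rcases KO.simple_of ((h.bar (N := Od X)).comp_simple (KO.Od_bar X) hK) this with e | e
    · exact Or.inl (le_antisymm ((H1.bar_eq_bot_iff hN).1 e) h1)
    · exact Or.inr (by rw [← e, H1.unbar_bar_of_le h1 hN])

namespace AS

variable {S X K : Subgroup G} (h : AS S X)
include h

theorem brS : AS (br X S) ⊤ := h.bar

theorem eq_one_Od {a : G} (ha : a ∈ S) (ho : a ∈ Od X) : a = 1 := h.eq_one (P6.odd_Od X) ha ho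

theorem S_norm (c : Cp X K) : S ≤ 𝐍(K) := c.norm_of_br h.le (h.brS.le_norm_comp c.comp)

theorem odd_norm (c : Cp X K) {D : Subgroup G} (hD : D ≤ X) (ho : Odd 𝐨(D)) (hn : S ≤ 𝐍(D)) :
    D ≤ 𝐍(K) :=
  c.norm_of_br hD (h.brS.odd_norm_comp c.comp le_top (odd_card_bar ho) (H1.bar_le_normalizer hn))

theorem dec (c : Cp X K) {s : G} (hs : s ∈ S) : ∃ v ∈ S ⊓ K, ∃ b ∈ S ⊓ Zc X K, v * b = s := by
  obtain ⟨v, hv, b, hb, e⟩ := h.brS.comp_dec (KO.Od_bar X) c.comp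
    (H1.qmk_mem_bar (y := ⟨s, h.le hs⟩) hs)
  obtain ⟨⟨v, _⟩, h1, rfl⟩ := H1.mem_bar.1 hv.1
  obtain ⟨⟨b, _⟩, h2, rfl⟩ := H1.mem_bar.1 hb.1
  refine ⟨v, ⟨h1, (c.mem_iff _).1 hv.2⟩, b, ⟨h2, (c.mem_Z_iff _).2 hb.2⟩, ?_⟩
  rw [← map_mul] at e
  exact inv_mul_eq_one.1 (h.eq_one_Od (mul_mem (inv_mem (mul_mem h1 h2)) hs)
    ((P6.pr_eq_iff _ _).1 e))

theorem disj (c : Cp X K) {v : G} (hv : v ∈ S ⊓ K) (hb : v ∈ Zc X K) : v = 1 :=
  h.eq_one_Od hv.1 (c.inf_Z ⟨hv.2, hb⟩)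

theorem asV (c : Cp X K) : AS (S ⊓ K) K := h.inf c.le (h.S_norm c)

theorem brV (c : Cp X K) : br X (S ⊓ K) = br X S ⊓ br X K := by
  refine le_antisymm (le_inf (H1.bar_mono inf_le_left) (H1.bar_mono inf_le_right)) fun z hz => ?_
  obtain ⟨⟨v, _⟩, h1, rfl⟩ := H1.mem_bar.1 hz.1
  exact H1.qmk_mem_bar ⟨h1, (c.mem_iff _).1 hz.2⟩

theorem mem_Od {D : Subgroup G} (hD : D ≤ X) (ho : Odd 𝐨(D)) (hn : S ≤ 𝐍(D)) {x : G} (hx : x ∈ D)
    (hc : ∀ K, Cp X K → x ∈ Zc X K) : x ∈ Od X :=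
  (P6.pr_eq_one (y := ⟨x, hD hx⟩)).1 (h.brS.eq_one_of_cent (KO.Od_bar X) le_top (odd_card_bar ho)
    (H1.bar_le_normalizer hn) (H1.qmk_mem_bar hx) fun K hK => by
      have := ((h.cp hK).mem_Z_iff (hD hx)).1 (hc _ (h.cp hK))
      rwa [br, H1.bar_unbar] at this)

theorem le_of_cp {H : Subgroup G} (h0 : Od X ≤ H) (h1 : ∀ K, Cp X K → K ≤ H)
    (h2 : X ⊓ 𝐍(S) ≤ H) : X ≤ H := by
  have := h.brS.le_of_gen (KO.Od_bar X) (H := br X (X ⊓ H)) (fun K hK => by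
    rw [← H1.bar_unbar (Y := X) (N := Od X) K]
    exact H1.bar_mono (le_inf (h.cp hK).le (h1 _ (h.cp hK)))) (by
      rw [top_inf_eq, br_norm h.le h.two]
      exact H1.bar_mono (le_inf inf_le_left h2))
  rw [← H1.bar_top (Y := X) (N := Od X), H1.bar_le_bar_iff (Od_le X) le_rfl inf_le_left] at this
  exact this.trans (sup_le inf_le_right h0)

theorem Iv_norm (c : Cp X K) : Iv X ≤ 𝐍(K) := Iv_le_iff.2 fun x hx xx => by
  obtain ⟨g, hg, e⟩ := h.exists_cj hx xx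
  have := h.S_norm (c.cj' (le_normalizer hg)) e
  rwa [norm_conj, conj_mem_conj_iff] at this

theorem le_cent_of_parts {σ : G} (h1 : σ ∈ Iv X) (h2 : σ ∈ 𝐍(S))
    (h3 : ∀ K, Cp X K → S ⊓ K ≤ 𝐂[σ]) : S ≤ 𝐂[σ] := by
  have hX := Iv_le X h1
  have hF : Iv X ≤ H1.unbar X (Od X) 𝐂(fittingOf ⊤) :=
    haveI := H2.normal_of_top_le_normalizer (H1.le_normalizer_centralizer
      (fittingOf_normal (⊤ : Subgroup (Qt X))).2)
    h.Iv_le_of_normal le_rfl (h.le.trans le_normalizer) (H1.le_normalizer_unbar_of_normal _)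
      fun v hv _ => (H1.bar_le_iff h.le).1 (h.brS.le_cent (h.brS.fit_le (KO.Od_bar X))) hv.1
  have := h.brS.le_of_parts (KO.Od_bar X) (H := 𝐂[pr X ⟨σ, hX⟩])
    (mem_cent_iff_cent1.1 (H1.mem_unbar.1 (hF h1)).2) fun K hK => by
      rw [← H1.bar_unbar (Y := X) (N := Od X) K, ← h.brV (h.cp hK)]
      rintro _ ⟨y, hy, rfl⟩
      exact mem_cent1.2 (by
        rw [← map_mul, ← map_mul]
        exact congrArg _ (Subtype.ext (mem_cent1.1 (h3 _ (h.cp hK) hy))))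
  intro s hs
  exact mem_cent1.2 (commutatorElement_eq_one_iff_mul_comm.1 (h.eq_one_Od (comm_mem_right h2 hs)
    ((P6.pr_comm_iff hX (h.le hs)).1 (mem_cent1.1 (this (H1.qmk_mem_bar hs))))))

theorem sig_cent (_ : Cp X K) : K ⊓ 𝐍(S) ≤ 𝐂((S ⊓ Zc X K : Subgroup G)) := fun σ hσ _ hb =>
  (commutatorElement_eq_one_iff_mul_comm.1 (h.eq_one_Od (comm_mem_right hσ.2 hb.1)
    ((mem_centMod.1 hb.2).2 σ hσ.1))).symm

theorem V_not_le (c : Cp X K) {N : Subgroup G} (hN : Odd 𝐨(N)) : ¬ S ⊓ K ≤ N := fun k =>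
  (h.asV c).syl.ne_bot Nat.prime_two ((by norm_num : 2 ∣ 4).trans (KO.four_dvd c.ns))
    (eq_bot_iff.2 fun _ hv => h.eq_one hN hv.1 (k hv))

theorem le_Iv (c : Cp X K) (sq : ∀ v ∈ S ⊓ K, v * v = 1) {Y : Subgroup G} (h1 : S ⊓ K ≤ Y)
    (h2 : Y ≤ K) (h3 : K ≤ Y ⊔ Od X) : K ≤ Iv Y ⊔ Od X :=
  c.le_sup ((Iv_le Y).trans h2) (h3.trans (sup_le (H1.le_normalizer_sup
    (le_normalizer.trans (norm_le_norm_Iv Y)) (h2.trans c.le_norm_Od))
    (le_sup_right.trans le_normalizer))) fun k =>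
    h.V_not_le c (P6.odd_Od X) fun v hv => k (mem_Iv (h1 hv) (sq v hv))

/-- Pumping a component up to another overgroup of `S`. -/
theorem pump (c : Cp X K) (sq : ∀ v ∈ S ⊓ K, v * v = 1) {X' : Subgroup G} (h' : AS S X')
    (hc : K ≤ K ⊓ X' ⊔ Od X) : ∃ K', Cp X' K' ∧ Iv (K ⊓ X') ≤ K' ∧
      ∀ u ∈ 𝐍(K), u ∈ Zc X' K' → u ∈ Zc X K := by
  have hV : S ⊓ K ≤ K ⊓ X' := le_inf inf_le_right (inf_le_left.trans h'.le)
  have h1 := h.le_Iv c sq hV inf_le_left hc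
  have hS : S ≤ 𝐍(Iv (K ⊓ X')) := (H1.le_normalizer_inf (h.S_norm c)
    (h'.le.trans le_normalizer)).trans (norm_le_norm_Iv _)
  have hX' : Iv (K ⊓ X') ≤ Iv X' := Iv_mono inf_le_right
  have hK : Iv (K ⊓ X') ≤ K := (Iv_le _).trans inf_le_left
  have gen : ∀ N : Subgroup G, Iv (K ⊓ X') ≤ 𝐍(N) → Odd (N.relIndex (Iv (K ⊓ X'))) →
      Iv (K ⊓ X') ≤ N := fun N k1 k2 =>
    Iv_le_iff.2 fun x hx xx => mem_of_odd_relIndex k1 k2 (mem_Iv hx xx) xx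
  have hO : K ⊓ X' ≤ 𝐍(Iv (K ⊓ X')) := le_normalizer.trans (norm_le_norm_Iv _)
  generalize Iv (K ⊓ X') = L at *
  obtain ⟨σ, hσ, hn⟩ : ∃ σ ∈ L ⊓ 𝐍(S), ¬ S ≤ 𝐂[σ] := by
    by_contra k
    push Not at k
    refine c.solv_sup hK (H1.isSolvable_of_le le_sup_left ((h.of_le le_sup_right
      (sup_le (hK.trans c.le) h.le)).solv_of_nc fun g hg => ?_)) h1
    obtain ⟨l, hl, s, hs, rfl⟩ := (mem_sup_of_norm hS).1 hg.1
    exact mul_mem (mem_cent_iff_cent1.2 (k l ⟨hl, by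
      simpa using (𝐍(S)).mul_mem hg.2 (inv_mem (le_normalizer hs))⟩)) (h.ab hs)
  obtain ⟨K', c', hn'⟩ : ∃ K', Cp X' K' ∧ ¬ S ⊓ K' ≤ 𝐂[σ] := by
    by_contra k
    push Not at k
    exact hn (h'.le_cent_of_parts (hX' hσ.1) hσ.2 k)
  obtain ⟨v, hv, hv'⟩ := SetLike.not_le_iff_exists.1 hn'
  have hN := hX'.trans (h'.Iv_norm c')
  have h2 : K ≤ L ⊓ K' ⊔ Od X := c.le_sup (inf_le_left.trans hK) (h1.trans (sup_le
    (H1.le_normalizer_sup (H1.le_normalizer_inf le_normalizer hN) (hK.trans c.le_norm_Od))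
    (le_sup_right.trans le_normalizer))) fun k => hv' (mem_cent1.2
      (commutatorElement_eq_one_iff_mul_comm.1 (h.eq_one_Od (comm_mem_right hσ.2 hv.1)
        (k ⟨comm_mem_left (hS hv.1) hσ.1, comm_mem_right (hN hσ.1) hv.2⟩))))
  have h3 : L ≤ K' := by
    refine (gen (L ⊓ K') (H1.le_normalizer_inf le_normalizer hN) (odd_relIndex_of_le_sup
      (O := L ⊓ Od X) (inf_le_left.trans (H1.le_normalizer_inf le_normalizer hN))
      (P6.odd_of_le inf_le_right (P6.odd_Od X)) fun l hl => ?_)).trans inf_le_right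
    obtain ⟨a, ha, o, ho, rfl⟩ := (H1.mem_sup_iff_of_le_normalizer
      ((inf_le_left.trans hK).trans c.le_norm_Od)).1 (h2 (hK hl))
    exact mul_mem_sup ha ⟨by simpa using L.mul_mem (L.inv_mem ha.1) hl, ho⟩
  refine ⟨K', c', h3, fun u hu hz => zpowers_le.1 (c.le_Z_of (zpowers_le.2 hu) hK ?_ h1)⟩
  refine (le_inf ?_ ((commutator_mono le_rfl hK).trans (comm_le_right_iff.2
    (zpowers_le.2 hu)))).trans (c.odd_le (D := Od X' ⊓ K) inf_le_right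
      (P6.odd_of_le inf_le_left (P6.odd_Od X')) inf_le_left (H1.le_normalizer_inf
        (inf_le_right.trans (le_norm_Od X')) (inf_le_left.trans le_normalizer)) hc)
  rw [commutator_comm]
  exact (commutator_mono h3 (zpowers_le.2 hz)).trans (le_centMod_iff.1 le_rfl).2

end AS

/-- Balance. -/
def Bal2 (S X K : Subgroup G) : Prop := ∀ D ≤ X, Odd 𝐨(D) → S ≤ 𝐍(D) → ∀ a ∈ S, a * a = 1 →
  X ⊓ 𝐂[a] ≤ 𝐍(D) → D ≤ Zc X K

/-- Generation. -/
def Gen2 (S X K : Subgroup G) : Prop :=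
  ∀ v ∈ S ⊓ K, v ≠ 1 → K ≤ (K ⊓ 𝐂[v] ⊔ K ⊓ 𝐍(S)) ⊔ Od X

/-- A possibly unbalanced component. -/
structure Unb (S X K : Subgroup G) : Prop where
  card : 𝐨((S ⊓ K : Subgroup G)) ≤ 4
  gen : Gen2 S X K
  ni : ∀ D ≤ K, Odd 𝐨(D) → K ⊓ 𝐍(S) ≤ 𝐍(D) → D ≤ Od X

/-- Components of type `SL₂(2^m)`. -/
def Eac2 (S X K : Subgroup G) : Prop := ∀ v ∈ S ⊓ K, v ≠ 1 → ∀ x ∈ K ⊓ 𝐂[v], x * x ∈ Od X

namespace Loc

variable {S X K : Subgroup G} (h : Loc S X) (c : Cp X K)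
include h c

theorem sylV : IsSyl 2 (br X (S ⊓ K)) (br X K) := (h.as.asV c).syl.bar Nat.prime_two c.le

theorem sq (v : G) (hv : v ∈ S ⊓ K) : v * v = 1 :=
  h.as.eq_one_Od (mul_mem hv.1 hv.1) ((P6.pr_eq_one (y := ⟨v, c.le hv.2⟩ * ⟨v, c.le hv.2⟩)).1 (by
    rw [map_mul]
    exact (as_of_sq (h.gd _ c.comp).sq (h.sylV c)).2 _ (H1.qmk_mem_bar hv)))

theorem inv {v : G} (hv : v ∈ S ⊓ K) (v1 : v ≠ 1) : Inv v := ⟨v1, h.sq c v hv⟩

theorem exists_v4 : ∃ a ∈ S ⊓ K, ∃ b ∈ S ⊓ K, V4 a b := by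
  have h4 := Nat.le_of_dvd Nat.card_pos (KO.four_dvd_syl (h.as.asV c).syl (KO.four_dvd c.ns))
  obtain ⟨a, ha, a1⟩ := (bot_or_exists_ne_one (S ⊓ K)).resolve_left fun k => by simp [k] at h4
  obtain ⟨b, hb, hn⟩ := SetLike.not_le_iff_exists.1 fun k : S ⊓ K ≤ zpowers a => by
    have := card_le_of_le k
    rw [(h.inv c ha a1).card_zpowers] at this
    omega
  exact ⟨a, ha, b, hb, a1, fun k => hn (k ▸ one_mem _), fun k => hn (k ▸ mem_zpowers a),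
    h.sq c a ha, h.sq c b hb, h.as.comm ha.1 hb.1⟩

theorem trans {v w : G} (hv : v ∈ S ⊓ K) (hw : w ∈ S ⊓ K) (v1 : v ≠ 1) (w1 : w ≠ 1) :
    ∃ σ ∈ K ⊓ 𝐍(S), σ * v * σ⁻¹ = w := by
  have iv := h.inv c hv v1
  have iw := h.inv c hw w1
  obtain ⟨g, hg, e⟩ := (h.gd _ c.comp).cj _ (H1.qmk_mem_bar (y := ⟨v, c.le hv.2⟩) hv.2) _
    (H1.qmk_mem_bar (y := ⟨w, c.le hw.2⟩) hw.2) (iv.pr _) (iw.pr _)
  obtain ⟨⟨g, _⟩, gK, rfl⟩ := H1.mem_bar.1 hg
  rw [← map_inv, ← map_mul, ← map_mul] at e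
  have e' : (g * v * g⁻¹)⁻¹ * w ∈ Od X := (P6.pr_eq_iff _ _).1 e
  rw [show ((g * v * g⁻¹)⁻¹ : G) = g * v * g⁻¹ from (iv.conj g).inv_eq] at e'
  obtain ⟨o, ho, e⟩ := P5.exists_conj_of_odd (P6.odd_Od X) (iv.conj g).sq iw.sq e'
  obtain ⟨k, hk, e2⟩ := (h.as.of_le le_sup_right (sup_le c.le h.as.le)).fusion hv.1
    (mem_sup_left (mul_mem (c.od ho) gK)) (by
      rw [show o * g * v * (o * g)⁻¹ = w by rw [← e]; group]; exact hw.1)
  obtain ⟨l, hl, s, hs, rfl⟩ := (mem_sup_of_norm (h.as.S_norm c)).1 hk.1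
  refine ⟨l, ⟨hl, by simpa using (𝐍(S)).mul_mem hk.2 (inv_mem (le_normalizer hs))⟩, ?_⟩
  rw [show w = o * g * v * (o * g)⁻¹ by rw [← e]; group, ← e2, mul_assoc l s, h.as.comm hs hv.1]
  group

theorem cent_br {v : G} (hv : v ∈ X) (vv : v * v = 1) :
    br X K ⊓ 𝐂[pr X ⟨v, hv⟩] ≤ br X (K ⊓ 𝐂[v]) := fun z hz => by
  obtain ⟨⟨y, _⟩, hy, rfl⟩ := H1.mem_bar.1 (KO.bar_cent hv vv ▸ hz.2)
  exact H1.qmk_mem_bar ⟨(c.mem_iff _).1 hz.1, hy.2⟩

theorem norm_br : br X K ⊓ 𝐍(br X (S ⊓ K)) ≤ br X (K ⊓ 𝐍(S)) := fun z hz => by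
  have : z ∈ 𝐍(br X S) := mem_norm_of_conj_le (by
    rintro _ ⟨_, ⟨⟨s, sX⟩, hs, rfl⟩, rfl⟩
    obtain ⟨v, hv, b, hb, rfl⟩ := h.as.dec c hs
    have e := ((c.mem_Z_iff (h.as.le hb.1)).1 hb.2) z hz.1
    show z * pr X (⟨v, h.as.le hv.1⟩ * ⟨b, h.as.le hb.1⟩) * z⁻¹ ∈ _
    rw [map_mul, ← conj_mul, e, mul_inv_cancel_right]
    exact mul_mem (H1.bar_mono inf_le_left (cjm hz.2 (H1.qmk_mem_bar hv))) (H1.qmk_mem_bar hb.1))
  obtain ⟨⟨y, _⟩, hy, rfl⟩ := H1.mem_bar.1 (br_norm h.as.le h.as.two ▸ this)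
  exact H1.qmk_mem_bar ⟨(c.mem_iff _).1 hz.1, hy.2⟩

theorem gen2 (g : Gen (br X K)) : Gen2 S X K := fun v hv v1 => by
  have := (g _ (h.sylV c) _ (H1.qmk_mem_bar (y := ⟨v, c.le hv.2⟩) hv)
    ((h.inv c hv v1).pr _).ne).trans (sup_le_sup (h.cent_br c _ (h.sq c v hv)) (h.norm_br c))
  rwa [← H1.bar_sup (inf_le_left.trans c.le) (inf_le_left.trans c.le), H1.bar_le_bar_iff (Od_le X)
    c.le (sup_le (inf_le_left.trans c.le) (inf_le_left.trans c.le))] at this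

theorem d1 : Eac2 S X K ∨ Gen2 S X K := (h.gd _ c.comp).d1.imp (fun e v hv v1 x hx =>
  (P6.pr_eq_one (y := ⟨x, c.le hx.1⟩ * ⟨x, c.le hx.1⟩)).1 (by
    rw [map_mul]
    exact e _ (H1.qmk_mem_bar (y := ⟨v, c.le hv.2⟩) hv.2) ((h.inv c hv v1).pr _) _
      (H1.qmk_mem_bar hx.1) (mem_cent1.2 (by
        rw [← map_mul, ← map_mul]
        exact congrArg _ (Subtype.ext (mem_cent1.1 hx.2)))))) (h.gen2 c)

theorem d2 : Bal2 S X K ∨ Unb S X K := by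
  refine (h.gd _ c.comp).d2.imp (fun e D hD ho hn a ha aa hc => ?_) fun ⟨h8, g, ni⟩ =>
    ⟨?_, h.gen2 c g, fun D hD ho hn => (H1.bar_eq_bot_iff (hD.trans c.le)).1 (ni _ (h.sylV c) _
      (H1.bar_mono hD) (odd_card_bar ho) ((h.norm_br c).trans (H1.bar_le_normalizer hn)))⟩
  · have hN := h.as.odd_norm c hD ho hn
    obtain ⟨v, hv, b, hb, rfl⟩ := h.as.dec c ha
    rcases eq_or_ne v 1 with rfl | v1
    · rw [one_mul] at *
      exact c.le_Z_of_norm hN ho inf_le_left ((inf_le_inf_right _ c.le).trans hc)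
        (c.cover1 (h.as.le ha) aa hb.2)
    refine (c.le_Z_iff hD).2 (e _ (H1.qmk_mem_bar (y := ⟨v, c.le hv.2⟩) hv.2)
      ((h.inv c hv v1).pr _) _ (odd_card_bar ho) (H1.bar_le_normalizer hN) fun z hz =>
        H1.bar_le_normalizer hc ?_)
    rw [KO.bar_cent (h.as.le ha) aa]
    have e := ((c.mem_Z_iff (h.as.le hb.1)).1 hb.2) z hz.1
    show z ∈ 𝐂[pr X (⟨v, h.as.le hv.1⟩ * ⟨b, h.as.le hb.1⟩)]
    rw [map_mul, mem_cent1, mul_assoc, ← e, ← mul_assoc, mem_cent1.1 hz.2, mul_assoc]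
  · rw [← card_bar_of_disj (Y := X) (N := Od X) (inf_le_right.trans c.le) (eq_bot_iff.2
      fun v hv => h.as.eq_one_Od hv.2.1 hv.1)]
    obtain ⟨n, hn⟩ := (h.sylV c).pgrp.exists_card_eq
    have := FT.card_dvd_of_le (h.sylV c).le
    rw [hn] at this ⊢
    exact Nat.pow_le_pow_right two_pos (show n ≤ 2 from not_lt.1 fun k =>
      h8 ((pow_dvd_pow 2 k).trans this))

end Loc

end Cfsg.Agent.P7
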