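/-
The action of the normalizer on an abelian Sylow 2-subgroup.
-/
import Cfsg.Agent.P7.R1
import Cfsg.Agent.P6.GL1

set_option autoImplicit false
set_option linter.unusedSectionVars false
set_option linter.style.haveILetI false

namespace Cfsg.Agent.P7

open Subgroup Cfsg Cfsg.Agent Cfsg.Agent.FT
open Cfsg.Agent.P5 (V4)
open Cfsg.Agent.P6 (Inv)
open scoped commutatorElement Pointwise

universe u

variable {G : Type u} [Group G] [Finite G]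

theorem exists_ne3 {V : Subgroup G} (h : 4 ≤ 𝐨(V)) (a b c : G) :
    ∃ v ∈ V, v ≠ a ∧ v ≠ b ∧ v ≠ c := by
  by_contra k
  push Not at k
  have h1 := Set.ncard_le_ncard (show (V : Set G) ⊆ {a, b, c} from fun v hv => by
    have := k v hv
    simp only [Set.mem_insert_iff, Set.mem_singleton_iff]
    tauto)
  have h2 := Set.ncard_insert_le a ({b, c} : Set G)
  have h3 := Set.ncard_insert_le b ({c} : Set G)
  rw [Set.ncard_singleton] at h3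
  rw [← Nat.card_coe_set_eq] at h1
  have : 𝐨(V) ≤ _ := h1
  omega

theorem isConj_cj (g a : G) : IsConj a (g * a * g⁻¹) := isConj_iff.2 ⟨g, rfl⟩

theorem inv_of_isConj {a b : G} (ha : Inv a) (h : IsConj a b) : Inv b := by
  obtain ⟨g, rfl⟩ := isConj_iff.1 h
  exact ha.conj g

namespace AS

variable {S X : Subgroup G}

theorem mem_A (h : AS S X) {x : G} : x ∈ Iv S ↔ x ∈ S ∧ x * x = 1 := by
  refine ⟨fun hx => ⟨Iv_le S hx, ?_⟩, fun hx => mem_Iv hx.1 hx.2⟩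
  rw [← pow_two]
  exact ((mem_omegaOne_iff_of_comm h.isMulComm).1 (Iv_le_iff.2 (fun y hy e =>
    mem_omegaOne hy (by rw [pow_two, e])) hx)).2

theorem elem (h : AS S X) {F : Subgroup G} (hF : F ≤ Iv S) : IsElementaryAbelian 2 F :=
  ⟨isMulComm_iff_le_cent.2 ((hF.trans (Iv_le S)).trans (h.le_cent (hF.trans (Iv_le S)))),
    fun a ha => by rw [pow_two]; exact (h.mem_A.1 (hF ha)).2⟩

theorem sq_mul (h : AS S X) {a b : G} (ha : a ∈ S) (hb : b ∈ S) (aa : a * a = 1) :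
    a * b * (a * b) = b * b := by
  rw [mul_assoc, ← mul_assoc b, ← h.comm ha hb, mul_assoc, ← mul_assoc, aa, one_mul]

theorem v4 (h : AS S X) {a b : G} (ha : a ∈ S) (hb : b ∈ S) (ia : Inv a) (ib : Inv b)
    (ab : a ≠ b) : V4 a b := ⟨ia.ne, ib.ne, ab, ia.sq, ib.sq, h.comm ha hb⟩

theorem exists_R (h : AS S ⊤) : ∃ R : Subgroup G, Odd 𝐨(R) ∧ R ≤ 𝐍(S) ∧
    ∀ g ∈ 𝐍(S), ∃ r ∈ R, ∀ s ∈ S, r * s * r⁻¹ = g * s * g⁻¹ := by
  obtain ⟨R, ho, hR, k⟩ := h.exists_compl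
  refine ⟨R, ho, hR.trans inf_le_right, fun g hg => ?_⟩
  obtain ⟨r, hr, t, ht, rfl⟩ := k g ⟨mem_top g, hg⟩
  exact ⟨r, hr, fun s hs => by rw [mul_assoc r t, h.comm ht hs]; group⟩

theorem cj_norm (h : AS S ⊤) {a b : G} (ha : a ∈ S) (hb : b ∈ S) (k : IsConj a b) :
    ∃ g ∈ 𝐍(S), g * a * g⁻¹ = b := by
  obtain ⟨g, rfl⟩ := isConj_iff.1 k
  obtain ⟨k, hk, e⟩ := h.fusion ha (mem_top g) hb
  exact ⟨k, hk.2, e⟩

end AS

/-- There are more than two classes of involutions. -/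
def O3 (S : Subgroup G) : Prop := ∀ x y : G, ∃ z ∈ S, Inv z ∧ ¬ IsConj x z ∧ ¬ IsConj y z

/-- No involution is fixed by the normalizer. -/
def NF (S : Subgroup G) : Prop := ∀ c ∈ S, Inv c → ¬ 𝐍(S) ≤ 𝐂[c]

theorem AS.o3 {S : Subgroup G} (h : AS S ⊤) {a b : G} (ha : a ∈ S) (hb : b ∈ S) (ia : Inv a)
    (ib : Inv b) (ab : ¬ IsConj a b) : O3 S := fun x y => by
  by_contra k
  push Not at k
  have k' : ∀ z ∈ S, Inv z → IsConj a z ∨ IsConj b z := fun z hz iz => by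
    have h1 := k a ha ia
    have h2 := k b hb ib
    have h3 := k z hz iz
    by_cases e1 : IsConj x a <;> by_cases e2 : IsConj x b <;> by_cases e3 : IsConj x z
    exacts [Or.inl (e1.symm.trans e3), (ab (e1.symm.trans e2)).elim, Or.inl (e1.symm.trans e3),
      Or.inr ((h2 e2).symm.trans (h3 e3)), Or.inr (e2.symm.trans e3),
      Or.inl ((h1 e1).symm.trans (h3 e3)), (ab ((h1 e1).symm.trans (h2 e2))).elim,
      Or.inl ((h1 e1).symm.trans (h3 e3))]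
  obtain ⟨R, ho, hR, hk⟩ := h.exists_R
  have o : ∀ c : G, Odd {d | ∃ y ∈ R, y * c * y⁻¹ = d}.ncard := fun c => by
    rw [P6.ncard_class]
    exact ho.of_dvd_nat (relIndex_dvd_card _ _)
  have m : ∀ c ∈ S, ∀ d ∈ S, IsConj c d → ∃ y ∈ R, y * c * y⁻¹ = d := fun c hc d hd e => by
    obtain ⟨g, hg, rfl⟩ := h.cj_norm hc hd e
    obtain ⟨r, hr, e⟩ := hk g hg
    exact ⟨r, hr, e c hc⟩
  have e : (Iv S : Set G) = insert 1 ({d | ∃ y ∈ R, y * a * y⁻¹ = d} ∪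
      {d | ∃ y ∈ R, y * b * y⁻¹ = d}) := by
    ext z
    refine ⟨fun hz => ?_, ?_⟩
    · obtain ⟨h1, h2⟩ := h.mem_A.1 hz
      exact (eq_or_ne z 1).imp_right fun z1 => (k' z h1 ⟨z1, h2⟩).imp (m a ha z h1) (m b hb z h1)
    · rintro (rfl | ⟨y, hy, rfl⟩ | ⟨y, hy, rfl⟩)
      exacts [one_mem _, mem_Iv (cjm (hR hy) ha) (ia.conj y).sq,
        mem_Iv (cjm (hR hy) hb) (ib.conj y).sq]
  refine ia.not_mem_of_odd (X := Iv S) ?_ (mem_Iv ha ia.sq)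
  rw [show 𝐨(Iv S) = (Iv S : Set G).ncard from Nat.card_coe_set_eq _, e,
    Set.ncard_insert_of_notMem, Set.ncard_union_eq]
  · exact ((o a).add_odd (o b)).add_one
  · rw [Set.disjoint_left]
    rintro _ ⟨y, -, rfl⟩ ⟨z, -, e⟩
    exact ab ((isConj_cj y a).trans (e ▸ isConj_cj z b).symm)
  · rintro (⟨y, -, e⟩ | ⟨y, -, e⟩)
    exacts [(ia.conj y).ne e, (ib.conj y).ne e]

/-- A decomposition `S = V × B` with `N(S) ∩ C(B)` transitive on `V^#`. -/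
structure Dc (S V B : Subgroup G) : Prop where
  as : AS S ⊤
  vle : V ≤ S
  ble : B ≤ S
  sq : ∀ v ∈ V, v * v = 1
  dec : ∀ s ∈ S, ∃ v ∈ V, ∃ b ∈ B, v * b = s
  disj : ∀ v ∈ V, v ∈ B → v = 1
  tr : ∀ v ∈ V, ∀ w ∈ V, v ≠ 1 → w ≠ 1 → ∃ σ ∈ 𝐍(S) ⊓ 𝐂(B), σ ∈ 𝐍(V) ∧ σ * v * σ⁻¹ = w
  four : 4 ≤ 𝐨(V)
  inv : ∃ b ∈ B, Inv b

namespace Dc

variable {S V B : Subgroup G} (d : Dc S V B)
include d

theorem cj {g : G} (hg : g ∈ 𝐍(S)) : Dc S (V ^ᵍ g) (B ^ᵍ g) where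
  as := d.as
  vle := (conj_mono d.vle g).trans (conj_eq_of_mem_norm hg).le
  ble := (conj_mono d.ble g).trans (conj_eq_of_mem_norm hg).le
  sq := by
    rintro _ ⟨v, hv, rfl⟩
    exact sq_cj (d.sq v hv) g
  dec s hs := by
    rw [← conj_eq_of_mem_norm hg] at hs
    obtain ⟨s, hs, rfl⟩ := hs
    obtain ⟨v, hv, b, hb, rfl⟩ := d.dec s hs
    exact ⟨_, conj_mem_conj hv g, _, conj_mem_conj hb g, conj_mul⟩
  disj := by
    rintro _ ⟨v, hv, rfl⟩ hb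
    rw [d.disj v hv (conj_mem_conj_iff.1 hb), map_one]
  tr := by
    rintro _ ⟨v, hv, rfl⟩ _ ⟨w, hw, rfl⟩ v1 w1
    obtain ⟨σ, h1, h2, rfl⟩ := d.tr v hv w hw (fun e => v1 (by rw [e, map_one]))
      fun e => w1 (by rw [e, map_one])
    refine ⟨g * σ * g⁻¹, ⟨cjm (le_normalizer hg) h1.1, ?_⟩, ?_, ?_⟩
    · rw [cent_conj]; exact conj_mem_conj h1.2 g
    · rw [norm_conj]; exact conj_mem_conj h2 g
    · simp only [MonoidHom.coe_coe, MulAut.conj_apply, MulEquiv.toMonoidHom_eq_coe]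
      group
  four := by rw [card_conj]; exact d.four
  inv := by
    obtain ⟨b, hb, ib⟩ := d.inv
    exact ⟨_, conj_mem_conj hb g, ib.conj g⟩

theorem mv {v w b : G} (hv : v ∈ V) (hw : w ∈ V) (v1 : v ≠ 1) (w1 : w ≠ 1) (hb : b ∈ B) :
    ∃ σ ∈ 𝐍(S), σ * (v * b) * σ⁻¹ = w * b := by
  obtain ⟨σ, h1, -, rfl⟩ := d.tr v hv w hw v1 w1
  exact ⟨σ, h1.1, by rw [← conj_mul, ← h1.2 b hb, mul_inv_cancel_right]⟩

theorem row {z w : G} (hz : z ∈ S) (hw : w ∈ V) (h : z ∈ B ↔ w * z ∈ B) : IsConj z (w * z) := by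
  obtain ⟨v, hv, b, hb, rfl⟩ := d.dec z hz
  rw [← mul_assoc, mul_mem_cancel_right hb, mul_mem_cancel_right hb] at h
  by_cases k : v ∈ B
  · have e := d.disj _ (mul_mem hw hv) (h.1 k)
    rw [← mul_assoc, e, d.disj v hv k]
  · obtain ⟨σ, -, e⟩ := d.mv hv (mul_mem hw hv) (fun e => k (e ▸ one_mem B))
      (fun e => k (h.2 (e ▸ one_mem B))) hb
    exact isConj_iff.2 ⟨σ, by rw [e, mul_assoc]⟩

theorem le_of_orbit {U : Subgroup G} {z : G} (hz : z ∈ S) (zB : z ∉ B)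
    (h : ∀ σ ∈ 𝐍(S), σ * z * σ⁻¹ ∈ U) : V ≤ U := fun w hw => by
  obtain ⟨v, hv, b, hb, rfl⟩ := d.dec z hz
  have k : ∀ u ∈ V, u ≠ 1 → u * b ∈ U := fun u hu u1 => by
    obtain ⟨σ, h1, e⟩ := d.mv hv hu (fun e => zB (by rwa [e, one_mul])) u1 hb
    exact e ▸ h σ h1
  obtain ⟨u, hu, u1, uw, -⟩ := exists_ne3 d.four 1 w⁻¹ 1
  simpa using U.mul_mem (k _ (mul_mem hw hu) fun e => uw (eq_inv_of_mul_eq_one_right e))
    (U.inv_mem (k u hu u1))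

theorem dich {U : Subgroup G} (hU : U ≤ S) (hn : 𝐍(S) ≤ 𝐍(U)) : U ≤ B ∨ V ≤ U :=
  or_iff_not_imp_left.2 fun k => by
    obtain ⟨z, hz, zB⟩ := SetLike.not_le_iff_exists.1 k
    exact d.le_of_orbit (hU hz) zB fun σ hσ => cjm (hn hσ) hz

theorem not_le : ¬ V ≤ B := fun k => by
  obtain ⟨v, hv, v1, -⟩ := exists_ne3 d.four 1 1 1
  exact v1 (d.disj v hv (k hv))

theorem fix {H : Subgroup G} (hH : ∀ σ ∈ 𝐍(S) ⊓ 𝐂(B), σ ∈ 𝐍(V) →
    ∃ r ∈ H, ∀ s ∈ S, r * s * r⁻¹ = σ * s * σ⁻¹) : S ⊓ 𝐂(H) ≤ B := fun z hz => by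
  obtain ⟨v, hv, b, hb, rfl⟩ := d.dec z hz.1
  by_contra k
  have v1 : v ≠ 1 := fun e => k (by rwa [e, one_mul])
  obtain ⟨w, hw, w1, wv, -⟩ := exists_ne3 d.four 1 v 1
  obtain ⟨σ, h1, h2, rfl⟩ := d.tr v hv w hw v1 w1
  obtain ⟨r, hr, e⟩ := hH σ h1 h2
  have e1 := e _ hz.1
  rw [hz.2 r hr, mul_inv_cancel_right, ← conj_mul, ← h1.2 b hb, mul_inv_cancel_right] at e1
  exact wv (mul_right_cancel e1).symm

theorem inf_eq : V ⊓ B = ⊥ := eq_bot_iff.2 fun v hv => d.disj v hv.1 hv.2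

theorem card : 𝐨(S) = 𝐨(V) * 𝐨(B) := by
  rw [← H1.card_sup_of_inf_eq_bot (d.vle.trans (d.as.le_norm d.ble)) d.inf_eq]
  refine congrArg (fun U : Subgroup G => 𝐨(U)) (le_antisymm (fun s hs => ?_) (sup_le d.vle d.ble))
  obtain ⟨v, hv, b, hb, rfl⟩ := d.dec s hs
  exact mul_mem_sup hv hb

theorem vA : V ≤ Iv S := fun v hv => mem_Iv (d.vle hv) (d.sq v hv)

theorem cardA : 𝐨(Iv S) = 𝐨(V) * 𝐨((Iv S ⊓ B : Subgroup G)) := by
  rw [← H1.card_sup_of_inf_eq_bot (d.vle.trans (d.as.le_norm (inf_le_right.trans d.ble)))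
    (eq_bot_iff.2 fun v hv => d.disj v hv.1 hv.2.2)]
  refine congrArg (fun U : Subgroup G => 𝐨(U)) (le_antisymm (fun s hs => ?_)
    (sup_le d.vA inf_le_left))
  obtain ⟨v, hv, b, hb, rfl⟩ := d.dec s (Iv_le S hs)
  exact mul_mem_sup hv ⟨(mul_mem_cancel_left (d.vA hv)).1 hs, hb⟩

theorem meet {F : Subgroup G} (hF : F ≤ S) (h : 𝐨(V) < 𝐨(F)) : ∃ x ∈ F ⊓ B, x ≠ 1 :=
  (bot_or_exists_ne_one _).resolve_left fun k => by
    have := card_le_of_le (sup_le hF d.ble)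
    rw [H1.card_sup_of_inf_eq_bot (hF.trans (d.as.le_norm d.ble)) k, d.card] at this
    exact h.not_ge (Nat.le_of_mul_le_mul_right this Nat.card_pos)

theorem act {σ r : G} (h1 : σ ∈ 𝐍(S) ⊓ 𝐂(B)) (h2 : σ ∈ 𝐍(V))
    (e : ∀ s ∈ S, r * s * r⁻¹ = σ * s * σ⁻¹) {s : G} (hs : s ∈ S) : ⁅s, r⁆ ∈ V := by
  obtain ⟨v, hv, b, hb, rfl⟩ := d.dec s hs
  rw [show ⁅v * b, r⁆ = v * b * (r * (v * b) * r⁻¹)⁻¹ by rw [commutatorElement_def]; group, e _ hs,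
    ← conj_mul, ← h1.2 b hb]
  simpa [mul_assoc] using V.mul_mem hv (V.inv_mem (cjm h2 hv))

theorem nt (h16 : 16 ≤ 𝐨(Iv S)) : O3 S := by
  obtain ⟨b, hb, ib⟩ := d.inv
  by_contra k
  have tr : ∀ a ∈ S, Inv a → IsConj b a := fun a ha ia => by
    by_contra e
    exact k (d.as.o3 (d.ble hb) ha ib ia e)
  obtain ⟨R, ho, hR, hk⟩ := d.as.exists_R
  have hA : b ∈ Iv S := mem_Iv (d.ble hb) ib.sq
  have g : P6.GL1 (Iv S) R := ⟨d.as.elem le_rfl, fun e => ib.ne (mem_bot.1 (e ▸ hA)),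
    hR.trans (norm_le_norm_Iv S), ho, fun x hx x1 y hy y1 => by
      rw [d.as.mem_A] at hx hy
      obtain ⟨g, hg, rfl⟩ := d.as.cj_norm hx.1 hy.1 ((tr x hx.1 ⟨x1, hx.2⟩).symm.trans
        (tr y hy.1 ⟨y1, hy.2⟩))
      obtain ⟨r, hr, e⟩ := hk g hg
      exact ⟨r, hr, e x hx.1⟩⟩
  have hH : ∀ σ ∈ 𝐍(S) ⊓ 𝐂(B), ∃ r ∈ R ⊓ 𝐂(B), ∀ s ∈ S, r * s * r⁻¹ = σ * s * σ⁻¹ :=
    fun σ hσ => by
    obtain ⟨r, hr, e⟩ := hk σ hσ.1
    refine ⟨r, ⟨hr, fun x hx => ?_⟩, e⟩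
    have := e x (d.ble hx)
    rw [← hσ.2 x hx, mul_inv_cancel_right] at this
    exact (mul_inv_eq_iff_eq_mul.1 this).symm
  have e := g.card_eq_pow (R := R ⊓ 𝐂(B)) inf_le_left hA ib.ne
    (inf_le_right.trans (cent_le_cent1 hb))
  rw [show Iv S ⊓ 𝐂((R ⊓ 𝐂(B) : Subgroup G)) = Iv S ⊓ B from le_antisymm (le_inf inf_le_left
    ((inf_le_inf_right _ (Iv_le S)).trans (d.fix fun σ h _ => hH σ h))) (inf_le_inf_left _
      (cent_comm.1 inf_le_right))] at e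
  obtain ⟨v, hv, v1, -⟩ := exists_ne3 d.four 1 1 1
  have h1 := Set.ncard_le_ncard (show (V : Set G) ⊆ insert 1
      {c | ∃ y ∈ R ⊓ 𝐂(B), y * v * y⁻¹ = c} from fun w hw => (eq_or_ne w 1).imp_right fun w1 => by
    obtain ⟨σ, h1, -, rfl⟩ := d.tr v hv w hw v1 w1
    obtain ⟨r, hr, e⟩ := hH σ h1
    exact ⟨r, hr, e v (d.vle hv)⟩)
  have h2 := h1.trans (Set.ncard_insert_le _ _)
  rw [P6.ncard_class, ← Nat.card_coe_set_eq] at h2
  have h3 : 𝐨(V) ≤ 𝐂(Iv S).relIndex (R ⊓ 𝐂(B)) + 1 := h2.trans (Nat.succ_le_succ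
    (relIndex_le_of_le_left (cent_le_cent1 (d.vA hv)) (FiniteIndex.index_ne_zero)))
  have h4 : 2 ≤ 𝐨((Iv S ⊓ B : Subgroup G)) :=
    ib.card_zpowers ▸ card_le_of_le (zpowers_le.2 ⟨hA, hb⟩)
  have h5 := d.four
  rw [d.cardA] at e h16
  generalize 𝐨(V) = m at *
  generalize 𝐨((Iv S ⊓ B : Subgroup G)) = l at *
  generalize 𝐂(Iv S).relIndex (R ⊓ 𝐂(B)) = n at *
  obtain ⟨n, rfl⟩ : ∃ j, n = j + 3 := ⟨n - 3, by omega⟩
  rw [pow_succ] at e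
  have e := Nat.eq_of_mul_eq_mul_right (by omega) e
  have h6 : 2 ^ (n + 2) ≤ m := e ▸ Nat.pow_le_pow_left h4 _
  have h7 : n < 2 ^ n := n.lt_two_pow_self
  rw [pow_add] at h6
  obtain rfl : n = 0 := by omega
  obtain rfl : m = 4 := by omega
  have := Nat.pow_le_pow_left (show 4 ≤ l by omega) (0 + 2)
  omega

end Dc

/-- Two decompositions that interchange the factors. -/
structure Sw (S V W : Subgroup G) : Prop where
  l : Dc S V W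
  r : Dc S W V

theorem Sw.symm {S V W : Subgroup G} (s : Sw S V W) : Sw S W V := ⟨s.r, s.l⟩

theorem Dc.le_of_disj {S V B V' B' : Subgroup G} (d : Dc S V B) (d' : Dc S V' B') (o : O3 S)
    (h : ∀ x ∈ B ⊓ B', ¬ Inv x) : V' ≤ B := by
  have hA : Iv S ≤ V ⊔ V' := by
    obtain ⟨R, ho, hR, hk⟩ := d.as.exists_R
    have hU : V ⊔ V' ≤ Iv S := sup_le d.vA d'.vA
    have key : ∀ r : G, (∀ s ∈ S, ⁅s, r⁆ ∈ V ⊔ V') → r ∈ centMod (Iv S) (V ⊔ V') := fun r k =>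
      mem_centMod.2 ⟨mem_norm_of_conj_le (by
        rintro _ ⟨u, hu, rfl⟩
        have := (V ⊔ V').mul_mem ((V ⊔ V').inv_mem (k u (Iv_le S (hU hu)))) hu
        simpa [commutatorElement_def, mul_assoc] using this), fun s hs => k s (Iv_le S hs)⟩
    rw [← H1.commutator_sup_centralizer (A := R ⊓ centMod (Iv S) (V ⊔ V')) (G := Iv S)
      (inf_le_left.trans (hR.trans (norm_le_norm_Iv S))) (cop_two_odd (d.as.two.to_le (Iv_le S))
        (P6.odd_of_le inf_le_left ho)).symm (Or.inr (H1.isSolvable_of_le (Iv_le S) d.as.solv))]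
    refine sup_le (le_centMod_iff.1 inf_le_right).2 fun x hx => ?_
    by_contra k
    refine h x ⟨d.fix (fun σ h1 h2 => ?_) ⟨Iv_le S hx.1, hx.2⟩, d'.fix (fun σ h1 h2 => ?_)
      ⟨Iv_le S hx.1, hx.2⟩⟩ ⟨fun e => k (e ▸ one_mem _), (d.as.mem_A.1 hx.1).2⟩
    · obtain ⟨r, hr, e⟩ := hk σ h1.1
      exact ⟨r, ⟨hr, key r fun s hs => mem_sup_left (d.act h1 h2 e hs)⟩, e⟩
    · obtain ⟨r, hr, e⟩ := hk σ h1.1
      exact ⟨r, ⟨hr, key r fun s hs => mem_sup_right (d'.act h1 h2 e hs)⟩, e⟩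
  by_contra k
  have k1 : ∀ z ∈ S, Inv z → ∃ x ∈ V', ∃ u, ∀ v ∈ V, v ≠ u → IsConj z (v * x) := fun z hz iz => by
    obtain ⟨y, hy, yB, e⟩ : ∃ y ∈ S, y ∉ B ∧ IsConj z y := by
      by_contra k2
      push Not at k2
      have k3 : ∀ σ ∈ 𝐍(S), σ * z * σ⁻¹ ∈ B := fun σ hσ => by
        by_contra k3
        exact k2 _ (cjm hσ hz) k3 (isConj_cj σ z)
      exact k (d'.le_of_orbit hz (fun e => h z ⟨by simpa using k3 1 (one_mem _), e⟩ iz) k3)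
    obtain ⟨w, hw, x, hx, rfl⟩ := (mem_sup_of_norm (d'.vle.trans (d.as.le_norm d.vle))).1
      (hA (mem_Iv hy (inv_of_isConj iz e).sq))
    obtain ⟨u, hu, b, hb, rfl⟩ := d.dec x (d'.vle hx)
    refine ⟨_, hx, u⁻¹, fun v hv vu => e.trans ?_⟩
    rw [show v * (u * b) = v * w⁻¹ * (w * (u * b)) by group]
    refine d.row hy (mul_mem hv (inv_mem hw)) (iff_of_false yB fun e => vu ?_)
    rw [show v * w⁻¹ * (w * (u * b)) = v * u * b by group, mul_mem_cancel_right hb] at e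
    exact eq_inv_of_mul_eq_one_left (d.disj _ (mul_mem hv hu) e)
  obtain ⟨z₁, h1, i1, -⟩ := o 1 1
  obtain ⟨z₂, h2, i2, n12, -⟩ := o z₁ z₁
  obtain ⟨z₃, h3, i3, n13, n23⟩ := o z₁ z₂
  obtain ⟨x₁, a1, u₁, b1⟩ := k1 z₁ h1 i1
  obtain ⟨x₂, a2, u₂, b2⟩ := k1 z₂ h2 i2
  obtain ⟨x₃, a3, u₃, b3⟩ := k1 z₃ h3 i3
  obtain ⟨v, hv, c1, c2, c3⟩ := exists_ne3 d.four u₁ u₂ u₃
  have col : ∀ x ∈ V', ∀ y ∈ V', (v * x ∈ B' ↔ v * y ∈ B') → IsConj (v * x) (v * y) :=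
    fun x hx y hy e => by
    have e' : v * y = y * x⁻¹ * (v * x) := by
      rw [d.as.comm (d.vle hv) (d'.vle hx), d.as.comm (d.vle hv) (d'.vle hy)]; group
    rw [e'] at e ⊢
    exact d'.row (mul_mem (d.vle hv) (d'.vle hx)) (mul_mem hy (inv_mem hx)) e
  have m1 := b1 v hv c1
  have m2 := b2 v hv c2
  have m3 := b3 v hv c3
  have n1 := mt (fun e => m1.trans ((col _ a1 _ a2 e).trans m2.symm)) n12
  have n2 := mt (fun e => m1.trans ((col _ a1 _ a3 e).trans m3.symm)) n13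
  have n3 := mt (fun e => m2.trans ((col _ a2 _ a3 e).trans m3.symm)) n23
  tauto

theorem Dc.ll {S V B V' B' : Subgroup G} (d : Dc S V B) (d' : Dc S V' B') (o : O3 S) :
    (∃ x ∈ B ⊓ B', Inv x) ∨ (B = V' ∧ B' = V) := or_iff_not_imp_left.2 fun h => by
  have key : ∀ {V B V' B' : Subgroup G}, Dc S V B → Dc S V' B' → (¬ ∃ x ∈ B ⊓ B', Inv x) →
      B = V' := fun {V B V' B'} d d' h => by
    have h1 := d.le_of_disj d' o fun x hx ix => h ⟨x, hx, ix⟩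
    refine le_antisymm (fun b hb => ?_) h1
    obtain ⟨v, hv, c, hc, rfl⟩ := d'.dec b (d.ble hb)
    have : B ⊓ B' = ⊥ := by
      by_contra k
      exact h (exists_inv_of_two (d.as.two.to_le (inf_le_left.trans d.ble)) k)
    rwa [show c = 1 from mem_bot.1 (this ▸ (⟨(mul_mem_cancel_left (h1 hv)).1 hb, hc⟩ :
      c ∈ B ⊓ B')), mul_one]
  exact ⟨key d d' h, key d' d (inf_comm B B' ▸ h)⟩

namespace Sw

variable {S V W : Subgroup G} (s : Sw S V W)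
include s

theorem sq {x : G} (hx : x ∈ S) : x * x = 1 := by
  obtain ⟨v, hv, w, hw, rfl⟩ := s.l.dec x hx
  rw [s.l.as.sq_mul (s.l.vle hv) (s.l.ble hw) (s.l.sq v hv), s.r.sq w hw]

theorem cjV {v v' : G} (hv : v ∈ V) (hv' : v' ∈ V) (v1 : v ≠ 1) (v1' : v' ≠ 1) : IsConj v v' := by
  obtain ⟨σ, -, -, rfl⟩ := s.l.tr v hv v' hv' v1 v1'
  exact isConj_cj σ v

theorem cjM {x y : G} (hx : x ∈ S) (hy : y ∈ S) (xV : x ∉ V) (xW : x ∉ W) (yV : y ∉ V)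
    (yW : y ∉ W) : IsConj x y := by
  obtain ⟨v, hv, w, hw, rfl⟩ := s.l.dec x hx
  obtain ⟨v', hv', w', hw', rfl⟩ := s.l.dec y hy
  rw [mul_mem_cancel_left hv] at xV
  rw [mul_mem_cancel_left hv'] at yV
  rw [mul_mem_cancel_right hw] at xW
  rw [mul_mem_cancel_right hw'] at yW
  obtain ⟨σ, -, e⟩ := s.l.mv hv hv' (fun e => xW (e ▸ one_mem W)) (fun e => yW (e ▸ one_mem W)) hw
  obtain ⟨τ, -, e'⟩ := s.r.mv hw hw' (fun e => xV (e ▸ one_mem V)) (fun e => yV (e ▸ one_mem V)) hv'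
  rw [← s.l.as.comm (s.l.vle hv') (s.l.ble hw), ← s.l.as.comm (s.l.vle hv') (s.l.ble hw')] at e'
  exact (isConj_iff.2 ⟨σ, e⟩).trans (isConj_iff.2 ⟨τ, e'⟩)

theorem mem (o : O3 S) {v x : G} (hv : v ∈ V) (hx : x ∈ S) (e : IsConj v x) : x ∈ V := by
  by_contra xV
  have x1 : x ≠ 1 := fun k => xV (k ▸ one_mem V)
  have v1 : v ≠ 1 := fun k => x1 (isConj_one_right.1 (k ▸ e))
  obtain ⟨w, hw, w1, -⟩ := exists_ne3 s.r.four 1 1 1
  by_cases xW : x ∈ W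
  · obtain ⟨z, hz, iz, n1, n2⟩ := o v (v * w)
    by_cases zV : z ∈ V
    · exact n1 (s.cjV hv zV v1 iz.ne)
    by_cases zW : z ∈ W
    · exact n1 (e.trans (s.symm.cjV xW zW x1 iz.ne))
    exact n2 (s.cjM (mul_mem (s.l.vle hv) (s.l.ble hw)) hz (fun k => w1 (s.r.disj w hw
      ((mul_mem_cancel_left hv).1 k))) (fun k => v1 (s.l.disj v hv
        ((mul_mem_cancel_right hw).1 k))) zV zW)
  · obtain ⟨z, hz, iz, n1, n2⟩ := o v w
    by_cases zV : z ∈ V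
    · exact n1 (s.cjV hv zV v1 iz.ne)
    by_cases zW : z ∈ W
    · exact n2 (s.symm.cjV hw zW w1 iz.ne)
    exact n1 (e.trans (s.cjM hx hz xV xW zV zW))

theorem norm (o : O3 S) : 𝐍(S) ≤ 𝐍(V) := fun g hg => mem_norm_of_conj_le (by
  rintro _ ⟨v, hv, rfl⟩
  exact s.mem o hv (cjm hg (s.l.vle hv)) (isConj_cj g v))

theorem sw (o : O3 S) {V₁ B₁ : Subgroup G} (d : Dc S V₁ B₁) :
    (V₁ ≤ V ∧ W ≤ B₁) ∨ (V₁ ≤ W ∧ V ≤ B₁) := by
  rcases d.dich s.l.vle (s.norm o) with h1 | h1 <;>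
    rcases d.dich s.l.ble (s.symm.norm o) with h2 | h2
  · refine (d.not_le fun x hx => ?_).elim
    obtain ⟨v, hv, w, hw, rfl⟩ := s.l.dec x (d.vle hx)
    exact mul_mem (h1 hv) (h2 hw)
  · exact Or.inr ⟨h2, h1⟩
  · exact Or.inl ⟨h1, h2⟩
  · exact (d.not_le fun x hx => s.l.disj x (h1 hx) (h2 hx) ▸ one_mem _).elim

end Sw

namespace Dc

variable {S V B : Subgroup G} (d : Dc S V B)
include d

theorem meet_cj (o : O3 S) {g : G} (hg : g ∈ 𝐍(S)) : ∃ x ∈ B ⊓ B ^ᵍ g, Inv x :=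
  (d.ll (d.cj hg) o).resolve_right fun ⟨e1, e2⟩ => by
    have s : Sw S V B := ⟨d, by
      have := d.cj hg
      rwa [← e1, e2] at this⟩
    exact d.not_le (by rw [e1, conj_eq_of_mem_norm (s.norm o hg)])

theorem exists_v4 (o : O3 S) (nf : NF S) {b : G} (hb : b ∈ B) (ib : Inv b) : ∃ e ∈ B, V4 b e := by
  by_contra k
  have k' : ∀ e ∈ B, Inv e → e = b := fun e he ie => by
    by_contra k'
    exact k ⟨e, he, d.as.v4 (d.ble hb) (d.ble he) ib ie (Ne.symm k')⟩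
  refine nf b (d.ble hb) ib fun g hg => mem_cent1_iff_conj.2 ?_
  obtain ⟨x, hx, ix⟩ := d.meet_cj o hg
  have e := k' _ (mem_conj.1 hx.2) (ix.conj' g)
  rw [k' x hx.1 ix] at e
  conv_lhs => rw [← e]
  group

theorem sq_of_lt (nf : NF S) (h : 𝐨(Iv S) < 16) {s : G} (hs : s ∈ S) : s * s = 1 := by
  have k : ∀ x ∈ B, ∀ y ∈ B, Inv x → Inv y → x = y := fun x hx y hy ix iy => by
    by_contra e
    have v := d.as.v4 (d.ble hx) (d.ble hy) ix iy e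
    have := card_le_of_le (P5.V4.le_iff.2 ⟨⟨mem_Iv (d.ble hx) ix.sq, hx⟩,
      mem_Iv (d.ble hy) iy.sq, hy⟩ : V2 x y ≤ Iv S ⊓ B)
    rw [d.cardA] at h
    rw [v.card] at this
    nlinarith [d.four]
  have m : ∀ t ∈ S, t * t ∈ B := fun t ht => by
    obtain ⟨v, hv, b, hb, rfl⟩ := d.dec t ht
    rw [d.as.sq_mul (d.vle hv) (d.ble hb) (d.sq v hv)]
    exact mul_mem hb hb
  by_contra e
  obtain ⟨_, ⟨n, rfl⟩, it⟩ := exists_inv_of_two (d.as.two.to_le (zpowers_le.2 (mul_mem hs hs)))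
    (zpowers_ne_bot.2 e)
  refine nf _ (zpow_mem (mul_mem hs hs) n) it fun g hg => mem_cent1_iff_conj.2
    (k _ ?_ _ (zpow_mem (m s hs) n) (it.conj g) it)
  rw [← conj_zpow, ← conj_mul]
  exact zpow_mem (m _ (cjm hg hs)) n

end Dc

end Cfsg.Agent.P7
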