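/-
The signalizer functor of a minimal counterexample.
-/
import Cfsg.Agent.P7.RL
import Cfsg.Agent.P7.RG
import Cfsg.Agent.P6.Sol
import Cfsg.Agent.H2.Sig3E

set_option autoImplicit false
set_option linter.unusedSectionVars false
set_option linter.style.haveILetI false

namespace Cfsg.Agent.P7

open Subgroup Cfsg Cfsg.Agent Cfsg.Agent.FT
open Cfsg.Agent.H2 (sigGen le_sigGen sigGen_le)
open Cfsg.Agent.P5 (V4)
open Cfsg.Agent.P6 (Inv Od)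
open scoped commutatorElement Pointwise

universe u

variable {G : Type u} [Group G] [Finite G]

/-- The odd core of the centralizer. -/
abbrev Oc (a : G) : Subgroup G := Od 𝐂[a]

/-- The centralizer of a component modulo the core. -/
abbrev Zb (a : G) (K : Subgroup G) : Subgroup G := Zc 𝐂[a] K

theorem Oc_conj (a g : G) : Oc (g * a * g⁻¹) = Oc a ^ᵍ g := by rw [Oc, cent1_conj, P6.Od_conj]

theorem odd_Oc (a : G) : Odd 𝐨(Oc a) := P6.odd_Od _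

theorem norm_Oc (a : G) : 𝐂[a] ≤ 𝐍(Oc a) := le_norm_Od _

theorem norm_sigGen {F : Subgroup G} {θ : G → Subgroup G} {g : G} (hg : g ∈ 𝐍(F))
    (h : ∀ a, θ a ^ᵍ g ≤ θ (g * a * g⁻¹)) : g ∈ 𝐍(sigGen F θ) :=
  mem_norm_of_conj_le (conj_le_iff.2 (sigGen_le fun a ha a1 => conj_le_iff.1
    ((h a).trans (le_sigGen θ (cjm hg ha) fun e => a1 (conj_eq_one_iff.1 e)))))

/-- A component in the centralizer of an involution of `S`. -/
structure Bk (S : Subgroup G) (a : G) (K : Subgroup G) : Prop where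
  mem : a ∈ S
  inv : Inv a
  cp : Cp 𝐂[a] K

theorem Bk.memZ {S K : Subgroup G} {a : G} (b : Bk S a K) : a ∈ S ⊓ Zb a K :=
  ⟨b.mem, mem_centMod.2 ⟨norm_Oc a (mem_cent1.2 rfl), fun k hk => by
    rw [commutatorElement_eq_one_iff_mul_comm.2 (mem_cent1.1 (b.cp.le hk)).symm]; exact one_mem _⟩⟩

theorem Bk.cj {S K : Subgroup G} {a g : G} (b : Bk S a K) (hg : g ∈ 𝐍(S)) :
    Bk S (g * a * g⁻¹) (K ^ᵍ g) := ⟨cjm hg b.mem, b.inv.conj g, cent1_conj a g ▸ b.cp.cj g⟩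

/-- A simple group whose involution centralizers have good components. -/
structure St (S : Subgroup G) : Prop where
  simple : IsSimpleGroup G
  na : ¬ IsMulCommutative G
  as : AS S ⊤
  loc : ∀ a ∈ S, Inv a → Loc S 𝐂[a]

theorem norm_ne_top (hs : IsSimpleGroup G) {X : Subgroup G} (h1 : X ≠ ⊥) (h2 : X ≠ ⊤) :
    𝐍(X) ≠ ⊤ := fun e =>
  (hs.eq_bot_or_eq_top_of_normal X (normal_iff_top_le.2 e.ge)).elim h1 h2

theorem cent1_ne_top (hs : IsSimpleGroup G) (na : ¬ IsMulCommutative G) {a : G} (h : a ≠ 1) :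
    𝐂[a] ≠ ⊤ := fun e => norm_ne_top hs (zpowers_ne_bot.2 h) (fun k => ns_top hs na
      (k ▸ P6.Inv.solv a)) (top_le_iff.1 (e ▸ P5.Mx.cent1_le_norm_zpowers a))

/-- The functor. -/
def th (F : Subgroup G) (a : G) : Subgroup G :=
  Oc a ⊓ ⨅ b ∈ F, ⨅ _ : b ≠ 1, (⁅Oc a, zpowers b⁆ ⊔ (Oc a ⊓ Oc b))

theorem le_th {F Y : Subgroup G} {a : G} : Y ≤ th F a ↔ Y ≤ Oc a ∧
    ∀ b ∈ F, b ≠ 1 → Y ≤ ⁅Oc a, zpowers b⁆ ⊔ (Oc a ⊓ Oc b) := by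
  simp only [th, le_inf_iff, le_iInf_iff]

theorem th_le (F : Subgroup G) (a : G) : th F a ≤ Oc a := inf_le_left

theorem th_anti {F F' : Subgroup G} (h : F ≤ F') (a : G) : th F' a ≤ th F a :=
  le_th.2 ⟨th_le _ _, fun b hb => (le_th.1 le_rfl).2 b (h hb)⟩

theorem th_conj {F : Subgroup G} {g : G} (hg : g ∈ 𝐍(F)) (a : G) :
    th F a ^ᵍ g ≤ th F (g * a * g⁻¹) := le_th.2 ⟨Oc_conj a g ▸ conj_mono (th_le _ _) g,
  fun b hb b1 => by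
    rw [← conj_eq_of_mem_norm hg] at hb
    obtain ⟨b, hb, rfl⟩ := hb
    have := conj_mono ((le_th.1 (le_refl (th F a))).2 b hb fun e => b1 (by rw [e, map_one])) g
    rwa [conj_sup, conj_inf, conj_comm, ← zpowers_conj, ← Oc_conj, ← Oc_conj] at this⟩

theorem norm_th {F : Subgroup G} {a : G} : 𝐍(F) ⊓ 𝐂[a] ≤ 𝐍(th F a) := fun g hg =>
  mem_norm_of_conj_le (by simpa only [mem_cent1_iff_conj.1 hg.2] using th_conj hg.1 a)

/-- The closure of the functor. -/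
abbrev Wt (S : Subgroup G) : Subgroup G := sigGen (Iv S) (th (Iv S))

theorem norm_Wt (S : Subgroup G) : 𝐍(S) ≤ 𝐍(Wt S) := fun _ hg =>
  norm_sigGen (norm_le_norm_Iv S hg) (th_conj (norm_le_norm_Iv S hg))

namespace St

variable {S : Subgroup G} (h : St S)
include h

theorem asC {a : G} (ha : a ∈ S) : AS S 𝐂[a] := h.as.of_le (h.as.le_cent1 ha) le_top

theorem nC {a : G} (ha : a ∈ S) : S ≤ 𝐍(𝐂[a]) := (h.as.le_cent1 ha).trans le_normalizer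

theorem nO {a : G} (ha : a ∈ S) : S ≤ 𝐍(Oc a) := (h.as.le_cent1 ha).trans (norm_Oc a)

theorem odd_ne_top {W : Subgroup G} (ho : Odd 𝐨(W)) : W ≠ ⊤ := fun e =>
  ns_top h.simple h.na (e ▸ P5.Mx.isSolvable_of_odd ho)

theorem nf : NF S := fun c hc ic k => by
  have e : Od (⊤ : Subgroup G) = ⊥ := by
    by_contra e
    exact norm_ne_top h.simple e (h.odd_ne_top (P6.odd_Od _)) (top_le_iff.1 (le_norm_Od _))
  refine cent1_ne_top h.simple h.na ic.ne (eq_top_iff.2 fun g hg => ?_)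
  have := h.as.zs hc ic.sq (inf_le_right.trans k) g hg
  rw [e, mem_bot, commutatorElement_eq_one_iff_mul_comm] at this
  exact mem_cent1.2 this

theorem se (o : O3 S) {H : Subgroup G} (h1 : 𝐍(S) ≤ H) (h2 : ∀ a ∈ S, Inv a → Oc a ≤ H)
    (h3 : ∀ a K, Bk S a K → K ≤ H) : H = ⊤ := by
  by_contra k
  have SH := le_normalizer.trans h1
  have se := P6.se_quot h.as.syl SH fun s hs is g hg => by
    obtain ⟨l, hl, e⟩ := h.as.fusion hs (mem_top g) hg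
    refine (H.mul_mem_cancel_left (H.inv_mem (h1 hl.2))).1 ((h.asC hs).le_of_cp (h2 s hs is)
      (fun K c => h3 s K ⟨hs, is, c⟩) (inf_le_right.trans h1) (mem_cent1_iff_conj.2 ?_))
    rw [show l⁻¹ * g * s * (l⁻¹ * g)⁻¹ = l⁻¹ * (g * s * g⁻¹) * l by group, ← e]
    group
  obtain ⟨a, ha, ia, -⟩ := o 1 1
  obtain ⟨b, -, ib, n, -⟩ := o a a
  obtain ⟨x, y, e⟩ := P6.nontrivial_quot k
  have m : ∀ z, z ∈ P6.Fx (G ⧸ H) ⊤ := fun z =>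
    (P6.all_quot ia (SH ha) z).imp fun c hc => ⟨mem_top c, hc⟩
  obtain ⟨g, -, e⟩ := se.exists_conj ⟨x, m x, y, m y, e⟩ ia ib (mem_top a) (mem_top b)
  exact n (isConj_iff.2 ⟨g, e⟩)

theorem dc {a : G} {K : Subgroup G} (b : Bk S a K) : Dc S (S ⊓ K) (S ⊓ Zb a K) where
  as := h.as
  vle := inf_le_left
  ble := inf_le_left
  sq := (h.loc a b.mem b.inv).sq b.cp
  dec _ hs := (h.asC b.mem).dec b.cp hs
  disj _ hv hb := (h.asC b.mem).disj b.cp hv hb.2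
  tr v hv w hw v1 w1 := by
    obtain ⟨σ, hσ, e⟩ := (h.loc a b.mem b.inv).trans b.cp hv hw v1 w1
    exact ⟨σ, ⟨hσ.2, (h.asC b.mem).sig_cent b.cp hσ⟩,
      H1.le_normalizer_inf inf_le_right (inf_le_left.trans le_normalizer) hσ, e⟩
  four := by
    obtain ⟨x, hx, y, hy, v⟩ := (h.loc a b.mem b.inv).exists_v4 b.cp
    exact v.card ▸ card_le_of_le (P5.V4.le_iff.2 ⟨hx, hy⟩)
  inv := ⟨a, b.memZ, b.inv⟩

theorem eqV {a : G} {K V : Subgroup G} (b : Bk S a K) (h1 : S ⊓ K ≤ V) (h4 : 𝐨(V) ≤ 4) :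
    V ≤ K := (eq_of_le_of_card_ge h1 (h4.trans (h.dc b).four)).ge.trans inf_le_right

theorem pump {a e : G} {K : Subgroup G} (b : Bk S a K) (he : e ∈ S ⊓ Zb a K) (ie : Inv e) :
    ∃ K', Bk S e K' ∧ S ⊓ K ≤ K' ∧ Iv (K ⊓ 𝐂[e]) ≤ K' ∧ (∀ u ∈ 𝐍(K), u ∈ Zb e K' → u ∈ Zb a K) ∧
      (S ⊓ K' ≤ K → S ⊓ Zb a K ≤ Zb e K') := by
  obtain ⟨K', c, h1, h2⟩ := (h.asC b.mem).pump b.cp (h.dc b).sq (h.asC he.1)
    (b.cp.cover1 (h.as.le_cent1 b.mem he.1) ie.sq he.2)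
  have b' : Bk S e K' := ⟨he.1, ie, c⟩
  refine ⟨K', b', fun v hv => h1 (mem_Iv ⟨hv.2, h.as.le_cent1 he.1 hv.1⟩ ((h.dc b).sq v hv)), h1,
    h2, fun k s hs => ?_⟩
  obtain ⟨v, hv, x, hx, rfl⟩ := (h.dc b').dec s hs.1
  rw [(h.dc b).disj v ⟨hv.1, k hv⟩ ⟨hv.1, (mul_mem_cancel_right (h2 x
    ((h.asC b.mem).S_norm b.cp hx.1) hx.2)).1 hs.2⟩, one_mul]
  exact hx.2

theorem oddN {c : G} {K D : Subgroup G} (b : Bk S c K) (hD : D ≤ 𝐂[c]) (ho : Odd 𝐨(D))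
    (hn : S ≤ 𝐍(D)) : D ≤ 𝐍(K) := (h.asC b.mem).odd_norm b.cp hD ho hn

theorem OcN {a c : G} {K : Subgroup G} (b : Bk S c K) (ha : a ∈ S) : Oc a ⊓ 𝐂[c] ≤ 𝐍(K) :=
  h.oddN b inf_le_right (P6.odd_of_le inf_le_left (odd_Oc a))
    (H1.le_normalizer_inf (h.nO ha) (h.nC b.mem))

theorem bal {a c : G} {K : Subgroup G} (b : Bk S c K) (e : Bal2 S 𝐂[c] K) (ha : a ∈ S)
    (aa : a * a = 1) : Oc a ⊓ 𝐂[c] ≤ Zb c K :=
  e _ inf_le_right (P6.odd_of_le inf_le_left (odd_Oc a))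
    (H1.le_normalizer_inf (h.nO ha) (h.nC b.mem)) a ha aa (H1.le_normalizer_inf
      (inf_le_right.trans (norm_Oc a)) (inf_le_left.trans le_normalizer))

theorem split {c d : G} {K U : Subgroup G} (b : Bk S c K) (hU : U ≤ 𝐂[c]) (ho : Odd 𝐨(U))
    (hn : S ≤ 𝐍(U)) (hd : d ∈ S ⊓ Zb c K) (dd : d * d = 1) (k : U ⊓ 𝐂[d] ≤ Zb c K) :
    U ≤ Zb c K := by
  rw [← H1.commutator_sup_centralizer (zpowers_le.2 (hn hd.1)) (cop_two_odd (two_zpowers dd) ho)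
    (Or.inl (Inv.solv d)), cent_zpowers]
  exact sup_le ((commutator_mono le_rfl (zpowers_le.2 hd.2)).trans
    (comm_le_right_iff.2 ((h.oddN b hU ho hn).trans b.cp.norm_Z))) k

theorem oddZ {c d : G} {K D : Subgroup G} (b : Bk S c K) (hD : D ≤ 𝐂[c]) (ho : Odd 𝐨(D))
    (hn : S ≤ 𝐍(D)) (hd : d ∈ S ⊓ Zb c K) (dd : d * d = 1) (k : K ⊓ 𝐂[d] ≤ 𝐍(D)) :
    D ≤ Zb c K := b.cp.le_Z_of_norm (h.oddN b hD ho hn) ho inf_le_left k
      (b.cp.cover1 (h.as.le_cent1 b.mem hd.1) dd hd.2)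

theorem le_Oc {c : G} {D U : Subgroup G} (hc : c ∈ S) (ic : Inv c) (hD : D ≤ 𝐂[c]) (ho : Odd 𝐨(D))
    (hn : S ≤ 𝐍(D)) {a : G} (ha : a ∈ S) (aa : a * a = 1) (h1 : U ≤ D) (h2 : U ≤ Oc a)
    (k : ∀ K, Bk S c K → Unb S 𝐂[c] K → U ≤ Zb c K) : U ≤ Oc c := fun _ hx =>
  (h.asC hc).mem_Od hD ho hn (h1 hx) fun K p => ((h.loc c hc ic).d2 p).elim
    (fun e => h.bal ⟨hc, ic, p⟩ e ha aa ⟨h2 hx, hD (h1 hx)⟩) fun e => k K ⟨hc, ic, p⟩ e hx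

variable (o : O3 S)
include o

theorem star {a b : G} (ha : a ∈ S) (aa : a * a = 1) (hb : b ∈ S) (ib : Inv b) :
    ⁅Oc a, zpowers b⁆ ⊓ 𝐂[b] ≤ Oc b := by
  have h1 : ⁅Oc a, zpowers b⁆ ≤ Oc a := comm_le_left_iff.2 (zpowers_le.2 (h.nO ha hb))
  have ho := P6.odd_of_le (inf_le_left.trans h1 : ⁅Oc a, zpowers b⁆ ⊓ 𝐂[b] ≤ _) (odd_Oc a)
  have hn : S ≤ 𝐍((⁅Oc a, zpowers b⁆ ⊓ 𝐂[b] : Subgroup G)) := H1.le_normalizer_inf
    (H1.le_normalizer_commutator (h.nO ha) (h.as.le_norm (zpowers_le.2 hb))) (h.nC hb)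
  refine h.le_Oc hb ib inf_le_right ho hn ha aa le_rfl (inf_le_left.trans h1) fun K p u => ?_
  obtain ⟨f, hf, v⟩ := (h.dc p).exists_v4 o h.nf p.memZ ib
  have hE : V2 b f ≤ S ⊓ Zb b K := P5.V4.le_iff.2 ⟨p.memZ, hf⟩
  have hS := hE.trans inf_le_left
  refine h.split p inf_le_right ho hn hf v.ss (le_trans (fun x hx => mem_inf.2 ⟨commutator_mono
    le_rfl (zpowers_le.2 P5.V4.t_mem) hx.1.1, V4.le_cent_iff.2 ⟨hx.1.2, hx.2⟩⟩)
    (lemG v (odd_Oc a) (hS.trans (h.nO ha)) fun e he e1 x hx => ?_))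
  obtain ⟨K', p', k1, -, k2, k3⟩ := h.pump p (hE he) (V4.inv v he e1)
  have hx1 := comm_le_left_iff.2 (hS.trans (H1.le_normalizer_inf (h.nO ha) (h.nC p'.mem))) hx.1
  refine k2 x (h.OcN p ha ⟨hx1.1, (V4.le_cent_iff.1 hx.2).1⟩) ?_
  rcases (h.loc e p'.mem p'.inv).d2 p'.cp with u' | u'
  · exact h.bal p' u' ha aa hx1
  · exact ((commutator_mono le_rfl (hE.trans (k3 (h.eqV p (le_inf inf_le_left k1) u'.card)))).trans
      (comm_le_right_iff.2 ((h.OcN p' ha).trans p'.cp.norm_Z))) hx.1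

theorem th_cent {F : Subgroup G} {a b : G} (ha : a ∈ S) (aa : a * a = 1) (hb : b ∈ S) (ib : Inv b)
    (bF : b ∈ F) : th F a ⊓ 𝐂[b] ≤ Oc b := fun x hx => by
  obtain ⟨y, hy, z, hz, rfl⟩ := (mem_sup_of_norm (inf_le_left.trans (by
    rw [commutator_comm]; exact H1.le_normalizer_commutator_self))).1
      ((le_th.1 le_rfl).2 b bF ib.ne hx.1)
  exact mul_mem (h.star o ha aa hb ib ⟨hy, (mul_mem_cancel_right (Od_le _ hz.2)).1 hx.2⟩) hz.2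

omit o in
theorem le_thA {Y : Subgroup G} {a : G} (h1 : Y ≤ Oc a) (hn : S ≤ 𝐍(Y))
    (k : ∀ c ∈ S, Inv c → Y ⊓ 𝐂[c] ≤ Oc c) : Y ≤ th (Iv S) a := le_th.2 ⟨h1, fun b hb b1 => by
  rw [h.as.mem_A] at hb
  rw [← H1.commutator_sup_centralizer (zpowers_le.2 (hn hb.1)) (cop_two_odd (two_zpowers hb.2)
    (P6.odd_of_le h1 (odd_Oc a))) (Or.inl (Inv.solv b)), cent_zpowers]
  exact sup_le_sup (commutator_mono h1 le_rfl)
    (le_inf (inf_le_left.trans h1) (k b hb.1 ⟨b1, hb.2⟩))⟩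

omit o in
theorem good {Y : Subgroup G} {a : G} (ha : a ∈ S) (aa : a * a = 1) (h1 : Y ≤ Oc a) (hn : S ≤ 𝐍(Y))
    (k : ∀ c K, Bk S c K → Unb S 𝐂[c] K → ∃ d ∈ S ⊓ Zb c K, Inv d ∧ Y ⊓ 𝐂[d] ≤ Oc d) :
    Y ≤ th (Iv S) a := h.le_thA h1 hn fun c hc ic => by
  have ho := P6.odd_of_le (inf_le_left.trans h1 : Y ⊓ 𝐂[c] ≤ _) (odd_Oc a)
  have hn' := H1.le_normalizer_inf hn (h.nC hc)
  refine h.le_Oc hc ic inf_le_right ho hn' ha aa le_rfl (inf_le_left.trans h1) fun K p u => ?_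
  obtain ⟨d, hd, id, e⟩ := k c K p u
  exact h.split p inf_le_right ho hn' hd id.sq ((le_inf ((inf_le_inf_right _ inf_le_left).trans e)
    (inf_le_left.trans inf_le_right)).trans (h.oddZ p inf_le_right (P6.odd_of_le inf_le_left
      (odd_Oc d)) (H1.le_normalizer_inf (h.nO hd.1) (h.nC hc)) hd id.sq (H1.le_normalizer_inf
        (inf_le_right.trans (norm_Oc d)) (inf_le_left.trans (p.cp.le.trans le_normalizer)))))

omit o in
theorem nth {F : Subgroup G} (hF : F ≤ S) {a : G} (ha : a ∈ S) : S ≤ 𝐍(th F a) :=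
  (le_inf (h.as.le_norm hF) (h.as.le_cent1 ha)).trans norm_th

theorem th_bal {a b : G} (ha : a ∈ S) (aa : a * a = 1) (hb : b ∈ S) (ib : Inv b) :
    th (Iv S) a ⊓ 𝐂[b] ≤ th (Iv S) b :=
  h.le_thA (h.th_cent o ha aa hb ib (mem_Iv hb ib.sq))
    (H1.le_normalizer_inf (h.nth (Iv_le S) ha) (h.nC hb)) fun c hc ic =>
      (inf_le_inf_right _ inf_le_left).trans (h.th_cent o ha aa hc ic (mem_Iv hc ic.sq))

theorem Wt_eq {a b : G} (v : V4 a b) (ha : a ∈ S) (hb : b ∈ S) :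
    Wt S = sigGen (V2 a b) (th (Iv S)) := by
  refine le_antisymm (sigGen_le fun c hc _ => ?_) (sigGen_le fun _ hc c1 =>
    le_sigGen _ (mem_Iv (P5.V4.le_iff.2 ⟨ha, hb⟩ hc) (v.sq hc)) c1)
  rw [h.as.mem_A] at hc
  have k : ∀ e ∈ V2 a b, e ≠ 1 → th (Iv S) c ⊓ 𝐂[e] ≤ sigGen (V2 a b) (th (Iv S)) :=
    fun e he e1 => (h.th_bal o hc.1 hc.2 (P5.V4.le_iff.2 ⟨ha, hb⟩ he) (V4.inv v he e1)).trans
      (le_sigGen _ he e1)
  exact V4.le_of_cent v (P6.odd_of_le (th_le _ _) (odd_Oc c)) (h.nth (Iv_le S) hc.1 ha)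
    (h.nth (Iv_le S) hc.1 hb) (k a P5.V4.t_mem v.t1) (k b P5.V4.s_mem v.s1)
    (k _ (mul_mem P5.V4.t_mem P5.V4.s_mem) v.ts1)

omit o in
theorem exists_v4 {F : Subgroup G} (hF : F ≤ Iv S) (h4 : 4 ≤ 𝐨(F)) :
    ∃ a ∈ F, ∃ b ∈ F, V4 a b := by
  obtain ⟨a, ha, a1, -⟩ := exists_ne3 h4 1 1 1
  obtain ⟨b, hb, b1, ba, -⟩ := exists_ne3 h4 1 a 1
  have k := h.as.mem_A.1 (hF ha)
  have k' := h.as.mem_A.1 (hF hb)
  exact ⟨a, ha, b, hb, h.as.v4 k.1 k'.1 ⟨a1, k.2⟩ ⟨b1, k'.2⟩ ba.symm⟩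

theorem odd_Wt (h8 : 8 ≤ 𝐨(Iv S)) : Odd 𝐨(Wt S) := by
  obtain ⟨n, hn⟩ := elemAb_exists_isElem Nat.prime_two (h.as.elem le_rfl)
  obtain ⟨F, hF, e⟩ := hn.exists_le (k := 3) Nat.prime_two (by
    by_contra k
    have := Nat.pow_le_pow_right two_pos (show n ≤ 2 by omega)
    rw [hn.card] at h8
    omega)
  have m : ∀ a ∈ F, a ∈ S ∧ a * a = 1 := fun a ha => h.as.mem_A.1 (hF ha)
  have ho : ∀ a : G, Odd 𝐨(th (Iv S) a) := fun a => P6.odd_of_le (th_le _ _) (odd_Oc a)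
  haveI : Fact (Nat.Prime 2) := ⟨Nat.prime_two⟩
  obtain ⟨M, hM, k⟩ := H2.sig_complete' (p := 2) (θ := th (Iv S)) ⟨e.1, e.2⟩ ⟨fun a _ _ =>
    (th_le _ _).trans (Od_le _), fun a ha _ => (hF.trans (Iv_le S)).trans
      (h.nth (Iv_le S) (m a ha).1), fun a _ _ => (ho a).coprime_two_right,
    fun a _ _ => P5.Mx.isSolvable_of_odd (ho a),
    fun a ha _ b hb b1 => h.th_bal o (m a ha).1 (m a ha).2 (m b hb).1 ⟨b1, (m b hb).2⟩⟩
  obtain ⟨a, ha, b, hb, v⟩ := h.exists_v4 hF (by rw [e.2]; norm_num)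
  rw [h.Wt_eq o v (m a ha).1 (m b hb).1]
  exact P6.odd_of_le (sigGen_le fun c hc => k c (P5.V4.le_iff.2 ⟨ha, hb⟩ hc))
    (Nat.coprime_two_right.1 hM.cop)

theorem cent_le {F : Subgroup G} (hF : F ≤ Iv S) (h4 : 4 ≤ 𝐨(F))
    (k : ∀ c K, Bk S c K → Unb S 𝐂[c] K → ∃ d ∈ F, d ≠ 1 ∧ d ∈ Zb c K) : 𝐂(F) ≤ 𝐍(Wt S) := by
  obtain ⟨a, ha, b, hb, v⟩ := h.exists_v4 hF h4
  have m : ∀ a ∈ F, a ∈ S ∧ a * a = 1 := fun a ha => h.as.mem_A.1 (hF ha)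
  rw [h.Wt_eq o v (m a ha).1 (m b hb).1]
  refine H2.le_normalizer_sigGen fun e he _ => ?_
  have eF := P5.V4.le_iff.2 ⟨ha, hb⟩ he
  rw [le_antisymm (th_anti hF e) (h.good (m e eF).1 (m e eF).2 (th_le _ _)
    (h.nth (hF.trans (Iv_le S)) (m e eF).1) fun c K p u => ?_)]
  · exact (le_inf (cent_le_norm F) (cent_le_cent1 eF)).trans norm_th
  · obtain ⟨d, hd, d1, dZ⟩ := k c K p u
    exact ⟨d, ⟨(m d hd).1, dZ⟩, ⟨d1, (m d hd).2⟩,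
      h.th_cent o (m e eF).1 (m e eF).2 (m d hd).1 ⟨d1, (m d hd).2⟩ hd⟩

theorem odd_le (h16 : 16 ≤ 𝐨(Iv S)) (F : Subgroup G) (hF : F ≤ Iv S) :
    ∀ D : Subgroup G, Odd 𝐨(D) → S ≤ 𝐍(D) → D ≤ 𝐂(F) → D ≤ 𝐍(Wt S) := by
  induction F using WellFoundedGT.induction with
  | ind F ih =>
  intro D ho hn hD
  rcases le_or_gt 8 𝐨(F) with h8 | h8
  · refine hD.trans (h.cent_le o hF (by omega) fun c K p u => ?_)
    obtain ⟨x, hx, x1⟩ := (h.dc p).meet (hF.trans (Iv_le S)) (by have := u.card; omega)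
    exact ⟨x, hx.1, x1, hx.2.2⟩
  have k : ∀ e ∈ Iv S, e ∉ F → D ⊓ 𝐂[e] ≤ 𝐍(Wt S) := fun e he eF =>
    ih (F ⊔ zpowers e) (left_lt_sup.2 fun k => eF (zpowers_le.1 k)) (sup_le hF (zpowers_le.2 he)) _
      (P6.odd_of_le inf_le_left ho) (H1.le_normalizer_inf hn (h.nC (Iv_le S he)))
      (by rw [cent_sup, cent_zpowers]; exact inf_le_inf_right _ hD)
  obtain ⟨a, ha, aF⟩ := SetLike.not_le_iff_exists.1 fun e : Iv S ≤ F => by
    have := card_le_of_le e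
    omega
  have ia : Inv a := ⟨fun e => aF (e ▸ one_mem F), (h.as.mem_A.1 ha).2⟩
  obtain ⟨b, hb, bF⟩ := SetLike.not_le_iff_exists.1 fun e : Iv S ≤ F ⊔ zpowers a => by
    have h1 := card_le_of_le e
    have h2 := Nat.le_of_dvd (Nat.mul_pos Nat.card_pos Nat.card_pos) (H1.card_sup_dvd
      ((hF.trans (Iv_le S)).trans (h.as.le_norm (zpowers_le.2 (Iv_le S ha)))))
    rw [ia.card_zpowers] at h2
    omega
  have am := mem_sup_right (S := F) (mem_zpowers a)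
  exact V4.le_of_cent (h.as.v4 (Iv_le S ha) (Iv_le S hb) ia ⟨fun e => bF (e ▸ one_mem _),
    (h.as.mem_A.1 hb).2⟩ fun e => bF (e ▸ am)) ho (hn (Iv_le S ha)) (hn (Iv_le S hb)) (k a ha aF)
    (k b hb fun e => bF (mem_sup_left e)) (k _ (mul_mem ha hb) fun e =>
      bF ((mul_mem_cancel_left am).1 (mem_sup_left e)))

theorem ex {V V' : Subgroup G} (s : Sw S V V') (h4 : 𝐨(V) ≤ 4) (ho : Odd 𝐨(Wt S))
    (hO : ∀ e ∈ S, Oc e ≤ 𝐍(Wt S)) : 𝐂(V) ≤ 𝐍(Wt S) := by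
  have n1 : 𝐍(V) ≤ 𝐍(sigGen V Oc) := fun g hg => norm_sigGen hg fun a => (Oc_conj a g).ge
  have n2 := (s.norm o).trans n1
  have n3 : ∀ e ∈ V, e ≠ 1 → 𝐂[e] ≤ 𝐍(sigGen V Oc) := fun e he e1 => by
    have h1 := (le_sigGen Oc he e1).trans le_normalizer
    refine (h.asC (s.l.vle he)).le_of_cp h1 (fun K p => ?_) (inf_le_right.trans n2)
    have b : Bk S e K := ⟨s.l.vle he, ⟨e1, s.l.sq e he⟩, p⟩
    rcases s.sw o (h.dc b) with ⟨k, -⟩ | ⟨-, k⟩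
    · exact (e1 ((h.dc b).disj e ⟨b.mem, h.eqV b k h4 he⟩ b.memZ)).elim
    · exact (p.cover (s.l.vle.trans (h.as.le_cent1 b.mem)) (h.as.two.to_le s.l.vle)
        (k.trans inf_le_right)).trans (sup_le (inf_le_right.trans ((cent_le_norm V).trans n1)) h1)
  have n4 := P6.norm_le_norm_Od (sigGen V Oc)
  have n5 := (le_normalizer.trans n2).trans n4
  obtain ⟨a, ha, b, hb, v⟩ := h.exists_v4 s.l.vA s.l.four
  rw [h.Wt_eq o v (s.l.vle ha) (s.l.vle hb)]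
  refine H2.le_normalizer_sigGen fun e he e1 => ?_
  have eV := P5.V4.le_iff.2 ⟨ha, hb⟩ he
  have eS := s.l.vle eV
  have n6 := (n3 e eV e1).trans n4
  rw [le_antisymm (le_inf ((le_inf (le_sigGen _ (s.l.vA eV) e1) ((th_le _ _).trans
    (le_sigGen Oc eV e1))).trans (P6.le_Od ⟨inf_le_right, H1.le_normalizer_inf
      (sigGen_le fun a ha _ => hO a (s.l.vle ha)) le_normalizer⟩ (P6.odd_of_le inf_le_left ho)))
    (th_le _ _)) (h.le_thA inf_le_right (H1.le_normalizer_inf n5 (h.nO eS)) fun c hc ic => ?_)]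
  · exact (cent_le_cent1 eV).trans (H1.le_normalizer_inf n6 (norm_Oc e))
  have o1 := P6.odd_of_le (inf_le_left : Od (sigGen V Oc) ⊓ 𝐂[c] ≤ _) (P6.odd_Od _)
  have n7 := H1.le_normalizer_inf n5 (h.nC hc)
  refine h.le_Oc hc ic inf_le_right o1 n7 eS (s.l.sq e eV) (inf_le_inf_right _ inf_le_left)
    (inf_le_left.trans inf_le_right) fun K p u => (inf_le_inf_right _ inf_le_left).trans ?_
  have n8 := H1.le_normalizer_inf (inf_le_right.trans n6)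
    ((inf_le_left (b := 𝐂[e])).trans (p.cp.le.trans le_normalizer))
  rcases s.sw o (h.dc p) with ⟨k, -⟩ | ⟨-, k⟩
  · exact p.cp.le_Z_of_norm (h.oddN p inf_le_right o1 n7) o1 (sup_le inf_le_left inf_le_left)
      (sup_le n8 (H1.le_normalizer_inf (inf_le_right.trans (n2.trans n4))
        (inf_le_left.trans (p.cp.le.trans le_normalizer)))) (u.gen e ⟨eS, h.eqV p k h4 eV⟩ e1)
  · exact h.oddZ p inf_le_right o1 n7 (k eV) (s.l.sq e eV) n8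

theorem Wt_bot (h16 : 16 ≤ 𝐨(Iv S)) : Wt S = ⊥ := by
  by_contra hW
  have ho := h.odd_Wt o (by omega)
  have hO : ∀ e ∈ S, Oc e ≤ 𝐍(Wt S) := fun e he =>
    h.odd_le o h16 ⊥ bot_le _ (odd_Oc e) (h.nO he) (le_top.trans cent_bot.ge)
  refine norm_ne_top h.simple hW (h.odd_ne_top ho) (h.se o (norm_Wt S) (fun a ha _ => hO a ha)
    fun a K p => ?_)
  have cov : ∀ F ≤ S ⊓ Zb a K, 𝐂(F) ≤ 𝐍(Wt S) → K ≤ 𝐍(Wt S) := fun F hF k =>
    (p.cp.cover ((hF.trans inf_le_left).trans (h.as.le_cent1 p.mem)) (h.as.two.to_le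
      (hF.trans inf_le_left)) (hF.trans inf_le_right)).trans
      (sup_le (inf_le_right.trans k) (hO a p.mem))
  by_cases k : ∀ c K', Bk S c K' → Unb S 𝐂[c] K' → ∃ x ∈ (S ⊓ Zb a K) ⊓ (S ⊓ Zb c K'), Inv x
  · obtain ⟨f, hf, v⟩ := (h.dc p).exists_v4 o h.nf p.memZ p.inv
    refine cov (Iv S ⊓ Zb a K) (inf_le_inf_right _ (Iv_le S)) (h.cent_le o inf_le_left
      (v.card ▸ card_le_of_le (P5.V4.le_iff.2 ⟨⟨mem_Iv p.mem v.tt, p.memZ.2⟩,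
        mem_Iv hf.1 v.ss, hf.2⟩)) fun c K' p' u => ?_)
    obtain ⟨x, hx, ix⟩ := k c K' p' u
    exact ⟨x, ⟨mem_Iv hx.1.1 ix.sq, hx.1.2⟩, ix.ne, hx.2.2⟩
  push Not at k
  obtain ⟨c, K', p', u, k⟩ := k
  obtain ⟨e1, e2⟩ := ((h.dc p).ll (h.dc p') o).resolve_left fun ⟨x, hx, ix⟩ => k x hx ix
  exact cov _ e1.ge (h.ex o ⟨e2 ▸ h.dc p', e1 ▸ h.dc p⟩ u.card ho hO)

/-- The core of `C(b)` is centralized by an involution `v` if each unbalanced component is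
centralized by `b` or by `v`. -/
theorem Oc_le_cent (h16 : 16 ≤ 𝐨(Iv S)) {b v : G} (hb : b ∈ S) (ib : Inv b) (hv : v ∈ S)
    (iv : Inv v) (k : ∀ c K, Bk S c K → b ∈ Zb c K ∨ v ∈ Zb c K) : v ∈ 𝐂(Oc b) := by
  have h1 : ⁅Oc b, zpowers v⁆ ≤ Oc b := comm_le_left_iff.2 (zpowers_le.2 (h.nO hb hv))
  have := (h.good hb ib.sq h1 (H1.le_normalizer_commutator (h.nO hb)
    (h.as.le_norm (zpowers_le.2 hv))) fun c K p _ => (k c K p).elim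
      (fun e => ⟨b, ⟨hb, e⟩, ib, inf_le_left.trans h1⟩) fun e =>
        ⟨v, ⟨hv, e⟩, iv, h.star o hb ib.sq hv iv⟩).trans (le_sigGen _ (mem_Iv hb ib.sq) ib.ne)
  rw [show sigGen (Iv S) (th (Iv S)) = ⊥ from h.Wt_bot o h16, le_bot_iff, commutator_comm,
    commutator_eq_bot_iff_le_centralizer] at this
  exact this (mem_zpowers v)

end St

end Cfsg.Agent.P7
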