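/-
The rank is at most three.
-/
import Cfsg.Agent.P7.RT

set_option autoImplicit false
set_option linter.unusedSectionVars false
set_option linter.style.haveILetI false

namespace Cfsg.Agent.P7

open Subgroup Cfsg Cfsg.Agent Cfsg.Agent.FT
open Cfsg.Agent.P5 (V4)
open Cfsg.Agent.P6 (Inv Od)
open scoped commutatorElement Pointwise

universe u

variable {G : Type u} [Group G] [Finite G]

theorem AS.sq_of_pow {S : Subgroup G} (h : AS S ⊤) (sq : ∀ s ∈ S, s * s = 1) {x : G} {k : ℕ}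
    (hx : x ^ 2 ^ k = 1) : x * x = 1 := by
  obtain ⟨g, -, e⟩ := h.syl.exists_conj_le Nat.prime_two (H1.isPGroup_zpowers_of_pow_eq_one hx)
    le_top
  have := sq _ (e (conj_mem_conj (mem_zpowers x) g))
  rwa [conj_mul, conj_eq_one_iff] at this

theorem exists_dih (sq : ∀ (x : G) (k : ℕ), x ^ 2 ^ k = 1 → x * x = 1) {v b : G} (iv : Inv v)
    (ib : Inv b) : ∃ t, t * t = 1 ∧ v ∈ 𝐂[t] ∧ b ∈ 𝐂[t] ∧ IsConj b (v * t) := by
  obtain ⟨k, n, ⟨m, rfl⟩, e⟩ := Nat.exists_eq_two_pow_mul_odd (orderOf_pos (v * b)).ne'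
  have tt := sq ((v * b) ^ (2 * m + 1)) k (by rw [← pow_mul, mul_comm, ← e, pow_orderOf_eq_one])
  have i1 : v * (v * b) * v = (v * b)⁻¹ := by
    rw [iv.mul_cancel_left, mul_inv_rev, iv.inv_eq, ib.inv_eq]
  have i2 : b * (v * b) * b = (v * b)⁻¹ := by
    rw [mul_assoc, ib.mul_cancel_right, mul_inv_rev, iv.inv_eq, ib.inv_eq]
  have k : ∀ a : G, Inv a → a * (v * b) * a = (v * b)⁻¹ → a ∈ 𝐂[(v * b) ^ (2 * m + 1)] :=
    fun a ia e => mem_cent1_iff_conj.2 (by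
      rw [ia.inv_eq, P6.inverts_pow ia.sq e, inv_eq_of_mul_eq_one_right tt])
  refine ⟨_, tt, k v iv i1, k b ib i2, isConj_iff.2 ⟨((v * b) ^ m)⁻¹, ?_⟩⟩
  rw [← P6.inverts_pow ib.sq i2, ib.mul_cancel_right, pow_succ', ← mul_assoc, iv.mul_cancel_left,
    P6.inverts_pow ib.sq i2, inv_inv, two_mul, pow_add, mul_assoc]

theorem Eac2.solv {S X K : Subgroup G} (e : Eac2 S X K) (c : Cp X K) {v : G} (hv : v ∈ S ⊓ K)
    (v1 : v ≠ 1) : Group.IsSolvable (K ⊓ 𝐂[v] : Subgroup G) :=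
  solv_of_bar (inf_le_left.trans c.le) (solv_Od X) (H1.isSolvable_of_isMulCommutative
    ((H1.isMulCommutative_bar_iff (inf_le_left.trans c.le)).2 (commutator_le.2 fun x hx y hy => by
      rw [show ⁅x, y⁆ = x * x * (x⁻¹ * y * (x⁻¹ * y)) * (y * y)⁻¹ by
        rw [commutatorElement_def]; group]
      exact mul_mem (mul_mem (e v hv v1 x hx) (e v hv v1 _ (mul_mem (inv_mem hx) hy)))
        (inv_mem (e v hv v1 y hy)))))

/-- `V` lies in no larger Sylow subgroup of a component. -/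
def Tm (S V : Subgroup G) : Prop := ∀ a K, Bk S a K → V ≤ K → K ⊓ S ≤ V

namespace St

variable {S : Subgroup G} (h : St S)
include h

theorem eqK {a : G} {K K' V B : Subgroup G} (p : Bk S a K) (q : Bk S a K') (d : Dc S V B)
    (h1 : V ≤ K) (h2 : V ≤ K') : K = K' := by
  obtain ⟨v, hv, v1, -⟩ := exists_ne3 d.four 1 1 1
  exact p.cp.eq_of_mem q.cp ⟨v1, d.sq v hv⟩ (h1 hv) (h2 hv)

variable (o : O3 S)
include o

theorem tm_of_sw {V W : Subgroup G} (s : Sw S V W) : Tm S V := fun a K p k => by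
  rw [inf_comm]
  exact ((s.sw o (h.dc p)).resolve_right fun e =>
    s.l.not_le ((le_inf s.l.vle k).trans e.1)).1

variable {a : G} {K : Subgroup G} (p : Bk S a K) (t : Tm S (S ⊓ K))
include p t

theorem g1 {c : G} {K' : Subgroup G} (q : Bk S c K') :
    S ⊓ K ≤ Zb c K' ∨ S ⊓ Zb a K ≤ Zb c K' := by
  rcases (h.dc p).ll (h.dc q) o with ⟨d, hd, id⟩ | ⟨-, e⟩
  · obtain ⟨K₁, p₁, h1, -, -, h2⟩ := h.pump p hd.1 id
    obtain ⟨K₂, p₂, -, -, h3, -⟩ := h.pump q hd.2 id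
    have hS := (h.asC q.mem).S_norm q.cp
    rcases eq_or_ne K₁ K₂ with rfl | ne
    · exact Or.inr fun x hx => h3 x (hS hx.1)
        (h2 ((inf_comm _ _).le.trans ((t _ _ p₁ h1).trans inf_le_right)) hx)
    · exact Or.inl fun x hx => h3 x (hS hx.1) (p₁.cp.le_Z_of_ne p₂.cp ne (h1 hx))
  · exact Or.inl (e.ge.trans inf_le_right)

variable (h16 : 16 ≤ 𝐨(Iv S))
include h16

theorem l1 : Iv K ≤ 𝐂(Oc a) :=
  (h.asC p.mem).Iv_le_of_normal p.cp.le ((h.asC p.mem).S_norm p.cp)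
    (H1.le_normalizer_centralizer p.cp.le_norm_Od) fun v hv vv => by
      rcases eq_or_ne v 1 with rfl | v1
      · exact one_mem _
      exact h.Oc_le_cent o h16 p.mem p.inv hv.1 ⟨v1, vv⟩ fun c K' q =>
        (h.g1 o p t q).symm.imp (fun e => e p.memZ) fun e => e hv

theorem l2 : Iv K ≤ 𝐂((S ⊓ Zb a K : Subgroup G)) := Iv_le_iff.2 fun x hx xx s hs => by
  have h1 := (mem_centMod.1 hs.2).2 x hx
  have h2 := h.l1 o p t h16 (mem_Iv hx xx) _ h1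
  by_contra k
  refine Inv.not_mem_of_odd ⟨fun e => k (commutatorElement_eq_one_iff_mul_comm.1 e).symm, ?_⟩
    (odd_Oc a) h1
  have h3 : ⁅x * x, s⁆ = x * ⁅x, s⁆ * x⁻¹ * ⁅x, s⁆ := by simp only [commutatorElement_def]; group
  rw [xx, commutatorElement_one_left, ← h2, mul_inv_cancel_right] at h3
  exact h3.symm

theorem iv_le {e : G} {K' : Subgroup G} (q : Bk S e K') (he : e ∈ Zb a K) (k : S ⊓ K ≤ K') :
    Iv K ≤ Iv K' ∧ S ⊓ Zb a K ≤ Zb e K' := by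
  obtain ⟨K₁, p₁, h1, h2, -, h3⟩ := h.pump p ⟨q.mem, he⟩ q.inv
  obtain rfl := h.eqK p₁ q (h.dc p) h1 k
  exact ⟨Iv_le_iff.2 fun x hx xx => mem_Iv (h2 (mem_Iv ⟨hx, cent_le_cent1 (⟨q.mem, he⟩ :
    e ∈ S ⊓ Zb a K) (h.l2 o p t h16 (mem_Iv hx xx))⟩ xx)) xx,
    h3 ((inf_comm _ _).le.trans ((t _ _ p₁ h1).trans inf_le_right))⟩

theorem iv_eq {e : G} {K' : Subgroup G} (q : Bk S e K') (he : e ∈ Zb a K) (k : S ⊓ K ≤ K') :
    Iv K' = Iv K := by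
  obtain ⟨h1, h2⟩ := h.iv_le o p t h16 q he k
  have e : S ⊓ K' = S ⊓ K := le_antisymm ((inf_comm _ _).le.trans (t _ _ q k)) (le_inf inf_le_left k)
  exact le_antisymm (h.iv_le o q (e ▸ t) h16 p (h2 p.memZ) (e.le.trans inf_le_right)).1 h1

theorem twin {e : G} (he : e ∈ S ⊓ Zb a K) (ie : Inv e) :
    ∃ K', Bk S e K' ∧ 𝐍(K') ≤ 𝐍(Iv K) := by
  obtain ⟨K', q, h1, -⟩ := h.pump p he ie
  exact ⟨K', q, h.iv_eq o p t h16 q he.2 h1 ▸ norm_le_norm_Iv K'⟩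

theorem l5 {D : Subgroup G} (ho : Odd 𝐨(D)) (hn : S ≤ 𝐍(D)) : D ≤ 𝐍(Iv K) := by
  obtain ⟨f, hf, v⟩ := (h.dc p).exists_v4 o h.nf p.memZ p.inv
  have k : ∀ e ∈ S ⊓ Zb a K, Inv e → D ⊓ 𝐂[e] ≤ 𝐍(Iv K) := fun e he ie => by
    obtain ⟨K', q, h1⟩ := h.twin o p t h16 he ie
    exact (h.oddN q inf_le_right (P6.odd_of_le inf_le_left ho)
      (H1.le_normalizer_inf hn (h.nC he.1))).trans h1
  exact V4.le_of_cent v ho (hn p.mem) (hn hf.1) (k a p.memZ p.inv) (k f hf ⟨v.s1, v.ss⟩)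
    (k _ (mul_mem p.memZ hf) ⟨v.ts1, v.tsts⟩)

theorem l5' {c : G} (hc : c ∈ S) : Oc c ≤ 𝐍(Iv K) := h.l5 o p t h16 (odd_Oc c) (h.nO hc)

theorem l6 {c d : G} {K' : Subgroup G} (q : Bk S c K') (hd : d ∈ S ⊓ Zb a K) (id : Inv d)
    (hd' : d ∈ Zb c K') : K' ≤ 𝐍(Iv K) := by
  obtain ⟨K₁, q₁, h1⟩ := h.twin o p t h16 hd id
  exact ((h.asC q.mem).le_Iv q.cp (h.dc q).sq (le_inf inf_le_right (inf_le_left.trans
    (h.as.le_cent1 hd.1))) inf_le_left (q.cp.cover1 (h.as.le_cent1 q.mem hd.1) id.sq hd')).trans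
    (sup_le ((Iv_mono inf_le_right).trans (((h.asC hd.1).Iv_norm q₁.cp).trans h1))
      (h.l5' o p t h16 q.mem))

theorem l8 (k : ∀ c K', Bk S c K' → K' ≤ 𝐍(Iv K)) : False := by
  have h0 : Iv K ≠ ⊥ := fun e => (h.dc p).not_le fun v hv =>
    mem_bot.1 (e ▸ mem_Iv hv.2 ((h.dc p).sq v hv)) ▸ one_mem _
  have h1 := norm_ne_top h.simple h0 fun e => cent1_ne_top h.simple h.na p.inv.ne
    (top_le_iff.1 (e.ge.trans ((Iv_le K).trans p.cp.le)))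
  have h2 : ∀ U : Subgroup G, (∀ g ∈ 𝐍(S), U ^ᵍ g ≤ 𝐍(Iv K)) →
      U ≤ 𝐍((sSup {L | ∃ g ∈ 𝐍(S), L = Iv K ^ᵍ g} : Subgroup G)) := fun U hU =>
    H2.le_normalizer_sSup' (by
      rintro _ ⟨g, hg, rfl⟩
      rw [norm_conj, le_conj_iff]
      exact hU _ (inv_mem hg))
  refine norm_ne_top h.simple (X := sSup {L | ∃ g ∈ 𝐍(S), L = Iv K ^ᵍ g}) (fun e => h0 (sSup_eq_bot.1 e _ ⟨1, one_mem _,
    (conj_one _).symm⟩)) (fun e => h1 (top_le_iff.1 (e.ge.trans (sSup_le ?_)))) (h.se o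
      (fun g hg => mem_norm_of_conj_le (conj_le_iff.2 (sSup_le ?_))) (fun c hc _ => h2 _
        fun g hg => Oc_conj c g ▸ h.l5' o p t h16 (cjm hg hc)) fun c K' q => h2 _
          fun g hg => k _ _ (q.cj hg))
  · rintro _ ⟨g, hg, rfl⟩
    exact (conj_mono (Iv_le K) g).trans (k _ _ (p.cj hg))
  · rintro _ ⟨x, hx, rfl⟩
    exact conj_le_iff.1 (le_sSup ⟨_, mul_mem hg hx, conj_conj _ _ _⟩)

theorem l10 : ∃ c K', Bk S c K' ∧ S ⊓ Zb a K = S ⊓ K' ∧ S ⊓ Zb c K' = S ⊓ K ∧ Eac2 S 𝐂[c] K' := by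
  by_contra k
  refine h.l8 o p t h16 fun c K' q => ?_
  rcases (h.dc p).ll (h.dc q) o with ⟨d, hd, id⟩ | ⟨e1, e2⟩
  · exact h.l6 o p t h16 q hd.1 id hd.2.2
  have s : Sw S (S ⊓ K) (S ⊓ Zb a K) := ⟨h.dc p, e1 ▸ e2 ▸ h.dc q⟩
  have n1 : 𝐍(S) ≤ 𝐍(Iv K) := fun g hg => conj_eq_self_iff.1 (by
    rw [← Iv_conj]
    exact h.iv_eq o p t h16 (p.cj hg) (cjm (s.symm.norm o hg) p.memZ).2
      ((conj_eq_of_mem_norm (s.norm o hg)).ge.trans (conj_mono inf_le_right g)))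
  obtain ⟨v, hv, v1, -⟩ := exists_ne3 (h.dc q).four 1 1 1
  have iv : Inv v := ⟨v1, (h.dc q).sq v hv⟩
  exact ((((h.loc c q.mem q.inv).d1 q.cp).resolve_left fun e => k ⟨c, K', q, e1, e2, e⟩)
    v hv v1).trans (sup_le (sup_le (inf_le_right.trans ((h.asC hv.1).le_of_cp
      (h.l5' o p t h16 hv.1) (fun K₁ r => h.l6 o p t h16 ⟨hv.1, iv, r⟩ (e1.ge hv) iv
        (Bk.memZ ⟨hv.1, iv, r⟩).2) (inf_le_right.trans n1))) (inf_le_right.trans n1))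
      (h.l5' o p t h16 q.mem))

variable (e : Eac2 S 𝐂[a] K) {z : G} (hz : z ∈ S) (zB : z ∉ S ⊓ Zb a K)
include e hz zB

omit o t h16 in
theorem nocomp {K₁ : Subgroup G} (r : Bk S z K₁) (h1 : S ⊓ K₁ ≤ S ⊓ K)
    (h2 : S ⊓ Zb a K ≤ S ⊓ Zb z K₁) : False := by
  obtain ⟨v, hv, b, hb, rfl⟩ := (h.dc p).dec z hz
  have v1 : v ≠ 1 := fun k => zB (by rwa [k, one_mul])
  have vB : v ∈ S ⊓ Zb (v * b) K₁ := (mul_mem_cancel_right (h2 hb)).1 r.memZ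
  obtain ⟨K₂, r₂, h3, h4, -⟩ := h.pump r (h2 p.memZ) p.inv
  obtain rfl := h.eqK p r₂ (h.dc r) (h1.trans inf_le_right) h3
  refine r.cp.solv_sup ((Iv_le _).trans inf_le_left) (H1.isSolvable_of_le (le_inf ((Iv_mono
    (inf_le_inf_left _ (cent_le_cent1 (h2 p.memZ)))).trans h4) ((Iv_le _).trans
      (inf_le_right.trans (cent_le_cent1 vB)))) (e.solv p.cp hv v1))
    ((h.asC hz).le_Iv r.cp (h.dc r).sq (le_inf inf_le_right (inf_le_left.trans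
      (h.as.le_cent inf_le_left))) inf_le_left (r.cp.cover (inf_le_left.trans (h.as.le_cent1 hz))
        (h.as.two.to_le inf_le_left) inf_le_right))

theorem OcV : Oc z ≤ 𝐂((S ⊓ K : Subgroup G)) := by
  obtain ⟨v, hv, b, hb, rfl⟩ := (h.dc p).dec z hz
  have v1 : v ≠ 1 := fun k => zB (by rwa [k, one_mul])
  have hV : S ⊓ K ≤ Iv K := fun x hx => mem_Iv hx.2 ((h.dc p).sq x hx)
  have hn := (inf_le_left : S ⊓ K ≤ S).trans (h.nO hz)
  rw [← commutator_eq_bot_iff_le_centralizer]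
  refine H1.commutator_eq_bot_of_commutator_commutator_eq_bot hn (cop_two_odd
    (h.as.two.to_le inf_le_left) (odd_Oc _)) (commutator_eq_bot_iff_le_centralizer.2
      ((le_inf (comm_le_left_iff.2 hn) ((commutator_mono le_rfl hV).trans
        (comm_le_right_iff.2 (h.l5' o p t h16 hz)))).trans fun x hx => cent_comm.1
          (hV.trans (h.l1 o p t h16)) (P6.mem_of_sq_mem (P6.odd_orderOf_of_mem (odd_Oc _) hx.1)
            (e v hv v1 x ⟨Iv_le K hx.2, mem_cent1_comm.1 ?_⟩))))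
  exact (mul_mem_cancel_right (mem_cent1_comm.1 (cent_le_cent1 hb (h.l2 o p t h16 hx.2)))).1
    (mem_cent1_comm.1 (Od_le _ hx.1))

end St

theorem St.lt {S : Subgroup G} (h : St S) {a : G} {K : Subgroup G} (p : Bk S a K) :
    𝐨(Iv S) < 16 := by
  by_contra h16
  rw [not_lt] at h16
  have o := (h.dc p).nt h16
  obtain ⟨_, ⟨a, K, p, rfl⟩, hm⟩ := (wellFounded_gt (α := Subgroup G)).has_min
    {V | ∃ a K, Bk S a K ∧ V = S ⊓ K} ⟨_, a, K, p, rfl⟩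
  obtain ⟨a, K, p, e1, e2, ea⟩ := h.l10 o p (fun c K' q k => (inf_comm _ _).le.trans
    (eq_of_le_of_not_lt (le_inf inf_le_left k) (hm _ ⟨c, K', q, rfl⟩)).ge) h16
  have t := h.tm_of_sw o ⟨h.dc p, e1 ▸ e2 ▸ h.dc ‹_›⟩
  clear e1 e2 hm
  obtain ⟨c, K', q, e1, e2, ec⟩ := h.l10 o p t h16
  have s : Sw S (S ⊓ K) (S ⊓ K') := ⟨e1 ▸ h.dc p, e2 ▸ h.dc q⟩
  have key : ∀ z ∈ S, z ∉ S ⊓ K → z ∉ S ⊓ K' → 𝐂[z] ≤ 𝐍(S) := fun z hz h1 h2 => by
    refine (h.asC hz).le_of_cp ((le_inf (h.OcV o p t h16 ea hz (e1 ▸ h2)) (h.OcV o q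
      (h.tm_of_sw o s.symm) h16 ec hz (e2 ▸ h1))).trans ((cent_sup _ _).ge.trans
        ((cent_anti fun x hx => ?_).trans (cent_le_norm S)))) (fun K₁ r => False.elim ?_) inf_le_right
    · obtain ⟨v, hv, w, hw, rfl⟩ := s.l.dec x hx
      exact mul_mem_sup hv hw
    · have r : Bk S z K₁ := ⟨hz, ⟨fun k => h1 (k ▸ one_mem _), s.sq hz⟩, r⟩
      rcases s.sw o (h.dc r) with ⟨k1, k2⟩ | ⟨k1, k2⟩
      · exact h.nocomp p ea hz (e1 ▸ h2) r k1 (e1 ▸ k2)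
      · exact h.nocomp q ec hz (e2 ▸ h1) r k1 (e2 ▸ k2)
  have aW : a ∈ S ⊓ K' := e1 ▸ p.memZ
  have cV : c ∈ S ⊓ K := e2 ▸ q.memZ
  have n : c ∈ 𝐂[a].normalCore := fun g => by
    obtain ⟨x, xx, h1, h2, h3⟩ := exists_dih (fun _ _ => h.as.sq_of_pow fun _ => s.sq)
      (q.inv.conj g) p.inv
    obtain ⟨k, -, hk⟩ := h.as.exists_cj (mem_top x) xx
    have m : ∀ y ∈ 𝐂[x], k * y * k⁻¹ ∈ 𝐂[k * x * k⁻¹] := fun y hy =>
      cent1_conj x k ▸ conj_mem_conj hy k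
    obtain ⟨l, hl, h4⟩ := (h.asC hk).exists_cj (m _ h1) ((q.inv.conj g).conj k).sq
    have c1 := ((isConj_cj g c).trans (isConj_cj k _)).trans (isConj_cj l _)
    have h5 := s.mem o cV h4 c1
    have c2 := (h3.trans (isConj_cj k _)).trans (isConj_cj l _)
    rw [← @conj_mul _ _ _ k, ← @conj_mul _ _ _ l, mem_cent1_iff_conj.1 hl] at c2
    have h6 := s.symm.mem o aW (mul_mem h4 hk) c2
    have h7 := key _ hk (fun k => (inv_of_isConj p.inv c2).ne (s.l.disj _ (mul_mem h5 k) h6))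
      fun k => (inv_of_isConj q.inv c1).ne (s.l.disj _ h5 ((mul_mem_cancel_right k).1 h6))
    have h8 : ∀ y ∈ 𝐂[x], y * y = 1 → k * y * k⁻¹ ∈ S := fun y hy yy => by
      obtain ⟨j, hj, e⟩ := (h.as.of_le le_normalizer le_top).exists_cj (h7 (m y hy)) (sq_cj yy k)
      exact (mem_normalizer_iff.1 hj _).2 e
    have := h.as.comm (h8 _ h2 p.inv.sq) (h8 _ h1 (q.inv.conj g).sq)
    rw [conj_mul, conj_mul, mul_left_inj, mul_right_inj] at this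
    exact mem_cent1.2 this
  rcases h.simple.eq_bot_or_eq_top_of_normal _ (normalCore_normal 𝐂[a]) with e | e
  · exact q.inv.ne (mem_bot.1 (e ▸ n))
  · exact cent1_ne_top h.simple h.na p.inv.ne (top_le_iff.1 (e ▸ normalCore_le _))

end Cfsg.Agent.P7
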