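/-
Simple groups with abelian Sylow 2-subgroups: reduction to order at most 8.
-/
import Cfsg.Agent.P7.RW
import Cfsg.Agent.P7.R2

set_option autoImplicit false
set_option linter.style.haveILetI false

namespace Cfsg.Agent.P7

open Subgroup Cfsg Cfsg.Agent Cfsg.Agent.FT
open Cfsg.Agent.P6 (Inv Od)

universe u

theorem AS.solv_norm {G : Type u} [Group G] [Finite G] {S X : Subgroup G} (h : AS S X) :
    Group.IsSolvable (X ⊓ 𝐍(S) : Subgroup G) := by
  obtain ⟨R, ho, hR, k⟩ := h.exists_compl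
  refine H1.isSolvable_of_le (fun g hg => ?_) (H2.isSolvable_sup_of_le_normalizer
    (hR.trans inf_le_right) (P5.Mx.isSolvable_of_odd ho) h.solv)
  obtain ⟨r, hr, s, hs, rfl⟩ := k g hg
  exact mul_mem_sup hr hs

theorem wInd (hK : K3.{u}) (n : ℕ) : WInd.{u} n := by
  induction n using Nat.strong_induction_on with
  | _ n ih =>
  intro G _ _ hn hs na ab
  by_cases h2 : pRank 2 (⊤ : Subgroup G) ≤ 2
  · have e := r2 na ab h2
    exact Or.inr ⟨e, fun k => by have := le_pRank_of_four e (n := 4) k; omega⟩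
  by_cases hC : ∀ t : G, Inv t → Group.IsSolvable 𝐂[t]
  · exact Or.inl (P6.eacHyp.sol hs ab (by omega) hC)
  push Not at hC
  obtain ⟨t, it, hC⟩ := hC
  obtain ⟨S, hS⟩ := exists_isSyl Nat.prime_two (⊤ : Subgroup G)
  have as : AS S ⊤ := ⟨hS, isMulComm_iff_le_cent.1 (ab S hS.pgrp)⟩
  have h : St S := ⟨hs, na, as, fun a ha ia => loc_of hK (ih _ hn) ((H1.card_lt_of_lt
    (cent1_ne_top hs na ia.ne).lt_top).trans_eq card_top) (as.of_le (as.le_cent1 ha) le_top)⟩
  obtain ⟨g, -, ha⟩ := as.exists_cj (mem_top t) it.sq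
  obtain ⟨K, c⟩ : ∃ K, Cp 𝐂[g * t * g⁻¹] K := by
    by_contra k
    refine hC ((isSolvable_map_iff (conj_injective g)).1 (cent1_conj t g ▸ H1.isSolvable_of_le
      ((h.asC ha).le_of_cp le_sup_right (fun K c => (k ⟨K, c⟩).elim) le_sup_left)
      (H2.isSolvable_sup_of_le_normalizer (inf_le_left.trans (le_norm_Od _))
        (h.asC ha).solv_norm (solv_Od _))))
  have p : Bk S _ K := ⟨ha, it.conj g, c⟩
  have sq := fun s => (h.dc p).sq_of_lt h.nf (h.lt p) (s := s)
  refine Or.inr ⟨fun x => as.sq_of_pow sq (k := 2), fun k => ?_⟩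
  rw [← card_top, ← H1.card_mul_relIndex hS.le] at k
  exact (Nat.le_of_dvd Nat.card_pos (((Nat.prime_two.coprime_iff_not_dvd.2 hS.ndvd).pow_left
    4).dvd_of_dvd_mul_right k)).not_gt
      ((card_le_of_le fun s hs => mem_Iv hs (sq s hs)).trans_lt (h.lt p))

/-- A simple group with abelian Sylow 2-subgroups is `SL₂(2^n)` or has Sylow 2-subgroups that are
elementary abelian of order at most 8. -/
theorem walter (hK : K3.{u}) {G : Type u} [Group G] [Finite G] (hs : IsSimpleGroup G)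
    (na : ¬ IsMulCommutative G) (ab : ∀ P : Subgroup G, IsPGroup 2 P → IsMulCommutative P) :
    L.EAC G ∨ E8 G := wInd hK _ G (Nat.lt_succ_self _) hs na ab

theorem walter' (hK : K3.{u}) {G : Type u} [Group G] [Finite G] (hs : IsSimpleGroup G)
    (na : ¬ IsMulCommutative G) (ab : ∀ P : Subgroup G, IsPGroup 2 P → IsMulCommutative P) :
    L.EAC G ∨ Known3 G := (walter hK hs na ab).imp_right (hK.known hs na)

end Cfsg.Agent.P7
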