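/-
Doubly transitive actions of the simple groups with abelian Sylow 2-subgroups.
-/
import Cfsg.Agent.P7.RM

set_option autoImplicit false
set_option linter.style.haveILetI false

namespace Cfsg.Agent.P7

open Subgroup Cfsg Cfsg.Agent Cfsg.Agent.FT MulAction
open scoped LinearAlgebra.Projectivization

universe u v

/-- `G` has a faithful doubly transitive action on a finite set. -/
def T2 (G : Type u) [Group G] : Prop := ∃ (Ω : Type) (_ : Fintype Ω) (_ : MulAction G Ω)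
  (_ : FaithfulSMul G Ω), IsMultiplyPretransitive G Ω 2

variable {G : Type u} [Group G]

theorem t2_of {Ω : Type v} [Finite Ω] (φ : G →* Equiv.Perm Ω) (hφ : Function.Injective φ)
    (h : ∀ a b c d : Ω, a ≠ b → c ≠ d → ∃ g, φ g a = c ∧ φ g b = d) : T2 G := by
  obtain ⟨n, ⟨e⟩⟩ := Finite.exists_equiv_fin Ω
  letI := MulAction.compHom (Fin n) (e.permCongrHom.toMonoidHom.comp φ)
  have k : ∀ (g : G) (x : Fin n), g • x = e (φ g (e.symm x)) := fun _ _ => rfl
  refine ⟨Fin n, inferInstance, this, ⟨fun {g g'} hg => hφ (Equiv.ext fun x => ?_)⟩,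
    is_two_pretransitive_iff.2 fun {a b c d} ab cd => ?_⟩
  · simpa [k] using hg (e x)
  · obtain ⟨g, h1, h2⟩ := h _ _ _ _ (e.symm.injective.ne ab) (e.symm.injective.ne cd)
    exact ⟨g, by rw [k, h1, e.apply_symm_apply], by rw [k, h2, e.apply_symm_apply]⟩

theorem t2_of_psl {F : Type} [Field F] [Finite F]
    (e : G ≃* Matrix.ProjectiveSpecialLinearGroup (Fin 2) F) : T2 G :=
  t2_of (Projectivization.PSLAction.toPermHom.comp e.toMonoidHom)
    (Matrix.ProjectiveSpecialLinearGroup.toPermHom_injective.comp e.injective)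
    fun a b c d ab cd => by
      obtain ⟨g, h⟩ := (is_two_pretransitive_iff (G := Matrix.SpecialLinearGroup (Fin 2) F)
        (α := ℙ F (Fin 2 → F))).1 inferInstance ab cd
      exact ⟨e.symm g, by
        simp only [MonoidHom.comp_apply, MulEquiv.coe_toMonoidHom, MulEquiv.apply_symm_apply]
        exact h⟩

variable [Finite G]

theorem t2_of_ti (hs : IsSimpleGroup G) {U B : Subgroup G} (hU : U ≤ B) (hB : B ≠ ⊤)
    (hc : B.index = 𝐨(U) + 1) (ti : ∀ g ∉ B, B ^ᵍ g ⊓ U = ⊥) : T2 G := by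
  have fx : ∀ u ∈ U, u • ((1 : G) : G ⧸ B) = (1 : G) := fun u hu =>
    P6.smul_mk_eq_iff.2 (by simpa using hU hu)
  have k : ∀ x y : G ⧸ B, x ≠ (1 : G) → y ≠ (1 : G) → ∃ u ∈ U, u • x = y := fun x y hx hy => by
    obtain ⟨g, rfl⟩ := QuotientGroup.mk_surjective x
    have h1 : {c : G ⧸ B | ∃ u ∈ U, u • (g : G ⧸ B) = c} ⊆ {((1 : G) : G ⧸ B)}ᶜ := by
      rintro _ ⟨u, hu, rfl⟩ e
      exact hx (smul_left_cancel u (e.trans (fx u hu).symm))
    refine (Set.eq_of_subset_of_ncard_le h1 ?_).ge hy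
    have h2 := Set.ncard_add_ncard_compl ({((1 : G) : G ⧸ B)} : Set (G ⧸ B))
    rw [Set.ncard_singleton, ← index_eq_card, hc] at h2
    rw [P6.ncard_orbit, P6.stab_mk, ← inf_relIndex_right, ti g fun e => hx
      (QuotientGroup.eq.2 (by simpa using e)), relIndex_bot_left]
    omega
  refine t2_of (toPermHom G (G ⧸ B)) ((MonoidHom.ker_eq_bot_iff _).1 ((hs.eq_bot_or_eq_top_of_normal
    _ inferInstance).resolve_right fun e => hB (top_le_iff.1 (e.ge.trans
      ((normalCore_eq_ker B).ge.trans (normalCore_le B)))))) fun a b c d ab cd => ?_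
  obtain ⟨g, hg⟩ := exists_smul_eq G a ((1 : G) : G ⧸ B)
  obtain ⟨g', hg'⟩ := exists_smul_eq G c ((1 : G) : G ⧸ B)
  obtain ⟨u, hu, e⟩ := k (g • b) (g' • d) (fun e => ab (smul_left_cancel g (hg.trans e.symm)))
    fun e => cd (smul_left_cancel g' (hg'.trans e.symm))
  exact ⟨g'⁻¹ * u * g, by rw [toPermHom_apply, toPerm_apply, mul_smul, mul_smul, hg, fx u hu,
    ← hg', inv_smul_smul],    by simp [mul_smul, e]⟩

theorem Ree.t2 (hs : IsSimpleGroup G) {t : G} {L U : Subgroup G} {q : ℕ} (h : Ree t L U q) :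
    T2 G := by
  obtain ⟨n, rfl⟩ := h.pow
  have hq := h.big
  have hp : IsPGroup 3 U := IsPGroup.of_card (h.cardU.trans (pow_mul 3 n 3).symm)
  have hi : (𝐍(U) : Subgroup G).index = 𝐨(U) + 1 := by
    have := (𝐍(U) : Subgroup G).card_mul_index
    rw [h.cardB, h.card, mul_right_comm, mul_left_inj' (by omega), mul_right_inj' (by positivity)]
      at this
    rw [this, h.cardU]
  have hS : IsSyl 3 U 𝐍(U) := ⟨le_normalizer, hp, fun k => by
    have := H1.card_mul_relIndex (le_normalizer : U ≤ 𝐍(U))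
    rw [h.cardB, h.cardU, mul_right_inj' (by positivity)] at this
    rw [this] at k
    have h3 : 3 ∣ 3 ^ n := dvd_pow_self 3 (by rintro rfl; omega)
    omega⟩
  refine t2_of_ti hs le_normalizer (fun e => by simp [e, h.cardU] at hi) hi fun g hg => ?_
  by_contra k
  obtain ⟨u, hu, u1⟩ := (bot_or_exists_ne_one _).resolve_left k
  have le : ∀ X ≤ U, X ≤ 𝐍(U) ^ᵍ g → X ≤ U ^ᵍ g := fun X h1 h2 =>
    (hS.conj g).le_of_normal Nat.prime_three (norm_conj U g).ge (hp.to_le h1) h2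
  have ti : ∀ x ∈ U ^ᵍ g, x ≠ 1 → 𝐂[x] ≤ 𝐍(U) ^ᵍ g := by
    rintro _ ⟨x, hx, rfl⟩ x1
    exact (cent1_conj x g).le.trans (conj_mono (h.ti x hx fun e => x1 (by rw [e, map_one])) g)
  have h1 := ti u (le _ (zpowers_le.2 hu.2) (zpowers_le.2 hu.1) (mem_zpowers u)) u1
  obtain ⟨z, hz, z1⟩ := (bot_or_exists_ne_one _).resolve_left (center_ne_bot
    (isNilpotent_of_isPGroup Nat.prime_three hp) fun e => u1 (mem_bot.1 (e ▸ hu.2)))
  have h2 := ti z (le _ inf_le_left ((inf_le_right.trans (cent_le_cent1 hu.2)).trans h1) hz) z1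
  exact hg (conj_eq_self_iff.1 (eq_of_le_of_card_ge (le U le_rfl
    ((mem_cent_iff_cent1.1 hz.2).trans h2)) (card_conj U g).le).symm)

theorem t2_or (hK : K3.{u}) (hs : IsSimpleGroup G) (na : ¬ IsMulCommutative G)
    (ab : ∀ P : Subgroup G, IsPGroup 2 P → IsMulCommutative P) : T2 G ∨ Nat.card G = 175560 := by
  have eac : L.EAC G → T2 G := fun he => by
    obtain ⟨n, -, -, -, -, ⟨e⟩⟩ := P6.exists_SL2_of_eac he hs (P6.rk2_of_two_le_pRank
      (le_pRank_of_four (eac_sq he) (n := 2) (card_top (G := G) ▸ KO.four_dvd (ns_top hs na))))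
    exact t2_of_psl e
  rcases walter' hK hs na ab with he | ⟨q, ⟨F, _, _, -, ⟨e⟩⟩, -⟩ | ⟨he, -⟩ | ⟨-, -, -, e⟩ |
    ⟨t, L, U, q, h⟩
  exacts [Or.inl (eac he), Or.inl (t2_of_psl (topEquiv.symm.trans e)), Or.inl (eac he), Or.inr e,
    Or.inl (h.t2 hs)]

end Cfsg.Agent.P7
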