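/-
The simple groups with abelian Sylow 2-subgroups.
-/
import Cfsg.Agent.P7.AMain
import Cfsg.Agent.P7.JMain0
import Cfsg.Agent.P7.RT2

set_option autoImplicit false

namespace Cfsg.Agent.P7

open Subgroup Cfsg Cfsg.Agent Cfsg.Agent.FT

universe u

theorem k3All : K3.{u} := k3_of_a fun _ _ _ _ _ _ _ _ h F q5 h0 =>
  ⟨not_three_dvd_k h F q5 h0, alpha h F q5 h0, k_hall h F q5 h0, p_part h F q5 h0⟩

/-- Walter's theorem for simple groups. -/
theorem walterAll {G : Type u} [Group G] [Finite G] (hs : IsSimpleGroup G)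
    (na : ¬ IsMulCommutative G) (ab : ∀ P : Subgroup G, IsPGroup 2 P → IsMulCommutative P) :
    L.EAC G ∨ Known3 G := walter' k3All hs na ab

end Cfsg.Agent.P7
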